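import Cfsg.Agent.Lib.GW.CountTorus

/-!
# The tori of a component isomorphic to `PSL₂(q)`
-/

set_option autoImplicit false
set_option linter.unusedSectionVars false
set_option linter.style.haveILetI false

namespace Cfsg.Agent.GW.Count

open MulAction Subgroup
open Cfsg.Agent.Forms.DicksonBasic Cfsg.Agent.Forms.SolubilizerPSL2

/-- The data transported along an isomorphism. -/
theorem data_congr {p₀ : ℕ} [hp : Fact p₀.Prime] {P E X : Type*} [Group P] [Group E] [MulAction P X]
    [MulAction E X] {q d : ℕ} (e : E ≃* P) (he : ∀ (g : E) (x : X), g • x = e g • x)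
    (hD : Data p₀ P X q d) : Data p₀ E X q d := by
  have hfix : ∀ g : E, fixedBy X g = fixedBy X (e g) := fun g => Set.ext fun x => by
    simp [mem_fixedBy, he]
  have hrat : ∀ z : X, IsRat p₀ E z → IsRat p₀ P z := fun z ⟨g, hg, hgz⟩ =>
    ⟨e g, by rw [MulEquiv.orderOf_eq]; exact hg, by rw [← he]; exact hgz⟩
  have htwo : TwoPt p₀ E X := by
    refine ⟨fun g hg => ?_, fun g hg => ?_, fun x g h hg hh og oh => ?_, fun x S hS hSp => ?_⟩
    · rw [hfix]; exact hD.two.finite_fix _ (fun h => hg (e.injective (h.trans (map_one e).symm)))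
    · rw [hfix, ← MulEquiv.orderOf_eq e]
      exact hD.two.ncard_fix _ (fun h => hg (e.injective (h.trans (map_one e).symm)))
    · exact e.injective (by
        rw [map_mul, map_mul]
        exact hD.two.comm x _ _ (by rw [← he]; exact hg) (by rw [← he]; exact hh)
          (by rw [MulEquiv.orderOf_eq]; exact og) (by rw [MulEquiv.orderOf_eq]; exact oh))
    · haveI : IsCyclic (S.map (e : E →* P)) := hD.two.cyc x _
        (by rintro _ ⟨s, hs, rfl⟩; exact (he s x).symm.trans (hS s hs))
        (by rintro _ ⟨s, hs, rfl⟩; exact fun h => hSp s hs (by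
              rwa [MonoidHom.coe_coe, MulEquiv.orderOf_eq] at h))
      exact isCyclic_of_surjective
        (S.equivMapOfInjective (e : E →* P) e.injective).symm.toMonoidHom
        (S.equivMapOfInjective (e : E →* P) e.injective).symm.surjective
  refine ⟨htwo, by rw [Nat.card_congr e.toEquiv]; exact hD.card, hD.two_le, fun z hz => ?_,
    fun z hz => ?_, ?_, fun H z hH => ?_⟩
  · have h : stabilizer E z = (stabilizer P z).comap (e : E →* P) := by
      ext g; simp [mem_stabilizer_iff, he]
    rw [h, index_comap_of_surjective _ e.surjective, hD.index z (hrat z hz)]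
  · rw [← hD.natCard_pSub z (hrat z hz)]
    refine Nat.card_congr (e.toEquiv.subtypeEquiv fun g => ?_)
    rw [TwoPt.mem_pSub, TwoPt.mem_pSub, he]
    show _ ↔ e g • z = z ∧ e g ^ p₀ = 1
    rw [← map_pow, EmbeddingLike.map_eq_one_iff]
  · obtain ⟨z, g, hg, hgz⟩ := hD.exists_rat
    exact ⟨z, e.symm g, by rw [MulEquiv.orderOf_eq]; exact hg, by
      rw [he, MulEquiv.apply_symm_apply]; exact hgz⟩
  · haveI := hD.solvable (H.map (e : E →* P)) z (by
      rintro _ ⟨h, hh, rfl⟩; exact (he h z).symm.trans (hH h hh))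
    exact Group.isSolvable_of_isSolvable_injective
      (f := (H.equivMapOfInjective (e : E →* P) e.injective).toMonoidHom)
      (H.equivMapOfInjective (e : E →* P) e.injective).injective

/-- A group isomorphic to `PSL₂(q)`, `q` odd, has the torus data. -/
theorem exists_torus {E : Type*} [Group E] [Finite E] {F : Type} [Field F] [Fintype F]
    (hodd : Odd (Fintype.card F)) (e : E ≃* Matrix.ProjectiveSpecialLinearGroup (Fin 2) F) {t : E}
    (ht : orderOf t = 2) :
    ∃ (p₀ : ℕ) (_ : Fact p₀.Prime) (X : Type) (_ : MulAction E X),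
      Torus p₀ E X (Fintype.card F) t := by
  obtain ⟨p₀, hchar⟩ := CharP.exists F
  obtain ⟨n, hp, hn⟩ := FiniteField.card F p₀
  haveI : Fact p₀.Prime := ⟨hp⟩
  have hp2 : p₀ ≠ 2 := fun h => by
    rw [hn, h, Nat.odd_pow_iff n.ne_zero] at hodd
    exact absurd hodd (by decide)
  have hd : Nat.gcd 2 (Fintype.card F - 1) = 2 :=
    Nat.gcd_eq_left (Nat.dvd_of_mod_eq_zero (by rcases hodd with ⟨k, hk⟩; omega))
  have hD := data (F := F) p₀ hn n.ne_zero hd
  rw [← hn] at hD
  letI : MulAction E (OnePoint (AlgebraicClosure F)) :=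
    MulAction.compHom _ (e : E →* Matrix.ProjectiveSpecialLinearGroup (Fin 2) F)
  refine ⟨p₀, inferInstance, OnePoint (AlgebraicClosure F), inferInstance,
    data_congr e (fun _ _ => rfl) hD, hp2, ht, fun x hx => ?_⟩
  have h2 : (2 : F) ≠ 0 := Cfsg.Agent.Classical.SylowSL2.two_ne_zero_of_odd hodd
  have h := Cfsg.Agent.PSLBinary.involutions_conj (F := F) h2 (x := e t) (y := e x)
    (by rw [MulEquiv.orderOf_eq]; exact ht) (by rw [MulEquiv.orderOf_eq]; exact hx)
  have := e.symm.toMonoidHom.map_isConj h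
  simpa using this

end Cfsg.Agent.GW.Count
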