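import Cfsg.Agent.Lib.GW.BenderKey

/-!
# All reflections scalar on every core

If every reflection is scalar on each `O_p(H)` and the core has no fixed linear character, then no
reflection fixes a nontrivial element of the core, and the hypotheses of the Brauer-Suzuki-Wall
theorem hold.
-/

set_option autoImplicit false
set_option linter.style.haveILetI false

namespace Cfsg.Agent.GW.Bender

open Subgroup Cfsg.Agent.Involutions Cfsg.Agent.Components.MaximalPair
open scoped commutatorElement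

universe u

variable {G : Type u} [Group G] [Finite G]

namespace Data

variable (d : Data G)

/-- Every reflection is scalar on each odd core. -/
def Pure : Prop :=
  ∀ (i : ZMod d.m) (p : ℕ), p.Prime → p ≠ 2 →
    d.P p ≤ centralizer ({d.u i} : Set G) ∨ d.P p ⊓ centralizer ({d.u i} : Set G) = ⊥

/-- Some three-cycle on the involutions of the four-group centralizes the fixed points. -/
def Central (i : ZMod d.m) : Prop :=
  ∃ g : G, g * d.t * g⁻¹ = d.u i ∧ g * d.u i * g⁻¹ = d.t * d.u i ∧ ∀ a ∈ d.A i, g * a = a * g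

/-- An element acts on `P p` as the identity or as inversion. -/
def Scalar (p : ℕ) (s : G) : Prop :=
  (∀ x ∈ d.P p, s * x * s⁻¹ = x) ∨ ∀ x ∈ d.P p, s * x * s⁻¹ = x⁻¹

theorem scalar_refl (hp : d.Pure) (i : ZMod d.m) {p : ℕ} (hp' : p.Prime) (hp2 : p ≠ 2) :
    d.Scalar p (d.u i) := by
  rcases hp i p hp' hp2 with h | h
  · exact Or.inl fun x hx => mul_inv_eq_iff_eq_mul.2 (mem_centralizer_singleton_iff.1 (h hx)).symm
  · exact Or.inr (inverts_of_inf_eq_bot (d.u_sq i) (d.H_le_normalizer_P p (d.u_mem_H i)) h)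

theorem scalar_mem (hp : d.Pure) {s : G} (hs : s ∈ (d.S : Subgroup G)) {p : ℕ} (hp' : p.Prime)
    (hp2 : p ≠ 2) : d.Scalar p s := by
  rcases d.exists_refl hs with ⟨i, rfl⟩ | ⟨i, j, rfl⟩
  · exact d.scalar_refl hp i hp' hp2
  · have hm : ∀ x ∈ d.P p, d.u i * d.u j * x * (d.u i * d.u j)⁻¹ =
        d.u i * (d.u j * x * (d.u j)⁻¹) * (d.u i)⁻¹ := fun x _ => by group
    rcases d.scalar_refl hp i hp' hp2 with h1 | h1 <;> rcases d.scalar_refl hp j hp' hp2 with h2 | h2
    · exact Or.inl fun x hx => by rw [hm x hx, h2 x hx, h1 x hx]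
    · exact Or.inr fun x hx => by rw [hm x hx, h2 x hx, h1 _ (inv_mem hx)]
    · exact Or.inr fun x hx => by rw [hm x hx, h2 x hx, h1 x hx]
    · exact Or.inl fun x hx => by rw [hm x hx, h2 x hx, h1 _ (inv_mem hx), inv_inv]

/-- Scalar elements of the normalizer commute with the action of the core. -/
theorem conj_scalar {p : ℕ} {s x f : G} (hs : d.Scalar p s) (hx : x ∈ d.H) (hf : f ∈ d.P p) :
    s * (x * f * x⁻¹) * s⁻¹ = x * (s * f * s⁻¹) * x⁻¹ := by
  rcases hs with h | h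
  · rw [h f hf, h _ (d.conj_mem_P hx hf)]
  · rw [h f hf, h _ (d.conj_mem_P hx hf)]; group

/-- What lies in `O` and in the Fitting subgroup lies in every subgroup containing the odd cores. -/
theorem mem_of_cores {K : Subgroup G} (hK : ∀ p : ℕ, p.Prime → p ≠ 2 → d.P p ≤ K) {x : G}
    (hx : x ∈ d.O) (hxF : (⟨x, d.O_le hx⟩ : d.H) ∈ Cfsg.fittingSubgroup d.H) : x ∈ K := by
  haveI : Fact (Nat.Prime 2) := ⟨Nat.prime_two⟩
  have key : Cfsg.fittingSubgroup d.H ≤ K.comap d.H.subtype ⊔ Cfsg.pCore 2 d.H := by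
    rw [Components.Fitting.fitting_eq_coreJoin]
    refine iSup_le fun p => ?_
    by_cases hp2 : (p : ℕ) = 2
    · rw [hp2]; exact le_sup_right
    · exact fun f hf => mem_sup_left (mem_comap.2 (hK p p.2 hp2 ⟨f, hf, rfl⟩))
  obtain ⟨a, ha, b, hb, hab⟩ := mem_sup_of_normal_right.1 (key hxF)
  obtain ⟨k, hk⟩ := IsPGroup.iff_orderOf.1 (Cores.pCore_isPGroup (G := d.H) 2) ⟨b, hb⟩
  rw [orderOf_mk] at hk
  have hcomm : Commute (⟨x, d.O_le hx⟩ : d.H) b⁻¹ :=
    Commute.inv_right (Subtype.ext (d.commute_P_two hx ⟨b, hb, rfl⟩).symm)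
  have h1 : (⟨x, d.O_le hx⟩ : d.H) ^ 2 ^ k = a ^ 2 ^ k := by
    rw [show a = (⟨x, d.O_le hx⟩ : d.H) * b⁻¹ from eq_mul_inv_of_mul_eq hab, hcomm.mul_pow,
      inv_pow, ← hk, pow_orderOf_eq_one, inv_one, mul_one]
  have hcop : Nat.Coprime (2 ^ k) (orderOf (⟨x, d.O_le hx⟩ : d.H)) := by
    rw [orderOf_mk]
    exact ((Nat.coprime_two_right.2 (d.orderOf_odd hx)).pow_right k).symm
  obtain ⟨j, hj⟩ := exists_pow_eq_self_of_coprime hcop
  have h2 : (⟨x, d.O_le hx⟩ : d.H) ∈ K.comap d.H.subtype := by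
    rw [← hj, h1]; exact pow_mem (pow_mem ha _) _
  exact h2

/-- An element of the Sylow 2-subgroup centralizing the odd cores centralizes the core. -/
theorem sylow_centralizes_O {s : G} (hs : s ∈ (d.S : Subgroup G))
    (hc : ∀ p : ℕ, p.Prime → p ≠ 2 → ∀ f ∈ d.P p, s * f = f * s) :
    ∀ x ∈ d.O, s * x = x * s := by
  intro x hx
  set c := x * s * x⁻¹ * s⁻¹ with hcdef
  have hcO : c ∈ d.O := by
    rw [show c = x * (s * x⁻¹ * s⁻¹) by rw [hcdef]; group]
    exact mul_mem hx ((mem_normalizer_iff.1 (d.H_le_normalizer_O (d.S_le hs)) _).1 (inv_mem hx))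
  have hcc : ∀ p : ℕ, p.Prime → p ≠ 2 → ∀ f ∈ d.P p, c * f = f * c := by
    intro p hp hp2 f hf
    have h1 : Commute s f := hc p hp hp2 f hf
    have h3 : Commute s (x⁻¹ * f * x) := by
      have := hc p hp hp2 _ (d.conj_mem_P (inv_mem (d.O_le hx)) hf)
      rwa [inv_inv] at this
    have h2 := (Commute.conj_iff x).2 h3
    rw [show x * (x⁻¹ * f * x) * x⁻¹ = f by group] at h2
    exact (h2.mul_left h1.inv_left).eq
  have hcs : Commute c s := mem_centralizer_singleton_iff.1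
    (d.mem_of_cores (fun p hp hp2 f hf => mem_centralizer_singleton_iff.2 (hc p hp hp2 f hf).symm)
      hcO (d.mem_fitting hcO hcc))
  obtain ⟨k, hk⟩ := IsPGroup.iff_orderOf.1 d.S.2 ⟨s, hs⟩
  rw [orderOf_mk] at hk
  have hxs : x * s * x⁻¹ = c * s := by rw [hcdef]; group
  have h4 : c ^ 2 ^ k = 1 := by
    have h5 : (x * s * x⁻¹) ^ 2 ^ k = (c * s) ^ 2 ^ k := by rw [hxs]
    rw [conj_pow, hcs.mul_pow, ← hk, pow_orderOf_eq_one, mul_one, mul_inv_cancel, mul_one] at h5
    rw [← hk]; exact h5.symm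
  have h5 := Nat.eq_one_of_dvd_coprimes ((Nat.coprime_two_right.2 (d.orderOf_odd hcO)).pow_right k)
    dvd_rfl (orderOf_dvd_of_pow_eq_one h4)
  rw [orderOf_eq_one_iff, hcdef, mul_inv_eq_one, mul_inv_eq_iff_eq_mul] at h5
  exact h5.symm

/-- A `p`-element of the Fitting subgroup lies in the `p`-core. -/
theorem mem_P_of_fitting {p : ℕ} [Fact p.Prime] {x : d.H} (hxF : x ∈ Cfsg.fittingSubgroup d.H)
    {k : ℕ} (hk : orderOf x = p ^ k) : (x : G) ∈ d.P p := by
  obtain ⟨a, ha, a', ha', hmul⟩ := mem_sup_of_normal_right.1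
    ((Components.Fitting.fitting_eq_coreJoin (G := d.H)).le.trans
      (Components.Fitting.coreJoin_le_sup p) hxF)
  set π := QuotientGroup.mk' (Cfsg.pCore p d.H)
  have hc' : π x = π a' := by
    rw [← hmul, map_mul, (QuotientGroup.eq_one_iff a).2 ha |> fun e : π a = 1 => e, one_mul]
  have d1 : orderOf (π x) ∣ p ^ k := by rw [← hk]; exact orderOf_map_dvd π _
  have d2 : orderOf (π x) ∣ Nat.card (Cfsg.pPrimeCore p d.H) := by
    rw [hc']; exact (orderOf_map_dvd π _).trans (Subgroup.orderOf_dvd_natCard _ ha')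
  exact ⟨x, (QuotientGroup.eq_one_iff _).1 (orderOf_eq_one_iff.1 (Nat.eq_one_of_dvd_coprimes
    ((Cores.pPrimeCore_card_coprime (G := d.H) p).symm.pow_left k) d1 d2)), rfl⟩

/-- Squares in the Sylow 2-subgroup centralize the core. -/
theorem sq_centralizes (hp : d.Pure) {s : G} (hs : s ∈ (d.S : Subgroup G)) :
    ∀ x ∈ d.O, s * s * x = x * (s * s) := by
  refine d.sylow_centralizes_O (mul_mem hs hs) fun p hp' hp2 f hf => mul_inv_eq_iff_eq_mul.1 ?_
  rw [show s * s * f * (s * s)⁻¹ = s * (s * f * s⁻¹) * s⁻¹ by group]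
  rcases d.scalar_mem hp hs hp' hp2 with h | h
  · rw [h f hf, h f hf]
  · rw [h f hf, h _ (inv_mem hf), inv_inv]

theorem rho_normalizes_A {i : ZMod d.m} {g : G} (h1 : g * d.t * g⁻¹ = d.u i)
    (h2 : g * d.u i * g⁻¹ = d.t * d.u i) : g ∈ normalizer (d.A i : Set G) :=
  mem_normalizer_fintype fun _ hx => d.rho_mem_A h1 h2 hx

/-- A rotation of order four centralizing the fixed points gives a central three-cycle. -/
theorem central_of_rotation {i : ZMod d.m} {r : G} (hrt : r * d.t * r⁻¹ = d.t)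
    (hru : r * d.u i * r⁻¹ = d.t * d.u i) (hra : ∀ a ∈ d.A i, r * a = a * r) : d.Central i := by
  obtain ⟨g, h1, h2⟩ := d.rho i
  have htu : g * (d.t * d.u i) * g⁻¹ = d.t := by
    rw [show g * (d.t * d.u i) * g⁻¹ = (g * d.t * g⁻¹) * (g * d.u i * g⁻¹) by group, h1, h2]
    have hc : d.u i * d.t = d.t * d.u i :=
      mem_centralizer_singleton_iff.1 (d.u_mem_H i)
    rw [← mul_assoc, hc, mul_assoc, d.u_sq, mul_one]
  have hrtu : r * (d.t * d.u i) * r⁻¹ = d.u i := by
    rw [show r * (d.t * d.u i) * r⁻¹ = (r * d.t * r⁻¹) * (r * d.u i * r⁻¹) by group, hrt, hru,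
      ← mul_assoc, d.t_sq, one_mul]
  -- the conjugate rotation fixes `u` and exchanges the other two
  have hr't : g * r * g⁻¹ * d.t * (g * r * g⁻¹)⁻¹ = d.t * d.u i := by
    calc g * r * g⁻¹ * d.t * (g * r * g⁻¹)⁻¹
        = g * r * (g⁻¹ * (g * (d.t * d.u i) * g⁻¹) * g) * r⁻¹ * g⁻¹ := by rw [htu]; group
      _ = g * (r * (d.t * d.u i) * r⁻¹) * g⁻¹ := by group
      _ = d.t * d.u i := by rw [hrtu, h2]
  have hr'u : g * r * g⁻¹ * d.u i * (g * r * g⁻¹)⁻¹ = d.u i := by
    calc g * r * g⁻¹ * d.u i * (g * r * g⁻¹)⁻¹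
        = g * r * (g⁻¹ * (g * d.t * g⁻¹) * g) * r⁻¹ * g⁻¹ := by rw [h1]; group
      _ = g * (r * d.t * r⁻¹) * g⁻¹ := by group
      _ = d.u i := by rw [hrt, h1]
  refine ⟨r * (g * r * g⁻¹), ?_, ?_, fun a ha => ?_⟩
  · calc r * (g * r * g⁻¹) * d.t * (r * (g * r * g⁻¹))⁻¹
        = r * (g * r * g⁻¹ * d.t * (g * r * g⁻¹)⁻¹) * r⁻¹ := by group
      _ = d.u i := by rw [hr't, hrtu]
  · calc r * (g * r * g⁻¹) * d.u i * (r * (g * r * g⁻¹))⁻¹
        = r * (g * r * g⁻¹ * d.u i * (g * r * g⁻¹)⁻¹) * r⁻¹ := by group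
      _ = d.t * d.u i := by rw [hr'u, hru]
  · have ha' : g⁻¹ * a * g ∈ d.A i := by
      have := (mem_normalizer_iff.1 (inv_mem (d.rho_normalizes_A h1 h2)) a).1 ha
      rwa [inv_inv] at this
    have c1 : Commute (g * r * g⁻¹) a := by
      have := (Commute.conj_iff g).2 (hra _ ha' : Commute r (g⁻¹ * a * g))
      rwa [show g * (g⁻¹ * a * g) * g⁻¹ = a by group] at this
    have c0 : Commute r a := hra a ha
    exact (c0.mul_left c1).eq

/-- Some rotation exchanges the two reflections of a four-group, and is a square for large `m`. -/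
theorem exists_rotation (h4 : 4 ∣ d.m) (i : ZMod d.m) : ∃ q : ZMod d.m,
    ((d.e.symm (DihedralGroup.r q) : (d.S : Subgroup G)) : G) * d.u i *
      ((d.e.symm (DihedralGroup.r q) : (d.S : Subgroup G)) : G)⁻¹ = d.t * d.u i ∧
    (8 ∣ d.m → ∃ q' : ZMod d.m, q = q' + q') := by
  obtain ⟨c, hc⟩ := h4
  refine ⟨(c : ZMod d.m), ?_, fun ⟨b, hb⟩ => ⟨(b : ZMod d.m), ?_⟩⟩
  · rw [u, DihedralSylow.refl_conj, t, DihedralSylow.z, DihedralSylow.refl, DihedralSylow.refl,
      ← Subgroup.coe_mul, ← map_mul, DihedralGroup.r_mul_sr]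
    congr 4
    rw [DihedralEmbedding.half, ← Nat.cast_add, show c + c = d.m / 2 by omega]
  · rw [← Nat.cast_add]; congr 1; omega

/-- The reflections centralize the core modulo its Fitting subgroup. -/
theorem commutator_mem_fitting (hp : d.Pure) {x s : G} (hx : x ∈ d.O)
    (hs : s ∈ (d.S : Subgroup G)) :
    ∃ h : x * s * x⁻¹ * s⁻¹ ∈ d.O,
      (⟨_, d.O_le h⟩ : d.H) ∈ Cfsg.fittingSubgroup d.H := by
  have hO : x * s * x⁻¹ * s⁻¹ ∈ d.O := by
    rw [show x * s * x⁻¹ * s⁻¹ = x * (s * x⁻¹ * s⁻¹) by group]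
    exact mul_mem hx ((mem_normalizer_iff.1 (d.H_le_normalizer_O (d.S_le hs)) _).1 (inv_mem hx))
  refine ⟨hO, d.mem_fitting hO fun p hp' hp2 f hf => mul_inv_eq_iff_eq_mul.1 ?_⟩
  have hsH := d.S_le hs
  have hf1 : s⁻¹ * f * s ∈ d.P p := by
    have := d.conj_mem_P (inv_mem hsH) hf
    rwa [inv_inv] at this
  have hf2 : x⁻¹ * (s⁻¹ * f * s) * x ∈ d.P p := by
    have := d.conj_mem_P (inv_mem (d.O_le hx)) hf1
    rwa [inv_inv] at this
  calc x * s * x⁻¹ * s⁻¹ * f * (x * s * x⁻¹ * s⁻¹)⁻¹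
      = x * (s * (x⁻¹ * (s⁻¹ * f * s) * x) * s⁻¹) * x⁻¹ := by group
    _ = s * (x * (x⁻¹ * (s⁻¹ * f * s) * x) * x⁻¹) * s⁻¹ :=
        (d.conj_scalar (d.scalar_mem hp hs hp' hp2) (d.O_le hx) hf2).symm
    _ = f := by group

/-- In the pure case all three-cycles are central once the order of `S` is at least 16. -/
theorem central_of_pure (hp : d.Pure) (h8 : 8 ∣ d.m) (i : ZMod d.m) : d.Central i := by
  obtain ⟨q, hq, hsq⟩ := d.exists_rotation (dvd_trans (by norm_num) h8) i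
  obtain ⟨q', rfl⟩ := hsq h8
  set s : G := ((d.e.symm (DihedralGroup.r q') : (d.S : Subgroup G)) : G)
  have hr : ((d.e.symm (DihedralGroup.r (q' + q')) : (d.S : Subgroup G)) : G) = s * s := by
    rw [← Subgroup.coe_mul, ← map_mul, DihedralGroup.r_mul_r]
  rw [hr] at hq
  have hs : s ∈ (d.S : Subgroup G) := SetLike.coe_mem _
  exact d.central_of_rotation (d.conj_t (d.S_le (mul_mem hs hs))) hq
    fun a ha => d.sq_centralizes hp hs a ha.1

/-- The hypotheses of the Brauer-Suzuki-Wall theorem, given trivial fixed points and the normalizers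
of the subgroups of the core normalized by `H`. -/
theorem bsw_conditions_of (hA : ∀ i, d.A i = ⊥)
    (hN : ∀ Y : Subgroup G, Y ≤ d.O → d.H ≤ normalizer (Y : Set G) → Y ≠ ⊥ →
      normalizer (Y : Set G) = d.H) :
    (d.O ≠ ⊥ → IsCyclic ((d.S : Subgroup G) ⊓ centralizer (d.O : Set G) : Subgroup G) ∧
      ((d.S : Subgroup G) ⊓ centralizer (d.O : Set G)).relIndex (d.S : Subgroup G) = 2) ∧
    (∀ s ∈ (d.S : Subgroup G), s ∉ centralizer (d.O : Set G) → ∀ y ∈ d.O, s * y * s⁻¹ = y⁻¹) ∧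
    (∀ Y : Subgroup G, Y ≤ d.O → Y ≠ ⊥ → normalizer (Y : Set G) ≤ d.H) := by
  have hinv : ∀ i, ∀ x ∈ d.O, d.u i * x * (d.u i)⁻¹ = x⁻¹ := fun i =>
    inverts_of_inf_eq_bot (d.u_sq i) (d.H_le_normalizer_O (d.u_mem_H i)) (hA i)
  have hrot : ∀ q : ZMod d.m, ((d.e.symm (DihedralGroup.r q) : (d.S : Subgroup G)) : G) ∈
      centralizer (d.O : Set G) := by
    intro q
    have hr : ((d.e.symm (DihedralGroup.r q) : (d.S : Subgroup G)) : G) = d.u 0 * d.u q := by
      rw [Data.u, Data.u, DihedralSylow.refl, DihedralSylow.refl, ← Subgroup.coe_mul, ← map_mul,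
        DihedralGroup.sr_mul_sr, sub_zero]
    refine mem_centralizer_iff.2 fun x hx => (mul_inv_eq_iff_eq_mul.1 ?_).symm
    rw [hr, show d.u 0 * d.u q * x * (d.u 0 * d.u q)⁻¹ =
      d.u 0 * (d.u q * x * (d.u q)⁻¹) * (d.u 0)⁻¹ by group, hinv q x hx, hinv 0 _ (inv_mem hx),
      inv_inv]
  have hcases : ∀ s ∈ (d.S : Subgroup G), s ∈ centralizer (d.O : Set G) ∨ ∃ i, s = d.u i := by
    intro s hs
    rcases h : d.e ⟨s, hs⟩ with j | j
    · left; have := hrot j; rwa [← h, MulEquiv.symm_apply_apply] at this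
    · exact Or.inr ⟨j, by rw [Data.u, DihedralSylow.refl, ← h, MulEquiv.symm_apply_apply]⟩
  refine ⟨fun hO => ?_, fun s hs hsc => ?_, fun Y hY hY1 => ?_⟩
  · obtain ⟨x, hx, hx1⟩ := (Subgroup.bot_or_exists_ne_one d.O).resolve_left hO
    haveI : NeZero d.m := ⟨d.ne_zero⟩
    set ι : DihedralGroup d.m →* G := (d.S : Subgroup G).subtype.comp d.e.symm.toMonoidHom with hι
    have hιi : Function.Injective ι := Subtype.val_injective.comp d.e.symm.injective
    have heq : (d.S : Subgroup G) ⊓ centralizer (d.O : Set G) =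
        (zpowers (DihedralGroup.r (1 : ZMod d.m))).map ι := by
      refine le_antisymm ?_ ?_
      · rintro s ⟨hs, hsc⟩
        rcases h : d.e ⟨s, hs⟩ with j | j
        · exact ⟨DihedralGroup.r j, ⟨(j.val : ℤ), by simp⟩, by
            simp [hι, ← h]⟩
        · exfalso
          have hu : s = d.u j := by rw [Data.u, DihedralSylow.refl, ← h, MulEquiv.symm_apply_apply]
          have := hinv j x hx
          rw [← hu, ← mem_centralizer_iff.1 hsc x hx, mul_inv_cancel_right] at this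
          exact hx1 (Data.eq_one_of_odd (d.orderOf_odd hx) this)
      · rintro _ ⟨_, ⟨k, rfl⟩, rfl⟩
        refine ⟨SetLike.coe_mem _, ?_⟩
        show ι (DihedralGroup.r (1 : ZMod d.m) ^ k) ∈ _
        rw [map_zpow]
        exact zpow_mem (hrot 1) k
    refine ⟨?_, ?_⟩
    · rw [heq]
      exact isCyclic_of_surjective ((zpowers (DihedralGroup.r (1 : ZMod d.m))).equivMapOfInjective ι hιi).toMonoidHom
        (MulEquiv.surjective _)
    · have hle : (d.S : Subgroup G) ⊓ centralizer (d.O : Set G) ≤ d.S := inf_le_left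
      have h1 := card_mul_index (((d.S : Subgroup G) ⊓ centralizer (d.O : Set G)).subgroupOf d.S)
      rw [Nat.card_congr (subgroupOfEquivOfLe hle).toEquiv, heq,
        Subgroup.card_map_of_injective hιi, Nat.card_zpowers, DihedralGroup.orderOf_r_one,
        Nat.card_congr d.e.toEquiv, DihedralGroup.nat_card, ← heq] at h1
      exact Nat.eq_of_mul_eq_mul_left (Nat.pos_of_ne_zero d.ne_zero) (h1.trans (mul_comm _ _))
  · rcases hcases s hs with h | ⟨i, rfl⟩
    · exact absurd h hsc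
    · exact hinv i
  · have hOab : ∀ x ∈ d.O, ∀ y ∈ d.O, x * y = y * x := by
      intro x hx y hy
      have h1 : (x * y)⁻¹ = x⁻¹ * y⁻¹ := by
        rw [← hinv 0 _ (mul_mem hx hy), ← hinv 0 x hx, ← hinv 0 y hy]; group
      rw [mul_inv_rev] at h1
      simpa using congrArg (fun z : G => z⁻¹) h1
    refine (hN Y hY (fun h hh => ?_) hY1).le
    obtain ⟨o, ho, s, hs, rfl⟩ := d.exists_mul hh
    refine mem_normalizer_fintype fun a ha => ?_
    have hsa : s * a * s⁻¹ ∈ Y := by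
      rcases hcases s hs with h | ⟨i, rfl⟩
      · rwa [← mem_centralizer_iff.1 h a (hY ha), mul_inv_cancel_right]
      · rw [hinv i a (hY ha)]; exact inv_mem ha
    rwa [show o * s * a * (o * s)⁻¹ = o * (s * a * s⁻¹) * o⁻¹ by group, hOab o ho _ (hY hsa),
      mul_inv_cancel_right]

end Data

namespace Setting

variable (d : Setting G) [IsSimpleGroup G]

/-- The pure case. -/
theorem pure_trivial (hp : d.Pure) (hX : d.NoFixedLinear) : ∀ i, d.A i = ⊥ := by
  haveI := d.solvable_H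
  set FO := d.O ⊓ (Cfsg.fittingSubgroup d.H).map d.H.subtype with hFO
  have hFO' : ∀ x : G, x ∈ FO → ∃ hx : x ∈ d.O,
      (⟨x, d.O_le hx⟩ : d.H) ∈ Cfsg.fittingSubgroup d.H := by
    rintro x ⟨hx, ⟨y, hy, rfl⟩⟩
    exact ⟨hx, hy⟩
  -- the core is nilpotent
  have hOS : ⁅d.O, (d.S : Subgroup G)⁆ ≤ FO := by
    rw [commutator_le]
    intro x hx s hs
    obtain ⟨h1, h2⟩ := d.commutator_mem_fitting hp hx hs
    rw [commutatorElement_def]
    exact ⟨h1, ⟨_, h2, rfl⟩⟩
  have hOF : ∀ x (hx : x ∈ d.O), (⟨x, d.O_le hx⟩ : d.H) ∈ Cfsg.fittingSubgroup d.H := by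
    have hn : d.H ≤ normalizer (FO : Set G) :=
      (le_inf d.H_le_normalizer_O (le_normalizer_map_of_normal d.H _)).trans
        inf_normalizer_le_normalizer_inf
    haveI : (FO.subgroupOf d.O).Normal :=
      normal_subgroupOf_of_le_normalizer (d.O_le.trans hn)
    haveI : Group.IsSolvable d.O :=
      Coprime.isSolvable_of_le (le_refl _) (Cfsg.Agent.S0205.result d.O_odd)
    set π := QuotientGroup.mk' (FO.subgroupOf d.O)
    have hperf : commutator (d.O ⧸ FO.subgroupOf d.O) = ⊤ := by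
      rw [eq_top_iff]
      intro y _
      obtain ⟨x, rfl⟩ := QuotientGroup.mk'_surjective _ y
      have hx : (x : G) ∈ (commutator d.O).map d.O.subtype ⊔ FO := by
        have := hX x.2
        rw [map_subtype_commutator]
        exact (sup_le_sup_left hOS _) this
      have hle : (commutator d.O).map d.O.subtype ⊔ FO =
          (commutator d.O ⊔ FO.subgroupOf d.O).map d.O.subtype := by
        rw [Subgroup.map_sup, map_subgroupOf_eq_of_le inf_le_left]
      rw [hle] at hx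
      obtain ⟨x', hx', he⟩ := hx
      obtain rfl : x' = x := Subtype.ext he
      obtain ⟨c, hc, f, hf, rfl⟩ := mem_sup_of_normal_right.1 hx'
      rw [map_mul, (QuotientGroup.eq_one_iff f).2 hf |> fun e : π f = 1 => e, mul_one,
        _root_.commutator_def, ← Subgroup.map_top_of_surjective _ (QuotientGroup.mk'_surjective _),
        ← Subgroup.map_commutator]
      exact mem_map_of_mem _ hc
    haveI : Group.IsSolvable (d.O ⧸ FO.subgroupOf d.O) :=
      Group.isSolvable_of_surjective (QuotientGroup.mk'_surjective _)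
    have htriv : Subsingleton (d.O ⧸ FO.subgroupOf d.O) := by
      by_contra hne
      rw [not_subsingleton_iff_nontrivial] at hne
      exact (Group.IsSolvable.commutator_lt_top_of_nontrivial (d.O ⧸ FO.subgroupOf d.O)).ne hperf
    intro x hx
    exact (hFO' x ((QuotientGroup.eq_one_iff (⟨x, hx⟩ : d.O)).1 (htriv.elim _ _))).2
  -- every core is inverted by some reflection
  have hab : ∀ p : ℕ, p.Prime → p ≠ 2 → ∀ x ∈ d.P p, ∀ y ∈ d.P p, x * y = y * x := by
    intro p hp' hp2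
    haveI : Fact p.Prime := ⟨hp'⟩
    by_cases hinv : ∃ i, ∀ x ∈ d.P p, d.u i * x * (d.u i)⁻¹ = x⁻¹
    · obtain ⟨i, hi⟩ := hinv
      intro x hx y hy
      have h1 : (x * y)⁻¹ = x⁻¹ * y⁻¹ := by
        rw [← hi _ (mul_mem hx hy), ← hi x hx, ← hi y hy]; group
      rw [mul_inv_rev] at h1
      simpa using congrArg (fun z : G => z⁻¹) h1
    · push Not at hinv
      have hbot : d.P p = ⊥ := by
        obtain ⟨g, hg1, hg2⟩ := d.rho 0
        have hA : d.P p ≤ d.A 0 := fun x hx => ⟨d.P_le_O hp2 hx, by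
          rcases d.scalar_refl hp 0 hp' hp2 with h | h
          · exact mem_centralizer_singleton_iff.2 (mul_inv_eq_iff_eq_mul.1 (h x hx)).symm
          · obtain ⟨y, hy, hy'⟩ := hinv 0
            exact absurd (h y hy) hy'⟩
        refine d.eq_bot_of_moved (d.P_le p) (d.H_le_normalizer_P p) (g := g) ?_
          (by rw [hg1]; exact d.u_ne_t 0)
        refine mem_normalizer_fintype fun x hx => ?_
        have hx' := d.rho_mem_A hg1 hg2 (hA hx)
        obtain ⟨k, hk⟩ := IsPGroup.iff_orderOf.1 (d.P_isPGroup p) ⟨x, hx⟩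
        rw [orderOf_mk] at hk
        exact d.mem_P_of_fitting (hOF _ hx'.1) (k := k)
          (by rw [Subgroup.orderOf_mk, Involutions.Basic.orderOf_conj, hk])
      intro x hx y hy
      rw [hbot, mem_bot] at hx hy
      rw [hx, hy]
  have hOab : ∀ x ∈ d.O, ∀ y ∈ d.O, x * y = y * x := by
    have h1 : ∀ p : ℕ, p.Prime → p ≠ 2 → ∀ x ∈ d.O, ∀ y ∈ d.P p, x * y = y * x := by
      intro p hp' hp2 x hx y hy
      haveI : Fact p.Prime := ⟨hp'⟩
      refine mem_centralizer_singleton_iff.1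
        (d.mem_of_cores (K := centralizer ({y} : Set G)) (fun r hr hr2 f hf => ?_) hx (hOF x hx))
      haveI : Fact r.Prime := ⟨hr⟩
      rw [mem_centralizer_singleton_iff]
      by_cases hrp : r = p
      · subst hrp; exact hab r hr hr2 f hf y hy
      · exact d.comm_P hrp hf hy
    intro x hx y hy
    exact (mem_centralizer_singleton_iff.1 (d.mem_of_cores (K := centralizer ({x} : Set G))
      (fun r hr hr2 f hf => mem_centralizer_singleton_iff.2 (h1 r hr hr2 x hx f hf).symm)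
      hy (hOF y hy))).symm
  -- so the fixed points are normal in `H` and moved
  intro i
  obtain ⟨g, hg1, hg2⟩ := d.rho i
  refine d.eq_bot_of_moved (inf_le_left.trans d.O_le) (fun h hh => ?_) (g := g)
    (d.rho_normalizes_A hg1 hg2) (by rw [hg1]; exact d.u_ne_t i)
  obtain ⟨o, ho, s, hs, rfl⟩ := d.exists_mul hh
  refine mem_normalizer_fintype fun a ha => ?_
  have hsa : s * a * s⁻¹ ∈ d.O := (mem_normalizer_iff.1 (d.H_le_normalizer_O (d.S_le hs)) a).1 ha.1
  have he : o * s * a * (o * s)⁻¹ = s * a * s⁻¹ := by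
    rw [show o * s * a * (o * s)⁻¹ = o * (s * a * s⁻¹) * o⁻¹ by group, hOab o ho _ hsa,
      mul_inv_cancel_right]
  rw [he]
  refine ⟨hsa, mem_centralizer_singleton_iff.2 ?_⟩
  -- `s` and the reflection commute on the core
  set c := (d.u i)⁻¹ * (s⁻¹ * d.u i * s) with hc
  have hcS : c ∈ (d.S : Subgroup G) :=
    mul_mem (inv_mem (d.u_mem i)) (mul_mem (mul_mem (inv_mem hs) (d.u_mem i)) hs)
  have hcc : ∀ x ∈ d.O, c * x = x * c := d.sylow_centralizes_O hcS fun p hp' hp2 f hf =>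
    mul_inv_eq_iff_eq_mul.1 (by
      have hsf : s * f * s⁻¹ ∈ d.P p := d.conj_mem_P (d.S_le hs) hf
      rw [show c * f * c⁻¹ = (d.u i)⁻¹ * (s⁻¹ * (d.u i * (s * f * s⁻¹) * (d.u i)⁻¹) * s) * d.u i by
        rw [hc]; group]
      rcases d.scalar_refl hp i hp' hp2 with h | h
      · rw [h _ hsf]
        calc (d.u i)⁻¹ * (s⁻¹ * (s * f * s⁻¹) * s) * d.u i
            = (d.u i)⁻¹ * f * d.u i := by group
          _ = (d.u i)⁻¹ * (d.u i * f * (d.u i)⁻¹) * d.u i := by rw [h f hf]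
          _ = f := by group
      · rw [h _ hsf, show s⁻¹ * (s * f * s⁻¹)⁻¹ * s = f⁻¹ by group, ← h f hf]
        group)
  have hua : Commute a (d.u i) := mem_centralizer_singleton_iff.1 ha.2
  have hca : Commute c a := hcc a ha.1
  have h2 : Commute (s⁻¹ * d.u i * s) a := by
    have := hua.symm.mul_left hca
    rwa [hc, ← mul_assoc, mul_inv_cancel, one_mul] at this
  have h3 := (Commute.conj_iff s).2 h2
  rw [show s * (s⁻¹ * d.u i * s) * s⁻¹ = d.u i by group] at h3
  exact h3.eq.symm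

/-- The hypotheses of the Brauer-Suzuki-Wall theorem, given trivial fixed points. -/
theorem bsw_conditions (hA : ∀ i, d.A i = ⊥) :
    (d.O ≠ ⊥ → IsCyclic ((d.S : Subgroup G) ⊓ centralizer (d.O : Set G) : Subgroup G) ∧
      ((d.S : Subgroup G) ⊓ centralizer (d.O : Set G)).relIndex (d.S : Subgroup G) = 2) ∧
    (∀ s ∈ (d.S : Subgroup G), s ∉ centralizer (d.O : Set G) → ∀ y ∈ d.O, s * y * s⁻¹ = y⁻¹) ∧
    (∀ Y : Subgroup G, Y ≤ d.O → Y ≠ ⊥ → normalizer (Y : Set G) ≤ d.H) :=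
  d.toData.bsw_conditions_of hA fun _ hY hn h1 => d.normalizer_eq (hY.trans d.O_le) hn h1

end Setting

end Cfsg.Agent.GW.Bender
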