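import Cfsg.Agent.Lib.GW.BenderComponentDefs
import Cfsg.Agent.Lib.GW.BenderPure

/-!
# The dihedral Sylow theorem: interfaces of the mixed case
-/

set_option autoImplicit false

namespace Cfsg.Agent.GW.Bender

open Subgroup Cfsg.Agent.GW.Overgroups

universe u

variable {G : Type u} [Group G] [Finite G]

namespace Data

/-- The component facts hold for all proper subgroups with a component. -/
def HasCompFacts (_ : Data G) : Prop :=
  ∀ B : Subgroup G, B ≠ ⊤ → Cfsg.layer B ≠ ⊥ → CompFacts B

variable (d : Data G)

/-- All reflections induce the same automorphism of the core. -/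
def Alike : Prop :=
  ∀ i j : ZMod d.m, ∀ x ∈ d.O, d.u i * x * (d.u i)⁻¹ = d.u j * x * (d.u j)⁻¹

/-- What holds in the mixed case once the action of the Sylow 2-subgroup is known. -/
structure Mixed : Prop where
  not_pure : ¬ d.Pure
  central : ∀ i, d.Central i
  alike : d.Alike
  noFixedLinear : d.NoFixedLinear

end Data

end Cfsg.Agent.GW.Bender
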