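import Mathlib

/-!
# Arithmetic of the signed degrees in the Klein four setting
-/

set_option autoImplicit false

namespace Cfsg.Agent.GW.KleinArith

theorem one_div_le {x m : ℕ} (hm : 0 < m) (h : m ≤ x) : (1 : ℚ) / x ≤ 1 / m :=
  one_div_le_one_div_of_le (Nat.cast_pos.2 hm) (Nat.cast_le.2 h)

theorem one_plus_bounds {a b c : ℕ} (ha : 5 ≤ a) (hb : 5 ≤ b) (hc : 5 ≤ c) (hb4 : b % 4 = 3)
    (hc4 : c % 4 = 3) (h : 1 + a = b + c) :
    3 / 5 < 1 + (1 : ℚ) / a - 1 / b - 1 / c ∧ 1 + (1 : ℚ) / a - 1 / b - 1 / c < 1 ∧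
      1 + (1 : ℚ) / a - 1 / b - 1 / c ≠ 8 / 11 := by
  have hb7 : (1 : ℚ) / b ≤ 1 / 7 := by exact_mod_cast one_div_le (by norm_num : 0 < 7) (show 7 ≤ b by omega)
  have hc7 : (1 : ℚ) / c ≤ 1 / 7 := by exact_mod_cast one_div_le (by norm_num : 0 < 7) (show 7 ≤ c by omega)
  have hap : (0 : ℚ) < 1 / a := by
    have : (0 : ℚ) < a := Nat.cast_pos.2 (by omega)
    positivity
  have hcp : (0 : ℚ) < 1 / c := by
    have : (0 : ℚ) < c := Nat.cast_pos.2 (by omega)
    positivity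
  have hab : (1 : ℚ) / a ≤ 1 / b := one_div_le (by omega) (by omega)
  refine ⟨by linarith, by linarith, ?_⟩
  rcases (show (b = 7 ∧ c = 7) ∨ 11 ≤ b ∨ 11 ≤ c by omega) with ⟨rfl, rfl⟩ | h' | h'
  · obtain rfl : a = 13 := by omega
    norm_num
  · have : (1 : ℚ) / b ≤ 1 / 11 := by exact_mod_cast one_div_le (by norm_num : 0 < 11) h'
    intro e; linarith
  · have : (1 : ℚ) / c ≤ 1 / 11 := by exact_mod_cast one_div_le (by norm_num : 0 < 11) h'
    intro e; linarith

theorem two_plus_ne {a b : ℕ} (ha : 5 ≤ a) (hb : 5 ≤ b) (ha4 : a % 4 = 1) (hb4 : b % 4 = 1)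
    (hab : a ≤ b) : 7 * (b * (1 + a + b) + a * (1 + a + b)) ≠ a * b * (1 + a + b) + 7 * (a * b) := by
  intro e
  have ha14 : a < 14 := by
    by_contra hh
    push Not at hh
    nlinarith [Nat.mul_le_mul hh (le_refl (b * (1 + a + b))), Nat.mul_le_mul hab (le_refl (1 + a + b))]
  interval_cases a <;> first | omega | skip
  · nlinarith
  · have hb20 : b ≤ 20 := by nlinarith
    interval_cases b <;> omega
  · have hb20 : b ≤ 20 := by nlinarith
    interval_cases b <;> omega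

theorem two_plus_bounds {a b c : ℕ} (ha : 5 ≤ a) (hb : 5 ≤ b) (hc : 5 ≤ c) (ha4 : a % 4 = 1)
    (hb4 : b % 4 = 1) (h : 1 + a + b = c) :
    1 < 1 + (1 : ℚ) / a + 1 / b - 1 / c ∧ 1 + (1 : ℚ) / a + 1 / b - 1 / c < 7 / 5 ∧
      1 + (1 : ℚ) / a + 1 / b - 1 / c ≠ 8 / 7 := by
  have ha5 : (1 : ℚ) / a ≤ 1 / 5 := by exact_mod_cast one_div_le (by norm_num : 0 < 5) ha
  have hb5 : (1 : ℚ) / b ≤ 1 / 5 := by exact_mod_cast one_div_le (by norm_num : 0 < 5) hb
  have hbp : (0 : ℚ) < 1 / b := by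
    have : (0 : ℚ) < b := Nat.cast_pos.2 (by omega)
    positivity
  have hcp : (0 : ℚ) < 1 / c := by
    have : (0 : ℚ) < c := Nat.cast_pos.2 (by omega)
    positivity
  have hca : (1 : ℚ) / c ≤ 1 / a := one_div_le (by omega) (by omega)
  refine ⟨by linarith, by linarith, fun e => ?_⟩
  have ha0 : (a : ℚ) ≠ 0 := Nat.cast_ne_zero.2 (by omega)
  have hb0 : (b : ℚ) ≠ 0 := Nat.cast_ne_zero.2 (by omega)
  have hc0 : (c : ℚ) ≠ 0 := Nat.cast_ne_zero.2 (by omega)
  have e' : 7 * (b * c + a * c) = a * b * c + 7 * (a * b) := by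
    have : (7 : ℚ) * (b * c + a * c) = a * b * c + 7 * (a * b) := by
      field_simp at e
      linear_combination e
    exact_mod_cast this
  subst h
  rcases le_total a b with hab | hab
  · exact two_plus_ne ha hb ha4 hb4 hab e'
  · refine two_plus_ne hb ha hb4 ha4 hab ?_
    rw [show 1 + b + a = 1 + a + b by omega]
    linarith

/-- The weighted sum of the principal columns. -/
theorem principal_bounds {p q r : ℕ} {cp cq cr : ℤ} (hcp : cp = 1 ∨ cp = -1)
    (hcq : cq = 1 ∨ cq = -1) (hcr : cr = 1 ∨ cr = -1) (hp : 5 ≤ p) (hq : 5 ≤ q) (hr : 5 ≤ r)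
    (hp4 : (4 : ℤ) ∣ p - cp) (hq4 : (4 : ℤ) ∣ q - cq) (hr4 : (4 : ℤ) ∣ r - cr)
    (hsum : 1 + (cp * p + cq * q + cr * r) = 0) {W : ℚ}
    (hW : W = 1 + ((cp : ℚ) / p + (cq : ℚ) / q + (cr : ℚ) / r)) :
    3 / 5 < W ∧ W < 7 / 5 ∧ W ≠ 8 / 7 ∧ W ≠ 8 / 11 := by
  subst hW
  rcases hcp with rfl | rfl <;> rcases hcq with rfl | rfl <;> rcases hcr with rfl | rfl <;>
    push_cast at * <;> (try simp only [neg_div])
  · omega
  · obtain ⟨l, u, n⟩ := two_plus_bounds hp hq hr (by omega) (by omega) (by omega)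
    exact ⟨by linarith, by linarith, fun e => n (by linarith), fun e => by linarith⟩
  · obtain ⟨l, u, n⟩ := two_plus_bounds hp hr hq (by omega) (by omega) (by omega)
    exact ⟨by linarith, by linarith, fun e => n (by linarith), fun e => by linarith⟩
  · obtain ⟨l, u, n⟩ := one_plus_bounds hp hq hr (by omega) (by omega) (by omega)
    exact ⟨by linarith, by linarith, fun e => by linarith, fun e => n (by linarith)⟩
  · obtain ⟨l, u, n⟩ := two_plus_bounds hq hr hp (by omega) (by omega) (by omega)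
    exact ⟨by linarith, by linarith, fun e => n (by linarith), fun e => by linarith⟩
  · obtain ⟨l, u, n⟩ := one_plus_bounds hq hp hr (by omega) (by omega) (by omega)
    exact ⟨by linarith, by linarith, fun e => by linarith, fun e => n (by linarith)⟩
  · obtain ⟨l, u, n⟩ := one_plus_bounds hr hp hq (by omega) (by omega) (by omega)
    exact ⟨by linarith, by linarith, fun e => by linarith, fun e => n (by linarith)⟩
  · omega

/-- Four signed terms with vanishing signed degree sum stay below `3/5`. -/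
theorem four_bound {ι : Type*} (S : Finset ι) (hS : S.card = 4) (c : ι → ℤ) (x : ι → ℕ)
    (hc : ∀ j ∈ S, c j = 1 ∨ c j = -1) (hx : ∀ j ∈ S, 5 ≤ x j)
    (hsum : ∑ j ∈ S, c j * (x j : ℤ) = 0) : ∑ j ∈ S, (c j : ℚ) / x j < 3 / 5 := by
  classical
  obtain ⟨j₀, hj₀, hneg⟩ : ∃ j ∈ S, c j = -1 := by
    by_contra hcon
    push Not at hcon
    have hpos : 0 < ∑ j ∈ S, c j * (x j : ℤ) := Finset.sum_pos (fun j hj => by
      rw [(hc j hj).resolve_right (hcon j hj), one_mul]
      have := hx j hj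
      omega) (Finset.card_pos.1 (by omega))
    omega
  rw [← Finset.add_sum_erase S _ hj₀]
  have hlt : (c j₀ : ℚ) / x j₀ < 0 := by
    rw [hneg]
    have : (0 : ℚ) < x j₀ := Nat.cast_pos.2 (lt_of_lt_of_le (by norm_num) (hx j₀ hj₀))
    push_cast
    exact div_neg_of_neg_of_pos (by norm_num) this
  have hle : ∑ j ∈ S.erase j₀, (c j : ℚ) / x j ≤ ∑ _j ∈ S.erase j₀, (1 / 5 : ℚ) := by
    refine Finset.sum_le_sum fun j hj => ?_
    have hj' := Finset.mem_of_mem_erase hj
    have hxp : (0 : ℚ) < x j := Nat.cast_pos.2 (lt_of_lt_of_le (by norm_num) (hx j hj'))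
    refine le_trans ?_ (show (1 : ℚ) / x j ≤ 1 / 5 by
      exact_mod_cast one_div_le (by norm_num : 0 < 5) (hx j hj'))
    gcongr
    rcases hc j hj' with e | e <;> rw [e] <;> norm_num
  rw [Finset.sum_const, Finset.card_erase_of_mem hj₀, hS] at hle
  norm_num at hle
  linarith

/-- The moved columns contradict the principal bounds. -/
theorem moved_bound {y : ℕ} {p : ℤ} {W : ℚ} (hy : 5 ≤ y) (hp : p = 1 ∨ p = -1)
    (hmod : p = 1 → y % 4 = 3) (hW : W = 8 * (p : ℚ) / y)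
    (hl : 3 / 5 < W) (hu : W < 7 / 5) (h7 : W ≠ 8 / 7) (h11 : W ≠ 8 / 11) : False := by
  have hy0 : (0 : ℚ) < y := Nat.cast_pos.2 (by omega)
  rcases hp with rfl | rfl
  · push_cast at hW
    rw [mul_one] at hW
    subst hW
    have hy13 : y ≤ 13 := by
      have : (y : ℚ) < 14 := by rw [lt_div_iff₀ hy0] at hl; linarith
      have : y < 14 := by exact_mod_cast this
      omega
    have h4 := hmod rfl
    interval_cases y <;> first | omega | skip
    · exact h7 (by norm_num)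
    · exact h11 (by norm_num)
  · push_cast at hW
    rw [hW] at hl
    have : (8 : ℚ) * (-1) / y < 0 := div_neg_of_neg_of_pos (by norm_num) hy0
    linarith

end Cfsg.Agent.GW.KleinArith
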