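import Mathlib
import Cfsg.Agent.Lib.Blocks.Dihedral.Counting
import Cfsg.Agent.Lib.Blocks.Orthogonality
import Cfsg.Agent.Lib.CharTheory.NormalSylow.Extend
import Cfsg.Agent.Lib.SmallSimple.Basic
import Cfsg.Agent.Lib.Involutions.Basic

/-!
# Pairs of involutions above an involution and the characters of a normal subgroup of odd order

For one class of involutions, the coefficient at `θ` of the number of ways of writing `t * y`
(`y ∈ O`) as a product of two involutions is computed twice: through the irreducible characters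
of `G`, and through the twisted Frobenius–Schur sums of the involutions of `C(t)`.
-/

set_option autoImplicit false
set_option linter.style.haveILetI false
set_option linter.unusedSectionVars false

namespace Cfsg.Agent.GW.BlockIdentity

open Cfsg.Agent.Blocks Cfsg.Agent.Characters
open scoped ComplexConjugate Classical

universe u

/-- `Σ_g ψ(g a g⁻¹ b) = |H| ψ(a) ψ(b) / ψ(1)`. -/
theorem sum_conj_mul_eq {H : Type u} [Group H] [Fintype H] (ψ : Cfsg.IrrCharacter H) (a b : H) :
    ∑ g : H, (ψ : H → ℂ) (g * a * g⁻¹ * b) =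
      (Nat.card H : ℂ) * (ψ : H → ℂ) a * (ψ : H → ℂ) b / (ψ : H → ℂ) 1 := by
  set f : H → ℂ := fun x => ∑ g : H, if g * a * g⁻¹ = x then (1 : ℂ) else 0 with hf
  have hfc : Cfsg.IsClassFunction H f := fun x k => by
    refine (Fintype.sum_equiv (Equiv.mulLeft k) _ _ fun g => ?_).symm
    refine if_congr ?_ rfl rfl
    rw [Equiv.coe_mulLeft, show k * g * a * (k * g)⁻¹ = k * (g * a * g⁻¹) * k⁻¹ by group]
    exact ⟨fun h => by rw [h], fun h => mul_left_cancel (mul_right_cancel h)⟩
  have hz := central_ofFun hfc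
  have hsum : ofFun f = ∑ g : H, MonoidAlgebra.single (g * a * g⁻¹) (1 : ℂ) := by
    refine el_ext fun x => ?_
    simp [hf, MonoidAlgebra.coeff_sum, MonoidAlgebra.coeff_single, Finsupp.single_apply]
  have h1 := evalChar_central_mul ψ hz (MonoidAlgebra.single b (1 : ℂ))
  rw [omega, hsum, Finset.sum_mul, evalChar_sum, evalChar_sum] at h1
  simp only [MonoidAlgebra.single_mul_single, mul_one, evalChar_single, one_mul] at h1
  rw [h1, Finset.sum_congr rfl fun g _ => irr_isClassFunction ψ a g, Finset.sum_const,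
    Finset.card_univ, nsmul_eq_mul, ← Nat.card_eq_fintype_card]
  ring

variable {K : Type u} [Group K] [Fintype K] {O : Subgroup K} [hOn : O.Normal]

theorem eq_one_of_mem_zpowers (hO : Odd (Nat.card O)) {w x : K} (hw : orderOf w = 2) (hx : x ∈ O)
    (hxw : x ∈ Subgroup.zpowers w) : x = 1 := by
  have h1 : orderOf x ∣ Nat.card O := by
    rw [← Subgroup.orderOf_mk x hx]; exact orderOf_dvd_natCard _
  have h2 : orderOf x ∣ 2 := hw ▸ orderOf_dvd_of_mem_zpowers hxw
  rw [← orderOf_eq_one_iff]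
  exact Nat.eq_one_of_dvd_coprimes (Nat.coprime_two_right.2 hO) h1 h2

/-- The twisted Frobenius–Schur sum of an involution normalizing a group of odd order. -/
theorem sum_inverted (hO : Odd (Nat.card O)) {w : K} (hw : orderOf w = 2) (ψ : Cfsg.IrrCharacter K)
    (hψ : Cfsg.IsIrrCharacter O (fun y => (ψ : K → ℂ) y)) :
    (Nat.card (O ⊓ Subgroup.centralizer ({w} : Set K) : Subgroup K) : ℂ) *
      (∑ y : O, if w * (y : K) * w⁻¹ = (y : K)⁻¹ then (ψ : K → ℂ) y else 0) =
      (Nat.card O : ℂ) * (ψ : K → ℂ) w ^ 2 / (ψ : K → ℂ) 1 := by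
  have hww : w * w = 1 := by rw [← sq, ← hw, pow_orderOf_eq_one]
  have hwi : w⁻¹ = w := inv_eq_of_mul_eq_one_right hww
  -- the sum over `O` of the conjugates of `w`
  set H := O ⊔ Subgroup.zpowers w with hH
  have hwH : w ∈ H := Subgroup.mem_sup_right (Subgroup.mem_zpowers w)
  have hOH : O ≤ H := le_sup_left
  have hψH : Cfsg.IsIrrCharacter H (fun h => (ψ : K → ℂ) h) :=
    CharTheory.NormalSylow.isIrr_of_restrict (Subgroup.inclusion hOH)
      (isCharacter_comp H.subtype (irr_isCharacter ψ)) hψ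
  let e : O × Subgroup.zpowers w → H := fun z =>
    ⟨z.1 * z.2, mul_mem (hOH z.1.2) (Subgroup.mem_sup_right z.2.2)⟩
  have he : Function.Bijective e := by
    refine ⟨fun z z' h => ?_, fun h => ?_⟩
    · have h' : (z.1 : K) * z.2 = z'.1 * z'.2 := congrArg Subtype.val h
      have h1 : (z'.1 : K)⁻¹ * z.1 = z'.2 * (z.2 : K)⁻¹ := by
        rw [inv_mul_eq_iff_eq_mul, ← mul_assoc, ← mul_inv_eq_iff_eq_mul.2 h'.symm]
      have h2 := eq_one_of_mem_zpowers hO hw (mul_mem (inv_mem z'.1.2) z.1.2)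
        (h1 ▸ mul_mem z'.2.2 (inv_mem z.2.2))
      refine Prod.ext (Subtype.ext (inv_mul_eq_one.1 h2).symm) (Subtype.ext ?_)
      rw [h1, mul_inv_eq_one] at h2
      exact h2.symm
    · obtain ⟨z, hz, k, hk, hzk⟩ := Subgroup.mem_sup_of_normal_left.1 (show (h : K) ∈ H from h.2)
      exact ⟨(⟨z, hz⟩, ⟨k, hk⟩), Subtype.ext hzk⟩
  have hkey := sum_conj_mul_eq (⟨_, hψH⟩ : Cfsg.IrrCharacter H) ⟨w, hwH⟩ ⟨w, hwH⟩
  rw [← Fintype.sum_equiv (Equiv.ofBijective e he) (fun z => (ψ : K → ℂ) ((z.1 : K) * w * (z.1 : K)⁻¹ * w))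
      _ fun z => ?_, Fintype.sum_prod_type,
    ← Nat.card_congr (Equiv.ofBijective e he), Nat.card_prod] at hkey
  swap
  · obtain ⟨i, hi⟩ := Subgroup.mem_zpowers_iff.1 z.2.2
    have hc : (z.2 : K) * w * (z.2 : K)⁻¹ = w := by
      rw [← hi]; group
    show _ = (ψ : K → ℂ) ((z.1 : K) * z.2 * w * ((z.1 : K) * z.2)⁻¹ * w)
    rw [show (z.1 : K) * z.2 * w * ((z.1 : K) * z.2)⁻¹ =
      (z.1 : K) * ((z.2 : K) * w * (z.2 : K)⁻¹) * (z.1 : K)⁻¹ by group, hc]
  simp only [Finset.sum_const, Finset.card_univ, nsmul_eq_mul, ← Nat.card_eq_fintype_card] at hkey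
  rw [← Finset.mul_sum, Nat.cast_mul] at hkey
  have h2 : (Nat.card (Subgroup.zpowers w) : ℂ) ≠ 0 := Nat.cast_ne_zero.2 Nat.card_pos.ne'
  have hz : ∑ z : O, (ψ : K → ℂ) ((z : K) * w * (z : K)⁻¹ * w) =
      (Nat.card O : ℂ) * (ψ : K → ℂ) w ^ 2 / (ψ : K → ℂ) 1 := by
    refine mul_left_cancel₀ h2 (hkey.trans ?_)
    rw [OneMemClass.coe_one]
    ring
  rw [← hz, Finset.mul_sum]
  -- the fibres of `z ↦ z w z⁻¹ w`
  have hmem : ∀ z : O, (z : K) * w * (z : K)⁻¹ * w ∈ O := fun z => by
    have := hOn.conj_mem _ (inv_mem z.2) w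
    rw [show (z : K) * w * (z : K)⁻¹ * w = z * (w * (z : K)⁻¹ * w⁻¹) by rw [hwi]; group]
    exact mul_mem z.2 this
  conv_rhs => rw [← Finset.sum_fiberwise Finset.univ (fun z : O => (⟨_, hmem z⟩ : O))]
  refine Finset.sum_congr rfl fun y _ => ?_
  have hin : ∀ z : O, w * ((z : K) * w * (z : K)⁻¹ * w) * w⁻¹ =
      ((z : K) * w * (z : K)⁻¹ * w)⁻¹ := fun z => by
    rw [hwi, mul_inv_rev, mul_inv_rev, mul_inv_rev, inv_inv, hwi]
    simp only [mul_assoc]
    rw [hww, mul_one]
  split_ifs with hy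
  · obtain ⟨z₀, hz₀⟩ : ∃ z₀ : O, (⟨_, hmem z₀⟩ : O) = y := by
      obtain ⟨k, hk⟩ : ∃ k, 2 * k = orderOf (y : K) + 1 := by
        have hodd : Odd (orderOf (y : K)) :=
          hO.of_dvd_nat (by rw [Subgroup.orderOf_coe]; exact orderOf_dvd_natCard _)
        obtain ⟨j, hj⟩ := hodd
        exact ⟨j + 1, by omega⟩
      refine ⟨⟨(y : K) ^ k, pow_mem y.2 k⟩, Subtype.ext ?_⟩
      show (y : K) ^ k * w * ((y : K) ^ k)⁻¹ * w = y
      have hcj : w * ((y : K) ^ k)⁻¹ * w⁻¹ = (y : K) ^ k := by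
        rw [← inv_pow, ← conj_pow, show w * (y : K)⁻¹ * w⁻¹ = (w * (y : K) * w⁻¹)⁻¹ by group, hy, inv_inv]
      rw [hwi] at hcj
      rw [mul_assoc, mul_assoc, ← mul_assoc w, hcj, ← pow_add, ← two_mul, hk, pow_succ,
        pow_orderOf_eq_one, one_mul]
    rw [Finset.sum_congr rfl (g := fun _ => (ψ : K → ℂ) y) fun z hz => by
      rw [← congrArg Subtype.val (Finset.mem_filter.1 hz).2], Finset.sum_const, nsmul_eq_mul]
    congr 1
    rw [Nat.card_eq_fintype_card, ← Finset.card_univ]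
    refine congrArg Nat.cast (Finset.card_bij
      (fun c _ => z₀ * ⟨(c : K), (Subgroup.mem_inf.1 c.2).1⟩) (fun c _ => ?_)
      (fun c _ c' _ h => Subtype.ext (congrArg Subtype.val (mul_left_cancel h) :)) fun z hz => ?_)
    · refine Finset.mem_filter.2 ⟨Finset.mem_univ _, Subtype.ext ?_⟩
      have hc := Subgroup.mem_centralizer_singleton_iff.1 (Subgroup.mem_inf.1 c.2).2
      show (z₀ : K) * c * w * ((z₀ : K) * c)⁻¹ * w = y
      rw [← congrArg Subtype.val hz₀, mul_assoc (z₀ : K) (c : K) w, hc]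
      group
    · have hz' : (z : K) * w * (z : K)⁻¹ * w = (z₀ : K) * w * (z₀ : K)⁻¹ * w :=
        congrArg Subtype.val ((Finset.mem_filter.1 hz).2.trans hz₀.symm)
      have hz'' := mul_right_cancel hz'
      refine ⟨⟨(z₀ : K)⁻¹ * z, Subgroup.mem_inf.2 ⟨mul_mem (inv_mem z₀.2) z.2,
          Subgroup.mem_centralizer_singleton_iff.2 ?_⟩⟩,
        Finset.mem_univ _, Subtype.ext (mul_inv_cancel_left (z₀ : K) z)⟩
      calc (z₀ : K)⁻¹ * z * w = (z₀ : K)⁻¹ * ((z : K) * w * (z : K)⁻¹) * z := by group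
        _ = w * ((z₀ : K)⁻¹ * z) := by rw [hz'']; group
  · rw [mul_zero]
    refine (Finset.sum_eq_zero fun z hz => absurd ?_ hy).symm
    rw [← congrArg Subtype.val (Finset.mem_filter.1 hz).2]
    exact hin z

section Global

variable {G : Type u} [Group G] [Fintype G] {t : G}

/-- The coefficient at `ψ|O` of `y ↦ χ(t y)`. -/
noncomputable def coef (O : Subgroup (Subgroup.centralizer ({t} : Set G))) (χ : G → ℂ)
    (ψ : Subgroup.centralizer ({t} : Set G) → ℂ) : ℂ :=
  Cfsg.classInner (fun y : O => χ (t * ((y : Subgroup.centralizer ({t} : Set G)) : G)))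
    (fun y : O => ψ y)

variable {O : Subgroup (Subgroup.centralizer ({t} : Set G))}

/-- The pairs of involutions with product `t y`. -/
theorem pairNum_eq (ht : orderOf t = 2) (hO : Odd (Nat.card O)) (y : O) :
    Dihedral.pairNum {a : G | orderOf a = 2} (t * ((y : Subgroup.centralizer ({t} : Set G)) : G)) =
      ∑ w : Subgroup.centralizer ({t} : Set G), if (orderOf w = 2 ∧ (w : G) ≠ t) ∧
        w * (y : Subgroup.centralizer ({t} : Set G)) * w⁻¹ =
          (y : Subgroup.centralizer ({t} : Set G))⁻¹ then 1 else 0 := by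
  set x : G := ((y : Subgroup.centralizer ({t} : Set G)) : G) with hx
  have htt : t * t = 1 := by rw [← sq, ← ht, pow_orderOf_eq_one]
  have hxt : x * t = t * x := Subgroup.mem_centralizer_singleton_iff.1 y.1.2
  have hxo : ¬ 2 ∣ orderOf x := by
    intro h
    have h' : 2 ∣ orderOf y := by
      rw [hx, Subgroup.orderOf_coe, Subgroup.orderOf_coe] at h; exact h
    exact Nat.not_even_iff_odd.2 hO (even_iff_two_dvd.2 (h'.trans (orderOf_dvd_natCard y)))
  have hpart : ∀ g : G, Cfsg.IsPPart 2 (g * (t * x) * g⁻¹) (g * t * g⁻¹) := fun g =>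
    ⟨g * x * g⁻¹, by group, (show Commute t x from hxt.symm).map (MulAut.conj g).toMonoidHom,
      ⟨1, by rw [Involutions.Basic.orderOf_conj, ht, pow_one]⟩,
      by rwa [Involutions.Basic.orderOf_conj]⟩
  rw [Dihedral.pairNum]
  symm
  refine Finset.sum_bij_ne_zero (fun w _ _ => (w : G)) (fun _ _ _ => Finset.mem_univ _)
    (fun _ _ _ _ _ _ h => Subtype.ext h) (fun a _ ha => ?_) (fun w _ hw => ?_)
  · -- an involution inverting `t x` centralizes `t`
    simp only [Set.mem_ofPred_eq, ne_eq, ite_eq_right_iff, one_ne_zero, imp_false, not_not] at ha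
    obtain ⟨ha1, ha2⟩ := ha
    have haa : a * a = 1 := by rw [← sq, ← ha1, pow_orderOf_eq_one]
    have hai : a⁻¹ = a := inv_eq_of_mul_eq_one_right haa
    have hbb : a * (t * x) * (a * (t * x)) = 1 := by rw [← sq, ← ha2, pow_orderOf_eq_one]
    have hinv : a * (t * x) * a⁻¹ = (t * x)⁻¹ := by
      rw [hai]; exact eq_inv_of_mul_eq_one_left (by rw [← hbb]; group)
    have hpt : a * t * a⁻¹ = t := by
      refine ppart_unique Nat.prime_two (hpart a) ?_
      rw [hinv]
      refine ⟨x⁻¹, ?_, (show Commute t x from hxt.symm).inv_right, ⟨1, by rw [ht, pow_one]⟩,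
        by rwa [orderOf_inv]⟩
      rw [mul_inv_rev, inv_eq_of_mul_eq_one_right htt]
      exact (show Commute t x from hxt.symm).inv_right.eq
    have haC : a ∈ Subgroup.centralizer ({t} : Set G) :=
      Subgroup.mem_centralizer_singleton_iff.2 (mul_inv_eq_iff_eq_mul.1 hpt)
    have hax : a * x * a⁻¹ = x⁻¹ := by
      have h1 : t * (a * x * a⁻¹) = t * x⁻¹ := by
        calc t * (a * x * a⁻¹) = (a * t * a⁻¹) * (a * x * a⁻¹) := by rw [hpt]
          _ = a * (t * x) * a⁻¹ := by group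
          _ = x⁻¹ * t⁻¹ := by rw [hinv, mul_inv_rev]
          _ = t * x⁻¹ := by
            rw [inv_eq_of_mul_eq_one_right htt]
            exact ((show Commute t x from hxt.symm).inv_right.eq).symm
      exact mul_left_cancel h1
    have hat : a ≠ t := by
      rintro rfl
      rw [← mul_assoc, htt, one_mul] at ha2
      exact hxo (by rw [ha2])
    refine ⟨⟨a, haC⟩, Finset.mem_univ _, ?_, rfl⟩
    rw [if_pos ⟨⟨by rw [Subgroup.orderOf_mk, ha1], hat⟩, Subtype.ext hax⟩]
    exact one_ne_zero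
  · simp only [ne_eq, ite_eq_right_iff, one_ne_zero, imp_false, not_not] at hw
    obtain ⟨⟨hw2, hwt⟩, hwy⟩ := hw
    have hw2' : orderOf (w : G) = 2 := by rw [Subgroup.orderOf_coe, hw2]
    have hww : (w : G) * w = 1 := by rw [← sq, ← hw2', pow_orderOf_eq_one]
    have hwx : (w : G) * x * (w : G)⁻¹ = x⁻¹ := congrArg Subtype.val hwy
    have hwtc : (w : G) * t = t * w := Subgroup.mem_centralizer_singleton_iff.1 w.2
    rw [if_pos ⟨⟨hw2, hwt⟩, hwy⟩, if_pos]
    refine ⟨hw2', ?_⟩
    show orderOf ((w : G) * (t * x)) = 2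
    haveI := Fact.mk Nat.prime_two
    refine orderOf_eq_prime ?_ fun h1 => ?_
    · rw [inv_eq_of_mul_eq_one_right hww] at hwx
      have c1 : Commute t ((w : G) * x) :=
        (show Commute t (w : G) from hwtc.symm).mul_right (show Commute t x from hxt.symm)
      rw [show (w : G) * (t * x) = t * ((w : G) * x) by rw [← mul_assoc, hwtc, mul_assoc],
        c1.mul_pow, sq, htt, one_mul, sq, ← mul_assoc, hwx, inv_mul_cancel]
    · have e : x = (t : G) * w := by
        rw [← mul_assoc] at h1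
        rw [eq_inv_of_mul_eq_one_right h1, mul_inv_rev, inv_eq_of_mul_eq_one_right hww,
          inv_eq_of_mul_eq_one_right htt]
      have hx2 : x * x = 1 := by
        rw [e, mul_assoc, ← mul_assoc (w : G), hwtc, mul_assoc t, hww, mul_one, htt]
      rw [← sq] at hx2
      rcases (Nat.dvd_prime Nat.prime_two).1 (orderOf_dvd_of_pow_eq_one hx2) with h | h
      · refine hwt ?_
        rw [orderOf_eq_one_iff.1 h] at e
        rw [← inv_eq_of_mul_eq_one_right e.symm, inv_eq_of_mul_eq_one_right htt]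
      · exact hxo h.symm.dvd

/-- The twisted Frobenius–Schur side and the character side agree. -/
theorem identity [Fintype (Cfsg.IrrCharacter G)] (ht : orderOf t = 2)
    (hone : ∀ u v : G, orderOf u = 2 → orderOf v = 2 → IsConj u v) [O.Normal]
    (hO : Odd (Nat.card O)) (ψ : Cfsg.IrrCharacter (Subgroup.centralizer ({t} : Set G)))
    (hψ : Cfsg.IsIrrCharacter O (fun y => ψ.1 y)) :
    ∑ χ : Cfsg.IrrCharacter G, (χ : G → ℂ) t ^ 2 / (χ : G → ℂ) 1 *
        coef O (χ : G → ℂ) ψ.1 =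
      (Nat.card (Subgroup.centralizer ({t} : Set G)) : ℂ) ^ 2 / (Nat.card G : ℂ) *
        ∑ w : Subgroup.centralizer ({t} : Set G), if orderOf w = 2 ∧ (w : G) ≠ t then
          ψ.1 w ^ 2 / ((Nat.card (O ⊓ Subgroup.centralizer ({w} : Set _) :
            Subgroup (Subgroup.centralizer ({t} : Set G))) : ℂ) * ψ.1 1) else 0 := by
  set S : Set G := {a : G | orderOf a = 2} with hS
  have hinv : ∀ a ∈ S, a⁻¹ = a := fun a ha =>
    inv_eq_of_mul_eq_one_right (by rw [← sq, ← (show orderOf a = 2 from ha), pow_orderOf_eq_one])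
  have hcl : ∀ a x : G, a ∈ S → x * a * x⁻¹ ∈ S := fun a x ha => by
    show orderOf _ = 2
    rw [Involutions.Basic.orderOf_conj]; exact ha
  have hG0 : (Nat.card G : ℂ) ≠ 0 := Nat.cast_ne_zero.2 Nat.card_pos.ne'
  have hC0 : (Nat.card (Subgroup.centralizer ({t} : Set G)) : ℂ) ≠ 0 := Nat.cast_ne_zero.2 Nat.card_pos.ne'
  have hO0 : (Nat.card O : ℂ) ≠ 0 := Nat.cast_ne_zero.2 Nat.card_pos.ne'
  -- the class of involutions
  have hclass : ∀ χ : Cfsg.IrrCharacter G, Cfsg.classInner (Dihedral.pairNum S) (χ : G → ℂ) =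
      ((Nat.card G : ℂ) / (Nat.card (Subgroup.centralizer ({t} : Set G)) : ℂ) * (χ : G → ℂ) t) ^ 2 /
        ((Nat.card G : ℂ) * (χ : G → ℂ) 1) := by
    intro χ
    rw [Dihedral.classInner_pairNum hinv hcl]
    congr 2
    trans ∑ _a ∈ Finset.univ.filter (fun a : G => a ∈ S), (χ : G → ℂ) t
    · rw [Finset.sum_filter]
      refine Finset.sum_congr rfl fun a _ => ?_
      by_cases ha : a ∈ S
      · rw [if_pos ha, if_pos ha]
        obtain ⟨g, rfl⟩ := isConj_iff.1 (hone t a ht ha)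
        exact irr_isClassFunction χ t g
      · rw [if_neg ha, if_neg ha]
    rw [Finset.sum_const, nsmul_eq_mul]
    congr 1
    rw [eq_div_iff hC0, mul_comm]
    have h := SmallSimple.Basic.card_centralizer_mul_card_class t
    rw [← h, Nat.cast_mul]
    congr 2
    rw [← Fintype.card_subtype, ← Nat.card_eq_fintype_card]
    refine Nat.card_congr (Equiv.subtypeEquivRight fun a => ⟨fun ha => hone t a ht ha, fun ha => ?_⟩)
    obtain ⟨g, rfl⟩ := isConj_iff.1 ha
    exact hcl t g ht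
  -- the inner product of the number of pairs
  have hN : ∑ χ : Cfsg.IrrCharacter G, (χ : G → ℂ) t ^ 2 / (χ : G → ℂ) 1 *
      coef O (χ : G → ℂ) ψ.1 = (Nat.card (Subgroup.centralizer ({t} : Set G)) : ℂ) ^ 2 / (Nat.card G : ℂ) *
      Cfsg.classInner (fun y : O => Dihedral.pairNum S (t * ((y : (Subgroup.centralizer ({t} : Set G))) : G)))
        (fun y : O => ψ.1 y) := by
    have hsum := fun g => congrFun (classFun_eq_sum (Dihedral.isClassFunction_pairNum hinv hcl)) g
    simp only [Finset.sum_apply, Pi.smul_apply, smul_eq_mul, hclass] at hsum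
    rw [classInner_def]
    simp only [coef, classInner_def, hsum]
    simp only [Finset.sum_mul, Finset.mul_sum]
    rw [Finset.sum_comm]
    refine Finset.sum_congr rfl fun y _ => Finset.sum_congr rfl fun χ _ => ?_
    have := irr_one_ne_zero χ.2
    field_simp
  rw [hN]
  congr 1
  rw [classInner_def]
  simp only [hS, pairNum_eq ht hO, Finset.sum_mul, ite_mul, one_mul, zero_mul]
  rw [Finset.sum_comm, Finset.mul_sum]
  refine Finset.sum_congr rfl fun w _ => ?_
  by_cases hw : orderOf w = 2 ∧ (w : G) ≠ t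
  · rw [if_pos hw, Finset.sum_congr rfl (g := fun y : O =>
      if w * (y : (Subgroup.centralizer ({t} : Set G))) * w⁻¹ = (y : (Subgroup.centralizer ({t} : Set G)))⁻¹ then conj (ψ.1 y) else 0)
      fun y _ => if_congr (and_iff_right hw) rfl rfl]
    have h := sum_inverted hO hw.1 ψ hψ
    have hsum : (∑ y : O, if w * (y : (Subgroup.centralizer ({t} : Set G))) * w⁻¹ = (y : (Subgroup.centralizer ({t} : Set G)))⁻¹ then conj (ψ.1 y) else 0) =
        ∑ y : O, if w * (y : (Subgroup.centralizer ({t} : Set G))) * w⁻¹ = (y : (Subgroup.centralizer ({t} : Set G)))⁻¹ then ψ.1 y else 0 := by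
      refine Fintype.sum_equiv (Equiv.inv O) _ _ fun y => ?_
      rw [Equiv.inv_apply]
      refine if_ctx_congr ?_ (fun _ => ?_) (fun _ => rfl)
      · rw [InvMemClass.coe_inv, inv_inv, ← conj_inv]
        exact ⟨fun e => by rw [e, inv_inv], fun e => by rw [← inv_inj, e, inv_inv]⟩
      · rw [InvMemClass.coe_inv, char_inv (irr_isCharacter ψ)]
    rw [hsum]
    have h1 : (ψ.1 1) ≠ 0 := irr_one_ne_zero ψ.2
    have ha : (Nat.card (O ⊓ Subgroup.centralizer ({w} : Set _) : Subgroup (Subgroup.centralizer ({t} : Set G))) : ℂ) ≠ 0 :=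
      Nat.cast_ne_zero.2 Nat.card_pos.ne'
    have h' : (∑ y : O, if w * (y : (Subgroup.centralizer ({t} : Set G))) * w⁻¹ = (y : (Subgroup.centralizer ({t} : Set G)))⁻¹ then ψ.1 y else 0) =
        (Nat.card O : ℂ) * ψ.1 w ^ 2 / ψ.1 1 /
          (Nat.card (O ⊓ Subgroup.centralizer ({w} : Set _) : Subgroup (Subgroup.centralizer ({t} : Set G))) : ℂ) := by
      rw [eq_div_iff ha, mul_comm, ← h]
      congr 1
      exact Finset.sum_congr rfl fun y _ => by split_ifs <;> rfl
    rw [h']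
    field_simp
  · simp only [hw, false_and, if_false, Finset.sum_const_zero, mul_zero]

end Global

end Cfsg.Agent.GW.BlockIdentity
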