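import Mathlib
import Cfsg.Agent.BlockCharsA.PairPrincipal
import Cfsg.Agent.Lib.Characters.Kernel
import Cfsg.Agent.Lib.Blocks.Inflation

/-!
# Blocks of linear characters

The block of a linear character is the twist of the principal block; hence the pairs given by a
compatible family of linear characters of the centralizers are nested as the principal ones are.
-/

set_option autoImplicit false
set_option linter.style.haveILetI false
set_option linter.unusedSectionVars false

namespace Cfsg.Agent.GW.LinearTwist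

open Cfsg.Agent.Blocks Cfsg.Agent.Characters
open Cfsg.Agent.BlockCharsA.BrauerPairs Cfsg.Agent.BlockCharsA.PairConj Cfsg.Agent.BlockCharsA.PairPrincipal
open scoped ComplexConjugate

universe u

variable {G : Type u} [Group G] [Finite G] {p : ℕ} {M : Ideal Cfsg.AlgInt}

/-- A linear character, as an irreducible character. -/
noncomputable def lin (lam : G →* ℂˣ) : Cfsg.IrrCharacter G :=
  ⟨fun g => (lam g : ℂ), isIrrCharacter_linear lam⟩

@[simp] theorem lin_apply (lam : G →* ℂˣ) (g : G) : ((lin lam : Cfsg.IrrCharacter G) : G → ℂ) g = (lam g : ℂ) :=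
  rfl

theorem lin_one (lam : G →* ℂˣ) : ((lin lam : Cfsg.IrrCharacter G) : G → ℂ) 1 = 1 := by simp

theorem conj_lin (lam : G →* ℂˣ) (g : G) : conj (lam g : ℂ) = ((lam g)⁻¹ : ℂˣ) := by
  rw [← map_inv, ← lin_apply lam g⁻¹, char_inv (irr_isCharacter (lin lam)), lin_apply]

/-- Multiplication by a linear character. -/
noncomputable def twist (lam : G →* ℂˣ) : Cfsg.IrrCharacter G ≃ Cfsg.IrrCharacter G where
  toFun χ := ⟨fun g => (lam g : ℂ) * (χ : G → ℂ) g, isIrrCharacter_mul_linear χ.2 lam⟩
  invFun χ := ⟨fun g => (lam⁻¹ g : ℂ) * (χ : G → ℂ) g, isIrrCharacter_mul_linear χ.2 lam⁻¹⟩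
  left_inv χ := Subtype.ext (funext fun g => by simp)
  right_inv χ := Subtype.ext (funext fun g => by simp)

theorem ring_lin (hM : Cfsg.IsPModular p M) (lam : G →* ℂˣ) (g : G) :
    Cfsg.MemLocalRing M (lam g : ℂ) :=
  ring_of_isIntegral hM (IsIntegral.of_pow (orderOf_pos g) (by
    rw [← Units.val_pow_eq_pow_val, ← map_pow, pow_orderOf_eq_one, map_one, Units.val_one]
    exact isIntegral_one))

theorem centralChar_twist (lam : G →* ℂˣ) (χ : G → ℂ) (g : G) :
    Cfsg.centralChar (fun x => (lam x : ℂ) * χ x) g = (lam g : ℂ) * Cfsg.centralChar χ g := by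
  simp only [Cfsg.centralChar, map_one, Units.val_one, one_mul]
  ring

theorem sameBlock_twist (hM : Cfsg.IsPModular p M) (lam : G →* ℂˣ) {χ ψ : G → ℂ}
    (h : Cfsg.SameBlock M χ ψ) :
    Cfsg.SameBlock M (fun x => (lam x : ℂ) * χ x) (fun x => (lam x : ℂ) * ψ x) := fun g => by
  rw [centralChar_twist, centralChar_twist, ← mul_sub]
  exact ideal_mul_left hM (ring_lin hM lam g) (h g)

/-- The block of a linear character is the twist of the principal block. -/
theorem twist_mem_iff (hM : Cfsg.IsPModular p M) (lam : G →* ℂˣ) (χ : Cfsg.IrrCharacter G) :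
    twist lam χ ∈ Cfsg.blockOf M ((lin lam : Cfsg.IrrCharacter G) : G → ℂ) ↔
      χ ∈ Cfsg.principalBlock M G := by
  constructor
  · intro h
    have h' := sameBlock_twist hM lam⁻¹ (mem_blockOf.1 h)
    refine mem_blockOf.2 ?_
    convert h' using 1
    · funext x; simp
    · funext x; simp [twist]
  · intro h
    have h' := sameBlock_twist hM lam (mem_blockOf.1 h)
    refine mem_blockOf.2 ?_
    convert h' using 1
    all_goals funext x
    all_goals simp [twist]

theorem blockCoeff_lin (hM : Cfsg.IsPModular p M) (lam : G →* ℂˣ) (g : G) :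
    Cfsg.blockCoeff (Cfsg.blockOf M ((lin lam : Cfsg.IrrCharacter G) : G → ℂ)) g =
      conj (lam g : ℂ) * Cfsg.blockCoeff (Cfsg.principalBlock M G) g := by
  classical
  haveI := Fintype.ofFinite (Cfsg.IrrCharacter G)
  rw [blockCoeff_eq_sum, blockCoeff_eq_sum, mul_left_comm]
  congr 1
  rw [Finset.mul_sum]
  refine (Fintype.sum_equiv (twist lam) _ _ fun χ => ?_).symm
  by_cases h : χ ∈ Cfsg.principalBlock M G
  · rw [if_pos h, if_pos ((twist_mem_iff hM lam χ).2 h)]
    simp only [twist, Equiv.coe_fn_mk, map_one, Units.val_one, one_mul, map_mul]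
    ring
  · rw [if_neg h, if_neg (mt (twist_mem_iff hM lam χ).1 h), mul_zero]

/-- The pairs of a compatible family of linear characters are nested. -/
theorem normalSubpair_lin (hM : Cfsg.IsPModular p M) {Q R : Subgroup G} (hR : IsPGroup p R)
    (hQR : Q ≤ R) (hRN : R ≤ Subgroup.normalizer (Q : Set G))
    (lam : Subgroup.centralizer (Q : Set G) →* ℂˣ) (mu : Subgroup.centralizer (R : Set G) →* ℂˣ)
    (hres : ∀ x : Subgroup.centralizer (R : Set G),
      lam ⟨x, centralizer_le_centralizer hQR x.2⟩ = mu x)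
    (hfix : ∀ r ∈ R, ∀ c c' : Subgroup.centralizer (Q : Set G),
      (c' : G) = r * c * r⁻¹ → lam c' = lam c) :
    Cfsg.IsNormalSubpair p M Q (Cfsg.blockOf M ((lin lam : Cfsg.IrrCharacter _) : _ → ℂ)) R
      (Cfsg.blockOf M ((lin mu : Cfsg.IrrCharacter _) : _ → ℂ)) := by
  classical
  haveI := Fintype.ofFinite G
  haveI := Fintype.ofFinite (Subgroup.centralizer (R : Set G))
  haveI := Fintype.ofFinite (Subgroup.centralizer (Q : Set G))
  refine ⟨⟨hR.to_le hQR, isPBlock_blockOf M _⟩, ⟨hR, isPBlock_blockOf M _⟩, hQR, hRN,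
    fun x hx => ?_, fun ξ hξ => ?_⟩
  · have hK := normalizer_le_normalizer_centralizer Q (hRN hx)
    have he : irrAutEquiv (conjK hK) (lin lam) = lin lam := by
      apply Subtype.ext
      funext c
      show (lam (conjK hK c) : ℂ) = lam c
      rw [hfix x hx c (conjK hK c) (coe_conjK hK c)]
    have hb := isPBlock_blockOf M (lin lam)
    have hm : lin lam ∈ moveSet (conjK hK) (Cfsg.blockOf M ((lin lam : Cfsg.IrrCharacter _) : _ → ℂ)) := by
      rw [moveSet, Set.mem_preimage, he]
      exact mem_blockOf_self hM _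
    exact (stabilizes_iff hK _).2
      (block_eq_of_mem hM (isPBlock_moveSet hM _ hb) hb hm (mem_blockOf_self hM (lin lam)))
  rw [brauerOmega_elF]
  refine cong_at_member hM (isPBlock_blockOf M _) (mem_blockOf_self hM (lin mu)) hξ
    (intEl_elF hM (isPBlock_blockOf M _))
    (invBy_mono (centralizer_le_centralizer hQR) (invBy_elF_self _)) ?_
  have h1 := omega_blockIdem_mem (trivIrr_mem_principal (G := Subgroup.centralizer (Q : Set G)) hM)
  rw [omega_trivIrr] at h1
  have h := cong_sum_centralizer hM (K := Subgroup.centralizer (Q : Set G)) hR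
    (hRN.trans (normalizer_le_normalizer_centralizer Q)) (centralizer_le_centralizer hQR)
    (fun g => (elF (Subgroup.centralizer (Q : Set G)) (prin M Q)).coeff g)
    (fun g _ => intEl_elF hM (isPBlock_principal M _) g)
    (fun u hu g _ => invBy_elF (S := ({u} : Set G)) (fun v hv => by
      rw [Set.mem_singleton_iff.1 hv]; exact stabilizes_prin hM (hRN hu)) u rfl g)
  refine cong_trans hM (cong_of_eq hM ?_) (cong_trans hM (cong_symm hM h) (cong_of_eq hM ?_))
  · rw [omega, evalChar_eq_sum, lin_one, div_one]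
    refine Finset.sum_congr rfl fun c _ => ?_
    simp only [br, coeff_restrEl, elF, coeff_inclEl_of_mem _ _ (centralizer_le_centralizer hQR c.2),
      coeff_blockIdem, lin_apply]
    rw [blockCoeff_lin hM, hres c, conj_lin, mul_right_comm, ← Units.val_mul, inv_mul_cancel,
      Units.val_one, one_mul]
  · rw [← h1]
    exact Finset.sum_congr rfl fun k _ => by rw [elF, coeff_inclEl_mem]

/-- The members of the block of a linear character lie over it on normal `p'`-subgroups. -/
theorem apply_of_mem_lin (hM : Cfsg.IsPModular p M) (lam : G →* ℂˣ) {ξ : Cfsg.IrrCharacter G}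
    (hξ : ξ ∈ Cfsg.blockOf M ((lin lam : Cfsg.IrrCharacter G) : G → ℂ)) {N : Subgroup G}
    [N.Normal] (hN : ¬ p ∣ Nat.card N) {y : G} (hy : y ∈ N) :
    (ξ : G → ℂ) y = (lam y : ℂ) * (ξ : G → ℂ) 1 := by
  obtain ⟨χ, rfl⟩ := (twist lam).surjective ξ
  have hχ := (twist_mem_iff hM lam χ).1 hξ
  obtain ⟨K, -, hK, -, -, hmax⟩ :=
    exists_blockKer hM (isPBlock_principal M G) (trivIrr_mem_principal hM)
  have hyK : y ∈ (K : Set G) := hmax N inferInstance hN (fun g _ => rfl) hy
  rw [hK] at hyK
  simp only [twist, Equiv.coe_fn_mk, map_one, Units.val_one, one_mul]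
  rw [hyK χ hχ]

end Cfsg.Agent.GW.LinearTwist
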