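import Mathlib
import Cfsg.Agent.Lib.GW.BlockIdentity
import Cfsg.Agent.Lib.GW.LinearTwist

/-!
# Constituents over linear characters, and pairs of linear characters under conjugation

If `N` is normal with all squares in `N`, the characters lying over a linear character of the
whole group belong to the `2`-block of that character.
-/

set_option autoImplicit false
set_option linter.style.haveILetI false
set_option linter.unusedSectionVars false

namespace Cfsg.Agent.GW.Separation

open Cfsg.Agent.Blocks Cfsg.Agent.Characters Cfsg.Agent.GW.LinearTwist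
open Cfsg.Agent.BlockCharsA.BrauerPairs Cfsg.Agent.BlockCharsA.PairConj
open scoped ComplexConjugate Classical

universe u

variable {H : Type u} [Group H] [Fintype H] (N : Subgroup H) [hNn : N.Normal]

/-- A character with a trivial constituent on a normal subgroup is trivial on it. -/
theorem apply_of_sum_ne_zero (ξ : Cfsg.IrrCharacter H) (h : ∑ s : N, (ξ : H → ℂ) s ≠ 0) {b : H}
    (hb : b ∈ N) : (ξ : H → ℂ) b = (ξ : H → ℂ) 1 := by
  have h1 := irr_one_ne_zero ξ.2
  have hinner : ∀ g : H, ∑ n : N, (ξ : H → ℂ) (g * n * g⁻¹ * b) = ∑ n : N, (ξ : H → ℂ) n := by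
    intro g
    refine Fintype.sum_equiv
      ((MulAut.conjNormal g : N ≃* N).toEquiv.trans (Equiv.mulRight ⟨b, hb⟩)) _ _ fun n => ?_
    simp [MulAut.conjNormal_apply]
  have hL : ∑ n : N, ∑ g : H, (ξ : H → ℂ) (g * n * g⁻¹ * b) =
      (Nat.card H : ℂ) * ∑ n : N, (ξ : H → ℂ) n := by
    rw [Finset.sum_comm, Finset.sum_congr rfl fun g _ => hinner g, Finset.sum_const,
      Finset.card_univ, nsmul_eq_mul, Nat.card_eq_fintype_card]
  simp only [BlockIdentity.sum_conj_mul_eq, ← Finset.sum_div, ← Finset.sum_mul, ← Finset.mul_sum]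
    at hL
  rw [div_eq_iff h1] at hL
  exact mul_left_cancel₀ (mul_ne_zero (Nat.cast_ne_zero.2 Nat.card_pos.ne') h) (by
    linear_combination hL)

variable {M : Ideal Cfsg.AlgInt}

/-- A character trivial on `N` of exponent-`2` factor belongs to the principal block. -/
theorem mem_principal_of_trivial (hM : Cfsg.IsPModular 2 M) (hsq : ∀ x : H, x * x ∈ N)
    (ξ : Cfsg.IrrCharacter H) (htriv : ∀ x ∈ N, (ξ : H → ℂ) x = (ξ : H → ℂ) 1) :
    ξ ∈ Cfsg.principalBlock M H := by
  have h1 := irr_one_ne_zero ξ.2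
  have hmul : ∀ n ∈ N, ∀ x, (ξ : H → ℂ) (n * x) = (ξ : H → ℂ) x := fun n hn x =>
    char_mul_of_eq_one (irr_isCharacter ξ) (htriv n hn) x
  have hcm : ∀ g a : H, g * a * g⁻¹ * a⁻¹ ∈ N := fun g a => by
    have e : g * a * g⁻¹ * a⁻¹ =
        (g * a * (g * a)) * (a⁻¹ * (g⁻¹ * g⁻¹) * a) * (a⁻¹ * a⁻¹) := by group
    rw [e]
    refine mul_mem (mul_mem (hsq _) ?_) (hsq _)
    have h' := hNn.conj_mem _ (hsq g⁻¹) a⁻¹
    rwa [inv_inv] at h'
  have hab : ∀ a b : H, (ξ : H → ℂ) (a * b) * (ξ : H → ℂ) 1 = (ξ : H → ℂ) a * (ξ : H → ℂ) b := by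
    intro a b
    have h := BlockIdentity.sum_conj_mul_eq ξ a b
    rw [Finset.sum_congr rfl (g := fun _ => (ξ : H → ℂ) (a * b)) fun g _ => by
      rw [show g * a * g⁻¹ * b = (g * a * g⁻¹ * a⁻¹) * (a * b) by group, hmul _ (hcm g a)],
      Finset.sum_const, Finset.card_univ, nsmul_eq_mul, ← Nat.card_eq_fintype_card,
      eq_div_iff h1] at h
    exact mul_left_cancel₀ (Nat.cast_ne_zero.2 (Nat.card_pos (α := H)).ne') (by
      linear_combination h)
  refine mem_blockOf.2 fun k => ?_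
  have hk : (ξ : H → ℂ) k = (ξ : H → ℂ) 1 ∨ (ξ : H → ℂ) k = -(ξ : H → ℂ) 1 := by
    rw [← mul_self_eq_mul_self_iff, ← hab k k]
    rw [htriv _ (hsq k)]
  simp only [Cfsg.centralChar, mul_one, div_one]
  rcases hk with hk | hk <;> rw [hk]
  · rw [mul_div_assoc, div_self h1, mul_one, sub_self]
    exact ideal_zero hM
  · rw [mul_div_assoc, neg_div, div_self h1]
    have h2 := ideal_mul_left hM (ring_natCast hM (Subgroup.centralizer ({k} : Set H)).index)
      (ideal_p hM)
    convert h2 using 1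
    push_cast
    ring

/-- The characters over a linear character of the whole group lie in its block. -/
theorem mem_lin_of_inner (hM : Cfsg.IsPModular 2 M) (hsq : ∀ x : H, x * x ∈ N) (θ : H →* ℂˣ)
    (ξ : Cfsg.IrrCharacter H)
    (h : Cfsg.classInner (fun s : N => (ξ : H → ℂ) s) (fun s : N => (θ s : ℂ)) ≠ 0) :
    ξ ∈ Cfsg.blockOf M ((lin θ : Cfsg.IrrCharacter H) : H → ℂ) := by
  obtain ⟨η, rfl⟩ := (twist θ).surjective ξ
  refine (twist_mem_iff hM θ η).2 (mem_principal_of_trivial N hM hsq η fun x hx =>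
    apply_of_sum_ne_zero N η (fun h0 => h ?_) hx)
  rw [classInner_def, Finset.sum_congr rfl (g := fun s : N => (η : H → ℂ) s) fun s _ => ?_, h0,
    mul_zero]
  simp only [twist, Equiv.coe_fn_mk]
  rw [conj_lin, mul_right_comm, Units.mul_inv, one_mul]

section Pairs

variable {G : Type u} [Group G] [Finite G] {p : ℕ}

/-- Equal subgroups and equal values give equal pairs of linear characters. -/
theorem pair_congr (M : Ideal Cfsg.AlgInt) {Q Q' : Subgroup G} (hQ : Q = Q')
    (μ : Subgroup.centralizer (Q : Set G) →* ℂˣ) (μ' : Subgroup.centralizer (Q' : Set G) →* ℂˣ)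
    (h : ∀ (g : G) (hg : g ∈ Subgroup.centralizer (Q : Set G))
      (hg' : g ∈ Subgroup.centralizer (Q' : Set G)), μ ⟨g, hg⟩ = μ' ⟨g, hg'⟩) :
    (⟨Q, Cfsg.blockOf M ((lin μ : Cfsg.IrrCharacter _) : _ → ℂ)⟩ : Cfsg.BrauerPairIdx G) =
      ⟨Q', Cfsg.blockOf M ((lin μ' : Cfsg.IrrCharacter _) : _ → ℂ)⟩ := by
  subst hQ
  have : μ = μ' := MonoidHom.ext fun x => h x x.2 x.2
  rw [this]

/-- The conjugate of the pair of a linear character. -/
theorem cjPair_lin (hM : Cfsg.IsPModular p M) (Q : Subgroup G) (x : G)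
    (μ : Subgroup.centralizer (Q : Set G) →* ℂˣ) :
    cjPair x (⟨Q, Cfsg.blockOf M ((lin μ : Cfsg.IrrCharacter _) : _ → ℂ)⟩ : Cfsg.BrauerPairIdx G) =
      ⟨cj Q x, Cfsg.blockOf M
        ((lin (μ.comp (centConj Q x).symm.toMonoidHom) : Cfsg.IrrCharacter _) : _ → ℂ)⟩ := by
  refine congrArg (Sigma.mk _) (block_eq_of_mem hM (isPBlock_conjBlock hM Q x (isPBlock_blockOf M _))
    (isPBlock_blockOf M _) ⟨lin μ, mem_blockOf_self hM _, fun c c' hc => ?_⟩
    (mem_blockOf_self hM (lin _)))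
  simp only [lin_apply, MonoidHom.comp_apply]
  congr 2
  have e : c' = centConj Q x c := Subtype.ext hc
  rw [e]
  exact (centConj Q x).symm_apply_apply c

/-- Two pairs on one subgroup below the same pair are equal. -/
theorem pair_unique (hM : Cfsg.IsPModular p M) {a b : Cfsg.BrauerPairIdx G} (hab : a.1 = b.1)
    {P : Subgroup G} {e : Set (Cfsg.IrrCharacter (Subgroup.centralizer (P : Set G)))}
    (he : Cfsg.IsBrauerPair p M P e)
    (ha : Relation.ReflTransGen (Cfsg.NormalSubpairRel p M) a ⟨P, e⟩)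
    (hb : Relation.ReflTransGen (Cfsg.NormalSubpairRel p M) b ⟨P, e⟩) : a = b := by
  obtain ⟨Q, f⟩ := a
  obtain ⟨Q', f'⟩ := b
  simp only at hab
  subst hab
  rw [subpair_unique hM _ Q P e rfl he f f' ha hb]

end Pairs

end Cfsg.Agent.GW.Separation
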