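import Mathlib
import Cfsg.Agent.Lib.GW.SeparationBase
import Cfsg.Agent.Lib.Blocks.Star.Parts

/-!
# Separation at an involution of a Klein four Sylow subgroup

Three linear characters of `C(t)` permuted on `C(P)` by a rotation of `P` give pairs of one
block; only its members have a coefficient at one of them, and their values at `t * s` are
combinations of the three.
-/

set_option autoImplicit false
set_option linter.style.haveILetI false
set_option linter.unusedSectionVars false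

namespace Cfsg.Agent.GW.Separation

open Cfsg.Agent.Blocks Cfsg.Agent.Characters Cfsg.Agent.GW.LinearTwist
open Cfsg.Agent.BlockCharsA.BrauerPairs Cfsg.Agent.BlockCharsA.PairConj
open Cfsg.Agent.Blocks.Star
open scoped ComplexConjugate Classical

universe u

/-- An element rotating the involutions of a Klein four Sylow subgroup. -/
structure Rotation {G : Type u} [Group G] (P : Sylow 2 G) (t ρ : G) : Prop where
  order : orderOf t = 2
  mem : t ∈ (P : Subgroup G)
  comm : ∀ a ∈ (P : Subgroup G), ∀ b ∈ (P : Subgroup G), a * b = b * a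
  normalizes : ρ ∈ Subgroup.normalizer ((P : Subgroup G) : Set G)
  cube : ρ ^ 3 ∈ Subgroup.centralizer ((P : Subgroup G) : Set G)
  cover : ∀ v ∈ (P : Subgroup G), orderOf v = 2 → ∃ i : Fin 3, v = ρ ^ (i : ℕ) * t * (ρ ^ (i : ℕ))⁻¹

variable {G : Type u} [Group G] [Fintype G] {P : Sylow 2 G} {t ρ : G}

theorem Rotation.centralizer_le (h : Rotation P t ρ) :
    Subgroup.centralizer ((P : Subgroup G) : Set G) ≤ Subgroup.centralizer ({t} : Set G) :=
  Subgroup.centralizer_le (Set.singleton_subset_iff.2 h.mem)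

/-- The centraliser of the subgroup generated by `t` is that of `t`. -/
def toC (t : G) : CU t ≃* Subgroup.centralizer ({t} : Set G) :=
  MulEquiv.subgroupCongr (Subgroup.ext fun _ => mem_centralizer_zpowers)

@[simp] theorem coe_toC (x : CU t) : ((toC t x : Subgroup.centralizer ({t} : Set G)) : G) = x := rfl

variable {M : Ideal Cfsg.AlgInt}

/-- The block of a linear character of `C(t)`, at the centraliser of `⟨t⟩`. -/
noncomputable def blk (M : Ideal Cfsg.AlgInt) (θ : Subgroup.centralizer ({t} : Set G) →* ℂˣ) :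
    Set (Cfsg.IrrCharacter (CU t)) :=
  Cfsg.blockOf M ((lin (θ.comp (toC t).toMonoidHom) : Cfsg.IrrCharacter _) : _ → ℂ)

/-- The character of `C(P)` cut out by a character of `C(t)`. -/
def down (h : Rotation P t ρ) (θ : Subgroup.centralizer ({t} : Set G) →* ℂˣ) :
    Subgroup.centralizer ((P : Subgroup G) : Set G) →* ℂˣ :=
  θ.comp (Subgroup.inclusion h.centralizer_le)

theorem hom_conj_eq {H : Type*} [Group H] (f : H →* ℂˣ) (a b : H) : f (a * b * a⁻¹) = f b := by
  rw [map_mul, map_mul, mul_right_comm, map_inv, mul_inv_cancel, one_mul]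

theorem rho_pow_mem (h : Rotation P t ρ) (i : ℕ) :
    ρ ^ i ∈ Subgroup.normalizer ((P : Subgroup G) : Set G) := pow_mem h.normalizes i

theorem cj_pow (h : Rotation P t ρ) (i : ℕ) : cj (P : Subgroup G) (ρ ^ i) = (P : Subgroup G) := by
  ext z
  obtain ⟨y, rfl⟩ : ∃ y, z = ρ ^ i * y * (ρ ^ i)⁻¹ := ⟨(ρ ^ i)⁻¹ * z * ρ ^ i, by group⟩
  rw [conj_mem_cj]
  exact (Subgroup.mem_normalizer_iff.1 (rho_pow_mem h i)) y

/-- The pairs of the three characters belong to one block, and are all its pairs at `⟨t⟩`. -/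
theorem exists_block (hM : Cfsg.IsPModular 2 M) (h : Rotation P t ρ)
    (θ : Fin 3 → Subgroup.centralizer ({t} : Set G) →* ℂˣ)
    (hrot : ∀ (i : Fin 3) (a b : Subgroup.centralizer ((P : Subgroup G) : Set G)),
      (b : G) = ρ ^ (i : ℕ) * a * (ρ ^ (i : ℕ))⁻¹ → down h (θ i) a = down h (θ 0) b) :
    ∃ B : Set (Cfsg.IrrCharacter G), Cfsg.IsPBlock M B ∧
      (∀ i, Cfsg.IsBrauerPairOf 2 M B (Subgroup.zpowers t) (blk M (θ i))) ∧
      ∀ g, Cfsg.IsBrauerPairOf 2 M B (Subgroup.zpowers t) g → ∃ i, g = blk M (θ i) := by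
  set T := Subgroup.zpowers t with hT
  set e : Fin 3 → Set (Cfsg.IrrCharacter (Subgroup.centralizer ((P : Subgroup G) : Set G))) :=
    fun i => Cfsg.blockOf M ((lin (down h (θ i)) : Cfsg.IrrCharacter _) : _ → ℂ) with he
  have hpair : ∀ i, Cfsg.IsBrauerPair 2 M (P : Subgroup G) (e i) :=
    fun i => ⟨P.2, isPBlock_blockOf M _⟩
  have hTP : T ≤ (P : Subgroup G) := Subgroup.zpowers_le.2 h.mem
  have hPT : (P : Subgroup G) ≤ CU t := fun x hx => mem_centralizer_zpowers.2
    (Subgroup.mem_centralizer_singleton_iff.2 (h.comm x hx t h.mem))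
  have hnorm : ∀ i, Cfsg.IsNormalSubpair 2 M T (blk M (θ i)) (P : Subgroup G) (e i) := fun i => by
    refine normalSubpair_lin hM P.2 hTP
      (hPT.trans (Subgroup.centralizer_le_normalizer _)) _ _ (fun _ => rfl) fun r hr c c' hc => ?_
    have : c' = ⟨r, hPT hr⟩ * c * ⟨r, hPT hr⟩⁻¹ := Subtype.ext (by simpa using hc)
    rw [this, hom_conj_eq]
  obtain ⟨B, hB⟩ := exists_brauerPairOf hM (hpair 0)
  -- the rotated pairs below the fixed one
  have hrotP : ∀ i : Fin 3, cjPair (ρ ^ (i : ℕ))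
      (⟨(P : Subgroup G), e i⟩ : Cfsg.BrauerPairIdx G) = ⟨(P : Subgroup G), e 0⟩ := fun i => by
    simp only [he, cjPair_lin hM]
    refine pair_congr M (cj_pow h i) _ _ fun g hg hg' => ?_
    show down h (θ i) ((centConj (P : Subgroup G) (ρ ^ (i : ℕ))).symm ⟨g, hg⟩) = down h (θ 0) ⟨g, hg'⟩
    refine hrot i _ _ ?_
    show g = _
    rw [← coe_centConj, MulEquiv.apply_symm_apply]
  have hle : ∀ i : Fin 3, Relation.ReflTransGen (Cfsg.NormalSubpairRel 2 M)
      (cjPair (ρ ^ (i : ℕ)) (⟨T, blk M (θ i)⟩ : Cfsg.BrauerPairIdx G)) ⟨(P : Subgroup G), e 0⟩ :=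
    fun i => by
      rw [← hrotP i]
      exact subpairLE_conj hM _ (Relation.ReflTransGen.single (hnorm i))
  refine ⟨B, hB.2.1, fun i => ?_, fun g hg => ?_⟩
  · have h1 : Cfsg.IsBrauerPairOf 2 M B _ _ := (block_of_subpairLE hM (hle i)).2 hB
    have h2 := isBrauerPairOf_conj hM (ρ ^ (i : ℕ))⁻¹ h1
    have h3 : cjPair (ρ ^ (i : ℕ))⁻¹
        (cjPair (ρ ^ (i : ℕ)) (⟨T, blk M (θ i)⟩ : Cfsg.BrauerPairIdx G)) = ⟨T, blk M (θ i)⟩ := by
      rw [cjPair_mul, inv_mul_cancel, cjPair_one]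
    have h4 := congrArg
      (fun a : Cfsg.BrauerPairIdx G => Cfsg.IsBrauerPairOf 2 M B a.1 a.2) h3
    exact cast h4 h2
  have hmax : Cfsg.IsMaximalBrauerPair 2 M B (P : Subgroup G) (e 0) :=
    ⟨hB, fun _ _ hR hl => P.3 hR.1.1 (subpairLE_facts hM hl).1⟩
  obtain ⟨x, hx⟩ := exists_conj_le hM hmax hg
  have hxP : x * t * x⁻¹ ∈ (P : Subgroup G) :=
    (subpairLE_facts hM hx).1 (conj_mem_cj.2 (Subgroup.mem_zpowers t))
  obtain ⟨i, hi⟩ := h.cover _ hxP (by rw [Involutions.Basic.orderOf_conj, h.order])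
  refine ⟨i, ?_⟩
  have hyC : (ρ ^ (i : ℕ))⁻¹ * x ∈ Subgroup.centralizer ({t} : Set G) := by
    refine Subgroup.mem_centralizer_singleton_iff.2 ?_
    calc (ρ ^ (i : ℕ))⁻¹ * x * t = (ρ ^ (i : ℕ))⁻¹ * (x * t * x⁻¹) * x := by group
      _ = t * ((ρ ^ (i : ℕ))⁻¹ * x) := by rw [hi]; group
  have hcj : cj T x = cj T (ρ ^ (i : ℕ)) := by
    rw [cj, cj, MonoidHom.map_zpowers, MonoidHom.map_zpowers]
    exact congrArg _ hi
  have h1 : cjPair x (⟨T, g⟩ : Cfsg.BrauerPairIdx G) = cjPair (ρ ^ (i : ℕ)) ⟨T, blk M (θ i)⟩ :=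
    pair_unique hM hcj hB.1 hx (hle i)
  have h2 := congrArg (cjPair x⁻¹) h1
  rw [cjPair_mul, cjPair_mul, inv_mul_cancel, cjPair_one] at h2
  have hzC : x⁻¹ * ρ ^ (i : ℕ) ∈ Subgroup.centralizer ({t} : Set G) := by
    have := inv_mem hyC
    rwa [mul_inv_rev, inv_inv] at this
  have h3 : cjPair (x⁻¹ * ρ ^ (i : ℕ)) (⟨T, blk M (θ i)⟩ : Cfsg.BrauerPairIdx G) =
      ⟨T, blk M (θ i)⟩ := by
    simp only [blk, cjPair_lin hM]
    refine pair_congr M ?_ _ _ fun a ha ha' => ?_
    · rw [cj, MonoidHom.map_zpowers]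
      show Subgroup.zpowers ((x⁻¹ * ρ ^ (i : ℕ)) * t * (x⁻¹ * ρ ^ (i : ℕ))⁻¹) = T
      rw [Subgroup.mem_centralizer_singleton_iff.1 hzC, mul_inv_cancel_right]
    · have hc : (((centConj T (x⁻¹ * ρ ^ (i : ℕ))).symm ⟨a, ha⟩ : CU t) : G) =
          (x⁻¹ * ρ ^ (i : ℕ))⁻¹ * a * (x⁻¹ * ρ ^ (i : ℕ)) := rfl
      show θ i (toC t ((centConj T (x⁻¹ * ρ ^ (i : ℕ))).symm ⟨a, ha⟩)) = θ i (toC t ⟨a, ha'⟩)
      rw [show toC t ((centConj T (x⁻¹ * ρ ^ (i : ℕ))).symm ⟨a, ha⟩) =
        (⟨_, hzC⟩ : Subgroup.centralizer ({t} : Set G))⁻¹ * toC t ⟨a, ha'⟩ *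
          (⟨_, hzC⟩ : Subgroup.centralizer ({t} : Set G))⁻¹⁻¹ from Subtype.ext (by
          rw [coe_toC, hc]; simp [coe_toC]), hom_conj_eq]
  rw [h3] at h2
  simpa using h2

section Values

variable {O : Subgroup (Subgroup.centralizer ({t} : Set G))} [hOn : O.Normal]

theorem toC_symm_coe (x : Subgroup.centralizer ({t} : Set G)) :
    (((toC t).symm x : CU t) : G) = x := rfl

/-- The part at the block of a linear character carries exactly its coefficient. -/
theorem th_blk (hM : Cfsg.IsPModular 2 M) (hO : Odd (Nat.card O))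
    (hsq : ∀ x : Subgroup.centralizer ({t} : Set G), x * x ∈ O)
    (θ : Subgroup.centralizer ({t} : Set G) →* ℂˣ) (χ : Cfsg.IrrCharacter G) (s : O) :
    th (χ : G → ℂ) t (elF (CU t) (blk M θ)) ((s : Subgroup.centralizer ({t} : Set G)) : G) =
      BlockIdentity.coef O (χ : G → ℂ) (fun x => (θ x : ℂ)) * (θ s : ℂ) := by
  haveI := Fintype.ofFinite (Cfsg.IrrCharacter (CU t))
  set N : Subgroup (CU t) := O.comap (toC t).toMonoidHom with hN
  set F := shiftCU (χ : G → ℂ) t
  have hmem : ∀ r : O, (toC t).symm r ∈ N := fun r => by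
    show toC t ((toC t).symm r) ∈ O
    rw [MulEquiv.apply_symm_apply]
    exact r.2
  let eN : O ≃ N :=
    { toFun := fun r => ⟨(toC t).symm r, hmem r⟩
      invFun := fun x => ⟨toC t x, x.2⟩
      left_inv := fun r => Subtype.ext ((toC t).apply_symm_apply _)
      right_inv := fun x => Subtype.ext ((toC t).symm_apply_apply _) }
  have hNodd : ¬ 2 ∣ Nat.card N := by
    rw [← Nat.card_congr eN, ← even_iff_two_dvd]
    exact Nat.not_even_iff_odd.2 hO
  have hNsq : ∀ x : CU t, x * x ∈ N := fun x => by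
    show toC t (x * x) ∈ O
    rw [map_mul]; exact hsq _
  have hval : ∀ ξ ∈ blk M θ, ∀ r : O,
      (ξ : CU t → ℂ) ((toC t).symm r) = (θ r : ℂ) * (ξ : CU t → ℂ) 1 := fun ξ hξ r => by
    rw [apply_of_mem_lin hM _ hξ hNodd (hmem r)]
    simp
  -- the expansion of the shifted function
  have hF : ∀ x, F x = ∑ ξ : Cfsg.IrrCharacter (CU t),
      Cfsg.classInner F (ξ : CU t → ℂ) * (ξ : CU t → ℂ) x := fun x => by
    have := congrFun (classFun_eq_sum (isClassFunction_shiftCU (irr_isClassFunction χ) t)) x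
    simpa using this
  have hone : ∑ r : O, (θ r : ℂ) * conj (θ r : ℂ) = (Nat.card O : ℂ) := by
    simp [conj_lin, Nat.card_eq_fintype_card]
  have hcoef : BlockIdentity.coef O (χ : G → ℂ) (fun x => (θ x : ℂ)) =
      ∑ ξ ∈ Finset.univ.filter (· ∈ blk M θ),
        Cfsg.classInner F (ξ : CU t → ℂ) * (ξ : CU t → ℂ) 1 := by
    calc BlockIdentity.coef O (χ : G → ℂ) (fun x => (θ x : ℂ))
        = ∑ ξ : Cfsg.IrrCharacter (CU t), Cfsg.classInner F (ξ : CU t → ℂ) *
            Cfsg.classInner (fun r : O => (ξ : CU t → ℂ) ((toC t).symm r))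
              (fun r : O => (θ r : ℂ)) := by
          rw [BlockIdentity.coef]
          simp only [classInner_def (G := O), Finset.mul_sum]
          rw [Finset.sum_comm]
          refine Finset.sum_congr rfl fun r _ => ?_
          rw [show (χ : G → ℂ) (t * ((r : Subgroup.centralizer ({t} : Set G)) : G)) =
            F ((toC t).symm r) from rfl, hF, Finset.sum_mul, Finset.mul_sum]
          exact Finset.sum_congr rfl fun ξ _ => by ring
      _ = _ := by
          rw [Finset.sum_filter]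
          refine Finset.sum_congr rfl fun ξ _ => ?_
          split_ifs with hξ
          · congr 1
            rw [classInner_def, Finset.sum_congr rfl (g := fun r : O =>
              (ξ : CU t → ℂ) 1 * ((θ r : ℂ) * conj (θ r : ℂ))) fun r _ => by
                rw [hval ξ hξ r]; ring, ← Finset.mul_sum, hone]
            field_simp [Nat.cast_ne_zero.2 (Nat.card_pos (α := O)).ne']
          · rw [mul_eq_zero]
            refine Or.inr (by_contra fun hne => hξ (mem_lin_of_inner N hM hNsq _ ξ ?_))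
            convert hne using 1
            rw [classInner_def, classInner_def, Nat.card_congr eN]
            congr 1
            refine (Fintype.sum_equiv eN _ _ fun r => ?_).symm
            simp [eN]
  rw [hcoef, Finset.sum_mul, show ((s : Subgroup.centralizer ({t} : Set G)) : G) =
    (((toC t).symm s : CU t) : G) from rfl, th_eq (irr_isClassFunction χ), blockPart_eq_expand]
  exact Finset.sum_congr rfl fun ξ hξ => by
    rw [hval ξ (Finset.mem_filter.1 hξ).2 s]; ring

/-- Only the members of the block have coefficients, and their values are combinations. -/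
theorem separation (hM : Cfsg.IsPModular 2 M) (h : Rotation P t ρ) (hO : Odd (Nat.card O))
    (hsq : ∀ x : Subgroup.centralizer ({t} : Set G), x * x ∈ O)
    (θ : Fin 3 → Subgroup.centralizer ({t} : Set G) →* ℂˣ)
    (hrot : ∀ (i : Fin 3) (a b : Subgroup.centralizer ((P : Subgroup G) : Set G)),
      (b : G) = ρ ^ (i : ℕ) * a * (ρ ^ (i : ℕ))⁻¹ → down h (θ i) a = down h (θ 0) b)
    (J : Finset (Fin 3)) (hinj : Set.InjOn (fun i (s : O) => θ i s) J)
    (hcov : ∀ i, ∃ j ∈ J, ∀ s : O, θ j s = θ i s) (χ : Cfsg.IrrCharacter G)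
    (hne : ∃ i, BlockIdentity.coef O (χ : G → ℂ) (fun x => (θ i x : ℂ)) ≠ 0) (s : O) :
    (χ : G → ℂ) (t * ((s : Subgroup.centralizer ({t} : Set G)) : G)) =
      ∑ j ∈ J, BlockIdentity.coef O (χ : G → ℂ) (fun x => (θ j x : ℂ)) * (θ j s : ℂ) := by
  obtain ⟨B, hB, hpairs, hall⟩ := exists_block hM h θ hrot
  have hpw : ∃ k : ℕ, orderOf t = 2 ^ k := ⟨1, by rw [h.order, pow_one]⟩
  have hreg : ∀ r : O, ((r : Subgroup.centralizer ({t} : Set G)) : G) ∈ regAt 2 t := fun r =>
    mem_regAt.2 ⟨(Subgroup.mem_centralizer_singleton_iff.1 r.1.2).symm, by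
      rw [Subgroup.orderOf_coe, Subgroup.orderOf_coe, ← even_iff_two_dvd]
      exact Nat.not_even_iff_odd.2 (hO.of_dvd_nat (orderOf_dvd_natCard r))⟩
  have hχ : χ ∈ B := by
    obtain ⟨i, hi⟩ := hne
    have hχB := mem_blockOf_self hM χ
    have hp : Cfsg.IsBrauerPairOf 2 M (Cfsg.blockOf M (χ : G → ℂ)) (Subgroup.zpowers t)
        (blk M (θ i)) := by
      by_contra hn
      refine hi ?_
      have h0 := th_eq_zero hM (isPBlock_blockOf M χ) hχB hpw (isPBlock_blockOf M _) hn
        (hreg (1 : O))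
      rw [show elF (CU t) (Cfsg.blockOf M _) = elF (CU t) (blk M (θ i)) from rfl,
        th_blk hM hO hsq] at h0
      simpa using h0
    rw [brauerPairOf_unique hM (hpairs i) hp]
    exact hχB
  haveI : Fintype {g : Set (Cfsg.IrrCharacter (CU t)) // Cfsg.IsPBlock M g} := Fintype.ofFinite _
  rw [eq_sum_th hM (χ : G → ℂ) t, sum_BI_eq t]
  set J' : Finset {g : Set (Cfsg.IrrCharacter (CU t)) // Cfsg.IsPBlock M g} :=
    J.image fun j => ⟨blk M (θ j), isPBlock_blockOf M _⟩ with hJ'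
  rw [← Finset.sum_subset (Finset.subset_univ J') fun g _ hg => ?_, hJ', Finset.sum_image]
  · exact Finset.sum_congr rfl fun j _ => th_blk hM hO hsq (θ j) χ s
  · intro j hj k hk hjk
    refine hinj hj hk (funext fun r => ?_)
    have hjk' : blk M (θ j) = blk M (θ k) := congrArg Subtype.val hjk
    have hmemj : lin ((θ j).comp (toC t).toMonoidHom) ∈ blk M (θ k) :=
      hjk' ▸ mem_blockOf_self hM _
    have hodd : ¬ 2 ∣ Nat.card (O.comap (toC t).toMonoidHom) := by
      rw [← even_iff_two_dvd,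
        show Nat.card (O.comap (toC t).toMonoidHom) = Nat.card O from
          Nat.card_congr (Equiv.subtypeEquiv (toC t).toEquiv fun _ => Iff.rfl)]
      exact Nat.not_even_iff_odd.2 hO
    have := apply_of_mem_lin hM _ hmemj hodd (y := (toC t).symm r)
      (show toC t ((toC t).symm r) ∈ O by simp)
    simp at this
    exact Units.ext this
  · by_contra hne0
    have hp : Cfsg.IsBrauerPairOf 2 M B (Subgroup.zpowers t) g.1 := by
      by_contra hn
      exact hne0 (th_eq_zero hM hB hχ hpw g.2 hn (hreg s))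
    obtain ⟨i, hi⟩ := hall g.1 hp
    obtain ⟨j, hj, hji⟩ := hcov i
    refine hg (Finset.mem_image.2 ⟨j, hj, Subtype.ext (block_eq_of_mem hM (isPBlock_blockOf M _)
      g.2 (mem_blockOf_self hM _) (hi ▸ ?_))⟩)
    refine mem_lin_of_inner (O.comap (toC t).toMonoidHom) hM (fun x => ?_) _ _ ?_
    · show toC t (x * x) ∈ O
      rw [map_mul]; exact hsq _
    rw [classInner_def, Finset.sum_congr rfl (g := fun _ => (1 : ℂ)) fun r _ => ?_]
    · rw [Finset.sum_const, Finset.card_univ, nsmul_one, ← Nat.card_eq_fintype_card,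
        inv_mul_cancel₀ (Nat.cast_ne_zero.2 Nat.card_pos.ne')]
      exact one_ne_zero
    · simp only [lin_apply, MonoidHom.comp_apply, MulEquiv.coe_toMonoidHom]
      rw [hji ⟨toC t r, r.2⟩, conj_lin, Units.mul_inv]

end Values

end Cfsg.Agent.GW.Separation
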