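import Mathlib
import Cfsg.Agent.Lib.GW.Separation

/-!
# Elementary facts for a rotated Klein four Sylow subgroup

`C(t) = P O` with `O` normal of odd order; the odd elements of `C(P)` are permuted by the rotation.
-/

set_option autoImplicit false
set_option linter.style.haveILetI false
set_option linter.unusedSectionVars false

namespace Cfsg.Agent.GW.Separation

open Cfsg.Agent.Characters
open scoped ComplexConjugate Classical

universe u

/-- The Klein four setting at the involution `t`. -/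
structure KleinCore {G : Type u} [Group G] (P : Sylow 2 G) (t ρ : G)
    (O : Subgroup (Subgroup.centralizer ({t} : Set G))) : Prop where
  rot : Rotation P t ρ
  klein : IsKleinFour (P : Subgroup G)
  odd : Odd (Nat.card O)
  normal : O.Normal
  decomp : ∀ x : Subgroup.centralizer ({t} : Set G), ∃ v ∈ (P : Subgroup G), ∃ s : O,
    (x : G) = v * ((s : Subgroup.centralizer ({t} : Set G)) : G)

variable {G : Type u} [Group G] [Fintype G] {P : Sylow 2 G} {t ρ : G}
  {O : Subgroup (Subgroup.centralizer ({t} : Set G))}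

/-- The rotated involution. -/
def vv (t ρ : G) (i : Fin 3) : G := ρ ^ (i : ℕ) * t * (ρ ^ (i : ℕ))⁻¹

omit [Fintype G] in
theorem vv_zero : vv t ρ 0 = t := by simp [vv]

theorem KleinCore.vv_mem (h : KleinCore P t ρ O) (i : Fin 3) : vv t ρ i ∈ (P : Subgroup G) :=
  (Subgroup.mem_normalizer_iff.1 (rho_pow_mem h.rot i) t).1 h.rot.mem

theorem KleinCore.order_vv (h : KleinCore P t ρ O) (i : Fin 3) : orderOf (vv t ρ i) = 2 := by
  rw [vv, Involutions.Basic.orderOf_conj, h.rot.order]

theorem KleinCore.sq (h : KleinCore P t ρ O) {v : G} (hv : v ∈ (P : Subgroup G)) : v * v = 1 := by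
  haveI := h.klein
  exact congrArg Subtype.val (IsKleinFour.mul_self (⟨v, hv⟩ : (P : Subgroup G)))

theorem KleinCore.le_centralizer (h : KleinCore P t ρ O) :
    (P : Subgroup G) ≤ Subgroup.centralizer ({t} : Set G) := fun x hx =>
  Subgroup.mem_centralizer_singleton_iff.2 (h.rot.comm x hx t h.rot.mem)

theorem KleinCore.eq_one_of_mem_both (h : KleinCore P t ρ O) {s : O}
    (hs : ((s : Subgroup.centralizer ({t} : Set G)) : G) ∈ (P : Subgroup G)) : s = 1 := by
  have h2 : orderOf s ∣ 2 := orderOf_dvd_of_pow_eq_one (Subtype.ext (Subtype.ext (by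
    simpa [pow_two] using h.sq hs)))
  rw [← orderOf_eq_one_iff]
  exact Nat.eq_one_of_dvd_coprimes (Nat.coprime_two_right.2 h.odd) (orderOf_dvd_natCard s) h2

theorem KleinCore.sq_mem (h : KleinCore P t ρ O)
    (x : Subgroup.centralizer ({t} : Set G)) : x * x ∈ O := by
  obtain ⟨v, hv, s, hx⟩ := h.decomp x
  set v' : Subgroup.centralizer ({t} : Set G) := ⟨v, h.le_centralizer hv⟩
  have hv2 : v' * v' = 1 := Subtype.ext (h.sq hv)
  have hvi : v'⁻¹ = v' := inv_eq_of_mul_eq_one_right hv2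
  rw [show x = v' * (s : Subgroup.centralizer ({t} : Set G)) from Subtype.ext hx,
    show v' * (s : Subgroup.centralizer ({t} : Set G)) * (v' * s) =
      (v' * s * v'⁻¹) * s by rw [hvi]; group]
  exact mul_mem (h.normal.conj_mem _ s.2 v') s.2

theorem KleinCore.mem_O_of_odd (h : KleinCore P t ρ O)
    {x : Subgroup.centralizer ({t} : Set G)} (hx : Odd (orderOf x)) : x ∈ O := by
  obtain ⟨k, hk⟩ := hx
  have h1 : x ^ (2 * k + 1) = 1 := hk ▸ pow_orderOf_eq_one x
  rw [pow_succ, mul_eq_one_iff_eq_inv, pow_mul, pow_two] at h1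
  exact inv_mem_iff.1 (h1 ▸ pow_mem (h.sq_mem x) k)

/-- Elements of `C(P)` of odd order, seen in `O`. -/
theorem KleinCore.mem_O (h : KleinCore P t ρ O) {a : G}
    (ha : a ∈ Subgroup.centralizer ((P : Subgroup G) : Set G)) (hodd : Odd (orderOf a)) :
    (⟨a, h.rot.centralizer_le ha⟩ : Subgroup.centralizer ({t} : Set G)) ∈ O :=
  h.mem_O_of_odd (by rwa [Subgroup.orderOf_mk])

theorem KleinCore.bijective (h : KleinCore P t ρ O) :
    Function.Bijective (fun o : Option (Fin 3) => o.elim (1 : (P : Subgroup G))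
      fun i => ⟨vv t ρ i, h.vv_mem i⟩) := by
  have hcard : Fintype.card (Option (Fin 3)) = Fintype.card (P : Subgroup G) := by
    rw [← Nat.card_eq_fintype_card (α := (P : Subgroup G)), h.klein.card_four]
    simp
  refine (Fintype.bijective_iff_surjective_and_card _).2 ⟨fun v => ?_, hcard⟩
  by_cases h1 : v = 1
  · exact ⟨none, h1.symm⟩
  · have ho : orderOf (v : G) = 2 := by
      refine orderOf_eq_prime (by rw [pow_two]; exact h.sq v.2) fun e => h1 (Subtype.ext e)
    obtain ⟨i, hi⟩ := h.rot.cover v v.2 ho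
    exact ⟨some i, Subtype.ext hi.symm⟩

theorem KleinCore.sum_P (h : KleinCore P t ρ O) (f : G → ℂ) :
    ∑ v : (P : Subgroup G), f v = f 1 + ∑ i : Fin 3, f (vv t ρ i) := by
  rw [← Fintype.sum_bijective _ h.bijective (fun o : Option (Fin 3) => f (o.elim 1 (vv t ρ)))
    _ fun o => by cases o <;> rfl, Fintype.sum_option]
  rfl

theorem KleinCore.rho_notMem (h : KleinCore P t ρ O) :
    ρ ∉ Subgroup.centralizer ({t} : Set G) := by
  intro hρ
  have h1 : vv t ρ 1 = vv t ρ 0 := by
    simp only [vv, Fin.val_one, Fin.val_zero, pow_zero, pow_one, one_mul, inv_one, mul_one]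
    rw [Subgroup.mem_centralizer_singleton_iff.1 hρ, mul_inv_cancel_right]
  have := h.bijective.1 (a₁ := some 1) (a₂ := some 0) (Subtype.ext h1)
  simp at this

theorem KleinCore.one_class (h : KleinCore P t ρ O) {u : G} (hu : orderOf u = 2) : IsConj t u := by
  haveI : Fact (Nat.Prime 2) := ⟨Nat.prime_two⟩
  obtain ⟨g, hg⟩ := (IsPGroup.of_card (p := 2) (n := 1) (G := Subgroup.zpowers u)
    (by rw [Nat.card_zpowers, hu, pow_one])).exists_le_sylow
  obtain ⟨x, hx⟩ := MulAction.exists_smul_eq G g P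
  have hmem : x * u * x⁻¹ ∈ (P : Subgroup G) := by
    rw [← hx]
    show x * u * x⁻¹ ∈ ((x • g : Sylow 2 G) : Set G)
    rw [Sylow.coe_smul]
    exact ⟨u, hg (Subgroup.mem_zpowers u), rfl⟩
  obtain ⟨i, hi⟩ := h.rot.cover _ hmem (by rw [Involutions.Basic.orderOf_conj, hu])
  exact (isConj_iff.2 ⟨_, rfl⟩ : IsConj t (vv t ρ i)).trans
    ((isConj_iff.2 ⟨x, hi⟩ : IsConj u (vv t ρ i)).symm)

/-- The rotation of an element of `C(P)`. -/
theorem KleinCore.rot_mem (h : KleinCore P t ρ O) (i : ℕ) {a : G}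
    (ha : a ∈ Subgroup.centralizer ((P : Subgroup G) : Set G)) :
    (ρ ^ i)⁻¹ * a * ρ ^ i ∈ Subgroup.centralizer ((P : Subgroup G) : Set G) := by
  have := BlockCharsA.BrauerPairs.normalizer_le_normalizer_centralizer _
    (inv_mem (rho_pow_mem h.rot i))
  have h2 := (Subgroup.mem_normalizer_iff.1 this a).1 ha
  rwa [inv_inv] at h2

theorem odd_rot (i : ℕ) {a : G} (ha : Odd (orderOf a)) : Odd (orderOf ((ρ ^ i)⁻¹ * a * ρ ^ i)) := by
  have := Involutions.Basic.orderOf_conj (ρ ^ i)⁻¹ a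
  rw [inv_inv] at this
  rwa [this]

theorem apply_vv_mul (χ : Cfsg.IrrCharacter G) (i : Fin 3) (a : G) :
    (χ : G → ℂ) (vv t ρ i * a) =
      (χ : G → ℂ) (t * ((ρ ^ (i : ℕ))⁻¹ * a * ρ ^ (i : ℕ))) := by
  rw [← irr_isClassFunction χ (t * _) (ρ ^ (i : ℕ))]
  rw [vv]
  group

theorem apply_vv (χ : Cfsg.IrrCharacter G) (i : Fin 3) :
    (χ : G → ℂ) (vv t ρ i) = (χ : G → ℂ) t := irr_isClassFunction χ t _

/-- The multiplicity of the trivial character on `P`. -/
theorem KleinCore.exists_nat (h : KleinCore P t ρ O) (χ : Cfsg.IrrCharacter G) :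
    ∃ n : ℕ, (χ : G → ℂ) 1 + 3 * (χ : G → ℂ) t = 4 * n := by
  obtain ⟨n, hn⟩ := classInner_char_nat (isCharacter_restrict (P : Subgroup G) (irr_isCharacter χ))
    (isCharacter_one (G := (P : Subgroup G)))
  rw [classInner_def, h.klein.card_four] at hn
  simp only [map_one, mul_one] at hn
  rw [show (∑ g : (P : Subgroup G), _) = ∑ g : (P : Subgroup G), (χ : G → ℂ) (g : G) from rfl,
    h.sum_P, Finset.sum_congr rfl fun i _ => apply_vv χ i, Finset.sum_const] at hn
  simp only [Finset.card_univ, Fintype.card_fin, nsmul_eq_mul, Nat.cast_ofNat] at hn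
  exact ⟨n, by linear_combination (4 : ℂ) * hn⟩

end Cfsg.Agent.GW.Separation
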