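import Mathlib
import Cfsg.Agent.Lib.GW.KleinSetting
import Cfsg.Agent.Lib.Blocks.Quaternion.BarDihedral

/-!
# The coefficients at linear characters of `C(t)` in the Klein four setting

Orthogonality of the coefficient columns, the common value of their weighted sums, and the
integrality and parity of the coefficients on `C(P)`.
-/

set_option autoImplicit false
set_option linter.style.haveILetI false
set_option linter.unusedSectionVars false

open scoped Classical

namespace Cfsg.Agent.GW.Separation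

open Cfsg.Agent.Characters Cfsg.Agent.GW.LinearTwist
open scoped ComplexConjugate

universe u

variable {G : Type u} [Group G] [Fintype G] {P : Sylow 2 G} {t ρ : G}
  {O : Subgroup (Subgroup.centralizer ({t} : Set G))}

/-- The second orthogonality relation, as a count of conjugating elements. -/
theorem sum_char_conj_count [Fintype (Cfsg.IrrCharacter G)] (a b : G) :
    ∑ χ : Cfsg.IrrCharacter G, (χ : G → ℂ) a * conj ((χ : G → ℂ) b) =
      ∑ g : G, if g * a * g⁻¹ = b then (1 : ℂ) else 0 := by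
  rw [second_orthogonality, Finset.sum_boole]
  by_cases hab : IsConj a b
  · rw [if_pos hab]
    obtain ⟨g₀, hg₀⟩ := isConj_iff.1 hab
    rw [← Fintype.card_subtype, ← Nat.card_eq_fintype_card]
    refine congrArg _ (Nat.card_congr (Equiv.subtypeEquiv (Equiv.mulRight g₀) fun c => ?_))
    rw [Subgroup.mem_centralizer_singleton_iff, Equiv.coe_mulRight, mul_inv_rev,
      show c * g₀ * a * (g₀⁻¹ * c⁻¹) = c * (g₀ * a * g₀⁻¹) * c⁻¹ by group, hg₀,
      mul_inv_eq_iff_eq_mul]
  · rw [if_neg hab, Finset.filter_false_of_mem fun g _ e => hab (isConj_iff.2 ⟨g, e⟩),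
      Finset.card_empty, Nat.cast_zero]

theorem KleinCore.odd_coe (h : KleinCore P t ρ O) (s : O) :
    ¬ 2 ∣ orderOf ((s : Subgroup.centralizer ({t} : Set G)) : G) := by
  rw [Subgroup.orderOf_coe, Subgroup.orderOf_coe, ← even_iff_two_dvd]
  exact Nat.not_even_iff_odd.2 (h.odd.of_dvd_nat (orderOf_dvd_natCard s))

theorem KleinCore.commute_coe (_h : KleinCore P t ρ O) (s : O) :
    Commute t ((s : Subgroup.centralizer ({t} : Set G)) : G) :=
  (Subgroup.mem_centralizer_singleton_iff.1 s.1.2).symm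

theorem KleinCore.card_C (h : KleinCore P t ρ O) :
    Nat.card (Subgroup.centralizer ({t} : Set G)) = 4 * Nat.card O := by
  rw [← h.klein.card_four, ← Nat.card_prod]
  refine (Nat.card_congr (Equiv.ofBijective (fun z : ↥(P : Subgroup G) × O =>
    (⟨z.1, h.le_centralizer z.1.2⟩ : Subgroup.centralizer ({t} : Set G)) * z.2)
    ⟨fun z z' hz => ?_, fun x => ?_⟩)).symm
  · have hz' : (z.1 : G) * ((z.2 : Subgroup.centralizer ({t} : Set G)) : G) =
        z'.1 * ((z'.2 : Subgroup.centralizer ({t} : Set G)) : G) := congrArg Subtype.val hz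
    have hq : ((z.2 * z'.2⁻¹ : O) : Subgroup.centralizer ({t} : Set G)).1 ∈ (P : Subgroup G) := by
      simp only [Subgroup.coe_mul, Subgroup.coe_inv]
      rw [show ((z.2 : Subgroup.centralizer ({t} : Set G)) : G) *
        ((z'.2 : Subgroup.centralizer ({t} : Set G)) : G)⁻¹ = (z.1 : G)⁻¹ * z'.1 by
          rw [eq_inv_mul_iff_mul_eq, ← mul_assoc, mul_inv_eq_iff_eq_mul, hz']]
      exact mul_mem (inv_mem z.1.2) z'.1.2
    have h2 : z.2 = z'.2 := mul_inv_eq_one.1 (h.eq_one_of_mem_both hq)
    refine Prod.ext (Subtype.ext ?_) h2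
    rw [h2] at hz'
    exact mul_right_cancel hz'
  · obtain ⟨v, hv, s, hx⟩ := h.decomp x
    exact ⟨(⟨v, hv⟩, s), Subtype.ext hx.symm⟩

/-- Orthogonality of the columns. -/
theorem KleinCore.coef_orth [Fintype (Cfsg.IrrCharacter G)] (h : KleinCore P t ρ O)
    (θ θ' : Subgroup.centralizer ({t} : Set G) →* ℂˣ) :
    ∑ χ : Cfsg.IrrCharacter G, BlockIdentity.coef O (χ : G → ℂ) (fun x => (θ x : ℂ)) *
        conj (BlockIdentity.coef O (χ : G → ℂ) (fun x => (θ' x : ℂ))) =
      4 * Cfsg.classInner (fun s : O => (θ' s : ℂ)) (fun s : O => (θ s : ℂ)) := by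
  haveI := h.normal
  have hO0 : (Nat.card O : ℂ) ≠ 0 := Nat.cast_ne_zero.2 Nat.card_pos.ne'
  have hpart : ∀ (g : G) (s : O),
      Cfsg.IsPPart 2 (g * (t * ((s : Subgroup.centralizer ({t} : Set G)) : G)) * g⁻¹) (g * t * g⁻¹) :=
    fun g s => ⟨g * ((s : Subgroup.centralizer ({t} : Set G)) : G) * g⁻¹, by group,
      (h.commute_coe s).map (MulAut.conj g).toMonoidHom,
      ⟨1, by rw [Involutions.Basic.orderOf_conj, h.rot.order, pow_one]⟩,
      by rw [Involutions.Basic.orderOf_conj]; exact h.odd_coe s⟩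
  -- a conjugating element centralizes `t`
  have hcount : ∀ s s' : O, (∑ g : G,
      if g * (t * ((s : Subgroup.centralizer ({t} : Set G)) : G)) * g⁻¹ =
        t * ((s' : Subgroup.centralizer ({t} : Set G)) : G) then (1 : ℂ) else 0) =
      ∑ c : Subgroup.centralizer ({t} : Set G),
        if c * (s : Subgroup.centralizer ({t} : Set G)) * c⁻¹ = s' then (1 : ℂ) else 0 := by
    intro s s'
    rw [Finset.sum_boole, Finset.sum_boole]
    refine congrArg _ (Finset.card_bij (fun g hg => (⟨g, ?_⟩ : Subgroup.centralizer ({t} : Set G)))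
      (fun g hg => ?_) (fun _ _ _ _ e => congrArg Subtype.val e) fun c hc => ?_)
    · have hg' := (Finset.mem_filter.1 hg).2
      have h1 := hpart g s
      rw [hg'] at h1
      have h2 := Blocks.ppart_unique Nat.prime_two h1
        (x' := t) ⟨((s' : Subgroup.centralizer ({t} : Set G)) : G), rfl, h.commute_coe s',
          ⟨1, by rw [h.rot.order, pow_one]⟩, h.odd_coe s'⟩
      exact Subgroup.mem_centralizer_singleton_iff.2 (mul_inv_eq_iff_eq_mul.1 h2)
    · refine Finset.mem_filter.2 ⟨Finset.mem_univ _, Subtype.ext ?_⟩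
      have hg' := (Finset.mem_filter.1 hg).2
      have h1 := hpart g s
      rw [hg'] at h1
      have h2 := Blocks.ppart_unique Nat.prime_two h1
        (x' := t) ⟨((s' : Subgroup.centralizer ({t} : Set G)) : G), rfl, h.commute_coe s',
          ⟨1, by rw [h.rot.order, pow_one]⟩, h.odd_coe s'⟩
      rw [show g * (t * ((s : Subgroup.centralizer ({t} : Set G)) : G)) * g⁻¹ =
        (g * t * g⁻¹) * (g * ((s : Subgroup.centralizer ({t} : Set G)) : G) * g⁻¹) by group,
        h2] at hg'
      exact mul_left_cancel hg'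
    · refine ⟨c, Finset.mem_filter.2 ⟨Finset.mem_univ _, ?_⟩, rfl⟩
      have hc' : (c : G) * ((s : Subgroup.centralizer ({t} : Set G)) : G) * (c : G)⁻¹ =
          ((s' : Subgroup.centralizer ({t} : Set G)) : G) :=
        congrArg Subtype.val (Finset.mem_filter.1 hc).2
      rw [show (c : G) * (t * ((s : Subgroup.centralizer ({t} : Set G)) : G)) * (c : G)⁻¹ =
        ((c : G) * t * (c : G)⁻¹) * ((c : G) * ((s : Subgroup.centralizer ({t} : Set G)) : G) *
          (c : G)⁻¹) by group, hc', Subgroup.mem_centralizer_singleton_iff.1 c.2,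
        mul_inv_cancel_right]
  have hinner : ∀ s : O, (∑ s' : O, (θ' s' : ℂ) * ∑ g : G,
      if g * (t * ((s : Subgroup.centralizer ({t} : Set G)) : G)) * g⁻¹ =
        t * ((s' : Subgroup.centralizer ({t} : Set G)) : G) then (1 : ℂ) else 0) =
      (Nat.card (Subgroup.centralizer ({t} : Set G)) : ℂ) * (θ' s : ℂ) := by
    intro s
    simp only [hcount, Finset.mul_sum, mul_ite, mul_one, mul_zero]
    rw [Finset.sum_comm, Finset.sum_congr rfl (g := fun _ => (θ' s : ℂ)) fun c _ => ?_,
      Finset.sum_const, Finset.card_univ, nsmul_eq_mul, Nat.card_eq_fintype_card]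
    have hm : c * (s : Subgroup.centralizer ({t} : Set G)) * c⁻¹ ∈ O := h.normal.conj_mem _ s.2 c
    rw [Finset.sum_eq_single (⟨_, hm⟩ : O), if_pos rfl]
    · exact congrArg Units.val (hom_conj_eq θ' c s)
    · intro b _ hb
      rw [if_neg fun e => hb (Subtype.ext e.symm)]
    · exact fun hb => absurd (Finset.mem_univ _) hb
  simp only [BlockIdentity.coef, classInner_def (G := O), map_mul, map_inv₀, Complex.conj_natCast,
    map_sum, Complex.conj_conj, Finset.mul_sum, Finset.sum_mul]
  rw [Finset.sum_comm, Finset.sum_congr rfl fun s _ => Finset.sum_comm, Finset.sum_comm]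
  refine Finset.sum_congr rfl fun s _ => ?_
  have e := hinner s
  simp only [← sum_char_conj_count, Finset.mul_sum] at e
  rw [h.card_C] at e
  push_cast at e
  calc _ = (Nat.card O : ℂ)⁻¹ * (Nat.card O : ℂ)⁻¹ * conj (θ s : ℂ) *
      ∑ s' : O, ∑ χ : Cfsg.IrrCharacter G, (θ' s' : ℂ) *
        ((χ : G → ℂ) (t * ((s : Subgroup.centralizer ({t} : Set G)) : G)) *
          conj ((χ : G → ℂ) (t * ((s' : Subgroup.centralizer ({t} : Set G)) : G)))) := by
        simp only [Finset.mul_sum]
        exact Finset.sum_congr rfl fun s' _ => Finset.sum_congr rfl fun χ _ => by ring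
    _ = _ := by rw [e]; field_simp

/-- The columns are orthogonal to the degrees. -/
theorem KleinCore.coef_degree [Fintype (Cfsg.IrrCharacter G)] (h : KleinCore P t ρ O)
    (θ : Subgroup.centralizer ({t} : Set G) →* ℂˣ) :
    ∑ χ : Cfsg.IrrCharacter G,
      BlockIdentity.coef O (χ : G → ℂ) (fun x => (θ x : ℂ)) * (χ : G → ℂ) 1 = 0 := by
  simp only [BlockIdentity.coef, classInner_def (G := O), Finset.mul_sum, Finset.sum_mul]
  rw [Finset.sum_comm]
  refine Finset.sum_eq_zero fun s _ => ?_
  have h0 : ∑ χ : Cfsg.IrrCharacter G,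
      (χ : G → ℂ) (t * ((s : Subgroup.centralizer ({t} : Set G)) : G)) * conj ((χ : G → ℂ) 1) = 0 := by
    rw [second_orthogonality, if_neg]
    intro e
    rw [isConj_one_left] at e
    have he : ((s : Subgroup.centralizer ({t} : Set G)) : G) = t := by
      rw [eq_inv_of_mul_eq_one_right e, inv_eq_of_mul_eq_one_right (h.sq h.rot.mem)]
    exact h.odd_coe s (by rw [he, h.rot.order])
  rw [← mul_zero ((Nat.card O : ℂ)⁻¹ * conj (θ s : ℂ)), ← h0, Finset.mul_sum]
  refine Finset.sum_congr rfl fun χ _ => ?_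
  obtain ⟨n, hn⟩ := char_one_nat (irr_isCharacter χ)
  rw [hn, Complex.conj_natCast]
  ring

theorem KleinCore.theta_involution (h : KleinCore P t ρ O)
    (θ : Subgroup.centralizer ({t} : Set G) →* ℂˣ)
    (hθ : ∀ x : Subgroup.centralizer ({t} : Set G), (x : G) ∈ (P : Subgroup G) → θ x = 1)
    {w : Subgroup.centralizer ({t} : Set G)} (hw : orderOf w = 2) : θ w = 1 := by
  obtain ⟨v, hv, s, hx⟩ := h.decomp w
  have e : w = (⟨v, h.le_centralizer hv⟩ : Subgroup.centralizer ({t} : Set G)) * s := Subtype.ext hx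
  have h1 : θ w = θ s := by rw [e, map_mul, hθ _ hv, one_mul]
  rw [← orderOf_eq_one_iff]
  refine Nat.eq_one_of_dvd_coprimes (Nat.coprime_two_right.2 h.odd) (h1 ▸ ?_)
    (hw ▸ orderOf_map_dvd θ w)
  exact (orderOf_map_dvd θ (s : Subgroup.centralizer ({t} : Set G))).trans
    ((Subgroup.orderOf_coe s).symm ▸ orderOf_dvd_natCard s)

/-- The weighted sums of all columns are equal. -/
theorem KleinCore.weight_eq [Fintype (Cfsg.IrrCharacter G)] (h : KleinCore P t ρ O)
    (θ : Subgroup.centralizer ({t} : Set G) →* ℂˣ)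
    (hθ : ∀ x : Subgroup.centralizer ({t} : Set G), (x : G) ∈ (P : Subgroup G) → θ x = 1) :
    ∑ χ : Cfsg.IrrCharacter G, (χ : G → ℂ) t ^ 2 / (χ : G → ℂ) 1 *
        BlockIdentity.coef O (χ : G → ℂ) (fun x => (θ x : ℂ)) =
      ∑ χ : Cfsg.IrrCharacter G, (χ : G → ℂ) t ^ 2 / (χ : G → ℂ) 1 *
        BlockIdentity.coef O (χ : G → ℂ)
          (fun x => ((1 : Subgroup.centralizer ({t} : Set G) →* ℂˣ) x : ℂ)) := by
  haveI := h.normal
  have hone : ∀ u v : G, orderOf u = 2 → orderOf v = 2 → IsConj u v := fun u v hu hv =>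
    (h.one_class hu).symm.trans (h.one_class hv)
  have key := fun μ : Subgroup.centralizer ({t} : Set G) →* ℂˣ =>
    BlockIdentity.identity h.rot.order hone h.odd (lin μ) (isIrrCharacter_linear (μ.comp O.subtype))
  refine (key θ).trans (Eq.trans ?_ (key 1).symm)
  congr 1
  refine Finset.sum_congr rfl fun w _ => ?_
  by_cases hw : orderOf w = 2 ∧ (w : G) ≠ t
  · simp only [if_pos hw, lin, h.theta_involution θ hθ hw.1]
    simp
  · simp only [if_neg hw]

/-- Every value on `O` is taken at an element centralizing `P`. -/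
theorem KleinCore.exists_fixed_rep (h : KleinCore P t ρ O)
    (θ : Subgroup.centralizer ({t} : Set G) →* ℂˣ) (s : O) :
    ∃ a : O, ((a : Subgroup.centralizer ({t} : Set G)) : G) ∈
      Subgroup.centralizer ((P : Subgroup G) : Set G) ∧ θ a = θ s := by
  haveI := h.normal
  haveI : Fact (Nat.Prime 2) := ⟨Nat.prime_two⟩
  let f : ↥(P : Subgroup G) → Subgroup.centralizer ({t} : Set G) := fun v => ⟨v, h.le_centralizer v.2⟩
  let X := {y : O // θ y = θ s}
  letI : MulAction (P : Subgroup G) X :=
    { smul := fun v y => ⟨⟨f v * (y.1 : Subgroup.centralizer ({t} : Set G)) * (f v)⁻¹,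
          h.normal.conj_mem _ y.1.2 _⟩, by simp only [hom_conj_eq]; exact y.2⟩
      one_smul := fun y => Subtype.ext (Subtype.ext (Subtype.ext (by
        show (1 : G) * ((y.1 : Subgroup.centralizer ({t} : Set G)) : G) * (1 : G)⁻¹ = _
        group)))
      mul_smul := fun v w y => Subtype.ext (Subtype.ext (Subtype.ext (by
        show (v : G) * w * ((y.1 : Subgroup.centralizer ({t} : Set G)) : G) * ((v : G) * w)⁻¹ =
          (v : G) * ((w : G) * ((y.1 : Subgroup.centralizer ({t} : Set G)) : G) * (w : G)⁻¹) *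
            (v : G)⁻¹
        group))) }
  have hX : ¬ 2 ∣ Nat.card X := by
    have e : X ≃ (θ.comp O.subtype).ker :=
      { toFun := fun y => ⟨s⁻¹ * y.1, by
          rw [MonoidHom.mem_ker, map_mul, map_inv, inv_mul_eq_one]; exact y.2.symm⟩
        invFun := fun k => ⟨s * k.1, by
          have := k.2
          rw [MonoidHom.mem_ker] at this
          show (θ.comp O.subtype) (s * k.1) = _
          rw [map_mul, this, mul_one]; rfl⟩
        left_inv := fun y => Subtype.ext (mul_inv_cancel_left s y.1)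
        right_inv := fun k => Subtype.ext (inv_mul_cancel_left s k.1) }
    rw [Nat.card_congr e, ← even_iff_two_dvd]
    exact Nat.not_even_iff_odd.2 (h.odd.of_dvd_nat (Subgroup.card_subgroup_dvd_card _))
  obtain ⟨y, hy⟩ := P.2.nonempty_fixed_point_of_prime_not_dvd_card X hX
  refine ⟨y.1, Subgroup.mem_centralizer_iff.2 fun v hv => ?_, y.2⟩
  have := congrArg (fun z : X => ((z.1 : Subgroup.centralizer ({t} : Set G)) : G))
    (MulAction.mem_fixedPoints.1 hy ⟨v, hv⟩)
  exact mul_inv_eq_iff_eq_mul.1 this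

/-- The odd part of `C(P)`. -/
def oddP (P : Sylow 2 G) (O : Subgroup (Subgroup.centralizer ({t} : Set G))) : Subgroup O :=
  (Subgroup.centralizer ((P : Subgroup G) : Set G)).comap
    ((Subgroup.centralizer ({t} : Set G)).subtype.comp O.subtype)

/-- The coefficient on the odd part of `C(P)` at the rotated involution. -/
noncomputable def cval (P : Sylow 2 G) (t ρ : G) (O : Subgroup (Subgroup.centralizer ({t} : Set G)))
    (χ : G → ℂ) (θ : Subgroup.centralizer ({t} : Set G) →* ℂˣ) (k : Fin 3) : ℂ :=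
  Cfsg.classInner
    (fun a : oddP P O => χ (vv t ρ k * (((a : O) : Subgroup.centralizer ({t} : Set G)) : G)))
    (fun a : oddP P O => (θ (a : O) : ℂ))

/-- The values of the characters `ε × θ` of `P × C_O(P)`. -/
theorem KleinCore.exists_mult (h : KleinCore P t ρ O) (χ : Cfsg.IrrCharacter G)
    (θ : Subgroup.centralizer ({t} : Set G) →* ℂˣ) :
    ∃ (m : ℂ) (N : ℕ) (n : Fin 3 → ℕ), m + ∑ k, cval P t ρ O (χ : G → ℂ) θ k = 4 * N ∧
      ∀ k, m + 2 * cval P t ρ O (χ : G → ℂ) θ k - ∑ l, cval P t ρ O (χ : G → ℂ) θ l = 4 * n k := by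
  set A := oddP P O with hA
  let ι : A →* G := ((Subgroup.centralizer ({t} : Set G)).subtype.comp O.subtype).comp A.subtype
  let π : ↥(P : Subgroup G) × A →* G :=
    MonoidHom.noncommCoprod (P : Subgroup G).subtype ι fun v a =>
      Subgroup.mem_centralizer_iff.1 a.2 v v.2
  let φ : A →* ℂ := (Units.coeHom ℂ).comp ((θ.comp O.subtype).comp A.subtype)
  have hA0 : (Nat.card A : ℂ) ≠ 0 := Nat.cast_ne_zero.2 Nat.card_pos.ne'
  set F : G → ℂ := fun v => Cfsg.classInner (fun a : A => (χ : G → ℂ) (v * ι a))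
    (fun a : A => φ a) with hF
  have key : ∀ ε : ↥(P : Subgroup G) →* ℂ, (∀ v, conj (ε v) = ε v) →
      ∃ n : ℕ, ∑ v : (P : Subgroup G), ε v * F v = 4 * n := by
    intro ε hε
    obtain ⟨n, hn⟩ := classInner_char_nat (isCharacter_comp π (irr_isCharacter χ))
      (isCharacter_of_isIrr (isIrrCharacter_monoidHom
        ((ε.comp (MonoidHom.fst (P : Subgroup G) A)) * (φ.comp (MonoidHom.snd (P : Subgroup G) A)))))
    rw [classInner_def, Nat.card_prod, h.klein.card_four, Fintype.sum_prod_type] at hn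
    refine ⟨n, ?_⟩
    rw [← hn]
    simp only [Finset.mul_sum, hF, classInner_def]
    refine Finset.sum_congr rfl fun v _ => Finset.sum_congr rfl fun a _ => ?_
    simp only [MonoidHom.mul_apply, MonoidHom.comp_apply, MonoidHom.coe_fst, MonoidHom.coe_snd,
      map_mul, hε, π, Function.comp_apply]
    push_cast
    field_simp
    rw [mul_right_comm]
    rfl
  obtain ⟨N, hN⟩ := key 1 fun _ => by simp
  have hFv : ∀ k, F (vv t ρ k) = cval P t ρ O (χ : G → ℂ) θ k := fun k => rfl
  simp only [MonoidHom.one_apply, one_mul, h.sum_P, hFv] at hN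
  have hsign : ∀ k, ∃ n : ℕ, F 1 + 2 * cval P t ρ O (χ : G → ℂ) θ k -
      ∑ l, cval P t ρ O (χ : G → ℂ) θ l = 4 * n := by
    intro k
    set u : (P : Subgroup G) := ⟨vv t ρ k, h.vv_mem k⟩
    have hu : orderOf u = 2 := by rw [Subgroup.orderOf_mk, h.order_vv]
    have hidx : (Subgroup.zpowers u).index = 2 := by
      have := (Subgroup.zpowers u).card_mul_index
      rw [Nat.card_zpowers, hu, h.klein.card_four] at this
      omega
    obtain ⟨ε, hε⟩ := Blocks.Quaternion.exists_sign_hom hidx
    have hval : ∀ l, ε ⟨vv t ρ l, h.vv_mem l⟩ = if l = k then 1 else -1 := by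
      intro l
      by_cases hl : l = k
      · subst hl
        rw [if_pos rfl]
        exact (hε _).1 (Subgroup.mem_zpowers u)
      · rw [if_neg hl]
        refine (hε _).2 fun hmem => hl ?_
        rw [mem_zpowers_iff_mem_range_orderOf, hu, Finset.mem_image] at hmem
        obtain ⟨j, hj, hju⟩ := hmem
        rw [Finset.mem_range] at hj
        interval_cases j
        · have := congrArg Subtype.val hju
          simp only [pow_zero, OneMemClass.coe_one] at this
          have ho := h.order_vv l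
          rw [← this, orderOf_one] at ho
          omega
        · rw [pow_one] at hju
          have := h.bijective.1 (a₁ := some l) (a₂ := some k) hju.symm
          simpa using this
    obtain ⟨n, hn⟩ := key ε fun v => by
      by_cases hv : v ∈ Subgroup.zpowers u
      · rw [(hε v).1 hv, map_one]
      · rw [(hε v).2 hv, map_neg, map_one]
    refine ⟨n, ?_⟩
    rw [← hn, Finset.sum_congr rfl (g := fun v : (P : Subgroup G) =>
      (fun x : G => if hx : x ∈ (P : Subgroup G) then ε ⟨x, hx⟩ * F x else 0) v) fun v _ => by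
      simp, h.sum_P fun x : G => if hx : x ∈ (P : Subgroup G) then ε ⟨x, hx⟩ * F x else 0]
    simp only [dif_pos (one_mem _), dif_pos (h.vv_mem _), hval, hFv]
    rw [show (⟨1, one_mem _⟩ : (P : Subgroup G)) = 1 from rfl, map_one, one_mul, add_sub_assoc]
    congr 1
    fin_cases k <;> simp [Fin.sum_univ_three] <;> ring
  choose n hn using hsign
  exact ⟨F 1, N, n, hN, hn⟩

/-- The coefficients on `C(P)` are integers of one parity. -/
theorem KleinCore.exists_int (h : KleinCore P t ρ O) (χ : Cfsg.IrrCharacter G)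
    (θ : Subgroup.centralizer ({t} : Set G) →* ℂˣ) :
    ∃ z : Fin 3 → ℤ, (∀ k, cval P t ρ O (χ : G → ℂ) θ k = (z k : ℂ)) ∧
      ∀ k l, (2 : ℤ) ∣ z k - z l := by
  obtain ⟨m, N, n, hN, hn⟩ := h.exists_mult χ θ
  refine ⟨fun k => (N : ℤ) + 2 * n k - ∑ l, (n l : ℤ), fun k => ?_, fun k l => ?_⟩
  · have h0 := hn 0; have h1 := hn 1; have h2 := hn 2; have hk := hn k
    simp only [Fin.sum_univ_three] at hN h0 h1 h2 hk ⊢
    push_cast
    linear_combination (1 / 4 : ℂ) * hN + (1 / 2 : ℂ) * hk - (1 / 4 : ℂ) * (h0 + h1 + h2)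
  · exact ⟨(n k : ℤ) - n l, by ring⟩

end Cfsg.Agent.GW.Separation
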