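import Mathlib
import Cfsg.Agent.Lib.GW.KleinColumns

/-!
# Three rotated linear characters: integral columns on a common support
-/

set_option autoImplicit false
set_option linter.style.haveILetI false
set_option linter.unusedSectionVars false

open scoped Classical

namespace Cfsg.Agent.GW.Separation

open Cfsg.Agent.Characters Cfsg.Agent.GW.LinearTwist
open scoped ComplexConjugate

universe u

variable {G : Type u} [Group G] [Fintype G] {P : Sylow 2 G} {t ρ : G}
  {O : Subgroup (Subgroup.centralizer ({t} : Set G))}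

/-- Three linear characters of `C(t)`, trivial on `P` and permuted by the rotation on `C(P)`. -/
structure Family (h : KleinCore P t ρ O) (θ : Fin 3 → Subgroup.centralizer ({t} : Set G) →* ℂˣ) :
    Prop where
  triv : ∀ (i : Fin 3) (x : Subgroup.centralizer ({t} : Set G)),
    (x : G) ∈ (P : Subgroup G) → θ i x = 1
  rot : ∀ (i : Fin 3) (a b : Subgroup.centralizer ((P : Subgroup G) : Set G)),
    (b : G) = ρ ^ (i : ℕ) * a * (ρ ^ (i : ℕ))⁻¹ → down h.rot (θ i) a = down h.rot (θ 0) b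

variable {h : KleinCore P t ρ O} {θ : Fin 3 → Subgroup.centralizer ({t} : Set G) →* ℂˣ}

theorem family_one (h : KleinCore P t ρ O) : Family h (fun _ => 1) :=
  ⟨fun _ _ _ => rfl, fun _ _ _ _ => rfl⟩

theorem Family.ext_eq (F : Family h θ) {i j : Fin 3}
    (hA : ∀ a : oddP P O, θ i (a : O) = θ j (a : O)) : θ i = θ j := by
  refine MonoidHom.ext fun x => ?_
  obtain ⟨v, hv, s, hx⟩ := h.decomp x
  have e : x = (⟨v, h.le_centralizer hv⟩ : Subgroup.centralizer ({t} : Set G)) * s := Subtype.ext hx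
  obtain ⟨a, ha, has⟩ := h.exists_fixed_rep ((θ i) * (θ j)⁻¹) s
  have h1 := hA ⟨a, ha⟩
  simp only [MonoidHom.mul_apply, MonoidHom.inv_apply] at has
  rw [h1, mul_inv_cancel, eq_comm, mul_inv_eq_one] at has
  rw [e, map_mul, map_mul, F.triv i _ hv, F.triv j _ hv, has]

theorem Family.pow_eq (F : Family h θ) (j k i : Fin 3) (hji : i + k = j)
    (a b : Subgroup.centralizer ((P : Subgroup G) : Set G))
    (hb : (b : G) = (ρ ^ (k : ℕ))⁻¹ * a * ρ ^ (k : ℕ)) :
    down h.rot (θ j) b = down h.rot (θ i) a := by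
  have hmem : ∀ (n : ℕ) (y : Subgroup.centralizer ((P : Subgroup G) : Set G)),
      ρ ^ n * y * (ρ ^ n)⁻¹ ∈ Subgroup.centralizer ((P : Subgroup G) : Set G) := fun n y =>
    (Subgroup.mem_normalizer_iff.1 (BlockCharsA.BrauerPairs.normalizer_le_normalizer_centralizer _
      (rho_pow_mem h.rot n)) y).1 y.2
  rw [F.rot j b ⟨_, hmem j b⟩ rfl, F.rot i a ⟨_, hmem i a⟩ rfl]
  have hjk : (j : ℕ) = i + k ∨ (j : ℕ) + 3 = i + k := by
    subst hji
    fin_cases i <;> fin_cases k <;> simp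
  rcases hjk with e | e
  · congr 1
    apply Subtype.ext
    show ρ ^ (j : ℕ) * b * (ρ ^ (j : ℕ))⁻¹ = _
    rw [hb, e, pow_add]; group
  · set c : Subgroup.centralizer ((P : Subgroup G) : Set G) := ⟨ρ ^ 3, h.rot.cube⟩
    rw [← hom_conj_eq (down h.rot (θ 0)) c ⟨_, hmem j b⟩]
    congr 1
    apply Subtype.ext
    show ρ ^ 3 * (ρ ^ (j : ℕ) * b * (ρ ^ (j : ℕ))⁻¹) * (ρ ^ 3)⁻¹ = _
    rw [hb, show ρ ^ 3 * (ρ ^ (j : ℕ) * ((ρ ^ (k : ℕ))⁻¹ * (a : G) * ρ ^ (k : ℕ)) *
      (ρ ^ (j : ℕ))⁻¹) * (ρ ^ 3)⁻¹ = (ρ ^ 3 * ρ ^ (j : ℕ)) * ((ρ ^ (k : ℕ))⁻¹ * (a : G) *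
        ρ ^ (k : ℕ)) * (ρ ^ 3 * ρ ^ (j : ℕ))⁻¹ by group, ← pow_add,
      show 3 + (j : ℕ) = i + k by omega, pow_add]
    group

/-- The three are all equal or pairwise distinct on the odd part of `C(P)`. -/
theorem Family.cases (F : Family h θ) :
    (∀ i, θ i = θ 0) ∨
      ∀ i j : Fin 3, (∀ a : oddP P O, θ i (a : O) = θ j (a : O)) → i = j := by
  by_cases hd : ∀ i j : Fin 3, (∀ a : oddP P O, θ i (a : O) = θ j (a : O)) → i = j
  · exact Or.inr hd
  left
  push Not at hd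
  obtain ⟨i, j, hij, hne⟩ := hd
  have hθ := F.ext_eq hij
  -- shift the equality along the rotation
  have hshift : ∀ k i' j' : Fin 3, i' + k = i → j' + k = j → θ i' = θ j' := by
    intro k i' j' hi hj
    refine F.ext_eq fun a => ?_
    have e1 := F.pow_eq i k i' hi ⟨_, a.2⟩ ⟨_, h.rot_mem k a.2⟩ rfl
    have e2 := F.pow_eq j k j' hj ⟨_, a.2⟩ ⟨_, h.rot_mem k a.2⟩ rfl
    exact e1.symm.trans ((DFunLike.congr_fun (congrArg (down h.rot) hθ) _).trans e2)
  have h0 : θ 0 = θ (j - i) := hshift i 0 (j - i) (zero_add i) (sub_add_cancel j i)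
  have h1 : θ (i - j) = θ 0 := hshift j (i - j) 0 (sub_add_cancel i j) (zero_add j)
  intro l
  fin_cases i <;> fin_cases j <;> fin_cases l <;>
    first | exact absurd rfl hne | rfl | exact h0.symm | exact h1

/-- The values at the rotated involutions on the odd part of `C(P)`. -/
theorem Family.cval_eq (F : Family h θ) {M : Ideal Cfsg.AlgInt} (hM : Cfsg.IsPModular 2 M)
    (J : Finset (Fin 3)) (hinj : Set.InjOn (fun i (s : O) => θ i s) J)
    (hcov : ∀ i, ∃ j ∈ J, ∀ s : O, θ j s = θ i s) (χ : Cfsg.IrrCharacter G) (k : Fin 3) :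
    cval P t ρ O (χ : G → ℂ) (θ 0) k =
      ∑ j ∈ J, BlockIdentity.coef O (χ : G → ℂ) (fun x => (θ j x : ℂ)) *
          Cfsg.classInner (fun a : oddP P O => (θ (j - k) (a : O) : ℂ))
            (fun a : oddP P O => (θ 0 (a : O) : ℂ)) ∨
      ∀ i, BlockIdentity.coef O (χ : G → ℂ) (fun x => (θ i x : ℂ)) = 0 := by
  haveI := h.normal
  by_cases hne : ∃ i, BlockIdentity.coef O (χ : G → ℂ) (fun x => (θ i x : ℂ)) ≠ 0
  swap
  · push Not at hne; exact Or.inr hne
  left
  have hval : ∀ a : oddP P O,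
      (χ : G → ℂ) (vv t ρ k * (((a : O) : Subgroup.centralizer ({t} : Set G)) : G)) =
        ∑ j ∈ J, BlockIdentity.coef O (χ : G → ℂ) (fun x => (θ j x : ℂ)) * (θ (j - k) (a : O) : ℂ) := by
    intro a
    have hodd : Odd (orderOf (((a : O) : Subgroup.centralizer ({t} : Set G)) : G)) := by
      rw [← Nat.not_even_iff_odd, even_iff_two_dvd]; exact h.odd_coe _
    rw [apply_vv_mul]
    have hs := separation hM h.rot h.odd h.sq_mem θ F.rot J hinj hcov χ hne
      ⟨_, h.mem_O (h.rot_mem k a.2) (odd_rot k hodd)⟩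
    refine hs.trans (Finset.sum_congr rfl fun j _ => ?_)
    congr 2
    exact F.pow_eq j k (j - k) (sub_add_cancel j k) ⟨_, a.2⟩ ⟨_, h.rot_mem k a.2⟩ rfl
  rw [cval]
  simp only [hval, classInner_def, Finset.sum_mul, Finset.mul_sum]
  rw [Finset.sum_comm]
  exact Finset.sum_congr rfl fun j _ => Finset.sum_congr rfl fun a _ => by ring

/-- Integral coefficients of one parity, with the values at `t`. -/
theorem Family.exists_coef (F : Family h θ) :
    ∃ (J : Finset (Fin 3)) (z : Cfsg.IrrCharacter G → Fin 3 → ℤ),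
      ((J = {0} ∧ ∀ i, θ i = θ 0) ∨ (J = Finset.univ ∧
        ∀ i j : Fin 3, (∀ a : oddP P O, θ i (a : O) = θ j (a : O)) → i = j)) ∧
      (∀ (χ : Cfsg.IrrCharacter G) i,
        BlockIdentity.coef O (χ : G → ℂ) (fun x => (θ i x : ℂ)) = (z χ i : ℂ)) ∧
      (∀ χ i j, (2 : ℤ) ∣ z χ i - z χ j) ∧
      ∀ χ : Cfsg.IrrCharacter G, (∃ i, z χ i ≠ 0) → (χ : G → ℂ) t = ((∑ j ∈ J, z χ j : ℤ) : ℂ) := by
  haveI := h.normal
  obtain ⟨M, hM⟩ := BlockCharsA.DefectZeroVanish.exists_modular Nat.prime_two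
  have hlin : ∀ i, Cfsg.IsIrrCharacter (oddP P O) (fun a : oddP P O => (θ i (a : O) : ℂ)) :=
    fun i => isIrrCharacter_linear (((θ i).comp O.subtype).comp (oddP P O).subtype)
  obtain ⟨J, hJ, hinj, hcov, hrow⟩ : ∃ J : Finset (Fin 3),
      ((J = {0} ∧ ∀ i, θ i = θ 0) ∨ (J = Finset.univ ∧
        ∀ i j : Fin 3, (∀ a : oddP P O, θ i (a : O) = θ j (a : O)) → i = j)) ∧
      Set.InjOn (fun i (s : O) => θ i s) J ∧ (∀ i, ∃ j ∈ J, ∀ s : O, θ j s = θ i s) ∧
      ∀ (c : Fin 3 → ℂ), (∀ i j, θ i = θ j → c i = c j) → ∀ k,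
        ∑ j ∈ J, c j * Cfsg.classInner (fun a : oddP P O => (θ (j - k) (a : O) : ℂ))
          (fun a : oddP P O => (θ 0 (a : O) : ℂ)) = c k := by
    rcases F.cases with hF | hD
    · refine ⟨{0}, Or.inl ⟨rfl, hF⟩, by simp, fun i => ⟨0, by simp, fun s => by rw [hF i]⟩,
        fun c hc k => ?_⟩
      rw [Finset.sum_singleton, hF (0 - k), classInner_isIrr_self (hlin 0), mul_one,
        hc 0 k (hF k).symm]
    · refine ⟨Finset.univ, Or.inr ⟨rfl, hD⟩, fun i _ j _ e => hD i j fun a => congrFun e a,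
        fun i => ⟨i, Finset.mem_univ _, fun _ => rfl⟩, fun c _ k => ?_⟩
      rw [Finset.sum_eq_single k]
      · rw [sub_self, classInner_isIrr_self (hlin 0), mul_one]
      · intro j _ hj
        rw [classInner_isIrr_ne (hlin _) (hlin 0) fun e => hj ?_, mul_zero]
        exact sub_eq_zero.1 (hD (j - k) 0 fun a => Units.ext (congrFun e a))
      · exact fun hk => absurd (Finset.mem_univ _) hk
  have key : ∀ χ : Cfsg.IrrCharacter G, ∃ z : Fin 3 → ℤ,
      (∀ i, BlockIdentity.coef O (χ : G → ℂ) (fun x => (θ i x : ℂ)) = (z i : ℂ)) ∧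
      ∀ i j, (2 : ℤ) ∣ z i - z j := by
    intro χ
    by_cases hz : ∀ i, BlockIdentity.coef O (χ : G → ℂ) (fun x => (θ i x : ℂ)) = 0
    · exact ⟨0, fun i => by rw [hz i]; simp, fun i j => by simp⟩
    obtain ⟨z, hz1, hz2⟩ := h.exists_int χ (θ 0)
    refine ⟨z, fun k => ?_, hz2⟩
    rw [← hz1 k, (F.cval_eq hM J hinj hcov χ k).resolve_right hz]
    exact (hrow (fun j => BlockIdentity.coef O (χ : G → ℂ) (fun x => (θ j x : ℂ)))
      (fun i j e => by simp only [e]) k).symm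
  choose z hz hpar using key
  refine ⟨J, z, hJ, hz, hpar, fun χ ⟨i, hi⟩ => ?_⟩
  have hs := separation hM h.rot h.odd h.sq_mem θ F.rot J hinj hcov χ
    ⟨i, by rw [hz]; exact_mod_cast hi⟩ 1
  simp only [OneMemClass.coe_one, mul_one, map_one, Units.val_one, hz] at hs
  rw [hs, Int.cast_sum]

/-- The inner products of the three on `O`. -/
theorem Family.inner_eq (F : Family h θ) (i j : Fin 3) :
    Cfsg.classInner (fun s : O => (θ j s : ℂ)) (fun s : O => (θ i s : ℂ)) =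
      if θ j = θ i then 1 else 0 := by
  by_cases e : θ j = θ i
  · rw [if_pos e, e]
    exact classInner_isIrr_self (isIrrCharacter_linear ((θ i).comp O.subtype))
  · rw [if_neg e]
    exact classInner_isIrr_ne (isIrrCharacter_linear ((θ j).comp O.subtype))
      (isIrrCharacter_linear ((θ i).comp O.subtype))
      fun e' => e (F.ext_eq fun a => Units.ext (congrFun e' a))

/-- Every column is `±1` on four characters, the same for the three. -/
theorem Family.signs [Fintype (Cfsg.IrrCharacter G)] (F : Family h θ)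
    {z : Cfsg.IrrCharacter G → Fin 3 → ℤ}
    (hz : ∀ χ i, BlockIdentity.coef O ((χ : Cfsg.IrrCharacter G) : G → ℂ)
      (fun x => (θ i x : ℂ)) = (z χ i : ℂ))
    (hpar : ∀ χ i j, (2 : ℤ) ∣ z χ i - z χ j) :
    ∃ S : Finset (Cfsg.IrrCharacter G), S.card = 4 ∧ (∀ χ ∉ S, ∀ i, z χ i = 0) ∧
      ∀ χ ∈ S, ∀ i, z χ i = 1 ∨ z χ i = -1 := by
  have horth : ∀ i, ∑ χ : Cfsg.IrrCharacter G, z χ i * z χ i = 4 := fun i => by
    have h' := h.coef_orth (θ i) (θ i)
    simp only [hz, map_intCast, F.inner_eq, if_pos, mul_one] at h'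
    exact_mod_cast h'
  have hdeg := fun i => h.coef_degree (θ i)
  simp only [hz] at hdeg
  have hsmall : ∀ χ i, z χ i = 0 ∨ z χ i = 1 ∨ z χ i = -1 := by
    intro χ i
    by_contra hcon
    push Not at hcon
    have h2 : 4 ≤ z χ i * z χ i := by
      rcases (show 2 ≤ z χ i ∨ z χ i ≤ -2 by omega) with e | e <;> nlinarith
    have hrest : ∀ ψ ≠ χ, z ψ i = 0 := fun ψ hψ => by
      have hsum := horth i
      rw [← Finset.add_sum_erase _ _ (Finset.mem_univ χ)] at hsum
      have hle := Finset.single_le_sum (f := fun ψ => z ψ i * z ψ i)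
        (fun ψ _ => mul_self_nonneg (z ψ i)) (Finset.mem_erase.2 ⟨hψ, Finset.mem_univ ψ⟩)
      have := mul_self_nonneg (z ψ i)
      exact mul_self_eq_zero.1 (by omega)
    have h0 := hdeg i
    rw [Finset.sum_eq_single χ (fun ψ _ hψ => by rw [hrest ψ hψ]; simp)
      (fun hχ => absurd (Finset.mem_univ _) hχ)] at h0
    rcases mul_eq_zero.1 h0 with e | e
    · exact hcon.1 (by exact_mod_cast e)
    · exact irr_one_ne_zero χ.2 e
  have hiff : ∀ χ i j, z χ i = 0 → z χ j = 0 := fun χ i j hi => by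
    obtain ⟨c, hc⟩ := hpar χ j i
    rcases hsmall χ j with e | e | e <;> omega
  refine ⟨Finset.univ.filter fun χ => z χ 0 ≠ 0, ?_, fun χ hχ i => hiff χ 0 i ?_,
    fun χ hχ i => (hsmall χ i).resolve_left fun e => (Finset.mem_filter.1 hχ).2 (hiff χ i 0 e)⟩
  · have hsum := horth 0
    rw [Finset.sum_congr rfl (g := fun χ => if z χ 0 ≠ 0 then (1 : ℤ) else 0) fun χ _ => ?_,
      Finset.sum_boole] at hsum
    · exact_mod_cast hsum
    · rcases hsmall χ 0 with e | e | e <;> simp [e]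
  · by_contra hne
    exact hχ (Finset.mem_filter.2 ⟨Finset.mem_univ _, hne⟩)

end Cfsg.Agent.GW.Separation
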