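import Mathlib
import Cfsg.Agent.Lib.CharTheory.DihedralPrincipal.OrderFormula
import Cfsg.Agent.BlockCharsA.KleinOrder
import Cfsg.Agent.BlockCharsA.DefectZeroVanish
import Cfsg.Agent.Lib.Blocks.GroupAlgebra
import Cfsg.Agent.Lib.Blocks.Defect
import Cfsg.Agent.Lib.Involutions.DihedralSylow
import Cfsg.Agent.Lib.Involutions.BrauerFowler
import Cfsg.Agent.Lib.Characters.Kernel
import Cfsg.Agent.Lib.SmallSimple.Basic

/-!
# Order bounds for groups with dihedral Sylow 2-subgroups and one class of involutions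

The order is determined, up to a factor at most five, by the centralizer of an involution.
-/

set_option autoImplicit false
set_option linter.style.haveILetI false
set_option linter.unusedSectionVars false

namespace Cfsg.Agent.GW.OrderBounds

open Cfsg.Agent.CharTheory.DihedralPrincipal Cfsg.Agent.Blocks Cfsg.Agent.Characters

universe u

section Dihedral

variable {G : Type u} [Group G] [Finite G] {P : Sylow 2 G} {σ τ : G} {m : ℕ}

/-- The two reflection classes and the central involution are conjugate. -/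
theorem conj_of_one_class (h : DihSylow P σ τ m)
    (hone : ∀ u v : G, orderOf u = 2 → orderOf v = 2 → IsConj u v) :
    IsConj (σ ^ m) τ ∧ IsConj (σ ^ m) (σ * τ) := by
  haveI := Fact.mk Nat.prime_two
  have hτ : orderOf τ = 2 := orderOf_eq_prime (by rw [sq]; exact h.τ_sq)
    (fun e => h.τ_notMem (by rw [e]; exact one_mem _))
  have hστ : orderOf (σ * τ) = 2 := by
    refine orderOf_eq_prime (by rw [sq]; simpa using h.refl_sq 1) (fun e => h.τ_notMem ?_)
    rw [show τ = σ⁻¹ from eq_inv_of_mul_eq_one_right e]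
    exact inv_mem (Subgroup.mem_zpowers σ)
  exact ⟨hone _ _ h.orderOf_J hτ, hone _ _ h.orderOf_J hστ⟩

/-- The order formula, with the congruence on the degree. -/
theorem exists_degree (h : DihSylow P σ τ m)
    (hone : ∀ u v : G, orderOf u = 2 → orderOf v = 2 → IsConj u v) :
    ∃ (x : ℕ) (δ : ℤ), (δ = 1 ∨ δ = -1) ∧ 0 < x ∧ (x : ℤ) ≠ δ ∧ (2 * m : ℤ) ∣ (x : ℤ) - δ ∧
      (Nat.card G : ℚ) * ((x : ℚ) - δ) ^ 2 = 2 * (x : ℚ) * ((x : ℚ) + δ) *
        (Nat.card (Subgroup.centralizer ({σ ^ m} : Set G)) : ℚ) ^ 3 *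
        (1 / (Nat.card (Subgroup.centralizer ({σ ^ m, τ} : Set G)) : ℚ) +
          1 / (Nat.card (Subgroup.centralizer ({σ ^ m, σ * τ} : Set G)) : ℚ)) ^ 2 := by
  classical
  haveI := Fintype.ofFinite G
  haveI := Fintype.ofFinite (Cfsg.IrrCharacter G)
  obtain ⟨M, hM⟩ := BlockCharsA.DefectZeroVanish.exists_modular Nat.prime_two
  have hm := h.pos
  have hm2 := h.two_le
  obtain ⟨ζ, hζ⟩ : ∃ ζ : ℂ, IsPrimitiveRoot ζ (2 * m) :=
    ⟨_, Complex.isPrimitiveRoot_exp (2 * m) (by omega)⟩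
  obtain ⟨c1, c2, c3, d1, d2, d3, X, T⟩ := exists_principal h hM hζ
  have hd1 : d1 = 1 ∨ d1 = -1 := mul_self_eq_one_iff.1 T.sq1
  obtain ⟨hc1, hc2⟩ := conj_of_one_class h hone
  have key := order_formula h hM hζ hc1 hc2 T
  simp only at key
  have hx := (T.reg 1 (by simp)).2 1 one_pos (by omega)
  rw [← charDegree_cast c1, ← charDegree_cast (X 1)] at key hx
  set x := Cfsg.charDegree (c1 : G → ℂ) with hxdef
  set y := Cfsg.charDegree ((X 1 : Cfsg.IrrCharacter G) : G → ℂ)
  set c := Nat.card (Subgroup.centralizer ({σ ^ m} : Set G))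
  set cτ := Nat.card (Subgroup.centralizer ({σ ^ m, τ} : Set G))
  set cσ := Nat.card (Subgroup.centralizer ({σ ^ m, σ * τ} : Set G))
  have hxp : (0 : ℚ) < x := Nat.cast_pos.2 (charDegree_pos c1)
  have hyp : (0 : ℚ) < y := Nat.cast_pos.2 (charDegree_pos (X 1))
  have hcp : (0 : ℚ) < c := Nat.cast_pos.2 Nat.card_pos
  have hτp : (0 : ℚ) < cτ := Nat.cast_pos.2 Nat.card_pos
  have hσp : (0 : ℚ) < cσ := Nat.cast_pos.2 Nat.card_pos
  have hxq : (d1 : ℚ) * y = 1 + d1 * x := by
    have : (((d1 : ℚ) * y : ℚ) : ℂ) = ((1 + d1 * x : ℚ) : ℂ) := by push_cast; exact hx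
    exact_mod_cast this
  have kq : (Nat.card G : ℚ) / c * (-1 - (d1 : ℚ) / x + 4 * d1 / y) =
      -2 * ((c : ℚ) / cτ + c / cσ) ^ 2 := by
    have : (((Nat.card G : ℚ) / c * (-1 - (d1 : ℚ) / x + 4 * d1 / y) : ℚ) : ℂ) =
        ((-2 * ((c : ℚ) / cτ + c / cσ) ^ 2 : ℚ) : ℂ) := by push_cast; exact key
    exact_mod_cast this
  have hy : (y : ℚ) = x + d1 := by
    rcases hd1 with e | e <;> rw [e] at hxq ⊢ <;> push_cast at hxq ⊢ <;> linarith
  have e3 : -1 - (d1 : ℚ) / x + 4 * d1 / y =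
      -((x : ℚ) - d1) ^ 2 / ((x : ℚ) * (x + d1)) := by
    rw [hy] at hyp ⊢
    have : (d1 : ℚ) * d1 = 1 := by exact_mod_cast T.sq1
    field_simp
    linear_combination (0 : ℚ) * this
  rw [e3] at kq
  refine ⟨x, d1, hd1, charDegree_pos c1, fun e => ?_, ?_, ?_⟩
  · have hxe : (x : ℚ) = d1 := by exact_mod_cast e
    rw [hxe, sub_self] at kq
    have hpos : (0 : ℚ) < ((c : ℚ) / cτ + c / cσ) ^ 2 := by positivity
    norm_num at kq
    rw [kq] at hpos
    norm_num at hpos
  · obtain ⟨u, -, hu⟩ := DihSylow.exists_mult hζ h c1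
    have e0 := hu 0 (Nat.zero_le _)
    rw [Finset.sum_congr rfl fun l _ => show gv ζ 0 l * (c1 : G → ℂ) (σ ^ l) =
        2 * (c1 : G → ℂ) (σ ^ l) by simp only [gv, Nat.zero_mul, pow_zero, inv_one]; norm_num,
      ← Finset.mul_sum] at e0
    obtain ⟨k, hk⟩ : ∃ k, 2 * m = k + 1 := ⟨2 * m - 1, by omega⟩
    rw [hk, Finset.sum_range_succ', pow_zero, ← charDegree_cast c1,
      Finset.sum_congr rfl fun l hl => T.val1 (l + 1) (by omega)
        (by have := Finset.mem_range.1 hl; omega),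
      Finset.sum_const, Finset.card_range, nsmul_eq_mul] at e0
    have e1 : (4 : ℤ) * m * u 0 = 2 * (k * d1 + x) := by exact_mod_cast e0
    have hk' : (2 : ℤ) * m = k + 1 := by exact_mod_cast hk
    have e2 : (2 : ℤ) * m * u 0 = k * d1 + x := by linarith
    exact ⟨u 0 - d1, by linear_combination -e2 + d1 * hk'⟩
  · rw [hy] at hyp
    field_simp at kq ⊢
    linear_combination -kq

/-- The order is `F` times a function of the centralizer of an involution, `3/4 ≤ F ≤ 15/4`. -/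
theorem exists_factor (h : DihSylow P σ τ m)
    (hone : ∀ u v : G, orderOf u = 2 → orderOf v = 2 → IsConj u v) :
    ∃ F : ℚ, 3 / 4 ≤ F ∧ F ≤ 15 / 4 ∧ (Nat.card G : ℚ) =
      F * (Nat.card (Subgroup.centralizer ({σ ^ m} : Set G)) : ℚ) ^ 3 *
        (1 / (Nat.card (Subgroup.centralizer ({σ ^ m, τ} : Set G)) : ℚ) +
          1 / (Nat.card (Subgroup.centralizer ({σ ^ m, σ * τ} : Set G)) : ℚ)) ^ 2 := by
  obtain ⟨x, δ, hδ, hx0, hne, hdvd, heq⟩ := exists_degree h hone
  have h4 : (4 : ℤ) ∣ (x : ℤ) - δ := dvd_trans (by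
    obtain ⟨j, hj⟩ := h.even; exact ⟨j, by rw [hj]; push_cast; ring⟩) hdvd
  have hd : (x : ℚ) - δ ≠ 0 := sub_ne_zero.2 (by exact_mod_cast hne)
  have hd2 : (0 : ℚ) < ((x : ℚ) - δ) ^ 2 := by positivity
  refine ⟨2 * (x : ℚ) * ((x : ℚ) + δ) / ((x : ℚ) - δ) ^ 2, ?_, ?_, ?_⟩
  · rw [le_div_iff₀ hd2]
    rcases hδ with rfl | rfl
    · have : (5 : ℚ) ≤ x := by exact_mod_cast (show 5 ≤ x by omega)
      push_cast; nlinarith
    · have : (3 : ℚ) ≤ x := by exact_mod_cast (show 3 ≤ x by omega)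
      push_cast; nlinarith
  · rw [div_le_iff₀ hd2]
    rcases hδ with rfl | rfl
    · have : (5 : ℚ) ≤ x := by exact_mod_cast (show 5 ≤ x by omega)
      push_cast; nlinarith
    · have : (3 : ℚ) ≤ x := by exact_mod_cast (show 3 ≤ x by omega)
      push_cast; nlinarith
  · rw [div_mul_eq_mul_div, div_mul_eq_mul_div, eq_div_iff hd2.ne', heq]

variable (h : DihSylow P σ τ m) {M : Subgroup G} (hP : (P : Subgroup G) ≤ M)

include h in
theorem dihSylow_subgroup :
    DihSylow (P.subtype hP) (⟨σ, hP h.σ_mem⟩ : M) ⟨τ, hP h.τ_mem⟩ m where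
  σ_mem := h.σ_mem
  τ_mem := h.τ_mem
  order_σ := by rw [Subgroup.orderOf_mk, h.order_σ]
  τ_sq := Subtype.ext h.τ_sq
  rel := Subtype.ext h.rel
  τ_notMem := fun hm => h.τ_notMem (by
    obtain ⟨k, hk⟩ := hm
    exact ⟨k, congrArg Subtype.val hk⟩)
  even := h.even
  m_pow := h.m_pow
  cases x hx := by
    obtain ⟨i, hi | hi⟩ := h.cases (x : G) hx
    exacts [⟨i, Or.inl (Subtype.ext hi)⟩, ⟨i, Or.inr (Subtype.ext hi)⟩]

end Dihedral

variable {G : Type u} [Group G] [Finite G]

theorem card_centralizer_subgroup {M : Subgroup G} (A : Set M)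
    (h : Subgroup.centralizer (((↑) : M → G) '' A) ≤ M) :
    Nat.card (Subgroup.centralizer A) = Nat.card (Subgroup.centralizer (((↑) : M → G) '' A)) := by
  rw [← Nat.card_congr (Subgroup.subgroupOfEquivOfLe h).toEquiv]
  congr 2
  ext z
  simp [Subgroup.mem_subgroupOf, Subgroup.mem_centralizer_iff, Subtype.ext_iff]

/-- An overgroup of an involution centralizer with one class of involutions has index at most five. -/
theorem index_le_five {P : Sylow 2 G} {σ τ : G} {m : ℕ} (h : DihSylow P σ τ m)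
    (hone : ∀ u v : G, orderOf u = 2 → orderOf v = 2 → IsConj u v) {M : Subgroup G}
    (hC : Subgroup.centralizer ({σ ^ m} : Set G) ≤ M)
    (honeM : ∀ u v : M, orderOf u = 2 → orderOf v = 2 → IsConj u v) : M.index ≤ 5 := by
  have hP : (P : Subgroup G) ≤ M := h.sylow_le.trans hC
  obtain ⟨F, hF1, hF2, hFeq⟩ := exists_factor h hone
  obtain ⟨E, hE1, hE2, hEeq⟩ := exists_factor (dihSylow_subgroup h hP) honeM
  have hle : ∀ y : G, Subgroup.centralizer ({σ ^ m, y} : Set G) ≤ M := fun y =>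
    le_trans (Subgroup.centralizer_le (by simp)) hC
  rw [card_centralizer_subgroup _ (by simpa using hC),
    card_centralizer_subgroup _ (by simpa [Set.image_pair] using hle τ),
    card_centralizer_subgroup _ (by simpa [Set.image_pair] using hle (σ * τ))] at hEeq
  simp only [Set.image_singleton, Set.image_pair, SubmonoidClass.coe_pow, Subgroup.coe_mul] at hEeq
  set K := (Nat.card (Subgroup.centralizer ({σ ^ m} : Set G)) : ℚ) ^ 3 *
    (1 / (Nat.card (Subgroup.centralizer ({σ ^ m, τ} : Set G)) : ℚ) +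
      1 / (Nat.card (Subgroup.centralizer ({σ ^ m, σ * τ} : Set G)) : ℚ)) ^ 2 with hK
  rw [mul_assoc, ← hK] at hFeq hEeq
  have hGM : (Nat.card G : ℚ) = (Nat.card M : ℚ) * M.index := by
    exact_mod_cast (M.card_mul_index).symm
  have hMp : (0 : ℚ) < Nat.card M := Nat.cast_pos.2 Nat.card_pos
  have hKp : 0 < K := by
    by_contra hn
    have : E * K ≤ 0 := mul_nonpos_of_nonneg_of_nonpos (by linarith) (not_lt.1 hn)
    linarith
  have : (M.index : ℚ) ≤ 5 := by
    by_contra hn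
    rw [not_le] at hn
    have h1 : (Nat.card M : ℚ) * 5 < Nat.card M * M.index := by nlinarith
    nlinarith
  exact_mod_cast this

/-! ## Klein four Sylow subgroups -/

/-- The bound for the sum of the reciprocal degrees. -/
theorem sum_bound {x1 x2 x3 : ℚ} (h1 : 1 ≤ x1) (h2 : 1 ≤ x2) (h3 : 1 + x1 + x2 = x3) :
    1 + 1 / x1 + 1 / x2 - 1 / x3 ≤ 8 / 3 := by
  subst h3
  rw [← sub_nonneg]
  have : (0 : ℚ) < 1 + x1 + x2 := by linarith
  field_simp
  nlinarith [mul_nonneg (mul_nonneg (sub_nonneg.2 h1) (sub_nonneg.2 h2)) this.le,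
    mul_nonneg (sub_nonneg.2 h1) (sub_nonneg.2 h2), sq_nonneg (x1 - x2)]

theorem sum_bound_neg {x1 x2 x3 : ℚ} (h2 : 3 ≤ x2) (h3 : 3 ≤ x3) (h1 : x1 = x2 + x3 - 1) :
    8 / 15 ≤ 1 + 1 / x1 - 1 / x2 - 1 / x3 := by
  subst h1
  rw [← sub_nonneg]
  have : (0 : ℚ) < x2 + x3 - 1 := by linarith
  field_simp
  nlinarith [mul_nonneg (mul_nonneg (sub_nonneg.2 h2) (sub_nonneg.2 h3)) this.le,
    mul_nonneg (sub_nonneg.2 h2) (sub_nonneg.2 h3), sq_nonneg (x2 - x3),
    mul_nonneg (sub_nonneg.2 h2) this.le, mul_nonneg (sub_nonneg.2 h3) this.le]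

/-- `|G| S = 8 c(t)³ / c(P)²` where `S ≤ 8/3`, and `8/15 ≤ S` without linear characters. -/
theorem exists_klein_factor (P : Sylow 2 G) (hP : IsKleinFour (P : Subgroup G))
    (hone : ∀ u v : G, orderOf u = 2 → orderOf v = 2 → IsConj u v) {t : G}
    (htP : t ∈ (P : Subgroup G)) (ht : orderOf t = 2) :
    ∃ S : ℚ, S ≤ 8 / 3 ∧ ((∀ f : G →* ℂˣ, f = 1) → 8 / 15 ≤ S) ∧
      (Nat.card G : ℚ) * S = 8 * (Nat.card (Subgroup.centralizer ({t} : Set G)) : ℚ) ^ 3 /
        (Nat.card (Subgroup.centralizer ((P : Subgroup G) : Set G)) : ℚ) ^ 2 := by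
  classical
  haveI := Fintype.ofFinite G
  haveI := Fintype.ofFinite (Cfsg.IrrCharacter G)
  obtain ⟨M, hM⟩ := BlockCharsA.DefectZeroVanish.exists_modular Nat.prime_two
  obtain ⟨B, a, hmem, hcard, hval, h0, hS⟩ :=
    BlockCharsA.KleinOrder.order_formula hM P hP hone htP ht
  obtain ⟨B', a', hmem', -, hsgn', hval', -, -, hmod'⟩ := ZStar.KleinFour.principal P hP hone hM
  have hts : 2 ∣ orderOf t := by rw [ht]
  have ha : ∀ χ ∈ B, (a χ = 1 ∨ a χ = -1) ∧ (4 : ℤ) ∣ (Cfsg.charDegree (χ : G → ℂ) : ℤ) - a χ := by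
    intro χ hχ
    have hχ' : χ ∈ B' := (hmem' χ).2 ((hmem χ).1 hχ)
    have e : a χ = a' χ := by exact_mod_cast (hval χ hχ).symm.trans (hval' χ hχ' t hts)
    obtain ⟨k, hk⟩ := hmod' χ hχ'
    rw [← charDegree_cast χ] at hk
    refine ⟨e ▸ hsgn' χ hχ', k, ?_⟩
    have : (Cfsg.charDegree (χ : G → ℂ) : ℤ) = a' χ + 4 * k := by exact_mod_cast hk
    rw [e, this]; ring
  have h1 : trivIrr G ∈ B := (hmem _).2 (trivIrr_mem_principal hM)
  have ha1 : a (trivIrr G) = 1 := by
    have := hval _ h1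
    simp only [trivIrr] at this ⊢
    exact_mod_cast this.symm
  rw [← Finset.card_erase_add_one h1] at hcard
  obtain ⟨p, q, r, hpq, hpr, hqr, hpqr⟩ := Finset.card_eq_three.1 (show (B.erase (trivIrr G)).card = 3 by omega)
  have hin : ∀ χ ∈ ({p, q, r} : Finset (Cfsg.IrrCharacter G)), χ ∈ B ∧ χ ≠ trivIrr G := fun χ hχ => by
    rw [← hpqr, Finset.mem_erase] at hχ; exact ⟨hχ.2, hχ.1⟩
  obtain ⟨hpB, hp1⟩ := hin p (by simp)
  obtain ⟨hqB, hq1⟩ := hin q (by simp)
  obtain ⟨hrB, hr1⟩ := hin r (by simp)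
  have hexp : ∀ f : Cfsg.IrrCharacter G → ℂ, ∑ χ ∈ B, f χ = f (trivIrr G) + f p + f q + f r := by
    intro f
    rw [← Finset.add_sum_erase _ _ h1, hpqr, Finset.sum_insert (by simp [hpq, hpr]),
      Finset.sum_pair hqr]
    ring
  rw [hexp] at h0 hS
  rw [ha1] at h0 hS
  simp only [← charDegree_cast] at h0 hS
  have ht1 : Cfsg.charDegree ((trivIrr G : Cfsg.IrrCharacter G) : G → ℂ) = 1 := by
    have e := charDegree_cast (trivIrr G)
    simp only [trivIrr] at e ⊢
    exact_mod_cast e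
  rw [ht1] at h0 hS
  obtain ⟨hap, hp4⟩ := ha p hpB
  obtain ⟨haq, hq4⟩ := ha q hqB
  obtain ⟨har, hr4⟩ := ha r hrB
  set xp := Cfsg.charDegree (p : G → ℂ) with hxp
  set xq := Cfsg.charDegree (q : G → ℂ) with hxq
  set xr := Cfsg.charDegree (r : G → ℂ) with hxr
  have hpp : 0 < xp := charDegree_pos p
  have hqp : 0 < xq := charDegree_pos q
  have hrp : 0 < xr := charDegree_pos r
  have h0' : 1 + a p * (xp : ℤ) + a q * (xq : ℤ) + a r * (xr : ℤ) = 0 := by
    have : ((1 + a p * (xp : ℤ) + a q * (xq : ℤ) + a r * (xr : ℤ) : ℤ) : ℂ) = ((0 : ℤ) : ℂ) := by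
      push_cast; simpa using h0
    exact_mod_cast this
  refine ⟨1 + (a p : ℚ) / xp + (a q : ℚ) / xq + (a r : ℚ) / xr, ?_, fun hlin => ?_, ?_⟩
  · have hp' : (1 : ℚ) ≤ xp := by exact_mod_cast hpp
    have hq' : (1 : ℚ) ≤ xq := by exact_mod_cast hqp
    have hr' : (1 : ℚ) ≤ xr := by exact_mod_cast hrp
    have h0q : 1 + (a p : ℚ) * xp + a q * xq + a r * xr = 0 := by exact_mod_cast h0'
    have bp : 0 < 1 / (xp : ℚ) ∧ 1 / (xp : ℚ) ≤ 1 := ⟨by positivity, by rw [div_le_one (by linarith)]; exact hp'⟩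
    have bq : 0 < 1 / (xq : ℚ) ∧ 1 / (xq : ℚ) ≤ 1 := ⟨by positivity, by rw [div_le_one (by linarith)]; exact hq'⟩
    have br : 0 < 1 / (xr : ℚ) ∧ 1 / (xr : ℚ) ≤ 1 := ⟨by positivity, by rw [div_le_one (by linarith)]; exact hr'⟩
    rcases hap with e1 | e1 <;> rcases haq with e2 | e2 <;> rcases har with e3 | e3 <;>
      simp only [e1, e2, e3, Int.cast_one, Int.cast_neg, neg_div, one_mul, neg_mul] at h0q ⊢
    · linarith
    · have := sum_bound hp' hq' (show 1 + (xp : ℚ) + xq = xr by linarith); linarith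
    · have := sum_bound hp' hr' (show 1 + (xp : ℚ) + xr = xq by linarith); linarith
    · linarith [bp.2]
    · have := sum_bound hq' hr' (show 1 + (xq : ℚ) + xr = xp by linarith); linarith
    · linarith [bq.2]
    · linarith [br.2]
    · linarith
  · have hne1 : ∀ χ : Cfsg.IrrCharacter G, χ ≠ trivIrr G → Cfsg.charDegree (χ : G → ℂ) ≠ 1 := by
      intro χ hχ e
      have hχ1 : (χ : G → ℂ) 1 = 1 := by rw [← charDegree_cast, e, Nat.cast_one]
      refine hχ (Subtype.ext (funext fun g => ?_))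
      have := hlin (linearOfDegreeOne (irr_isCharacter χ) hχ1)
      rw [← linearOfDegreeOne_apply (irr_isCharacter χ) hχ1 g, this]
      simp [trivIrr]
    have b1 := hne1 p hp1
    have b2 := hne1 q hq1
    have b3 := hne1 r hr1
    rw [← hxp] at b1; rw [← hxq] at b2; rw [← hxr] at b3
    have hp' : (3 : ℚ) ≤ xp := by exact_mod_cast (show 3 ≤ xp by omega)
    have hq' : (3 : ℚ) ≤ xq := by exact_mod_cast (show 3 ≤ xq by omega)
    have hr' : (3 : ℚ) ≤ xr := by exact_mod_cast (show 3 ≤ xr by omega)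
    have h0q : 1 + (a p : ℚ) * xp + a q * xq + a r * xr = 0 := by exact_mod_cast h0'
    have bp : 0 < 1 / (xp : ℚ) ∧ 1 / (xp : ℚ) ≤ 1 / 3 :=
      ⟨by positivity, one_div_le_one_div_of_le (by norm_num) hp'⟩
    have bq : 0 < 1 / (xq : ℚ) ∧ 1 / (xq : ℚ) ≤ 1 / 3 :=
      ⟨by positivity, one_div_le_one_div_of_le (by norm_num) hq'⟩
    have br : 0 < 1 / (xr : ℚ) ∧ 1 / (xr : ℚ) ≤ 1 / 3 :=
      ⟨by positivity, one_div_le_one_div_of_le (by norm_num) hr'⟩
    rcases hap with e1 | e1 <;> rcases haq with e2 | e2 <;> rcases har with e3 | e3 <;>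
      simp only [e1, e2, e3, Int.cast_one, Int.cast_neg, neg_div, one_mul, neg_mul] at h0q ⊢
    · linarith
    · linarith
    · linarith
    · have := sum_bound_neg hq' hr' (show (xp : ℚ) = xq + xr - 1 by linarith); linarith
    · linarith
    · have := sum_bound_neg hp' hr' (show (xq : ℚ) = xp + xr - 1 by linarith); linarith
    · have := sum_bound_neg hp' hq' (show (xr : ℚ) = xp + xq - 1 by linarith); linarith
    · linarith
  · apply (Rat.cast_injective (α := ℂ))
    push_cast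
    rw [← hS]
    push_cast
    ring

/-- The analogue of `index_le_five` for a Klein four Sylow subgroup. -/
theorem index_le_five_klein {P : Sylow 2 G} (hP : IsKleinFour (P : Subgroup G))
    (hlin : ∀ f : G →* ℂˣ, f = 1)
    (hone : ∀ u v : G, orderOf u = 2 → orderOf v = 2 → IsConj u v) {t : G}
    (htP : t ∈ (P : Subgroup G)) (ht : orderOf t = 2) {M : Subgroup G}
    (hC : Subgroup.centralizer ({t} : Set G) ≤ M)
    (honeM : ∀ u v : M, orderOf u = 2 → orderOf v = 2 → IsConj u v) : M.index ≤ 5 := by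
  haveI := Fintype.ofFinite G
  have hPC : (P : Subgroup G) ≤ Subgroup.centralizer ({t} : Set G) := fun x hx =>
    Subgroup.mem_centralizer_singleton_iff.2 (ZStar.KleinFour.sylow_comm P hP hx htP).eq
  have hPM : (P : Subgroup G) ≤ M := hPC.trans hC
  have e : ((P.subtype hPM : Sylow 2 M) : Subgroup M) ≃* (P : Subgroup G) :=
    Subgroup.subgroupOfEquivOfLe hPM
  have hPM' : IsKleinFour ((P.subtype hPM : Sylow 2 M) : Subgroup M) :=
    ⟨by rw [Nat.card_congr e.toEquiv]; exact hP.card_four,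
      by rw [Monoid.exponent_eq_of_mulEquiv e]; exact hP.exponent_two⟩
  obtain ⟨S, -, hS, hSeq⟩ := exists_klein_factor P hP hone htP ht
  obtain ⟨T, hT, -, hTeq⟩ := exists_klein_factor (P.subtype hPM) hPM' honeM
    (t := ⟨t, hPM htP⟩) htP (by rw [Subgroup.orderOf_mk, ht])
  have hS' := hS hlin
  have hcP : Subgroup.centralizer ((P : Subgroup G) : Set G) ≤ M :=
    le_trans (Subgroup.centralizer_le (Set.singleton_subset_iff.2 htP)) hC
  have himg : ((↑) : M → G) '' (((P.subtype hPM : Sylow 2 M) : Subgroup M) : Set M) =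
      ((P : Subgroup G) : Set G) := by
    ext x
    exact ⟨fun ⟨y, hy, hyx⟩ => hyx ▸ hy, fun hx => ⟨⟨x, hPM hx⟩, hx, rfl⟩⟩
  rw [card_centralizer_subgroup _ (by simpa using hC),
    card_centralizer_subgroup _ (by rw [himg]; exact hcP), himg, Set.image_singleton] at hTeq
  simp only at hTeq
  rw [← hTeq] at hSeq
  have hGM : (Nat.card G : ℚ) = (Nat.card M : ℚ) * M.index := by
    exact_mod_cast (M.card_mul_index).symm
  rw [hGM, mul_assoc] at hSeq
  have hMp : (0 : ℚ) < Nat.card M := Nat.cast_pos.2 Nat.card_pos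
  have hST : (M.index : ℚ) * S = T := mul_left_cancel₀ hMp.ne' hSeq
  have : (M.index : ℚ) ≤ 5 := by nlinarith
  exact_mod_cast this

/-! ## Simple groups -/

section Simple

variable [IsSimpleGroup G]

theorem one_class (hG : 2 < Nat.card G) (S : Sylow 2 G) {m : ℕ} (hm : 2 ≤ m)
    (e : (S : Subgroup G) ≃* DihedralGroup m) :
    ∀ u v : G, orderOf u = 2 → orderOf v = 2 → IsConj u v := fun _ _ hu hv =>
  have hd := Involutions.DihedralSylow.two_dvd S e hm
  (Involutions.DihedralSylow.isConj_z_of_no_index_two S e hd (by omega)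
    (Involutions.BrauerFowler.no_index_two hG) hu).trans
    (Involutions.DihedralSylow.isConj_z_of_no_index_two S e hd (by omega)
      (Involutions.BrauerFowler.no_index_two hG) hv).symm

/-- A dihedral Sylow subgroup of order at least eight with the given central involution. -/
theorem exists_dihSylow (hG : 2 < Nat.card G) (S : Sylow 2 G) {m : ℕ} (hm : 2 < m)
    (e : (S : Subgroup G) ≃* DihedralGroup m) {t : G} (ht : orderOf t = 2) :
    ∃ (P : Sylow 2 G) (σ τ : G) (k : ℕ), m = 2 * k ∧ DihSylow P σ τ k ∧ σ ^ k = t := by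
  have h2 := Involutions.DihedralSylow.two_dvd S e hm.le
  haveI : NeZero m := ⟨by omega⟩
  haveI : Fact (Nat.Prime 2) := ⟨Nat.prime_two⟩
  obtain ⟨g, hg⟩ := isConj_iff.1
    (Involutions.DihedralSylow.isConj_z_of_no_index_two S e h2 (by omega)
      (Involutions.BrauerFowler.no_index_two hG) ht).symm
  set P : Sylow 2 G := g • S with hPdef
  have hP : ∀ x, x ∈ (S : Subgroup G) → g * x * g⁻¹ ∈ (P : Subgroup G) := fun x hx => by
    show g * x * g⁻¹ ∈ ((g • S : Sylow 2 G) : Set G)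
    rw [Sylow.coe_smul]
    exact ⟨x, hx, rfl⟩
  obtain ⟨a, ha⟩ := IsPGroup.iff_card.1 S.2
  rw [Nat.card_congr e.toEquiv, DihedralGroup.nat_card] at ha
  obtain ⟨n, rfl⟩ : ∃ n, a = n + 2 := by
    refine ⟨a - 2, ?_⟩
    rcases a with _ | _ | a <;> simp at ha ⊢ <;> omega
  rw [pow_succ] at ha
  have hm' : m = 2 ^ (n + 1) := by omega
  have hn : 1 ≤ n := by
    rcases n with _ | n
    · simp at hm'; omega
    · omega
  set s : G := ((e.symm (DihedralGroup.r 1) : (S : Subgroup G)) : G) with hs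
  have hσo : orderOf (g * s * g⁻¹) = m := by
    rw [Involutions.Basic.orderOf_conj, hs, Subgroup.orderOf_coe, MulEquiv.orderOf_eq,
      DihedralGroup.orderOf_r_one]
  have hPe : Nonempty ((P : Subgroup G) ≃* DihedralGroup (2 ^ (n + 2 - 1))) :=
    ⟨((Sylow.equiv P S)).trans (hm' ▸ e)⟩
  obtain ⟨τ, hd⟩ := DihSylow.of_iso (n := n + 2) (by omega) hPe (hP s (e.symm _).2)
    (by rw [hσo, hm']; rfl)
  refine ⟨P, g * s * g⁻¹, τ, 2 ^ n, by rw [hm', pow_succ'], by simpa using hd, ?_⟩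
  rw [conj_pow, ← hg, hs, ← SubmonoidClass.coe_pow, ← map_pow, DihedralGroup.r_one_pow]
  congr 2
  show _ = ((e.symm (DihedralGroup.r (Involutions.DihedralEmbedding.half m)) : (S : Subgroup G)) : G)
  rw [Involutions.DihedralEmbedding.half, show m / 2 = 2 ^ n by rw [hm', pow_succ]; omega]

theorem not_card_dvd_twelve (hG : ¬ IsMulCommutative G) (h4 : 4 ∣ Nat.card G)
    (h : Nat.card G ∣ 12) : False := by
  haveI : Fact (Nat.Prime 2) := ⟨Nat.prime_two⟩
  have hle := Nat.le_of_dvd (by norm_num) h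
  obtain ⟨c, hc⟩ := h4
  have hc3 : c ≤ 3 := by omega
  have hcp := Nat.card_pos (α := G)
  interval_cases c
  · omega
  · exact hG (IsPGroup.isMulCommutative_of_card_eq_prime_sq (p := 2) (by rw [hc]; rfl))
  · rw [hc] at h; norm_num at h
  · obtain ⟨H, hH⟩ := Sylow.exists_subgroup_card_pow_prime 2 (n := 2)
      (show 2 ^ 2 ∣ Nat.card G by rw [hc]; norm_num)
    have hidx : H.index = 3 := by
      have := H.card_mul_index
      rw [hH, hc] at this; omega
    have := SmallSimple.Basic.two_mul_card_dvd_factorial hG H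
      (fun e => by rw [e, Subgroup.index_top] at hidx; omega)
    rw [hidx, hc] at this
    norm_num [Nat.factorial] at this

theorem card_eq_sixty_of_index_five (hG : ¬ IsMulCommutative G) (h4 : 4 ∣ Nat.card G)
    {M : Subgroup G} (hM : M ≠ ⊤) (hi : M.index ≤ 5) :
    Nonempty (G ≃* alternatingGroup (Fin 5)) ∧ Nat.card G = 60 := by
  have hd := SmallSimple.Basic.two_mul_card_dvd_factorial hG M hM
  obtain ⟨f, hf⟩ := SmallSimple.Basic.exists_alternating_embedding hG M hM
  have h1 : 1 < M.index := Nat.lt_of_le_of_ne (Nat.one_le_iff_ne_zero.2 M.index_ne_zero_of_finite)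
    (fun h => hM (Subgroup.index_eq_one.1 h.symm))
  have hcard := Nat.card_pos (α := G)
  have h5 : M.index = 5 := by
    by_contra hne
    have hi4 : M.index ≤ 4 := by omega
    interval_cases h : M.index
    · have := Nat.le_of_dvd (by norm_num) hd
      norm_num [Nat.factorial] at this; omega
    · have := Nat.le_of_dvd (by norm_num) hd
      norm_num [Nat.factorial] at this; omega
    · refine not_card_dvd_twelve hG h4 (Nat.dvd_of_mul_dvd_mul_left two_pos ?_)
      exact hd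
  rw [h5] at hd
  have h60 : Nat.card G ∣ 60 := by
    have : 2 * Nat.card G ∣ 2 * 60 := by simpa [Nat.factorial] using hd
    exact Nat.dvd_of_mul_dvd_mul_left two_pos this
  obtain ⟨f, hf⟩ : ∃ f : G →* ↥(alternatingGroup (Fin 5)), Function.Injective f := h5 ▸ ⟨f, hf⟩
  have hA : Nat.card (alternatingGroup (Fin 5)) = 60 := by
    rw [nat_card_alternatingGroup, Nat.card_fin]; rfl
  have h5' : 5 ∣ Nat.card G := h5 ▸ M.index_dvd_card
  have hne20 : Nat.card G ≠ 20 := fun h20 => by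
    have hA5 : ¬ IsMulCommutative (alternatingGroup (Fin 5)) := by
      intro h; exact absurd (h.is_comm.comm ⟨Equiv.swap 0 1 * Equiv.swap 1 2, Equiv.Perm.mem_alternatingGroup.2 (by decide)⟩
        ⟨Equiv.swap 2 3 * Equiv.swap 3 4, Equiv.Perm.mem_alternatingGroup.2 (by decide)⟩) (by decide)
    have hrc : Nat.card f.range = 20 := by rw [← h20, Nat.card_congr (MonoidHom.ofInjective hf).toEquiv]
    have hidx : f.range.index = 3 := by
      have := f.range.card_mul_index
      rw [hrc, hA] at this; omega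
    have := SmallSimple.Basic.two_mul_card_dvd_factorial hA5 f.range
      (fun e => by rw [e, Subgroup.index_top] at hidx; omega)
    rw [hidx, hA] at this
    norm_num [Nat.factorial] at this
  have : Nat.card G = 60 := by
    have hle := Nat.le_of_dvd (by norm_num) h60
    obtain ⟨k, hk⟩ := h5'
    have : k ≤ 12 := by omega
    rw [hk] at h4 h60 hne20 ⊢
    revert h4 h60 hne20
    interval_cases k <;> norm_num
  refine ⟨⟨(MonoidHom.ofInjective hf).trans ((MulEquiv.subgroupCongr (Subgroup.eq_top_of_card_eq _ (by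
    rw [hA, ← this, Nat.card_congr (MonoidHom.ofInjective hf).toEquiv]))).trans Subgroup.topEquiv)⟩, this⟩

/-- A simple group with dihedral Sylow 2-subgroups having a proper overgroup of an involution
centralizer with one class of involutions is `A₅`. -/
theorem alt_five_of_overgroup (S : Sylow 2 G) {m : ℕ} (hm : 2 ≤ m)
    (e : (S : Subgroup G) ≃* DihedralGroup m) {t : G} (ht : orderOf t = 2) {M : Subgroup G}
    (hM : M ≠ ⊤) (hC : Subgroup.centralizer ({t} : Set G) ≤ M)
    (honeM : ∀ u v : M, orderOf u = 2 → orderOf v = 2 → IsConj u v) :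
    Nonempty (G ≃* alternatingGroup (Fin 5)) := by
  haveI : Fact (Nat.Prime 2) := ⟨Nat.prime_two⟩
  have hcS : 2 * m ∣ Nat.card G := by
    have := S.toSubgroup.card_subgroup_dvd_card
    rwa [Nat.card_congr e.toEquiv, DihedralGroup.nat_card] at this
  have h2 := Involutions.DihedralSylow.two_dvd S e hm
  have h4 : 4 ∣ Nat.card G := dvd_trans (by obtain ⟨j, rfl⟩ := h2; exact ⟨j, by ring⟩) hcS
  have hG2 : 2 < Nat.card G := by
    have := Nat.le_of_dvd Nat.card_pos h4; omega
  have hG : ¬ IsMulCommutative G := SmallSimple.Basic.not_comm_of_not_prime fun hp => by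
    have := (hp.eq_one_or_self_of_dvd 2 (dvd_trans (by norm_num) h4)); omega
  have hone := one_class hG2 S hm e
  rcases hm.lt_or_eq with hlt | rfl
  · exfalso
    obtain ⟨P, σ, τ, k, rfl, h, rfl⟩ := exists_dihSylow hG2 S hlt e ht
    have h60 := (card_eq_sixty_of_index_five hG h4 hM (index_le_five h hone hC honeM)).2
    have : (8 : ℕ) ∣ Nat.card G := dvd_trans (by obtain ⟨j, rfl⟩ := h.even; exact ⟨j, by ring⟩) hcS
    omega
  · obtain ⟨g, hg⟩ := isConj_iff.1 (hone _ t (Involutions.DihedralSylow.orderOf_z S e h2 (by omega)) ht)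
    have hPS : IsKleinFour ((g • S : Sylow 2 G) : Subgroup G) := by
      refine ⟨?_, ?_⟩
      · rw [Nat.card_congr ((Sylow.equiv (g • S) S).trans e).toEquiv, DihedralGroup.nat_card]
      · rw [Monoid.exponent_eq_of_mulEquiv ((Sylow.equiv (g • S) S).trans e)]
        exact IsKleinFour.exponent_two
    refine (card_eq_sixty_of_index_five hG h4 hM (index_le_five_klein hPS ?_ hone ?_ ht hC honeM)).1
    · exact fun f => MonoidHom.ext fun x => SmallSimple.Basic.hom_eq_one hG f x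
    · rw [← hg]
      show g * _ * g⁻¹ ∈ ((g • S : Sylow 2 G) : Set G)
      rw [Sylow.coe_smul]
      exact ⟨_, (e.symm _).2, rfl⟩

end Simple

end Cfsg.Agent.GW.OrderBounds
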