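import Mathlib
import Cfsg.Agent.Lib.GW.KleinSetting
import Cfsg.Agent.Lib.GW.OrderBounds

/-!
# Characters of degree three

A simple group with Klein four Sylow subgroup `P` and an irreducible character of degree three
has `C(P)` free of nontrivial elements of odd order.
-/

set_option autoImplicit false
set_option linter.style.haveILetI false
set_option linter.unusedSectionVars false

open scoped Classical

namespace Cfsg.Agent.GW.Separation

open Cfsg.Agent.Characters
open scoped ComplexConjugate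

universe u

variable {G : Type u} [Group G] [Fintype G]

/-- A nontrivial irreducible character of a simple group is faithful. -/
theorem eq_one_of_apply_eq [IsSimpleGroup G] (χ : Cfsg.IrrCharacter G)
    (h1 : (χ : G → ℂ) 1 ≠ 1) {g : G} (hg : (χ : G → ℂ) g = (χ : G → ℂ) 1) : g = 1 := by
  haveI := charKernel_normal (irr_isCharacter χ)
  rcases Subgroup.Normal.eq_bot_or_eq_top (charKernel_normal (irr_isCharacter χ)) with h | h
  · have : g ∈ charKernel (χ : G → ℂ) (irr_isCharacter χ) := mem_charKernel.2 hg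
    rwa [h, Subgroup.mem_bot] at this
  · exfalso
    have hc : ∀ x : G, (χ : G → ℂ) x = (χ : G → ℂ) 1 := fun x =>
      mem_charKernel.1 (h ▸ Subgroup.mem_top x :
        x ∈ charKernel (χ : G → ℂ) (irr_isCharacter χ))
    obtain ⟨n, hn, hne⟩ := irr_one_pos χ.2
    have h' := classInner_isIrr_self χ.2
    rw [classInner_def, Finset.sum_congr rfl (g := fun _ => (n : ℂ) * n) fun x _ => by
      rw [hc x, hne, Complex.conj_natCast], Finset.sum_const, Finset.card_univ, nsmul_eq_mul,
      ← Nat.card_eq_fintype_card, inv_mul_cancel_left₀ (natCard_ne_zero (G := G))] at h'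
    refine h1 ?_
    rw [hne]
    have : n * n = 1 := by exact_mod_cast h'
    rw [Nat.eq_one_of_mul_eq_one_right this, Nat.cast_one]

/-- An element of full norm in a faithful irreducible character is trivial in a simple group. -/
theorem eq_one_of_norm_eq [IsSimpleGroup G] (hG : ¬ IsMulCommutative G) (χ : Cfsg.IrrCharacter G)
    (h1 : (χ : G → ℂ) 1 ≠ 1) {g : G} (hg : ‖(χ : G → ℂ) g‖ = ‖(χ : G → ℂ) 1‖) : g = 1 := by
  have hfaith := fun {x : G} => eq_one_of_apply_eq χ h1 (g := x)
  obtain ⟨χ, n, r, hr, rfl⟩ := χ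
  simp only at hg hfaith
  rw [r.char_one, Complex.norm_natCast] at hg
  obtain ⟨c, hc⟩ := rep_apply_eq_smul_of_norm_eq r g hg
  rw [← Subgroup.mem_bot, ← SmallSimple.Basic.center_eq_bot hG, Subgroup.mem_center_iff]
  intro x
  have e : r (x * g) = r (g * x) := by
    rw [map_mul, map_mul, hc]
    ext v; simp
  have hz : x * g * (g * x)⁻¹ = 1 := hfaith (by
    have : r (x * g * (g * x)⁻¹) = r 1 := by rw [map_mul, e, ← map_mul, mul_inv_cancel]
    rw [Representation.character, Representation.character, this])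
  exact mul_inv_eq_one.1 hz

section Three

variable {P : Sylow 2 G} {t ρ : G} {O : Subgroup (Subgroup.centralizer ({t} : Set G))}

theorem apply_t_of_degree_three [IsSimpleGroup G] (h : KleinCore P t ρ O)
    (χ : Cfsg.IrrCharacter G) (h3 : (χ : G → ℂ) 1 = 3) : (χ : G → ℂ) t = -1 := by
  obtain ⟨n, hn⟩ := h.exists_nat χ
  obtain ⟨m, hm⟩ := classInner_char_nat
    (isCharacter_restrict (Subgroup.zpowers t) (irr_isCharacter χ))
    (isCharacter_one (G := Subgroup.zpowers t))
  have hbij : Function.Bijective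
      (fun j : Fin 2 => (⟨t ^ (j : ℕ), Subgroup.npow_mem_zpowers t j⟩ : Subgroup.zpowers t)) := by
    refine (Fintype.bijective_iff_injective_and_card _).2 ⟨fun a b hab => ?_, ?_⟩
    · exact Fin.ext (pow_injOn_Iio_orderOf (by rw [Set.mem_Iio, h.rot.order]; exact a.2)
        (by rw [Set.mem_Iio, h.rot.order]; exact b.2)
        (congrArg Subtype.val hab))
    · rw [← Nat.card_eq_fintype_card (α := Subgroup.zpowers t), Nat.card_zpowers, h.rot.order,
        Fintype.card_fin]
  rw [classInner_def, Nat.card_zpowers, h.rot.order] at hm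
  simp only [map_one, mul_one] at hm
  rw [← Fintype.sum_bijective _ hbij (fun j : Fin 2 => (χ : G → ℂ) (t ^ (j : ℕ))) _ (fun _ => rfl),
    Fin.sum_univ_two] at hm
  simp only [Fin.val_zero, Fin.val_one, pow_zero, pow_one, h3, Nat.cast_ofNat] at hm
  rw [h3] at hn
  have e : 2 * n + 3 = 3 * m := by
    have : (2 : ℂ) * n + 3 = 3 * m := by linear_combination 3 * hm - (1 / 2 : ℂ) * hn
    exact_mod_cast this
  have hle := char_norm_le (irr_isCharacter χ) t
  rw [h3, show (χ : G → ℂ) t = ((4 * (n : ℝ) - 3) / 3 : ℝ) by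
    push_cast; linear_combination (1 / 3 : ℂ) * hn, Complex.norm_real] at hle
  norm_num [abs_le] at hle
  have hn3 : n ≤ 3 := by
    have : (n : ℝ) ≤ 3 := by
      rw [div_le_iff₀ (by norm_num)] at hle
      linarith [le_abs_self (4 * (n : ℝ) - 3)]
    exact_mod_cast this
  interval_cases n
  · push_cast at hn; linear_combination (1 / 3 : ℂ) * hn
  · omega
  · omega
  · exfalso
    have : (χ : G → ℂ) t = (χ : G → ℂ) 1 := by
      rw [h3]; push_cast at hn; linear_combination (1 / 3 : ℂ) * hn
    have := eq_one_of_apply_eq χ (by rw [h3]; norm_num) this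
    have ho := h.rot.order
    rw [this, orderOf_one] at ho
    omega

theorem apply_inv_pm {H : Type u} [Group H] [Fintype H] (ξ : Cfsg.IrrCharacter H) {z : H}
    (hz : ∀ g : H, g * z = z * g) (hz2 : z * z = 1) :
    (ξ : H → ℂ) z = (ξ : H → ℂ) 1 ∨ (ξ : H → ℂ) z = -(ξ : H → ℂ) 1 := by
  have h := BlockIdentity.sum_conj_mul_eq ξ z z
  rw [Finset.sum_congr rfl (g := fun _ => (ξ : H → ℂ) 1) fun g _ => by
      rw [hz g, mul_inv_cancel_right, hz2], Finset.sum_const, Finset.card_univ, nsmul_eq_mul,
    ← Nat.card_eq_fintype_card, eq_div_iff (irr_one_ne_zero ξ.2), mul_assoc, mul_assoc] at h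
  exact mul_self_eq_mul_self_iff.1 (mul_left_cancel₀ natCard_ne_zero h).symm

theorem apply_central_mul {H : Type u} [Group H] [Fintype H] (ξ : Cfsg.IrrCharacter H) {z : H}
    (hz : ∀ g : H, g * z = z * g) (x : H) :
    (ξ : H → ℂ) (z * x) = (ξ : H → ℂ) z * (ξ : H → ℂ) x / (ξ : H → ℂ) 1 := by
  have h := BlockIdentity.sum_conj_mul_eq ξ z x
  rw [Finset.sum_congr rfl (g := fun _ => (ξ : H → ℂ) (z * x)) fun g _ => by
      rw [hz g, mul_inv_cancel_right], Finset.sum_const, Finset.card_univ, nsmul_eq_mul,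
    ← Nat.card_eq_fintype_card, mul_assoc, mul_div_assoc] at h
  exact mul_left_cancel₀ natCard_ne_zero h

theorem hom_inv_sq {H : Type*} [Group H] {f : H → ℂ} (hmul : ∀ a b, f (a * b) = f a * f b)
    (h1 : f 1 = 1) {z : H} (hz : z * z = 1) : f z = 1 ∨ f z = -1 := by
  have : f z * f z = 1 := by rw [← hmul, hz, h1]
  rcases mul_self_eq_one_iff.1 this with e | e
  · exact Or.inl e
  · exact Or.inr e

/-- `C(t)` is not abelian if `C(P)` has a nontrivial element of odd order. -/
theorem centralizer_not_comm [IsSimpleGroup G] (hG : ¬ IsMulCommutative G) (h : KleinCore P t ρ O)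
    {a : G} (ha : a ∈ Subgroup.centralizer ((P : Subgroup G) : Set G)) (hodd : Odd (orderOf a))
    (ha1 : a ≠ 1) : ¬ ∀ x y : Subgroup.centralizer ({t} : Set G), x * y = y * x := by
  intro hcomm
  set C := Subgroup.centralizer ({t} : Set G) with hCdef
  have hCP : C ≤ Subgroup.centralizer ((P : Subgroup G) : Set G) := fun x hx => by
    refine Subgroup.mem_centralizer_iff.2 fun v hv => ?_
    exact congrArg Subtype.val (hcomm ⟨v, h.le_centralizer hv⟩ ⟨x, hx⟩)
  set N := Subgroup.normalizer ((P : Subgroup G) : Set G)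
  have hCN : C ≤ N := hCP.trans (Subgroup.centralizer_le_normalizer _)
  have hNtop : N ≠ ⊤ := fun e => by
    haveI : (P : Subgroup G).Normal := Subgroup.normalizer_eq_top_iff.1 e
    rcases Subgroup.Normal.eq_bot_or_eq_top (inferInstance : (P : Subgroup G).Normal) with h' | h'
    · have := h.rot.mem
      rw [h', Subgroup.mem_bot] at this
      have ho := h.rot.order
      rw [this, orderOf_one] at ho
      omega
    · refine hG ⟨⟨fun x y => ?_⟩⟩
      exact h.rot.comm x (h' ▸ Subgroup.mem_top x) y (h' ▸ Subgroup.mem_top y)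
  have hlin : ∀ f : G →* ℂˣ, f = 1 := fun f =>
    MonoidHom.ext fun x => SmallSimple.Basic.hom_eq_one hG f x
  have hone : ∀ u v : G, orderOf u = 2 → orderOf v = 2 → IsConj u v := fun u v hu hv =>
    (h.one_class hu).symm.trans (h.one_class hv)
  have hinP : ∀ u : N, orderOf u = 2 → (u : G) ∈ (P : Subgroup G) := fun u hu => by
    haveI : Fact (Nat.Prime 2) := ⟨Nat.prime_two⟩
    have hu' : orderOf (u : G) = 2 := by rw [Subgroup.orderOf_coe, hu]
    have hp : IsPGroup 2 (Subgroup.zpowers (u : G)) :=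
      IsPGroup.of_card (n := 1) (by rw [Nat.card_zpowers, hu', pow_one])
    have hsup := hp.to_sup_of_normal_right' P.2 (Subgroup.zpowers_le.2 u.2)
    rw [← P.3 hsup le_sup_right]
    exact Subgroup.mem_sup_left (Subgroup.mem_zpowers _)
  have honeN : ∀ u v : N, orderOf u = 2 → orderOf v = 2 → IsConj u v := by
    have key : ∀ u : N, orderOf u = 2 → IsConj (⟨t, hCN (h.le_centralizer h.rot.mem)⟩ : N) u := by
      intro u hu
      obtain ⟨i, hi⟩ := h.rot.cover _ (hinP u hu) (by rw [Subgroup.orderOf_coe, hu])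
      exact isConj_iff.2 ⟨⟨ρ ^ (i : ℕ), rho_pow_mem h.rot i⟩, Subtype.ext hi.symm⟩
    exact fun u v hu hv => (key u hu).symm.trans (key v hv)
  have hle := OrderBounds.index_le_five_klein h.klein hlin hone h.rot.mem h.rot.order hCN honeN
  have h4 : 4 ∣ Nat.card G := h.klein.card_four ▸ (P : Subgroup G).card_subgroup_dvd_card
  have h60 := (OrderBounds.card_eq_sixty_of_index_five hG h4 hNtop hle).2
  -- the index of `C(t)` is at most five
  have hC12 : 12 ∣ Nat.card C := by
    have hP4 : 4 ∣ Nat.card C := h.klein.card_four ▸ Subgroup.card_dvd_of_le h.le_centralizer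
    have hoa : orderOf a ∣ Nat.card C := by
      have hd := orderOf_dvd_natCard (⟨a, h.rot.centralizer_le ha⟩ : C)
      rwa [Subgroup.orderOf_mk] at hd
    have hdvd : Nat.card C ∣ 60 := h60 ▸ C.card_subgroup_dvd_card
    have hne : orderOf a ≠ 1 := fun e => ha1 (orderOf_eq_one_iff.1 e)
    obtain ⟨k, hk⟩ := hP4
    have hk15 : k ∣ 15 := by
      rw [hk, show (60 : ℕ) = 4 * 15 by norm_num] at hdvd
      exact Nat.dvd_of_mul_dvd_mul_left (by norm_num) hdvd
    have hk1 : k ≠ 1 := by
      rintro rfl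
      rw [hk] at hoa
      have h4' : orderOf a ∣ 2 ^ 2 := hoa
      exact hne (Nat.eq_one_of_dvd_coprimes
        (Nat.Coprime.pow_right 2 (Nat.coprime_two_right.2 hodd)) dvd_rfl h4')
    have hidx := C.card_mul_index
    rw [h60, hk] at hidx
    have hk5 : k ≠ 5 ∧ k ≠ 15 := by
      constructor <;> rintro rfl
      all_goals
        have hCtop : C ≠ ⊤ := fun e => hNtop (top_le_iff.1 (e ▸ hCN))
        have hd := SmallSimple.Basic.two_mul_card_dvd_factorial hG C hCtop
        rw [h60] at hd
        have hi : C.index ≤ 3 := by omega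
        have := (Nat.factorial_le hi).trans' (Nat.le_of_dvd (Nat.factorial_pos _) hd)
        norm_num [Nat.factorial] at this
    have : k ≤ 15 := Nat.le_of_dvd (by norm_num) hk15
    interval_cases k <;> first | omega | (norm_num at hk15)
  have hlt : C < N := lt_of_le_of_ne hCN fun e => h.rho_notMem (e.symm ▸ h.rot.normalizes : ρ ∈ C)
  have hCi : C.index ≤ 5 := by
    obtain ⟨k, hk⟩ := hC12
    have hidx := C.card_mul_index
    rw [h60, hk] at hidx
    have hk0 : 1 ≤ k := by
      rcases k with _ | k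
      · simp at hidx
      · omega
    nlinarith
  have hNi : N.index < C.index := by
    rw [← Subgroup.relIndex_mul_index hlt.le]
    have h1 : C.relIndex N ≠ 1 := fun e => hlt.not_ge (Subgroup.relIndex_eq_one.1 e)
    have h0 : C.relIndex N ≠ 0 := fun e =>
      C.index_ne_zero_of_finite (by rw [← Subgroup.relIndex_mul_index hlt.le, e, zero_mul])
    have := Nat.pos_of_ne_zero N.index_ne_zero_of_finite
    exact (Nat.lt_mul_iff_one_lt_left this).2 (by omega)
  have hd := SmallSimple.Basic.two_mul_card_dvd_factorial hG N hNtop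
  rw [h60] at hd
  have := (Nat.factorial_le (show N.index ≤ 4 by omega)).trans'
    (Nat.le_of_dvd (Nat.factorial_pos _) hd)
  norm_num [Nat.factorial] at this

/-- A character of degree three leaves no odd part in `C(P)`. -/
theorem eq_one_of_degree_three [IsSimpleGroup G] (hG : ¬ IsMulCommutative G)
    (h : KleinCore P t ρ O) (χ : Cfsg.IrrCharacter G) (h3 : (χ : G → ℂ) 1 = 3) {a : G}
    (ha : a ∈ Subgroup.centralizer ((P : Subgroup G) : Set G)) (hodd : Odd (orderOf a)) :
    a = 1 := by
  haveI := h.normal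
  by_contra ha1
  have hne1 : (χ : G → ℂ) 1 ≠ 1 := by rw [h3]; norm_num
  set R : (Subgroup.centralizer ({t} : Set G)) → ℂ := fun x => (χ : G → ℂ) x with hR
  have hRc : Cfsg.IsCharacter (Subgroup.centralizer ({t} : Set G)) R := isCharacter_restrict (Subgroup.centralizer ({t} : Set G)) (irr_isCharacter χ)
  haveI := Fintype.ofFinite (Cfsg.IrrCharacter (Subgroup.centralizer ({t} : Set G)))
  -- a constituent of degree at least two
  obtain ⟨ψ, hψne, hψ2⟩ : ∃ ψ : Cfsg.IrrCharacter (Subgroup.centralizer ({t} : Set G)), Cfsg.classInner R (ψ : (Subgroup.centralizer ({t} : Set G)) → ℂ) ≠ 0 ∧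
      (ψ : (Subgroup.centralizer ({t} : Set G)) → ℂ) 1 ≠ 1 := by
    by_contra hcon
    push Not at hcon
    refine centralizer_not_comm hG h ha hodd ha1 fun x y => ?_
    have hz : R (x * y * x⁻¹ * y⁻¹) = R 1 := by
      rw [classFun_eq_sum (char_isClassFunction hRc)]
      simp only [Finset.sum_apply, Pi.smul_apply, smul_eq_mul]
      refine Finset.sum_congr rfl fun ξ _ => ?_
      by_cases hξ : Cfsg.classInner R (ξ : (Subgroup.centralizer ({t} : Set G)) → ℂ) = 0
      · rw [hξ, zero_mul, zero_mul]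
      · have hm := char_mul_of_degree_one (irr_isCharacter ξ) (hcon ξ hξ)
        have hi : ∀ z : (Subgroup.centralizer ({t} : Set G)), (ξ : (Subgroup.centralizer ({t} : Set G)) → ℂ) z * (ξ : (Subgroup.centralizer ({t} : Set G)) → ℂ) z⁻¹ = 1 := fun z => by
          rw [← hm, mul_inv_cancel, hcon ξ hξ]
        rw [hm, hm, hm, hcon ξ hξ]
        linear_combination (Cfsg.classInner R (ξ : (Subgroup.centralizer ({t} : Set G)) → ℂ)) * ((ξ : (Subgroup.centralizer ({t} : Set G)) → ℂ) y * (ξ : (Subgroup.centralizer ({t} : Set G)) → ℂ) y⁻¹) * hi x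
          + (Cfsg.classInner R (ξ : (Subgroup.centralizer ({t} : Set G)) → ℂ)) * hi y
    have hz1 : ((x * y * x⁻¹ * y⁻¹ : (Subgroup.centralizer ({t} : Set G))) : G) = 1 := eq_one_of_apply_eq χ hne1 hz
    have e : x * y * x⁻¹ * y⁻¹ = 1 := Subtype.ext hz1
    rw [mul_inv_eq_one, mul_inv_eq_iff_eq_mul] at e
    exact e
  have htC : t ∈ (Subgroup.centralizer ({t} : Set G)) := Subgroup.mem_centralizer_singleton_iff.2 rfl
  set tc : (Subgroup.centralizer ({t} : Set G)) := ⟨t, htC⟩
  have htcen : ∀ g : (Subgroup.centralizer ({t} : Set G)), g * tc = tc * g := fun g => Subtype.ext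
    (Subgroup.mem_centralizer_singleton_iff.1 g.2)
  have htt : tc * tc = 1 := Subtype.ext (h.sq h.rot.mem)
  have hχt := apply_t_of_degree_three h χ h3
  -- degree two
  obtain ⟨d, hd0, hd⟩ := irr_one_pos ψ.2
  obtain ⟨m, hm⟩ := classInner_char_nat hRc (irr_isCharacter ψ)
  have hle : d ≤ 3 := by
    have := irr_degree_le hRc ψ.2 hψne
    rw [hd, show R 1 = 3 from h3] at this
    norm_num at this
    exact_mod_cast this
  set L : (Subgroup.centralizer ({t} : Set G)) → ℂ := fun x => R x - (ψ : (Subgroup.centralizer ({t} : Set G)) → ℂ) x with hL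
  have hLc : Cfsg.IsCharacter (Subgroup.centralizer ({t} : Set G)) L := by
    refine isCharacter_of_classInner_nat (fun g k => ?_) fun η hη => ?_
    · simp only [hL, char_isClassFunction hRc g k, irr_isClassFunction ψ g k]
    · obtain ⟨k, hk⟩ := classInner_char_nat hRc (isCharacter_of_isIrr hη)
      rw [show L = R - (ψ : (Subgroup.centralizer ({t} : Set G)) → ℂ) from rfl, classInner_sub_left, hk]
      by_cases e : (ψ : (Subgroup.centralizer ({t} : Set G)) → ℂ) = η
      · subst e
        have hk1 : 1 ≤ k := Nat.one_le_iff_ne_zero.2 fun e0 => hψne (by rw [hk, e0, Nat.cast_zero])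
        exact ⟨k - 1, by rw [classInner_isIrr_self ψ.2, Nat.cast_sub hk1, Nat.cast_one]⟩
      · exact ⟨k, by rw [classInner_isIrr_ne ψ.2 hη e, sub_zero]⟩
  have hd2 : d = 2 := by
    have hd1 : d ≠ 1 := fun e => hψ2 (by rw [hd, e, Nat.cast_one])
    by_contra hne
    have hd3 : d = 3 := by omega
    have hL1 : L 1 = 0 := by simp only [hL]; rw [show R 1 = 3 from h3, hd, hd3]; norm_num
    have hL0 : ∀ x, L x = 0 := fun x => by
      have := char_norm_le hLc x
      rwa [hL1, norm_zero, norm_le_zero_iff] at this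
    have ht := hL0 tc
    simp only [hL] at ht
    rcases apply_inv_pm ψ htcen htt with e | e <;>
    · rw [e, show R tc = -1 from hχt, hd, hd3] at ht
      norm_num at ht
  have hψ1 : (ψ : (Subgroup.centralizer ({t} : Set G)) → ℂ) 1 = 2 := by rw [hd, hd2]; norm_num
  have hL1 : L 1 = 1 := by simp only [hL]; rw [show R 1 = 3 from h3, hψ1]; norm_num
  have hLmul := char_mul_of_degree_one hLc hL1
  have hRL : ∀ x : (Subgroup.centralizer ({t} : Set G)), (χ : G → ℂ) x = L x + (ψ : (Subgroup.centralizer ({t} : Set G)) → ℂ) x := fun x => by simp [hL, hR]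
  have hψt : (ψ : (Subgroup.centralizer ({t} : Set G)) → ℂ) tc = -2 ∧ L tc = 1 := by
    have := hRL tc
    rw [show ((tc : (Subgroup.centralizer ({t} : Set G))) : G) = t from rfl, hχt] at this
    rcases apply_inv_pm ψ htcen htt with e | e <;>
      rcases hom_inv_sq hLmul hL1 htt with e' | e' <;> rw [e, e', hψ1] at this <;>
      norm_num at this
    exact ⟨by rw [e, hψ1], e'⟩
  have hflip : ∀ x : (Subgroup.centralizer ({t} : Set G)), (ψ : (Subgroup.centralizer ({t} : Set G)) → ℂ) (tc * x) = -(ψ : (Subgroup.centralizer ({t} : Set G)) → ℂ) x ∧ L (tc * x) = L x := fun x => by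
    rw [apply_central_mul ψ htcen, hψt.1, hψ1, hLmul, hψt.2]
    constructor <;> ring
  -- the involutions of `P` outside `⟨t⟩`
  have hrefl : ∀ i : Fin 3, i ≠ 0 → ∀ hv : vv t ρ i ∈ (Subgroup.centralizer ({t} : Set G)),
      L ⟨vv t ρ i, hv⟩ = -1 ∧ (ψ : (Subgroup.centralizer ({t} : Set G)) → ℂ) ⟨vv t ρ i, hv⟩ = 0 := by
    intro i hi hv
    set u : (Subgroup.centralizer ({t} : Set G)) := ⟨vv t ρ i, hv⟩
    have huu : u * u = 1 := Subtype.ext (h.sq (h.vv_mem i))
    have hu := hRL u
    rw [show (u : G) = vv t ρ i from rfl, apply_vv, hχt] at hu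
    have htu : (χ : G → ℂ) (t * vv t ρ i) = -1 := by
      have hP : t * vv t ρ i ∈ (P : Subgroup G) := mul_mem h.rot.mem (h.vv_mem i)
      have ho : orderOf (t * vv t ρ i) = 2 := by
        refine orderOf_eq_prime (by rw [pow_two]; exact h.sq hP) fun e => hi ?_
        have h1 : vv t ρ i = vv t ρ 0 := by
          rw [vv_zero, ← inv_eq_of_mul_eq_one_right e, inv_eq_of_mul_eq_one_right (h.sq h.rot.mem)]
        have := h.bijective.1 (a₁ := some i) (a₂ := some 0) (Subtype.ext h1)
        simpa using this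
      obtain ⟨j, hj⟩ := h.rot.cover _ hP ho
      rw [hj, irr_isClassFunction χ t, hχt]
    have h2 := hRL (tc * u)
    rw [show ((tc * u : (Subgroup.centralizer ({t} : Set G))) : G) = t * vv t ρ i from rfl, htu, (hflip u).1, (hflip u).2] at h2
    have hLu : L u = -1 := by linear_combination -(hu + h2) / 2
    exact ⟨hLu, by linear_combination -hu + (h2 + hu) / 2⟩
  -- `O` is abelian
  have hOc : ∀ x y : O, x * y = y * x := by
    intro x y
    have hRO : Cfsg.IsCharacter O (fun z : O => R z) := isCharacter_restrict O hRc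
    haveI := Fintype.ofFinite (Cfsg.IrrCharacter O)
    have hdeg : ∀ η : Cfsg.IrrCharacter O,
        Cfsg.classInner (fun z : O => R z) (η : O → ℂ) ≠ 0 → (η : O → ℂ) 1 = 1 := by
      intro η hη
      obtain ⟨k, hk0, hk⟩ := irr_one_pos η.2
      have hkO : k ∣ Nat.card O := by
        obtain ⟨k', hk', -, hdvd⟩ := irr_degree_dvd_card η.2
        have : k = k' := by exact_mod_cast hk.symm.trans hk'
        rwa [this]
      have hk2 : k ≤ 2 := by
        have hsum : Cfsg.classInner (fun z : O => R z) (η : O → ℂ) =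
            Cfsg.classInner (fun z : O => L z) (η : O → ℂ) +
              Cfsg.classInner (fun z : O => (ψ : (Subgroup.centralizer ({t} : Set G)) → ℂ) z) (η : O → ℂ) := by
          rw [← classInner_add_left]
          congr 1
          funext z
          exact hRL z
        rcases (not_and_or.1 fun hh => hη (by rw [hsum, hh.1, hh.2, add_zero]) :
          Cfsg.classInner (fun z : O => L z) (η : O → ℂ) ≠ 0 ∨
            Cfsg.classInner (fun z : O => (ψ : (Subgroup.centralizer ({t} : Set G)) → ℂ) z) (η : O → ℂ) ≠ 0) with e | e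
        · have := irr_degree_le (isCharacter_restrict O hLc) η.2 e
          rw [hk] at this
          simp only [OneMemClass.coe_one, hL1] at this
          norm_num at this
          omega
        · have := irr_degree_le (isCharacter_restrict O (irr_isCharacter ψ)) η.2 e
          rw [hk] at this
          simp only [OneMemClass.coe_one, hψ1] at this
          norm_num at this
          exact_mod_cast this
      have : k ≠ 2 := fun e => Nat.not_even_iff_odd.2 h.odd (even_iff_two_dvd.2 (e ▸ hkO))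
      rw [hk, show k = 1 by omega, Nat.cast_one]
    have hz : R ((x * y * x⁻¹ * y⁻¹ : O) : (Subgroup.centralizer ({t} : Set G))) = R ((1 : O) : (Subgroup.centralizer ({t} : Set G))) := by
      have hsum := fun z => congrFun (classFun_eq_sum (char_isClassFunction hRO)) z
      simp only [Finset.sum_apply, Pi.smul_apply, smul_eq_mul] at hsum
      rw [hsum, hsum]
      refine Finset.sum_congr rfl fun η _ => ?_
      by_cases hη : Cfsg.classInner (fun z : O => R z) (η : O → ℂ) = 0
      · rw [hη, zero_mul, zero_mul]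
      · have hm := char_mul_of_degree_one (irr_isCharacter η) (hdeg η hη)
        have hi : ∀ z : O, (η : O → ℂ) z * (η : O → ℂ) z⁻¹ = 1 := fun z => by
          rw [← hm, mul_inv_cancel, hdeg η hη]
        rw [hm, hm, hm, hdeg η hη]
        set c := Cfsg.classInner (fun z : O => R z) (η : O → ℂ)
        linear_combination c * ((η : O → ℂ) y * (η : O → ℂ) y⁻¹) * hi x + c * hi y
    have hz1 := eq_one_of_apply_eq χ hne1 hz
    have e : x * y * x⁻¹ * y⁻¹ = 1 := Subtype.ext (Subtype.ext hz1)
    rw [mul_inv_eq_one, mul_inv_eq_iff_eq_mul] at e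
    exact e
  -- odd elements of `C(P)` are central in `C(t)`
  have hcen : ∀ (b : G) (hb : b ∈ Subgroup.centralizer ((P : Subgroup G) : Set G)),
      Odd (orderOf b) → ∀ g : (Subgroup.centralizer ({t} : Set G)), g * ⟨b, h.rot.centralizer_le hb⟩ = ⟨b, h.rot.centralizer_le hb⟩ * g := by
    intro b hb hbo g
    obtain ⟨v, hv, s, hs⟩ := h.decomp g
    apply Subtype.ext
    have hbs : ((s : (Subgroup.centralizer ({t} : Set G))) : G) * b = b * ((s : (Subgroup.centralizer ({t} : Set G))) : G) :=
      congrArg (fun z : O => ((z : (Subgroup.centralizer ({t} : Set G))) : G)) (hOc s ⟨_, h.mem_O hb hbo⟩)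
    show (g : G) * b = b * g
    rw [hs, mul_assoc, hbs, ← mul_assoc, Subgroup.mem_centralizer_iff.1 hb v hv, mul_assoc]
  -- the three equations
  have heq : ∀ (b : G) (hb : b ∈ Subgroup.centralizer ((P : Subgroup G) : Set G)),
      Odd (orderOf b) → ∀ i : Fin 3, i ≠ 0 → ∀ c : (Subgroup.centralizer ({t} : Set G)),
      (c : G) = (ρ ^ (i : ℕ))⁻¹ * b * ρ ^ (i : ℕ) →
      -L ⟨b, h.rot.centralizer_le hb⟩ = L c - (ψ : (Subgroup.centralizer ({t} : Set G)) → ℂ) c ∧
        (χ : G → ℂ) b = L c + (ψ : (Subgroup.centralizer ({t} : Set G)) → ℂ) c := by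
    intro b hb hbo i hi c hc
    have hv : vv t ρ i ∈ (Subgroup.centralizer ({t} : Set G)) := h.le_centralizer (h.vv_mem i)
    have e1 := hRL (⟨vv t ρ i, hv⟩ * ⟨b, h.rot.centralizer_le hb⟩)
    rw [hLmul, (hrefl i hi hv).1,
      show (⟨vv t ρ i, hv⟩ : (Subgroup.centralizer ({t} : Set G))) * ⟨b, h.rot.centralizer_le hb⟩ =
        ⟨b, h.rot.centralizer_le hb⟩ * ⟨vv t ρ i, hv⟩ from hcen b hb hbo _,
      apply_central_mul ψ (hcen b hb hbo), (hrefl i hi hv).2] at e1
    simp only [Subgroup.coe_mul, mul_zero, zero_div, add_zero] at e1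
    rw [← Subgroup.mem_centralizer_iff.1 hb _ (h.vv_mem i), apply_vv_mul, ← hc] at e1
    have e2 := hRL (tc * c)
    rw [(hflip c).1, (hflip c).2, show ((tc * c : (Subgroup.centralizer ({t} : Set G))) : G) = t * (c : G) from rfl, e1] at e2
    refine ⟨by linear_combination e2, ?_⟩
    rw [← hRL c, hc, ← irr_isClassFunction χ b (ρ ^ (i : ℕ))⁻¹, inv_inv]
  obtain ⟨b, hb⟩ : ∃ b, b = (ρ ^ 1)⁻¹ * a * ρ ^ 1 := ⟨_, rfl⟩
  obtain ⟨c, hc⟩ : ∃ c, c = (ρ ^ 2)⁻¹ * a * ρ ^ 2 := ⟨_, rfl⟩
  have hbP : b ∈ Subgroup.centralizer ((P : Subgroup G) : Set G) := hb ▸ h.rot_mem 1 ha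
  have hcP : c ∈ Subgroup.centralizer ((P : Subgroup G) : Set G) := hc ▸ h.rot_mem 2 ha
  have hbo : Odd (orderOf b) := hb ▸ odd_rot 1 hodd
  set A : (Subgroup.centralizer ({t} : Set G)) := ⟨a, h.rot.centralizer_le ha⟩ with hA
  set Bc : (Subgroup.centralizer ({t} : Set G)) := ⟨b, h.rot.centralizer_le hbP⟩
  set Cc : (Subgroup.centralizer ({t} : Set G)) := ⟨c, h.rot.centralizer_le hcP⟩
  have q1 := heq a ha hodd 1 (by decide) Bc (by simpa using hb)
  have q2 := heq a ha hodd 2 (by decide) Cc (by simpa using hc)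
  have q3 := heq b hbP hbo 1 (by decide) Cc (by
    show c = _
    simp only [hc, hb, Fin.val_one, pow_one, pow_two]
    group)
  have hAB : L A = L Bc := by linear_combination q3.1 - q2.1
  have hval : (χ : G → ℂ) a = 3 * L A := by linear_combination q1.2 + q1.1 - 2 * hAB
  have hnorm : ‖L A‖ = 1 := by
    obtain ⟨k, hk⟩ := hodd
    have hpow : ∀ j : ℕ, L (A ^ j) = L A ^ j := fun j => by
      induction j with
      | zero => simp [hL1]
      | succ j ih => rw [pow_succ, hLmul, ih, pow_succ]
    refine Complex.norm_eq_one_of_pow_eq_one (n := orderOf A) ?_ (orderOf_pos A).ne'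
    rw [← hpow, pow_orderOf_eq_one, hL1]
  exact ha1 (eq_one_of_norm_eq hG χ hne1 (by rw [hval, h3, norm_mul, hnorm, mul_one]))

end Three

end Cfsg.Agent.GW.Separation
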