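import Mathlib
import Cfsg.Agent.Lib.GW.KleinFamily
import Cfsg.Agent.Lib.GW.KleinThree
import Cfsg.Agent.Lib.GW.KleinArith

/-!
# No rotated family of linear characters

In a simple group with Klein four Sylow subgroup `P`, linear characters of `C(t)` trivial on `P`
and permuted by the rotation on `C(P)` are trivial on `C(P)`.
-/

set_option autoImplicit false
set_option linter.style.haveILetI false
set_option linter.unusedSectionVars false

open scoped Classical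

namespace Cfsg.Agent.GW.Separation

open Cfsg.Agent.Characters Cfsg.Agent.GW.LinearTwist
open scoped ComplexConjugate

universe u

variable {G : Type u} [Group G] [Fintype G] {P : Sylow 2 G} {t ρ : G}
  {O : Subgroup (Subgroup.centralizer ({t} : Set G))} {h : KleinCore P t ρ O}
  {θ : Fin 3 → Subgroup.centralizer ({t} : Set G) →* ℂˣ}

/-- A linear character of a simple group is trivial. -/
theorem eq_trivIrr [IsSimpleGroup G] (hG : ¬ IsMulCommutative G) (χ : Cfsg.IrrCharacter G)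
    (h1 : (χ : G → ℂ) 1 = 1) : χ = trivIrr G := by
  have hm := char_mul_of_degree_one (irr_isCharacter χ) h1
  let f : G →* ℂ := { toFun := (χ : G → ℂ), map_one' := h1, map_mul' := hm }
  apply Subtype.ext
  funext x
  show f x = (1 : ℂ)
  have := congrArg Units.val (SmallSimple.Basic.hom_eq_one hG f.toHomUnits x)
  simpa using this

/-- The supporting characters have odd degree at least five. -/
theorem degree_bound [IsSimpleGroup G] (hG : ¬ IsMulCommutative G) (h : KleinCore P t ρ O)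
    {a : G} (ha : a ∈ Subgroup.centralizer ((P : Subgroup G) : Set G)) (hodd : Odd (orderOf a))
    (ha1 : a ≠ 1) (χ : Cfsg.IrrCharacter G) (hχ : χ ≠ trivIrr G) {w : ℤ}
    (hw : (χ : G → ℂ) t = (w : ℂ)) (hwodd : Odd w) {x : ℕ} (hx : (χ : G → ℂ) 1 = (x : ℂ)) :
    5 ≤ x ∧ (4 : ℤ) ∣ x - w := by
  obtain ⟨n, hn⟩ := h.exists_nat χ
  rw [hw, hx] at hn
  have hn' : (x : ℤ) + 3 * w = 4 * n := by exact_mod_cast hn
  refine ⟨?_, ⟨n - w, by linarith⟩⟩
  obtain ⟨c, hc⟩ := hwodd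
  have hx1 : x ≠ 1 := fun e => hχ (eq_trivIrr hG χ (by rw [hx, e, Nat.cast_one]))
  have hx3 : x ≠ 3 := fun e =>
    ha1 (eq_one_of_degree_three hG h χ (by rw [hx, e]; norm_num) ha hodd)
  omega

/-- The weighted sum restricted to the support. -/
theorem weight_cast [Fintype (Cfsg.IrrCharacter G)] {S : Finset (Cfsg.IrrCharacter G)}
    {z w : Cfsg.IrrCharacter G → ℤ} {x : Cfsg.IrrCharacter G → ℕ}
    (hx : ∀ χ : Cfsg.IrrCharacter G, (χ : G → ℂ) 1 = (x χ : ℂ))
    (hw : ∀ χ ∈ S, ((χ : Cfsg.IrrCharacter G) : G → ℂ) t = (w χ : ℂ))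
    (hS : ∀ χ ∉ S, z χ = 0) :
    ∑ χ : Cfsg.IrrCharacter G, (χ : G → ℂ) t ^ 2 / (χ : G → ℂ) 1 * (z χ : ℂ) =
      ((∑ χ ∈ S, ((w χ ^ 2 * z χ : ℤ) : ℚ) / x χ : ℚ) : ℂ) := by
  rw [← Finset.sum_subset (Finset.subset_univ S) fun χ _ hχ => by rw [hS χ hχ]; simp]
  push_cast
  exact Finset.sum_congr rfl fun χ hχ => by rw [hx, hw χ hχ]; ring

/-- The principal columns. -/
theorem principal_weight [IsSimpleGroup G] [Fintype (Cfsg.IrrCharacter G)]
    (hG : ¬ IsMulCommutative G) (h : KleinCore P t ρ O)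
    {a : G} (ha : a ∈ Subgroup.centralizer ((P : Subgroup G) : Set G)) (hodd : Odd (orderOf a))
    (ha1 : a ≠ 1) :
    ∃ W : ℚ, (3 / 5 < W ∧ W < 7 / 5 ∧ W ≠ 8 / 7 ∧ W ≠ 8 / 11) ∧
      ∑ χ : Cfsg.IrrCharacter G, (χ : G → ℂ) t ^ 2 / (χ : G → ℂ) 1 *
        BlockIdentity.coef O (χ : G → ℂ)
          (fun x => ((1 : Subgroup.centralizer ({t} : Set G) →* ℂˣ) x : ℂ)) = (W : ℂ) := by
  haveI := h.normal
  choose x hx using fun χ : Cfsg.IrrCharacter G => char_one_nat (irr_isCharacter χ)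
  have F := family_one h
  obtain ⟨J, z, hJ, hz, hpar, hval⟩ := F.exists_coef
  have hJ0 : J = {0} := by
    rcases hJ with ⟨e, -⟩ | ⟨-, e⟩
    · exact e
    · exact absurd (e 0 1 fun _ => rfl) (by decide)
  obtain ⟨S, hS4, hS0, hS1⟩ := F.signs hz hpar
  have hval' : ∀ χ ∈ S, (χ : G → ℂ) t = (z χ 0 : ℂ) := fun χ hχ => by
    rw [hval χ ⟨0, by rcases hS1 χ hχ 0 with e | e <;> rw [e] <;> norm_num⟩, hJ0,
      Finset.sum_singleton]
  have hzt : z (trivIrr G) 0 = 1 := by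
    have h' : BlockIdentity.coef O ((trivIrr G : Cfsg.IrrCharacter G) : G → ℂ)
        (fun x => ((1 : Subgroup.centralizer ({t} : Set G) →* ℂˣ) x : ℂ)) = 1 := by
      rw [BlockIdentity.coef, classInner_def]
      simp [trivIrr, Nat.card_eq_fintype_card]
    rw [hz] at h'
    exact_mod_cast h'
  have htS : trivIrr G ∈ S := by
    by_contra hn
    rw [hS0 _ hn 0] at hzt
    exact zero_ne_one hzt
  have hxt : x (trivIrr G) = 1 := by
    have := hx (trivIrr G)
    simp only [trivIrr] at this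
    exact_mod_cast this.symm
  obtain ⟨p, q, r, hpq, hpr, hqr, hpqr⟩ := Finset.card_eq_three.1
    (show (S.erase (trivIrr G)).card = 3 by rw [Finset.card_erase_of_mem htS, hS4])
  have hmem : ∀ χ ∈ ({p, q, r} : Finset (Cfsg.IrrCharacter G)), χ ∈ S ∧ χ ≠ trivIrr G := by
    intro χ hχ
    rw [← hpqr, Finset.mem_erase] at hχ
    exact ⟨hχ.2, hχ.1⟩
  have hdata : ∀ χ ∈ ({p, q, r} : Finset (Cfsg.IrrCharacter G)),
      (z χ 0 = 1 ∨ z χ 0 = -1) ∧ 5 ≤ x χ ∧ (4 : ℤ) ∣ x χ - z χ 0 := by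
    intro χ hχ
    obtain ⟨hχS, hχt⟩ := hmem χ hχ
    refine ⟨hS1 χ hχS 0, degree_bound hG h ha hodd ha1 χ hχt (hval' χ hχS) ?_ (hx χ)⟩
    rcases hS1 χ hχS 0 with e | e <;> rw [e] <;> decide
  obtain ⟨hcp, hxp, hmp⟩ := hdata p (by simp)
  obtain ⟨hcq, hxq, hmq⟩ := hdata q (by simp)
  obtain ⟨hcr, hxr, hmr⟩ := hdata r (by simp)
  have hsum : 1 + (z p 0 * x p + z q 0 * x q + z r 0 * x r) = 0 := by
    have h0 := h.coef_degree (1 : Subgroup.centralizer ({t} : Set G) →* ℂˣ)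
    simp only [fun χ => hz χ 0, hx] at h0
    rw [← Finset.sum_subset (Finset.subset_univ S) (fun χ _ hχ => by rw [hS0 χ hχ 0]; simp),
      ← Finset.add_sum_erase S _ htS, hpqr, Finset.sum_insert (by simp [hpq, hpr]),
      Finset.sum_insert (by simp [hqr]), Finset.sum_singleton, hzt, hxt] at h0
    simp only [Int.cast_one, Nat.cast_one, mul_one, ← add_assoc] at h0
    have : ((1 + (z p 0 * x p + z q 0 * x q + z r 0 * x r) : ℤ) : ℂ) = 0 := by
      push_cast; linear_combination h0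
    exact_mod_cast this
  refine ⟨_, KleinArith.principal_bounds hcp hcq hcr hxp hxq hxr hmp hmq hmr hsum rfl, ?_⟩
  rw [Finset.sum_congr rfl fun χ _ => by rw [hz χ 0],
    weight_cast hx hval' (fun χ hχ => hS0 χ hχ 0)]
  congr 1
  have hcube : ∀ χ ∈ S, ((z χ 0 ^ 2 * z χ 0 : ℤ) : ℚ) = (z χ 0 : ℚ) := fun χ hχ => by
    rcases hS1 χ hχ 0 with e | e <;> rw [e] <;> norm_num
  rw [Finset.sum_congr rfl (g := fun χ => (z χ 0 : ℚ) / x χ) fun χ hχ => by rw [hcube χ hχ],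
    ← Finset.add_sum_erase S _ htS, hpqr, Finset.sum_insert (by simp [hpq, hpr]),
    Finset.sum_insert (by simp [hqr]), Finset.sum_singleton, hzt, hxt]
  push_cast
  ring

/-- Rotated linear characters are trivial on the odd part of `C(P)`. -/
theorem Family.apply_eq_one [IsSimpleGroup G] (hG : ¬ IsMulCommutative G) (F : Family h θ) {a : G}
    (ha : a ∈ Subgroup.centralizer ((P : Subgroup G) : Set G)) (hodd : Odd (orderOf a)) :
    θ 0 ⟨a, h.rot.centralizer_le ha⟩ = 1 := by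
  haveI := h.normal
  haveI := Fintype.ofFinite (Cfsg.IrrCharacter G)
  by_contra hne
  have ha1 : a ≠ 1 := fun e => hne (by
    rw [show (⟨a, h.rot.centralizer_le ha⟩ : Subgroup.centralizer ({t} : Set G)) = 1 from
      Subtype.ext e, map_one])
  choose x hx using fun χ : Cfsg.IrrCharacter G => char_one_nat (irr_isCharacter χ)
  obtain ⟨W, ⟨hl, hu, h7, h11⟩, hW⟩ := principal_weight hG h ha hodd ha1
  obtain ⟨J, z, hJ, hz, hpar, hval⟩ := F.exists_coef
  obtain ⟨S, hS4, hS0, hS1⟩ := F.signs hz hpar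
  have hval' : ∀ χ ∈ S, (χ : G → ℂ) t = ((∑ j ∈ J, z χ j : ℤ) : ℂ) := fun χ hχ =>
    hval χ ⟨0, by rcases hS1 χ hχ 0 with e | e <;> rw [e] <;> norm_num⟩
  have htS : trivIrr G ∉ S := by
    intro hmem
    have h' : BlockIdentity.coef O ((trivIrr G : Cfsg.IrrCharacter G) : G → ℂ)
        (fun x => (θ 0 x : ℂ)) = 0 := by
      rw [BlockIdentity.coef]
      refine classInner_isIrr_ne isIrrCharacter_one
        (isIrrCharacter_linear ((θ 0).comp O.subtype)) fun e => hne ?_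
      exact Units.ext (congrFun e ⟨_, h.mem_O ha hodd⟩).symm
    rw [hz] at h'
    have h0 : z (trivIrr G) 0 = 0 := by exact_mod_cast h'
    rcases hS1 _ hmem 0 with e | e <;> omega
  have hJodd : ∀ χ ∈ S, Odd (∑ j ∈ J, z χ j) := fun χ hχ => by
    rcases hJ with ⟨e, -⟩ | ⟨e, -⟩ <;> rw [e]
    · rw [Finset.sum_singleton]
      rcases hS1 χ hχ 0 with e | e <;> rw [e] <;> decide
    · rw [Fin.sum_univ_three]
      rcases hS1 χ hχ 0 with e0 | e0 <;> rcases hS1 χ hχ 1 with e1 | e1 <;>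
        rcases hS1 χ hχ 2 with e2 | e2 <;> rw [e0, e1, e2] <;> decide
  have hdata : ∀ χ ∈ S, 5 ≤ x χ ∧ (4 : ℤ) ∣ x χ - ∑ j ∈ J, z χ j := fun χ hχ =>
    degree_bound hG h ha hodd ha1 χ (fun e => htS (e ▸ hχ)) (hval' χ hχ) (hJodd χ hχ) (hx χ)
  have hdeg : ∀ i, ∑ χ ∈ S, z χ i * (x χ : ℤ) = 0 := fun i => by
    have h0 := h.coef_degree (θ i)
    simp only [hz, hx] at h0
    rw [← Finset.sum_subset (Finset.subset_univ S) (fun χ _ hχ => by rw [hS0 χ hχ i]; simp)] at h0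
    exact_mod_cast h0
  have hweight : ∀ i, ∑ χ ∈ S, (((∑ j ∈ J, z χ j) ^ 2 * z χ i : ℤ) : ℚ) / x χ = W := fun i => by
    have h0 := (h.weight_eq (θ i) (F.triv i)).trans hW
    rw [Finset.sum_congr rfl fun χ _ => by rw [hz χ i],
      weight_cast hx hval' (fun χ hχ => hS0 χ hχ i)] at h0
    exact_mod_cast h0
  rcases hJ with ⟨rfl, -⟩ | ⟨rfl, hD⟩
  · -- one character
    have hb := KleinArith.four_bound S hS4 (fun χ => z χ 0) x (fun χ hχ => hS1 χ hχ 0)
      (fun χ hχ => (hdata χ hχ).1) (hdeg 0)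
    rw [Finset.sum_congr rfl (g := fun χ => (((∑ j ∈ ({0} : Finset (Fin 3)), z χ j) ^ 2 *
      z χ 0 : ℤ) : ℚ) / x χ) fun χ hχ => ?_, hweight 0] at hb
    · linarith
    · rw [Finset.sum_singleton]
      rcases hS1 χ hχ 0 with e | e <;> rw [e] <;> norm_num
  · -- three characters
    have horth : ∀ i j, i ≠ j → ∑ χ ∈ S, z χ i * z χ j = 0 := fun i j hij => by
      have h0 := h.coef_orth (θ i) (θ j)
      rw [F.inner_eq, if_neg fun e => hij (hD i j fun c => by rw [e]), mul_zero] at h0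
      simp only [hz, map_intCast] at h0
      rw [← Finset.sum_subset (Finset.subset_univ S) (fun χ _ hχ => by rw [hS0 χ hχ i]; simp)]
        at h0
      exact_mod_cast h0
    set K : ℤ := ∑ χ ∈ S, z χ 0 * z χ 1 * z χ 2 * (x χ : ℤ) with hK
    have hsq : ∀ χ ∈ S, ∀ i, z χ i * z χ i = 1 := fun χ hχ i => by
      rcases hS1 χ hχ i with e | e <;> rw [e] <;> norm_num
    have hconst : ∀ χ ∈ S, 4 * (z χ 0 * z χ 1 * z χ 2 * (x χ : ℤ)) = K := by
      intro χ₀ h₀
      set A : ℤ := z χ₀ 0 * z χ₀ 1 with hA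
      set B : ℤ := z χ₀ 0 * z χ₀ 2 with hB
      set T : Cfsg.IrrCharacter G → ℤ := fun χ =>
        (1 + A * (z χ 0 * z χ 1)) * (1 + B * (z χ 0 * z χ 2)) with hT
      have hT0 : T χ₀ = 4 := by
        simp only [hT, hA, hB]
        rcases hS1 χ₀ h₀ 0 with e0 | e0 <;> rcases hS1 χ₀ h₀ 1 with e1 | e1 <;>
          rcases hS1 χ₀ h₀ 2 with e2 | e2 <;> rw [e0, e1, e2] <;> norm_num
      have hTnn : ∀ χ ∈ S, 0 ≤ T χ := fun χ hχ => by
        simp only [hT, hA, hB]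
        rcases hS1 χ₀ h₀ 0 with e0 | e0 <;> rcases hS1 χ₀ h₀ 1 with e1 | e1 <;>
          rcases hS1 χ₀ h₀ 2 with e2 | e2 <;> rcases hS1 χ hχ 0 with f0 | f0 <;>
          rcases hS1 χ hχ 1 with f1 | f1 <;> rcases hS1 χ hχ 2 with f2 | f2 <;>
          rw [e0, e1, e2, f0, f1, f2] <;> norm_num
      have hTsum : ∑ χ ∈ S, T χ = 4 := by
        rw [Finset.sum_congr rfl (g := fun χ => 1 + A * (z χ 0 * z χ 1) + B * (z χ 0 * z χ 2) +
          A * B * (z χ 1 * z χ 2)) fun χ hχ => by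
            simp only [hT]; linear_combination A * B * z χ 1 * z χ 2 * hsq χ hχ 0]
        simp only [Finset.sum_add_distrib, ← Finset.mul_sum, horth 0 1 (by decide),
          horth 0 2 (by decide), horth 1 2 (by decide)]
        simp [hS4]
      have hTz : ∀ χ ∈ S, χ ≠ χ₀ → T χ = 0 := fun χ hχ hne => by
        rw [← Finset.add_sum_erase S _ h₀, hT0] at hTsum
        exact (Finset.sum_eq_zero_iff_of_nonneg fun ψ hψ =>
          hTnn ψ (Finset.mem_of_mem_erase hψ)).1 (by linarith) χ (Finset.mem_erase.2 ⟨hne, hχ⟩)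
      have hmain : ∑ χ ∈ S, z χ 0 * (x χ : ℤ) * T χ = A * B * K := by
        rw [Finset.sum_congr rfl (g := fun χ => z χ 0 * (x χ : ℤ) + A * (z χ 1 * (x χ : ℤ)) +
          B * (z χ 2 * (x χ : ℤ)) + A * B * (z χ 0 * z χ 1 * z χ 2 * (x χ : ℤ))) fun χ hχ => by
            simp only [hT]
            linear_combination (A * z χ 1 * (x χ : ℤ) + B * z χ 2 * (x χ : ℤ) +
              A * B * z χ 0 * z χ 1 * z χ 2 * (x χ : ℤ)) * hsq χ hχ 0]
        simp only [Finset.sum_add_distrib, ← Finset.mul_sum, hdeg, hK]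
        ring
      rw [Finset.sum_eq_single χ₀ (fun χ hχ hne => by rw [hTz χ hχ hne, mul_zero])
        (fun hn => absurd h₀ hn), hT0] at hmain
      have hAB : A * B = z χ₀ 1 * z χ₀ 2 := by
        simp only [hA, hB]; linear_combination z χ₀ 1 * z χ₀ 2 * hsq χ₀ h₀ 0
      rw [hAB] at hmain
      linear_combination (z χ₀ 1 * z χ₀ 2) * hmain +
        K * z χ₀ 2 * z χ₀ 2 * hsq χ₀ h₀ 1 + K * hsq χ₀ h₀ 2
    obtain ⟨χ₁, h₁⟩ := Finset.card_pos.1 (show 0 < S.card by omega)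
    set y := x χ₁ with hy
    set p : ℤ := z χ₁ 0 * z χ₁ 1 * z χ₁ 2 with hp
    have hp1 : p = 1 ∨ p = -1 := by
      rcases hS1 χ₁ h₁ 0 with e0 | e0 <;> rcases hS1 χ₁ h₁ 1 with e1 | e1 <;>
        rcases hS1 χ₁ h₁ 2 with e2 | e2 <;> rw [hp, e0, e1, e2] <;> norm_num
    have hsame : ∀ χ ∈ S, x χ = y ∧ z χ 0 * z χ 1 * z χ 2 = p := by
      intro χ hχ
      have e := (hconst χ hχ).trans (hconst χ₁ h₁).symm
      rw [← hp, ← hy] at e
      have h5 := (hdata χ hχ).1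
      have h5' := (hdata χ₁ h₁).1
      rw [← hy] at h5'
      have hq : z χ 0 * z χ 1 * z χ 2 = 1 ∨ z χ 0 * z χ 1 * z χ 2 = -1 := by
        rcases hS1 χ hχ 0 with e0 | e0 <;> rcases hS1 χ hχ 1 with e1 | e1 <;>
          rcases hS1 χ hχ 2 with e2 | e2 <;> rw [e0, e1, e2] <;> norm_num
      rcases hq with q | q <;> rcases hp1 with q' | q' <;> rw [q, q'] at e <;>
        refine ⟨?_, ?_⟩ <;> omega
    have hzero : ∀ i, ∑ χ ∈ S, z χ i = 0 := fun i => by
      have h0 := hdeg i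
      rw [Finset.sum_congr rfl fun χ hχ => by rw [(hsame χ hχ).1], ← Finset.sum_mul] at h0
      exact (mul_eq_zero.1 h0).resolve_right (by
        have := (hdata χ₁ h₁).1; rw [← hy] at this; omega)
    have hint : ∑ χ ∈ S, (∑ j, z χ j) ^ 2 * z χ 0 = 8 * p := by
      rw [Finset.sum_congr rfl (g := fun χ => 3 * z χ 0 + 2 * z χ 1 + 2 * z χ 2 + 2 * p)
        fun χ hχ => by
          rw [← (hsame χ hχ).2, Fin.sum_univ_three]
          linear_combination (z χ 0 + 2 * z χ 1 + 2 * z χ 2) * hsq χ hχ 0 +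
            z χ 0 * hsq χ hχ 1 + z χ 0 * hsq χ hχ 2]
      simp only [Finset.sum_add_distrib, ← Finset.mul_sum, hzero, Finset.sum_const, hS4]
      ring
    have hWy : W = 8 * (p : ℚ) / y := by
      rw [← hweight 0, Finset.sum_congr rfl fun χ hχ => by rw [(hsame χ hχ).1], ← Finset.sum_div,
        ← Int.cast_sum, hint, Int.cast_mul, Int.cast_ofNat]
    refine KleinArith.moved_bound (hdata χ₁ h₁).1 hp1 (fun e => ?_) hWy hl hu h7 h11
    have hd := (hdata χ₁ h₁).2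
    rw [Fin.sum_univ_three, ← hy] at hd
    rw [hp] at e
    rcases hS1 χ₁ h₁ 0 with e0 | e0 <;> rcases hS1 χ₁ h₁ 1 with e1 | e1 <;>
      rcases hS1 χ₁ h₁ 2 with e2 | e2 <;> rw [e0, e1, e2] at hd e <;> omega

end Cfsg.Agent.GW.Separation
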