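import Mathlib
import Cfsg.Agent.Lib.GW.KleinFixedChar
import Cfsg.Agent.S0205

/-!
# A normal complement of `C_O(P)` forces `C_O(P) = 1`

In a simple group with Klein four Sylow subgroup `P`, if `O` is the product of `C_O(P)` and a
normal subgroup of `C(t)` meeting it trivially, then `C_O(P)` is trivial.
-/

set_option autoImplicit false
set_option linter.style.haveILetI false
set_option linter.unusedSectionVars false

open scoped Classical

namespace Cfsg.Agent.GW.Separation

open Cfsg.Agent.Characters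

universe u

variable {G : Type u} [Group G] [Fintype G] {P : Sylow 2 G} {t ρ : G}
  {O : Subgroup (Subgroup.centralizer ({t} : Set G))}

/-- A nontrivial group of odd order has a nontrivial linear character. -/
theorem exists_linear_ne_one {Q : Type u} [Group Q] [Finite Q] [Nontrivial Q]
    (hQ : Odd (Nat.card Q)) : ∃ μ : Q →* ℂˣ, μ ≠ 1 := by
  haveI : Group.IsSolvable Q := Cfsg.Agent.S0205.result hQ
  have hidx : 1 < (commutator Q).index :=
    Nat.lt_of_le_of_ne (Nat.one_le_iff_ne_zero.2 (commutator Q).index_ne_zero_of_finite)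
      fun e => (Group.IsSolvable.commutator_lt_top_of_nontrivial Q).ne
        (Subgroup.index_eq_one.1 e.symm)
  rw [← card_linear_hom] at hidx
  haveI : Finite (Q →* ℂˣ) := Nat.finite_of_card_ne_zero (by omega)
  haveI := Finite.one_lt_card_iff_nontrivial.1 hidx
  exact exists_ne 1

/-- A normal complement of `C_O(P)` leaves nothing to centralise `P`. -/
theorem KleinCore.eq_one_of_complement [IsSimpleGroup G] (hG : ¬ IsMulCommutative G)
    (h : KleinCore P t ρ O) (N : Subgroup (Subgroup.centralizer ({t} : Set G))) [N.Normal]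
    (hdisj : ∀ x ∈ N, (x : G) ∈ Subgroup.centralizer ((P : Subgroup G) : Set G) → x = 1)
    (hsup : ∀ s ∈ O, ∃ n ∈ N, ∃ b ∈ O,
      (b : G) ∈ Subgroup.centralizer ((P : Subgroup G) : Set G) ∧ s = n * b)
    {a : G} (ha : a ∈ Subgroup.centralizer ((P : Subgroup G) : Set G)) (hodd : Odd (orderOf a)) :
    a = 1 := by
  by_contra ha1
  set K := Subgroup.centralizer ((P : Subgroup G) : Set G) with hK
  have hPK : (P : Subgroup G) ≤ K := fun v hv =>
    Subgroup.mem_centralizer_iff.2 fun w hw => h.rot.comm w hw v hv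
  let j : K →* Subgroup.centralizer ({t} : Set G) := Subgroup.inclusion h.rot.centralizer_le
  let π : K →* Subgroup.centralizer ({t} : Set G) ⧸ N := (QuotientGroup.mk' N).comp j
  have hinj : Function.Injective π := by
    refine (injective_iff_map_eq_one π).2 fun x hx => ?_
    have := hdisj (j x) ((QuotientGroup.eq_one_iff _).1 hx) x.2
    exact Subtype.ext (congrArg (fun z : Subgroup.centralizer ({t} : Set G) => (z : G)) this)
  have hsurj : Function.Surjective π := fun q => by
    obtain ⟨x, rfl⟩ := QuotientGroup.mk'_surjective N q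
    obtain ⟨v, hv, s, hx⟩ := h.decomp x
    obtain ⟨n, hn, b, -, hbK, hs⟩ := hsup s s.2
    set v' : Subgroup.centralizer ({t} : Set G) := ⟨v, h.le_centralizer hv⟩
    refine ⟨⟨v * b, mul_mem (hPK hv) hbK⟩, ?_⟩
    have hx' : x = v' * n * v'⁻¹ * (v' * b) := by
      rw [show x = v' * (s : Subgroup.centralizer ({t} : Set G)) from Subtype.ext hx, hs]
      group
    show (QuotientGroup.mk' N) _ = _
    rw [hx', map_mul (QuotientGroup.mk' N) (v' * n * v'⁻¹) (v' * b),
      (QuotientGroup.eq_one_iff (v' * n * v'⁻¹)).2 (Subgroup.Normal.conj_mem inferInstance n hn v') |>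
        fun e : (QuotientGroup.mk' N) (v' * n * v'⁻¹) = 1 => e, one_mul]
    rfl
  let e := MulEquiv.ofBijective π ⟨hinj, hsurj⟩
  -- a linear character of `K` trivial on `P` and not at `a`
  haveI : ((P : Subgroup G).subgroupOf K).Normal := by
    refine ⟨fun x hx g => ?_⟩
    show (g : G) * x * (g : G)⁻¹ ∈ (P : Subgroup G)
    rw [← Subgroup.mem_centralizer_iff.1 g.2 (x : G) hx, mul_inv_cancel_right]
    exact hx
  have hodd' : Odd (Nat.card (K ⧸ (P : Subgroup G).subgroupOf K)) := by
    haveI : Fact (Nat.Prime 2) := ⟨Nat.prime_two⟩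
    rw [← Subgroup.index_eq_card, ← Nat.not_even_iff_odd, even_iff_two_dvd]
    exact fun h2 => P.not_dvd_index (h2.trans (Subgroup.relIndex_dvd_index_of_le hPK))
  haveI : Nontrivial (K ⧸ (P : Subgroup G).subgroupOf K) := by
    refine ⟨⟨QuotientGroup.mk (⟨a, ha⟩ : K), 1, fun he => ha1 ?_⟩⟩
    have haP : a ∈ (P : Subgroup G) :=
      (QuotientGroup.eq_one_iff (N := (P : Subgroup G).subgroupOf K) (⟨a, ha⟩ : K)).1 he
    rw [← orderOf_eq_one_iff]
    refine Nat.eq_one_of_dvd_coprimes (Nat.coprime_two_right.2 hodd) dvd_rfl ?_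
    exact orderOf_dvd_of_pow_eq_one (by rw [pow_two]; exact h.sq haP)
  obtain ⟨μ, hμ⟩ := exists_linear_ne_one hodd'
  let c : Fin 3 → (K →* K) := fun i =>
    (BlockCharsA.BrauerPairs.conjK (BlockCharsA.BrauerPairs.normalizer_le_normalizer_centralizer _
      (rho_pow_mem h.rot (i : ℕ)))).toMonoidHom
  let θ : Fin 3 → Subgroup.centralizer ({t} : Set G) →* ℂˣ := fun i =>
    ((μ.comp (QuotientGroup.mk' _)).comp (c i)).comp (e.symm.toMonoidHom.comp (QuotientGroup.mk' N))
  have hθ : ∀ (i : Fin 3) (x : K), θ i (j x) = μ (QuotientGroup.mk (c i x)) := fun i x => by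
    show μ (QuotientGroup.mk (c i (e.symm (π x)))) = _
    rw [show e.symm (π x) = x from e.symm_apply_apply x]
  have F : Family h θ := by
    refine ⟨fun i x hx => ?_, fun i x y hy => ?_⟩
    · rw [show x = j ⟨x, hPK hx⟩ from Subtype.ext rfl, hθ]
      have hmem : ((c i ⟨x, hPK hx⟩ : K) : G) ∈ (P : Subgroup G) :=
        (Subgroup.mem_normalizer_iff.1 (rho_pow_mem h.rot (i : ℕ)) x).1 hx
      rw [(QuotientGroup.eq_one_iff (c i ⟨x, hPK hx⟩)).2 hmem, map_one]
    · show θ i (j x) = θ 0 (j y)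
      rw [hθ, hθ]
      congr 2
      apply Subtype.ext
      show ρ ^ (i : ℕ) * x * (ρ ^ (i : ℕ))⁻¹ = ρ ^ 0 * y * (ρ ^ 0)⁻¹
      rw [hy]; group
  refine hμ (MonoidHom.ext fun q => ?_)
  obtain ⟨x, rfl⟩ := QuotientGroup.mk'_surjective _ q
  obtain ⟨v, hv, s, hx⟩ := h.decomp (j x)
  have hx' : (x : G) = v * ((s : Subgroup.centralizer ({t} : Set G)) : G) := hx
  have hsK : ((s : Subgroup.centralizer ({t} : Set G)) : G) ∈ K := by
    rw [show ((s : Subgroup.centralizer ({t} : Set G)) : G) = v⁻¹ * (x : G) by rw [hx']; group]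
    exact mul_mem (inv_mem (hPK hv)) x.2
  have hso : Odd (orderOf ((s : Subgroup.centralizer ({t} : Set G)) : G)) := by
    rw [← Nat.not_even_iff_odd, even_iff_two_dvd]; exact h.odd_coe s
  have h1 := F.apply_eq_one hG hsK hso
  have h2 : θ 0 (j ⟨_, hsK⟩) = 1 := h1
  rw [hθ] at h2
  have hc : c 0 ⟨_, hsK⟩ = ⟨_, hsK⟩ := Subtype.ext (by
    show ρ ^ 0 * _ * (ρ ^ 0)⁻¹ = _
    group)
  rw [hc] at h2
  rw [show x = (⟨v, hPK hv⟩ : K) * ⟨_, hsK⟩ from Subtype.ext hx', map_mul, map_mul,
    MonoidHom.one_apply]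
  have hv1 : (QuotientGroup.mk' ((P : Subgroup G).subgroupOf K)) ⟨v, hPK hv⟩ = 1 :=
    (QuotientGroup.eq_one_iff _).2 hv
  rw [hv1, map_one, one_mul]
  exact h2

end Cfsg.Agent.GW.Separation
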