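import Mathlib
import Cfsg.Agent.Lib.GW.BenderPure
import Cfsg.Agent.Lib.GW.KleinComplement

/-!
# All reflections scalar on every core: the Klein four case

For a Klein four Sylow subgroup the pure case needs neither the hypothesis on linear characters of
the core nor maximality of the centralizer: the part of the core inverted by a reflection is a
normal complement of its fixed points.
-/

set_option autoImplicit false
set_option linter.style.haveILetI false
set_option linter.unusedSectionVars false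

namespace Cfsg.Agent.GW.Bender

open Subgroup Cfsg.Agent.Involutions

universe u

variable {G : Type u} [Group G] [Fintype G]

namespace Data

variable (d : Data G)

theorem sq_of_two (hm : d.m = 2) {v : G} (hv : v ∈ (d.S : Subgroup G)) : v * v = 1 := by
  have key : ∀ n, n = 2 → ∀ x : DihedralGroup n, x * x = 1 := by
    rintro n rfl (j | j)
    · have : ∀ j : ZMod 2, j + j = 0 := by decide
      rw [DihedralGroup.r_mul_r, this, DihedralGroup.r_zero]
    · rw [DihedralGroup.sr_mul_self]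
  have := key d.m hm (d.e ⟨v, hv⟩)
  rw [← map_mul, ← map_one d.e] at this
  exact congrArg Subtype.val (d.e.injective this)

theorem comm_of_two (hm : d.m = 2) {v w : G} (hv : v ∈ (d.S : Subgroup G))
    (hw : w ∈ (d.S : Subgroup G)) : v * w = w * v := by
  have h := d.sq_of_two hm (mul_mem hv hw)
  calc v * w = (v * w)⁻¹ := eq_inv_of_mul_eq_one_left h
    _ = w⁻¹ * v⁻¹ := mul_inv_rev v w
    _ = w * v := by
      rw [inv_eq_of_mul_eq_one_right (d.sq_of_two hm hw),
        inv_eq_of_mul_eq_one_right (d.sq_of_two hm hv)]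

theorem mem_four_of_two (hm : d.m = 2) (i : ZMod d.m) {v : G} (hv : v ∈ (d.S : Subgroup G)) :
    v = 1 ∨ v = d.t ∨ v = d.u i ∨ v = d.t * d.u i := by
  have key : ∀ n, n = 2 → ∀ (i : ZMod n) (x : DihedralGroup n),
      x = 1 ∨ x = DihedralGroup.r (DihedralEmbedding.half n) ∨ x = DihedralGroup.sr i ∨
        x = DihedralGroup.r (DihedralEmbedding.half n) * DihedralGroup.sr i := by
    rintro n rfl i (j | j)
    · have : j = 0 ∨ j = DihedralEmbedding.half 2 := by revert j; decide
      rcases this with rfl | rfl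
      · exact Or.inl DihedralGroup.r_zero
      · exact Or.inr (Or.inl rfl)
    · rw [DihedralGroup.r_mul_sr]
      have : j = i ∨ j = i - DihedralEmbedding.half 2 := by revert i j; decide
      rcases this with rfl | rfl
      · exact Or.inr (Or.inr (Or.inl rfl))
      · exact Or.inr (Or.inr (Or.inr rfl))
  have hv' : v = ((d.e.symm (d.e ⟨v, hv⟩) : (d.S : Subgroup G)) : G) := by
    rw [MulEquiv.symm_apply_apply]
  rcases key d.m hm i (d.e ⟨v, hv⟩) with h | h | h | h <;> rw [h] at hv'
  · exact Or.inl (by rw [hv', map_one, OneMemClass.coe_one])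
  · exact Or.inr (Or.inl hv')
  · exact Or.inr (Or.inr (Or.inl hv'))
  · exact Or.inr (Or.inr (Or.inr (by rw [hv', map_mul, Subgroup.coe_mul]; rfl)))

/-- The Klein four setting given by a three-cycle on the involutions of a Klein four Sylow
subgroup. -/
theorem kleinCore_of_two (hm : d.m = 2) {i : ZMod d.m} {g : G} (hg1 : g * d.t * g⁻¹ = d.u i)
    (hg2 : g * d.u i * g⁻¹ = d.t * d.u i) :
    GW.Separation.KleinCore d.S d.t g (Cfsg.oddCore d.H) := by
  haveI : Fact (Nat.Prime 2) := ⟨Nat.prime_two⟩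
  have hu := d.u_mem i
  have ht := d.t_mem
  have hg3 : g * (d.t * d.u i) * g⁻¹ = d.t := by
    rw [show g * (d.t * d.u i) * g⁻¹ = (g * d.t * g⁻¹) * (g * d.u i * g⁻¹) by group, hg1, hg2,
      d.comm_of_two hm ht hu, ← mul_assoc, d.u_sq, one_mul]
  have hconj : ∀ v ∈ (d.S : Subgroup G), g * v * g⁻¹ ∈ (d.S : Subgroup G) ∧
      g * (g * (g * v * g⁻¹) * g⁻¹) * g⁻¹ = v := by
    intro v hv
    rcases d.mem_four_of_two hm i hv with rfl | rfl | rfl | rfl
    · simp
    · rw [hg1, hg2, hg3]; exact ⟨hu, rfl⟩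
    · rw [hg2, hg3, hg1]; exact ⟨mul_mem ht hu, rfl⟩
    · rw [hg3, hg1, hg2]; exact ⟨ht, rfl⟩
  have hrot : GW.Separation.Rotation d.S d.t g := by
    refine ⟨d.t_order, ht, fun a ha b hb => d.comm_of_two hm ha hb,
      mem_normalizer_fintype fun x hx => (hconj x hx).1, mem_centralizer_iff.2 fun v hv => ?_,
      fun v hv ho => ?_⟩
    · refine (mul_inv_eq_iff_eq_mul.1 ?_).symm
      calc g ^ 3 * v * (g ^ 3)⁻¹ = g * (g * (g * v * g⁻¹) * g⁻¹) * g⁻¹ := by
            simp only [pow_succ, pow_zero, one_mul]; group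
        _ = v := (hconj v hv).2
    · rcases d.mem_four_of_two hm i hv with rfl | rfl | rfl | rfl
      · simp at ho
      · exact ⟨0, by simp⟩
      · exact ⟨1, by simpa using hg1.symm⟩
      · refine ⟨2, ?_⟩
        rw [← hg2, ← hg1]
        simp only [Fin.val_two, pow_two, mul_inv_rev]
        group
  haveI : (Cfsg.oddCore d.H).Normal := Cores.pPrimeCore_normal 2
  have hcard : Nat.card (d.S : Subgroup G) = 4 := by
    rw [Nat.card_congr d.e.toEquiv, DihedralGroup.nat_card, hm]
  have hklein : IsKleinFour (d.S : Subgroup G) := by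
    refine ⟨hcard, ?_⟩
    have h2 : Monoid.exponent (d.S : Subgroup G) ∣ 2 :=
      Monoid.exponent_dvd_of_forall_pow_eq_one fun v => Subtype.ext (by
        rw [SubmonoidClass.coe_pow, pow_two]; exact d.sq_of_two hm v.2)
    rcases (Nat.dvd_prime Nat.prime_two).1 h2 with h | h
    · exfalso
      haveI := Monoid.exp_eq_one_iff.1 h
      have := Finite.card_le_one_iff_subsingleton.2 this
      omega
    · exact h
  refine ⟨hrot, hklein, Cores.oddCore_odd, inferInstance, fun x => ?_⟩
  obtain ⟨o, ho, s, hs, he⟩ := d.exists_mul x.2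
  have : s⁻¹ * o * s ∈ d.O := by
    have h := (mem_normalizer_iff.1 (d.H_le_normalizer_O (inv_mem (d.S_le hs))) o).1 ho
    rwa [inv_inv] at h
  obtain ⟨o', ho', hoe⟩ := this
  exact ⟨s, hs, ⟨o', ho'⟩, by rw [he]; show _ = s * (o' : G); rw [show (o' : G) = _ from hoe]; group⟩

variable [IsSimpleGroup G]

/-- The pure case for a Klein four Sylow subgroup. -/
theorem pure_trivial_two (hG : ¬ IsMulCommutative G) (hm : d.m = 2) (hp : d.Pure)
    (i : ZMod d.m) : d.A i = ⊥ := by
  haveI : Fact (Nat.Prime 2) := ⟨Nat.prime_two⟩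
  obtain ⟨g, hg1, hg2⟩ := d.rho i
  have hu := d.u_mem i
  haveI : (Cfsg.oddCore d.H).Normal := Cores.pPrimeCore_normal 2
  have hcore := d.kleinCore_of_two hm hg1 hg2
  -- the part inverted by the reflection
  set U : Set G := {x | ∃ p : ℕ, p.Prime ∧ p ≠ 2 ∧ x ∈ d.P p ∧
    ∀ y ∈ d.P p, d.u i * y * (d.u i)⁻¹ = y⁻¹} with hU
  have hUcomm : ∀ x ∈ U, ∀ y ∈ U, x * y = y * x := by
    rintro x ⟨p, hp', -, hx, hxi⟩ y ⟨q, hq', -, hy, -⟩
    by_cases hpq : p = q
    · subst hpq
      have h1 : (x * y)⁻¹ = x⁻¹ * y⁻¹ := by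
        rw [← hxi _ (mul_mem hx hy), ← hxi x hx, ← hxi y hy]; group
      rw [mul_inv_rev] at h1
      simpa using congrArg (fun z : G => z⁻¹) h1
    · haveI : Fact p.Prime := ⟨hp'⟩
      haveI : Fact q.Prime := ⟨hq'⟩
      exact d.comm_P hpq hx hy
  set N := closure U
  have hNH : N ≤ d.H := (closure_le _).2 fun x ⟨p, _, _, hx, _⟩ => d.P_le p hx
  have hNc : ∀ x ∈ N, ∀ y ∈ N, x * y = y * x := by
    have h1 : N ≤ centralizer U := (closure_le _).2 fun x hx =>
      mem_centralizer_iff.2 fun y hy => hUcomm y hy x hx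
    have h2 : N ≤ centralizer (N : Set G) := (closure_le _).2 fun x hx =>
      mem_centralizer_iff.2 fun y hy => (mem_centralizer_iff.1 (h1 hy) x hx).symm
    exact fun x hx y hy => mem_centralizer_iff.1 (h2 hy) x hx
  have hNinv : ∀ x ∈ N, d.u i * x * (d.u i)⁻¹ = x⁻¹ := by
    intro x hx
    induction hx using closure_induction with
    | mem x hx => obtain ⟨p, -, -, hxp, hxi⟩ := hx; exact hxi x hxp
    | one => simp
    | mul x y hx hy ix iy =>
      rw [show d.u i * (x * y) * (d.u i)⁻¹ = (d.u i * x * (d.u i)⁻¹) * (d.u i * y * (d.u i)⁻¹) by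
        group, ix, iy, ← mul_inv_rev, hNc y hy x hx]
    | inv x _ ix =>
      rw [show d.u i * x⁻¹ * (d.u i)⁻¹ = (d.u i * x * (d.u i)⁻¹)⁻¹ by group, ix]
  have hNn : ∀ h ∈ d.H, ∀ x ∈ N, h * x * h⁻¹ ∈ N := by
    intro h hh x hx
    induction hx using closure_induction with
    | mem x hx =>
      obtain ⟨p, hp', hp2, hxp, hxi⟩ := hx
      exact subset_closure ⟨p, hp', hp2, d.conj_mem_P hh hxp, hxi⟩
    | one => simp
    | mul x y _ _ ix iy =>
      rw [show h * (x * y) * h⁻¹ = (h * x * h⁻¹) * (h * y * h⁻¹) by group]; exact mul_mem ix iy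
    | inv x _ ix =>
      rw [show h * x⁻¹ * h⁻¹ = (h * x * h⁻¹)⁻¹ by group]; exact inv_mem ix
  have hNO : N ≤ d.O := (closure_le _).2 fun x ⟨p, hp', hp2, hx, _⟩ => by
    haveI : Fact p.Prime := ⟨hp'⟩
    exact d.P_le_O hp2 hx
  have hfix : ∀ x ∈ N, d.u i * x = x * d.u i → x = 1 := fun x hx hc =>
    Data.eq_one_of_odd (d.orderOf_odd (hNO hx)) (by rw [← hNinv x hx, hc, mul_inv_cancel_right])
  haveI : (N.subgroupOf d.H).Normal := ⟨fun x hx h => hNn h h.2 x hx⟩
  have hCS : ∀ b ∈ d.H, d.u i * b = b * d.u i → b ∈ centralizer ((d.S : Subgroup G) : Set G) := by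
    intro b hb hbu
    refine mem_centralizer_iff.2 fun v hv => ?_
    have hbt : b * d.t = d.t * b := mem_centralizer_singleton_iff.1 hb
    rcases d.mem_four_of_two hm i hv with rfl | rfl | rfl | rfl
    · rw [one_mul, mul_one]
    · exact hbt.symm
    · exact hbu
    · rw [mul_assoc, hbu, ← mul_assoc, ← hbt, mul_assoc]
  rw [eq_bot_iff]
  rintro a ⟨haO, hau⟩
  refine mem_bot.2 (hcore.eq_one_of_complement hG (N.subgroupOf d.H) ?_ ?_ (a := a) ?_
    (d.orderOf_odd haO))
  · intro x hxN hxK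
    exact Subtype.ext (hfix x hxN (mem_centralizer_iff.1 hxK _ hu))
  · -- the core is the product of the inverted part and the fixed points
    intro x hx
    have hxO : (x : G) ∈ d.O := ⟨x, hx, rfl⟩
    set c := (x : G) * d.u i * (x : G)⁻¹ * (d.u i)⁻¹ with hc
    obtain ⟨hcO, hcF⟩ := d.commutator_mem_fitting hp hxO hu
    rw [← hc] at hcO
    have hci : d.u i * c * (d.u i)⁻¹ = c⁻¹ := by
      rw [hc, d.u_inv]
      simp only [mul_inv_rev, inv_inv, d.u_inv, mul_assoc, d.u_sq, mul_one]
    -- the inverted commutator lies in `N`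
    have hcN : c ∈ N := by
      have hK : c ∈ N ⊔ (d.H ⊓ centralizer ({d.u i} : Set G)) := by
        refine d.mem_of_cores (fun p hp' hp2 f hf => ?_) hcO hcF
        rcases d.scalar_refl hp i hp' hp2 with h | h
        · exact mem_sup_right ⟨d.P_le p hf,
            mem_centralizer_singleton_iff.2 (mul_inv_eq_iff_eq_mul.1 (h f hf)).symm⟩
        · exact mem_sup_left (subset_closure ⟨p, hp', hp2, hf, h⟩)
      have hnorm : d.H ⊓ centralizer ({d.u i} : Set G) ≤ normalizer (N : Set G) := fun b hb =>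
        mem_normalizer_fintype fun z hz => hNn b hb.1 z hz
      rw [← SetLike.mem_coe, coe_mul_of_right_le_normalizer_left _ _ hnorm] at hK
      obtain ⟨n, hn, b, hb, hnb⟩ := hK
      have hnb' : n * b = c := hnb
      have hbu : d.u i * b * (d.u i)⁻¹ = b := mul_inv_eq_iff_eq_mul.2
        (mem_centralizer_singleton_iff.1 hb.2).symm
      have hsq : b * b ∈ N := by
        have e : n⁻¹ * b = b⁻¹ * n⁻¹ := by
          calc n⁻¹ * b = (d.u i * n * (d.u i)⁻¹) * (d.u i * b * (d.u i)⁻¹) := by rw [hNinv n hn, hbu]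
            _ = d.u i * (n * b) * (d.u i)⁻¹ := by group
            _ = b⁻¹ * n⁻¹ := by rw [hnb', hci, ← hnb', mul_inv_rev]
        have e2 : b * b = b * n * b⁻¹ * n⁻¹ := by
          calc b * b = b * (n * (n⁻¹ * b)) := by group
            _ = b * n * b⁻¹ * n⁻¹ := by rw [e]; group
        rw [e2]
        exact mul_mem (hNn b hb.1 n hn) (inv_mem hn)
      have hbb : b * b = 1 := hfix _ hsq (by
        rw [← mul_assoc, (mem_centralizer_singleton_iff.1 hb.2).symm, mul_assoc,
          (mem_centralizer_singleton_iff.1 hb.2).symm, mul_assoc])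
      have hbO : b ∈ d.O := by
        rw [show b = n⁻¹ * c by rw [← hnb']; group]
        exact mul_mem (inv_mem (hNO hn)) hcO
      have hb1 : b = 1 := Data.eq_one_of_odd (d.orderOf_odd hbO) (eq_inv_of_mul_eq_one_left hbb)
      rw [← hnb', hb1, mul_one]
      exact hn
    obtain ⟨k, hk⟩ := (d.orderOf_odd hcO : Odd (orderOf c))
    set y := c ^ (k + 1)
    have hyN : y ∈ N := pow_mem hcN _
    have hy2 : y * y = c := by
      rw [← pow_add, show k + 1 + (k + 1) = orderOf c + 1 by omega, pow_succ, pow_orderOf_eq_one,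
        one_mul]
    have hux : d.u i * (x : G) * (d.u i)⁻¹ = c⁻¹ * x := by
      rw [hc]; group
    refine ⟨⟨y, hNH hyN⟩, hyN, ⟨y⁻¹ * x, mul_mem (inv_mem (hNH hyN)) x.2⟩, ?_, ?_,
      Subtype.ext (by show (x : G) = y * (y⁻¹ * x); group)⟩
    · obtain ⟨y', hy', hye⟩ := hNO hyN
      rw [show (⟨y⁻¹ * (x : G), mul_mem (inv_mem (hNH hyN)) x.2⟩ : d.H) = y'⁻¹ * x from
        Subtype.ext (by show y⁻¹ * (x : G) = (y' : G)⁻¹ * x; rw [show (y' : G) = y from hye])]
      exact mul_mem (inv_mem hy') hx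
    · refine hCS _ (mul_mem (inv_mem (hNH hyN)) x.2) ?_
      refine mul_inv_eq_iff_eq_mul.1 ?_
      calc d.u i * (y⁻¹ * (x : G)) * (d.u i)⁻¹
          = (d.u i * y * (d.u i)⁻¹)⁻¹ * (d.u i * (x : G) * (d.u i)⁻¹) := by group
        _ = y⁻¹ * x := by rw [hNinv y hyN, hux, inv_inv, ← hy2]; group
  · exact hCS a (d.O_le haO) (mem_centralizer_singleton_iff.1 hau).symm

end Data

end Cfsg.Agent.GW.Bender
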