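import Mathlib
import Cfsg.Agent.Lib.GW.BenderKleinPure

/-!
# Central classes: no fixed linear character, Klein four case

If a three-cycle on the involutions of a Klein four Sylow subgroup centralizes their common fixed
points in the core, the core has no nontrivial linear character fixed by the Sylow subgroup.
-/

set_option autoImplicit false
set_option linter.style.haveILetI false
set_option linter.unusedSectionVars false

namespace Cfsg.Agent.GW.Bender

open Subgroup Cfsg.Agent.Involutions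

universe u

variable {G : Type u} [Group G] [Fintype G] [IsSimpleGroup G]

namespace Data

variable (d : Data G)

/-- The stable case for a Klein four Sylow subgroup. -/
theorem noFixedLinear_of_two (hG : ¬ IsMulCommutative G) (hm : d.m = 2) {i : ZMod d.m}
    (hc : d.Central i) : d.NoFixedLinear := by
  haveI : Fact (Nat.Prime 2) := ⟨Nat.prime_two⟩
  obtain ⟨g, hg1, hg2, hgc⟩ := hc
  haveI : (Cfsg.oddCore d.H).Normal := Cores.pPrimeCore_normal 2
  have hcore := d.kleinCore_of_two hm hg1 hg2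
  show d.O ≤ _
  set K := ⁅d.O, d.O⁆ ⊔ ⁅d.O, (d.S : Subgroup G)⁆ with hK
  by_contra hnot
  have hSn : ∀ s ∈ (d.S : Subgroup G), ∀ o ∈ d.O, s * o * s⁻¹ ∈ d.O := fun s hs o ho =>
    (mem_normalizer_iff.1 (d.H_le_normalizer_O (d.S_le hs)) o).1 ho
  have hKO : K ≤ d.O := sup_le (commutator_le.2 fun x hx y hy => by
      rw [commutatorElement_def]
      exact mul_mem (mul_mem (mul_mem hx hy) (inv_mem hx)) (inv_mem hy))
    (commutator_le.2 fun x hx s hs => by
      rw [commutatorElement_def, show x * s * x⁻¹ * s⁻¹ = x * (s * x⁻¹ * s⁻¹) by group]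
      exact mul_mem hx (hSn s hs _ (inv_mem hx)))
  haveI hKn : (K.subgroupOf d.O).Normal := ⟨fun k hk x => by
    have h1 : (x : G) * k * (x : G)⁻¹ * (k : G)⁻¹ ∈ K := by
      rw [← commutatorElement_def]
      exact mem_sup_left (commutator_mem_commutator x.2 k.2)
    show (x : G) * k * (x : G)⁻¹ ∈ K
    have h2 := mul_mem h1 (show (k : G) ∈ K from hk)
    rwa [inv_mul_cancel_right] at h2⟩
  haveI : Nontrivial (d.O ⧸ K.subgroupOf d.O) := by
    obtain ⟨x, hxO, hxK⟩ := Set.not_subset.1 hnot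
    exact ⟨⟨QuotientGroup.mk (⟨x, hxO⟩ : d.O), 1, fun he =>
      hxK ((QuotientGroup.eq_one_iff (N := K.subgroupOf d.O) (⟨x, hxO⟩ : d.O)).1 he)⟩⟩
  obtain ⟨μ, hμ⟩ := GW.Separation.exists_linear_ne_one (Q := d.O ⧸ K.subgroupOf d.O)
    (d.O_odd.of_dvd_nat (Subgroup.card_quotient_dvd_card _))
  -- the character of the centralizer
  choose o ho s hs hos using fun x : d.H => d.exists_mul x.2
  have huniq : ∀ (x : d.H) (o' s' : G), o' ∈ d.O → s' ∈ (d.S : Subgroup G) → (x : G) = o' * s' →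
      o x = o' := fun x o' s' ho' hs' he => by
    have e : o'⁻¹ * o x = s' * (s x)⁻¹ := by
      rw [eq_mul_inv_iff_mul_eq, mul_assoc, ← hos x, he, inv_mul_cancel_left]
    have h1 : Odd (orderOf (o'⁻¹ * o x)) := d.orderOf_odd (mul_mem (inv_mem ho') (ho x))
    have h2 : (o'⁻¹ * o x) * (o'⁻¹ * o x) = 1 := by
      rw [e]; exact d.sq_of_two hm (mul_mem hs' (inv_mem (hs x)))
    exact (inv_mul_eq_one.1 (Data.eq_one_of_odd h1 (eq_inv_of_mul_eq_one_left h2))).symm
  let F : d.H →* d.O ⧸ K.subgroupOf d.O := MonoidHom.mk' (fun x => QuotientGroup.mk ⟨o x, ho x⟩)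
    fun x y => by
      have hxy : o (x * y) = o x * (s x * o y * (s x)⁻¹) :=
        huniq _ _ (s x * s y) (mul_mem (ho x) (hSn _ (hs x) _ (ho y))) (mul_mem (hs x) (hs y))
          (by rw [Subgroup.coe_mul, hos x, hos y]; group)
      rw [← QuotientGroup.mk_mul]
      refine QuotientGroup.eq.2 ?_
      show ((o (x * y))⁻¹ * (o x * o y) : G) ∈ K
      rw [hxy, show (o x * (s x * o y * (s x)⁻¹))⁻¹ * (o x * o y) =
        s x * (o y)⁻¹ * (s x)⁻¹ * o y by group]
      have h1 : o y * s x * (o y)⁻¹ * (s x)⁻¹ ∈ K := by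
        rw [← commutatorElement_def]
        exact mem_sup_right (commutator_mem_commutator (ho y) (hs x))
      have h2 := (hKn.conj_mem ⟨_, hKO h1⟩ h1 (⟨o y, ho y⟩ : d.O)⁻¹ :)
      have h3 : (o y)⁻¹ * (o y * s x * (o y)⁻¹ * (s x)⁻¹) * ((o y)⁻¹)⁻¹ ∈ K := h2
      rwa [show (o y)⁻¹ * (o y * s x * (o y)⁻¹ * (s x)⁻¹) * ((o y)⁻¹)⁻¹ =
        s x * (o y)⁻¹ * (s x)⁻¹ * o y by group] at h3
  let θ : d.H →* ℂˣ := μ.comp F
  have hFS : ∀ x : d.H, (x : G) ∈ (d.S : Subgroup G) → F x = 1 := fun x hx => by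
    show QuotientGroup.mk (⟨o x, ho x⟩ : d.O) = _
    have : o x = 1 := huniq x 1 x (one_mem _) hx (one_mul _).symm
    rw [show (⟨o x, ho x⟩ : d.O) = 1 from Subtype.ext this]
    rfl
  have hFO : ∀ (x : d.H) (hx : (x : G) ∈ d.O), F x = QuotientGroup.mk (⟨x, hx⟩ : d.O) :=
    fun x hx => congrArg QuotientGroup.mk
      (Subtype.ext (huniq x x 1 hx (one_mem _) (mul_one _).symm))
  have hθS : ∀ x : d.H, (x : G) ∈ (d.S : Subgroup G) → θ x = 1 := fun x hx => by
    show μ (F x) = 1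
    rw [hFS x hx, map_one]
  have hu := d.u_mem i
  -- the three conjugate characters are equal
  have fam : GW.Separation.Family hcore (fun _ => θ) := by
    refine ⟨fun _ x hx => hθS x hx, fun j a b hb => ?_⟩
    obtain ⟨oa, hoa, sa, hsa, hae⟩ := d.exists_mul (hcore.rot.centralizer_le a.2)
    have hsaC : sa ∈ centralizer ((d.S : Subgroup G) : Set G) :=
      mem_centralizer_iff.2 fun v hv => d.comm_of_two hm hv hsa
    have hoaC : oa ∈ centralizer ((d.S : Subgroup G) : Set G) := by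
      rw [show oa = (a : G) * sa⁻¹ by rw [hae]; group]
      exact mul_mem a.2 (inv_mem hsaC)
    have hgoa : g ^ (j : ℕ) * oa = oa * g ^ (j : ℕ) :=
      (Commute.pow_left (show Commute g oa from
        hgc oa ⟨hoa, mem_centralizer_singleton_iff.2 (mem_centralizer_iff.1 hoaC _ hu).symm⟩) _).eq
    have hsa' : g ^ (j : ℕ) * sa * (g ^ (j : ℕ))⁻¹ ∈ (d.S : Subgroup G) :=
      (mem_normalizer_iff.1 (pow_mem hcore.rot.normalizes _) sa).1 hsa
    have hb' : (b : G) = oa * (g ^ (j : ℕ) * sa * (g ^ (j : ℕ))⁻¹) := by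
      rw [hb, hae, show g ^ (j : ℕ) * (oa * sa) * (g ^ (j : ℕ))⁻¹ =
        (g ^ (j : ℕ) * oa) * sa * (g ^ (j : ℕ))⁻¹ by group, hgoa]
      group
    show θ ⟨a, hcore.rot.centralizer_le a.2⟩ = θ ⟨b, hcore.rot.centralizer_le b.2⟩
    rw [show (⟨(a : G), hcore.rot.centralizer_le a.2⟩ : d.H) =
        ⟨oa, d.O_le hoa⟩ * ⟨sa, d.S_le hsa⟩ from Subtype.ext hae,
      show (⟨(b : G), hcore.rot.centralizer_le b.2⟩ : d.H) =
        ⟨oa, d.O_le hoa⟩ * ⟨_, d.S_le hsa'⟩ from Subtype.ext hb',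
      map_mul, map_mul, hθS ⟨sa, d.S_le hsa⟩ hsa, hθS ⟨_, d.S_le hsa'⟩ hsa']
  refine hμ (MonoidHom.ext fun q => ?_)
  obtain ⟨x, rfl⟩ := QuotientGroup.mk'_surjective _ q
  obtain ⟨x', hx', hxe⟩ := x.2
  obtain ⟨a, haP, hax⟩ := hcore.exists_fixed_rep θ ⟨x', hx'⟩
  have h1 := fam.apply_eq_one hG haP
    (by rw [← Nat.not_even_iff_odd, even_iff_two_dvd]; exact hcore.odd_coe a)
  have h2 : θ x' = 1 := hax.symm.trans h1
  have hxe' : (x' : G) = x := hxe
  have h3 : θ x' = μ (QuotientGroup.mk x) := by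
    show μ (F x') = _
    rw [hFO x' (hxe' ▸ x.2), show (⟨(x' : G), hxe' ▸ x.2⟩ : d.O) = x from Subtype.ext hxe']
  rw [h3] at h2
  exact h2

end Data

end Cfsg.Agent.GW.Bender
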