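import Cfsg.Agent.Lib.GW.SimpleAssemblyKnown
import Cfsg.Agent.Lib.GW.BenderKleinPure
import Cfsg.Agent.Lib.GW.BenderKleinStable
import Cfsg.Agent.Lib.GW.BenderFrameDefs

/-!
# The dihedral Sylow theorem: assembling the group-theoretic half

`Assembly.TrivialCores` from maximality of `H`, the two character inputs and the component case.
-/

set_option autoImplicit false
set_option linter.style.haveILetI false

namespace Cfsg.Agent.GW.Bender

open Subgroup

universe u

/-- Without bare overgroup either `H` is maximal or all fixed points are trivial. -/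
def MaximalOrTrivial : Prop :=
  ∀ (G : Type u) [Group G] [Finite G] [IsSimpleGroup G] (d : Data G),
    Overgroups.KnownProper G → d.NoBareOvergroup → IsCoatom d.H ∨ ∀ i, d.A i = ⊥

/-- The stable case: central three-cycles exclude fixed linear characters, `|S| ≥ 8`. -/
def StableInput : Prop :=
  ∀ (G : Type u) [Group G] [Finite G] [IsSimpleGroup G] (d : Setting G),
    Overgroups.KnownProper G → 4 ∣ d.m → (∀ i, d.Central i) → d.NoFixedLinear

/-- The pure case with a Sylow 2-subgroup of order 8. -/
def PureEightInput : Prop :=
  ∀ (G : Type u) [Group G] [Finite G] [IsSimpleGroup G] (d : Setting G),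
    Overgroups.KnownProper G → d.m = 4 → d.Pure → d.NoFixedLinear

/-- The facts on proper subgroups with a component. -/
def CompFactsInput : Prop :=
  ∀ (G : Type u) [Group G] [Finite G] [IsSimpleGroup G] (d : Data G),
    Overgroups.KnownProper G → d.HasCompFacts

/-- In the mixed case the action of `S` on the core is stable. -/
def MixedStable : Prop :=
  ∀ (G : Type u) [Group G] [Finite G] [IsSimpleGroup G] (d : Setting G),
    Overgroups.KnownProper G → d.HasCompFacts → ¬ d.Pure → (∀ i, d.Central i) ∧ d.Alike

/-- The mixed case is impossible. -/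
def MixedResidual : Prop :=
  ∀ (G : Type u) [Group G] [Finite G] [IsSimpleGroup G] (d : Setting G),
    Overgroups.KnownProper G → d.HasCompFacts → d.Mixed → False

variable {G : Type u} [Group G] [Finite G]

/-- The order of `S` is a power of two. -/
theorem Data.m_cases (d : Data G) : d.m = 2 ∨ d.m = 4 ∨ 8 ∣ d.m := by
  haveI : Fact (Nat.Prime 2) := ⟨Nat.prime_two⟩
  obtain ⟨k, hk⟩ := IsPGroup.iff_card.1 d.S.2
  rw [Nat.card_congr d.e.toEquiv, DihedralGroup.nat_card] at hk
  have hm := d.two_le
  match k, hk with
  | 0, hk => omega
  | 1, hk => omega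
  | 2, hk => exact Or.inl (by omega)
  | 3, hk => exact Or.inr (Or.inl (by omega))
  | j + 4, hk => exact Or.inr (Or.inr ⟨2 ^ j, by rw [pow_add] at hk; omega⟩)

/-- The pure case in all orders. -/
theorem Setting.pure_case [IsSimpleGroup G] (hS : StableInput.{u}) (h8 : PureEightInput.{u})
    (d : Setting G) (hknown : Overgroups.KnownProper G) (hp : d.Pure) : ∀ i, d.A i = ⊥ := by
  haveI := Fintype.ofFinite G
  rcases d.toData.m_cases with hm | hm | hm
  · exact fun i => d.toData.pure_trivial_two d.not_commutative hm hp i
  · exact d.pure_trivial hp (h8 G d hknown hm hp)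
  · exact d.pure_trivial hp (hS G d hknown (dvd_trans (by norm_num) hm)
      fun i => d.toData.central_of_pure hp hm i)

/-- Central three-cycles exclude fixed linear characters in all orders. -/
theorem Setting.noFixedLinear_of_central [IsSimpleGroup G] (hS : StableInput.{u}) (d : Setting G)
    (hknown : Overgroups.KnownProper G) (hc : ∀ i, d.Central i) : d.NoFixedLinear := by
  haveI := Fintype.ofFinite G
  rcases d.toData.m_cases with hm | hm | hm
  · exact d.toData.noFixedLinear_of_two d.not_commutative hm (hc 0)
  · exact hS G d hknown (hm ▸ dvd_rfl) hc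
  · exact hS G d hknown (dvd_trans (by norm_num) hm) hc

/-- The group-theoretic half of the dihedral Sylow theorem. -/
theorem trivialCores (hmax : MaximalOrTrivial.{u}) (hcf : CompFactsInput.{u}) (hS : StableInput.{u})
    (h8 : PureEightInput.{u}) (hmix : MixedStable.{u}) (hres : MixedResidual.{u}) :
    Assembly.TrivialCores.{u} := by
  intro G _ _ _ d₀ hbelow hNB
  have hknown := Assembly.knownProper d₀ hbelow
  rcases hmax G d₀ hknown hNB with hco | h
  swap
  · exact h
  let d : Setting G := { toData := d₀, maximal := hco }
  have hf := hcf G d₀ hknown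
  by_cases hp : d.Pure
  · exact d.pure_case hS h8 hknown hp
  · obtain ⟨hc, ha⟩ := hmix G d hknown hf hp
    exact (hres G d hknown hf ⟨hp, hc, ha, d.noFixedLinear_of_central hS hknown hc⟩).elim

end Cfsg.Agent.GW.Bender
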