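import Cfsg.Agent.Lib.GW.BenderComponent
import Cfsg.Agent.Lib.GW.BenderTrivialCores

/-!
# The input on proper subgroups with a component
-/

set_option autoImplicit false

namespace Cfsg.Agent.GW.Bender

universe u

/-- Proper subgroups with a component have the required facts. -/
theorem compFactsInput : CompFactsInput.{u} :=
  fun _ _ _ _ d hknown _ hB hlayer => compFacts d hknown hB hlayer

end Cfsg.Agent.GW.Bender
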