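import Mathlib
import Cfsg.Agent.Lib.CharTheory.DihedralPrincipal.OrderFormula

/-!
# Gorenstein-Walter: the identity of the signed degrees of the principal block
-/

set_option autoImplicit false
set_option linter.style.haveILetI false
set_option linter.unusedSectionVars false

namespace Cfsg.Agent.GW

open Cfsg.Agent.Blocks Cfsg.Agent.Characters Cfsg.Agent.CharTheory.DihedralPrincipal

universe u

variable {G : Type u} [Group G] [Fintype G] [Fintype (Cfsg.IrrCharacter G)]
  {P : Sylow 2 G} {σ τ : G} {m : ℕ} {M : Ideal Cfsg.AlgInt} {ζ : ℂ}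

open scoped Classical in
/-- The pairs of involutions, evaluated against the function `1 + δ₁χ₁ + δ₂χ₂ + δ₃χ₃`. -/
theorem sigma_identity (h : DihSylow P σ τ m) (hM : Cfsg.IsPModular 2 M)
    (_hζ : IsPrimitiveRoot ζ (2 * m)) (hc1 : IsConj (σ ^ m) τ) (hc2 : IsConj (σ ^ m) (σ * τ))
    {c1 c2 c3 : Cfsg.IrrCharacter G} {d1 d2 d3 : ℤ} {X : ℕ → Cfsg.IrrCharacter G}
    (T : Principal (G := G) σ m M ζ c1 c2 c3 d1 d2 d3 X) :
    let c := (Nat.card (Subgroup.centralizer ({σ ^ m} : Set G)) : ℂ)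
    (Nat.card G : ℂ) / c * (1 + (d1 : ℂ) / (c1 : G → ℂ) 1 + (d2 : ℂ) / (c2 : G → ℂ) 1 +
        (d3 : ℂ) / (c3 : G → ℂ) 1) =
      8 * (c / (Nat.card (Subgroup.centralizer ({σ ^ m, τ} : Set G)) : ℂ)) *
        (c / (Nat.card (Subgroup.centralizer ({σ ^ m, σ * τ} : Set G)) : ℂ)) := by
  intro c
  have hm := h.pos
  have hm2 := h.two_le
  set J := σ ^ m with hJdef
  set C := Subgroup.centralizer ({J} : Set G) with hC
  obtain ⟨π, hπ, hker⟩ : ∃ π : C →* (P : Subgroup G),
      (∀ z : C, ∀ hz : (z : G) ∈ (P : Subgroup G), π z = ⟨z, hz⟩) ∧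
      ∀ z, π z = 1 ↔ ¬ 2 ∣ orderOf z := h.exists_retract
  set F : G → ℂ := fun g => 1 + (d1 : ℂ) * (c1 : G → ℂ) g + (d2 : ℂ) * (c2 : G → ℂ) g +
    (d3 : ℂ) * (c3 : G → ℂ) g with hF
  have hFc : ∀ g a : G, F (a * g * a⁻¹) = F g := fun g a => by
    simp only [hF, irr_isClassFunction c1 g a, irr_isClassFunction c2 g a,
      irr_isClassFunction c3 g a]
  have hc1B : c1 ∈ Cfsg.principalBlock M G := (T.mem _).2 (Or.inr (Or.inl rfl))
  have hc2B : c2 ∈ Cfsg.principalBlock M G := (T.mem _).2 (Or.inr (Or.inr (Or.inl rfl)))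
  have hc3B : c3 ∈ Cfsg.principalBlock M G :=
    (T.mem _).2 (Or.inr (Or.inr (Or.inr (Or.inl rfl))))
  have hreg : ∀ g : G, ¬ 2 ∣ orderOf g → F g = 0 := fun g hg => (T.reg g hg).1
  have hrot : ∀ d, F (σ ^ d) = 2 - 2 * (-1) ^ d := fun d => by
    rw [← h.pow_mod d, show (-1 : ℂ) ^ d = (-1) ^ (d % (2 * m)) from neg_one_pow_congr (by
      simp only [Nat.even_iff]; rw [Nat.mod_mul_right_mod])]
    set r := d % (2 * m)
    have hr : r < 2 * m := Nat.mod_lt _ (by omega)
    rcases Nat.eq_zero_or_pos r with h0 | h0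
    · rw [h0, pow_zero, hreg 1 (by simp)]; norm_num
    · simp only [hF, T.val1 r h0 hr, T.val2 r h0 hr, T.val3 r h0 hr]
      have e1 : (d1 : ℂ) * d1 = 1 := by exact_mod_cast T.sq1
      have e2 : (d2 : ℂ) * d2 = 1 := by exact_mod_cast T.sq2
      have e3 : (d3 : ℂ) * d3 = 1 := by exact_mod_cast T.sq3
      rw [pow_succ]
      linear_combination e1 - (-1 : ℂ) ^ r * (e2 + e3)
  -- involutions and their images
  have hCinv : ∀ {a : C}, orderOf a = 2 → π a ≠ 1 := fun {a} ha e => (hker a).1 e (by rw [ha])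
  have hsyl : ∀ u : C, (∃ k : ℕ, orderOf u = 2 ^ k) →
      ∃ e : C, (e : G) * u * (e : G)⁻¹ = ((π e : (P : Subgroup G)) : G) * (π u : (P : Subgroup G)) *
        ((π e : (P : Subgroup G)) : G)⁻¹ := by
    intro u hu
    haveI := Fact.mk Nat.prime_two
    obtain ⟨Q, hQ⟩ := (zpowers_isPGroup hu).exists_le_sylow
    set S : Sylow 2 C := P.subtype h.sylow_le
    obtain ⟨e, he⟩ := MulAction.exists_smul_eq C Q S
    have hmem : e * u * e⁻¹ ∈ S := by
      rw [← he, ← SetLike.mem_coe, Sylow.coe_smul]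
      exact ⟨u, hQ (Subgroup.mem_zpowers u), rfl⟩
    refine ⟨e, ?_⟩
    have := congrArg (fun z : (P : Subgroup G) => (z : G)) (hπ (e * u * e⁻¹) hmem)
    simp only [map_mul, map_inv, Subgroup.coe_mul, Subgroup.coe_inv] at this
    exact this.symm
  -- value at a product in the centralizer
  have hFC : ∀ g : C, ((π g : (P : Subgroup G)) : G) ∈ Subgroup.zpowers σ →
      F g = F ((π g : (P : Subgroup G)) : G) := by
    intro g hg
    obtain ⟨u, hu⟩ := exists_ppart Nat.prime_two g
    obtain ⟨s, hus, hcs, huo, hso⟩ := id hu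
    have hπs : π s = 1 := (hker s).2 hso
    have hπg : π g = π u := by rw [← hus, map_mul, hπs, mul_one]
    rw [hπg] at hg ⊢
    by_cases h1 : π u = 1
    · obtain ⟨k, hk⟩ := huo
      have hu1 : u = 1 := by
        rw [← orderOf_eq_one_iff, hk]
        rcases k with _ | k
        · rfl
        · exact absurd (hk ▸ dvd_pow_self 2 (Nat.succ_ne_zero k)) ((hker u).1 h1)
      rw [h1, Subgroup.coe_one, hreg 1 (by simp)]
      refine hreg _ ?_
      rw [Subgroup.orderOf_coe, ← hus, hu1, one_mul]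
      exact hso
    obtain ⟨e, he⟩ := hsyl u huo
    set y : G := ((π e : (P : Subgroup G)) : G)
    set w : G := ((π u : (P : Subgroup G)) : G)
    have hyw : y * w * y⁻¹ ∈ Subgroup.zpowers σ := by
      rcases h.conj_rot hg (π e).2 with e' | e' <;> rw [e']
      · exact hg
      · exact inv_mem hg
    have hw1 : y * w * y⁻¹ ≠ 1 := fun e' => h1 (Subtype.ext (conj_eq_one_iff.1 e'))
    have hs' : Commute ((e : G) * u * (e : G)⁻¹) ((e : G) * s * (e : G)⁻¹) :=
      (hcs.map C.subtype).map (MulAut.conj (e : G)).toMonoidHom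
    have hso' : ¬ 2 ∣ orderOf ((e : G) * s * (e : G)⁻¹) := by
      rwa [BlockCharsA.RegularPart.orderOf_conj', Subgroup.orderOf_coe]
    rw [he] at hs'
    have key : ∀ χ : Cfsg.IrrCharacter G, χ ∈ Cfsg.principalBlock M G →
        (χ : G → ℂ) g = (χ : G → ℂ) w := fun χ hχ => by
      rw [← irr_isClassFunction χ w y, ← h.value_section hM hyw hw1 hχ hs' hso',
        ← irr_isClassFunction χ (g : G) e, ← hus, ← he]
      congr 1
      rw [Subgroup.coe_mul]; group
    simp only [hF, key c1 hc1B, key c2 hc2B, key c3 hc3B]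
  -- the pairs over `J`
  set refl : ℕ → Finset C := fun i => Finset.univ.filter fun a =>
    orderOf a = 2 ∧ ((π a : (P : Subgroup G)) : G) = σ ^ i * τ with hrefl
  set n : ℕ → ℕ := fun i => (refl i).card
  set Q : Finset (C × C) := Finset.univ.filter fun z =>
    orderOf z.1 = 2 ∧ orderOf z.2 = 2 ∧ ((π z.1 : (P : Subgroup G)) : G) ∉ Subgroup.zpowers σ ∧
      ((π z.2 : (P : Subgroup G)) : G) ∉ Subgroup.zpowers σ with hQ
  have hinvr : ∀ i k : ℕ, k < 2 * m → σ ^ i * τ * (σ ^ k * τ) = σ ^ (i + (2 * m - k)) := by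
    intro i k hk
    have hinv : (σ ^ k)⁻¹ = σ ^ (2 * m - k) := by
      refine inv_eq_of_mul_eq_one_right ?_
      rw [← pow_add, Nat.add_sub_cancel' hk.le, ← h.order_σ, pow_orderOf_eq_one]
    rw [pow_add, ← hinv, ← h.τ_conj, h.τ_inv]
    group
  have hQsum : ∑ z ∈ Q, F ((z.1 : G) * z.2) =
      ∑ i ∈ Finset.range (2 * m), ∑ k ∈ Finset.range (2 * m),
        (n i : ℂ) * n k * (2 - 2 * (-1) ^ (i + (2 * m - k))) := by
    have hidx : ∀ a : C, ((π a : (P : Subgroup G)) : G) ∉ Subgroup.zpowers σ →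
        ∃ i < 2 * m, ((π a : (P : Subgroup G)) : G) = σ ^ i * τ := fun a ha => by
      obtain ⟨i, hi | hi⟩ := h.cases _ (π a).2
      · exact absurd (DihSylow.mem_of_pow i hi) ha
      · exact ⟨i % (2 * m), Nat.mod_lt _ (by omega), by rw [h.pow_mod]; exact hi⟩
    have hQeq : Q = (Finset.range (2 * m) ×ˢ Finset.range (2 * m)).biUnion
        fun w => refl w.1 ×ˢ refl w.2 := by
      ext ⟨a, b⟩
      simp only [hQ, hrefl, Finset.mem_filter, Finset.mem_univ, true_and, Finset.mem_biUnion,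
        Finset.mem_product, Finset.mem_range, Prod.exists]
      constructor
      · rintro ⟨ha, hb, hpa, hpb⟩
        obtain ⟨i, hi, hia⟩ := hidx a hpa
        obtain ⟨k, hk, hkb⟩ := hidx b hpb
        exact ⟨i, k, ⟨hi, hk⟩, ⟨ha, hia⟩, hb, hkb⟩
      · rintro ⟨i, k, -, ⟨ha, hia⟩, hb, hkb⟩
        exact ⟨ha, hb, hia ▸ h.refl_ne i, hkb ▸ h.refl_ne k⟩
    have hdisj : ∀ i < 2 * m, ∀ k < 2 * m, σ ^ i * τ = σ ^ k * τ → i = k := fun i hi k hk e =>
      h.pow_inj hi hk (mul_right_cancel e)
    rw [hQeq, Finset.sum_biUnion, Finset.sum_product]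
    · refine Finset.sum_congr rfl fun i _ => Finset.sum_congr rfl fun k hk => ?_
      show ∑ z ∈ refl i ×ˢ refl k, F ((z.1 : G) * z.2) = _
      rw [Finset.sum_congr rfl (g := fun _ => 2 - 2 * (-1 : ℂ) ^ (i + (2 * m - k))) fun z hz => ?_,
        Finset.sum_const, Finset.card_product, nsmul_eq_mul, Nat.cast_mul]
      obtain ⟨ha, hb⟩ := Finset.mem_product.1 hz
      simp only [hrefl, Finset.mem_filter, Finset.mem_univ, true_and] at ha hb
      have hw : ((π (z.1 * z.2) : (P : Subgroup G)) : G) = σ ^ (i + (2 * m - k)) := by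
        rw [map_mul, Subgroup.coe_mul, ha.2, hb.2, hinvr i k (Finset.mem_range.1 hk)]
      rw [show (z.1 : G) * z.2 = ((z.1 * z.2 : C) : G) from rfl,
        hFC _ (hw ▸ pow_mem (Subgroup.mem_zpowers σ) _), hw, hrot]
    · intro w hw w' hw' hne
      rw [Function.onFun, Finset.disjoint_left]
      rintro z hz hz'
      simp only [hrefl, Finset.mem_product, Finset.mem_filter, Finset.mem_univ, true_and] at hz hz'
      simp only [Finset.coe_product, Set.mem_prod, Finset.coe_range, Set.mem_Iio] at hw hw'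
      exact hne (Prod.ext (hdisj _ hw.1 _ hw'.1 (hz.1.2.symm.trans hz'.1.2))
        (hdisj _ hw.2 _ hw'.2 (hz.2.2.symm.trans hz'.2.2)))
  -- the fibres
  have hn2 : ∀ i j, n (i + 2 * j) = n i := by
    intro i j
    set e : C := ⟨σ ^ j, h.sylow_le (pow_mem h.σ_mem j)⟩
    have hπe : ((π e : (P : Subgroup G)) : G) = σ ^ j :=
      congrArg Subtype.val (hπ e (pow_mem h.σ_mem j))
    refine (Finset.card_bij (fun a _ => e * a * e⁻¹) (fun a ha => ?_)
      (fun _ _ _ _ h' => mul_left_cancel (mul_right_cancel h')) fun a ha => ⟨e⁻¹ * a * e, ?_, by group⟩).symm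
    · simp only [hrefl, Finset.mem_filter, Finset.mem_univ, true_and] at ha ⊢
      refine ⟨by rw [BlockCharsA.RegularPart.orderOf_conj', ha.1], ?_⟩
      rw [map_mul, map_mul, map_inv, Subgroup.coe_mul, Subgroup.coe_mul, Subgroup.coe_inv, ha.2,
        hπe, h.conj_refl]
    · simp only [hrefl, Finset.mem_filter, Finset.mem_univ, true_and] at ha ⊢
      refine ⟨by
        rw [← ha.1, ← BlockCharsA.RegularPart.orderOf_conj' (e⁻¹ * a * e) e]
        congr 1; group, ?_⟩
      rw [map_mul, map_mul, map_inv, Subgroup.coe_mul, Subgroup.coe_mul, Subgroup.coe_inv, ha.2,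
        hπe, ← h.conj_refl]
      group
  have hcount : ∀ r, r < 2 → m * n r *
      Nat.card (Subgroup.centralizer ({J, σ ^ r * τ} : Set G)) = Nat.card C := by
    intro r hr
    set t : C := ⟨σ ^ r * τ, h.sylow_le (mul_mem (pow_mem h.σ_mem r) h.τ_mem)⟩
    have hπt : ((π t : (P : Subgroup G)) : G) = σ ^ r * τ :=
      congrArg Subtype.val (hπ t (mul_mem (pow_mem h.σ_mem r) h.τ_mem))
    have hcent : Nat.card (Subgroup.centralizer ({J, σ ^ r * τ} : Set G)) =
        Nat.card (Subgroup.centralizer ({t} : Set C)) := by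
      have hle : Subgroup.centralizer ({J, σ ^ r * τ} : Set G) ≤ C :=
        Subgroup.centralizer_le (Set.singleton_subset_iff.2 (Set.mem_insert J _))
      rw [← Nat.card_congr (Subgroup.subgroupOfEquivOfLe hle).toEquiv]
      congr 2
      ext a
      simp only [Subgroup.mem_subgroupOf, Subgroup.mem_centralizer_iff, Set.mem_insert_iff,
        Set.mem_singleton_iff, forall_eq_or_imp, forall_eq]
      constructor
      · intro h'; exact Subtype.ext h'.2
      · intro h'
        exact ⟨(Subgroup.mem_centralizer_singleton_iff.1 a.2).symm, congrArg Subtype.val h'⟩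
    rw [hcent, ← card_carrier_mul_card_centralizer t]
    congr 1
    have hset : (ConjClasses.mk t).carrier.toFinset =
        (Finset.range m).biUnion fun j => refl (r + 2 * j) := by
      ext a
      simp only [Set.mem_toFinset, ConjClasses.mem_carrier_iff_mk_eq, ConjClasses.mk_eq_mk_iff_isConj,
        hrefl, Finset.mem_biUnion, Finset.mem_filter, Finset.mem_univ, true_and, Finset.mem_range]
      constructor
      · intro hca
        obtain ⟨e, rfl⟩ := isConj_iff.1 hca.symm
        obtain ⟨j, hj⟩ : ∃ j, ((π (e * t * e⁻¹) : (P : Subgroup G)) : G) = σ ^ (r + 2 * j) * τ := by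
          rw [map_mul, map_mul, map_inv, Subgroup.coe_mul, Subgroup.coe_mul, Subgroup.coe_inv, hπt]
          set y := ((π e : (P : Subgroup G)) : G)
          rcases (show r = 0 ∨ r = 1 by omega) with rfl | rfl
          · obtain ⟨j, hj⟩ := h.conj_refl_any (π e).2
            exact ⟨j, by rw [pow_zero, one_mul, zero_add]; exact hj⟩
          · obtain ⟨j, hj⟩ := h.cases y (π e).2
            rcases hj with hj | hj
            · exact ⟨j, by rw [hj, h.conj_refl]⟩
            · refine ⟨j + (2 * m - 1), ?_⟩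
              rw [hj, mul_inv_rev, show σ ^ j * τ * (σ ^ 1 * τ) * (τ⁻¹ * (σ ^ j)⁻¹) =
                σ ^ j * ((τ * σ ^ 1 * τ⁻¹) * τ) * (σ ^ j)⁻¹ by group, h.τ_conj,
                show (σ ^ 1)⁻¹ = σ ^ (2 * m - 1) by
                  refine inv_eq_of_mul_eq_one_right ?_
                  rw [← pow_add, Nat.add_sub_cancel' (by omega), ← h.order_σ, pow_orderOf_eq_one],
                h.conj_refl]
              congr 1
              rw [show 1 + 2 * (j + (2 * m - 1)) = (2 * m - 1 + 2 * j) + orderOf σ by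
                rw [h.order_σ]; omega, pow_add σ (2 * m - 1 + 2 * j) (orderOf σ), pow_orderOf_eq_one, mul_one]
        refine ⟨j % m, Nat.mod_lt _ hm, ?_, ?_⟩
        · rw [BlockCharsA.RegularPart.orderOf_conj', Subgroup.orderOf_mk, h.orderOf_refl]
        · rw [hj]
          congr 1
          conv_lhs => rw [← Nat.mod_add_div j m, show r + 2 * (j % m + m * (j / m)) =
            (r + 2 * (j % m)) + (2 * m) * (j / m) by ring, pow_add, pow_mul σ (2 * m), ← h.order_σ,
            pow_orderOf_eq_one, one_pow, mul_one]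
      · rintro ⟨j, -, ha, hπa⟩
        haveI := Fact.mk Nat.prime_two
        obtain ⟨e, he⟩ := hsyl a ⟨1, by rw [ha, pow_one]⟩
        rw [hπa] at he
        set z := ((π e : (P : Subgroup G)) : G)
        have hz : z ∈ C := h.sylow_le (π e).2
        symm
        refine isConj_iff.2 ⟨e⁻¹ * ⟨z, hz⟩ * ⟨σ ^ j, h.sylow_le (pow_mem h.σ_mem j)⟩, ?_⟩
        refine Subtype.ext ?_
        simp only [Subgroup.coe_mul, Subgroup.coe_inv]
        show (e : G)⁻¹ * z * σ ^ j * (σ ^ r * τ) * ((e : G)⁻¹ * z * σ ^ j)⁻¹ = (a : G)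
        calc (e : G)⁻¹ * z * σ ^ j * (σ ^ r * τ) * ((e : G)⁻¹ * z * σ ^ j)⁻¹ =
            (e : G)⁻¹ * (z * (σ ^ j * (σ ^ r * τ) * (σ ^ j)⁻¹) * z⁻¹) * e := by group
          _ = (e : G)⁻¹ * ((e : G) * a * (e : G)⁻¹) * e := by rw [h.conj_refl, he]
          _ = a := by group
    rw [Nat.card_eq_fintype_card, ← Set.toFinset_card, hset, Finset.card_biUnion]
    · rw [Finset.sum_congr rfl fun j _ => hn2 r j, Finset.sum_const, Finset.card_range, smul_eq_mul]
    · intro i hi k hk hne
      rw [Function.onFun, Finset.disjoint_left]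
      intro a ha hb
      simp only [hrefl, Finset.mem_filter, Finset.mem_univ, true_and] at ha hb
      simp only [Finset.coe_range, Set.mem_Iio] at hi hk
      have := h.pow_inj (show r + 2 * i < 2 * m by omega) (show r + 2 * k < 2 * m by omega)
        (mul_right_cancel (ha.2.symm.trans hb.2))
      exact hne (by omega)
  have hnmod : ∀ i, n i = n (i % 2) := fun i => by
    conv_lhs => rw [← Nat.mod_add_div i 2, hn2]
  have hQval : ∑ z ∈ Q, F ((z.1 : G) * z.2) = 8 * ((m : ℂ) * n 0) * (m * n 1) := by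
    rw [hQsum]
    have hsgn : ∀ i, (n i : ℂ) = ((n 0 : ℂ) + n 1) / 2 + ((n 0 : ℂ) - n 1) / 2 * (-1) ^ i :=
      fun i => by
        rw [hnmod i]
        rcases Nat.mod_two_eq_zero_or_one i with hi | hi <;> rw [hi]
        · rw [(Nat.even_iff.2 hi).neg_one_pow]; ring
        · rw [(Nat.odd_iff.2 hi).neg_one_pow]; ring
    have hsum : ∑ i ∈ Finset.range (2 * m), (n i : ℂ) = (m : ℂ) * n 0 + m * n 1 := by
      rw [Finset.sum_congr rfl fun i _ => hsgn i, Finset.sum_add_distrib, ← Finset.mul_sum,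
        neg_one_geom_sum, if_pos (even_two_mul m), Finset.sum_const, Finset.card_range, nsmul_eq_mul]
      push_cast; ring
    have halt : ∑ i ∈ Finset.range (2 * m), (n i : ℂ) * (-1) ^ i = (m : ℂ) * n 0 - m * n 1 := by
      rw [Finset.sum_congr rfl (g := fun i => ((n 0 : ℂ) + n 1) / 2 * (-1) ^ i +
        ((n 0 : ℂ) - n 1) / 2) fun i _ => ?_, Finset.sum_add_distrib, ← Finset.mul_sum,
        neg_one_geom_sum, if_pos (even_two_mul m), Finset.sum_const, Finset.card_range, nsmul_eq_mul]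
      · push_cast; ring
      · rw [hsgn i, add_mul, mul_assoc _ ((-1 : ℂ) ^ i), ← mul_pow, neg_mul_neg, one_mul, one_pow,
          mul_one]
    have e : ∀ i, ∀ k ∈ Finset.range (2 * m),
        (n i : ℂ) * n k * (2 - 2 * (-1) ^ (i + (2 * m - k))) =
          2 * ((n i : ℂ) * n k) - 2 * ((n i : ℂ) * (-1) ^ i * ((n k : ℂ) * (-1) ^ k)) :=
      fun i k hk => by
        have hk' := (Finset.mem_range.1 hk).le
        have hz : (-1 : ℂ) ^ (2 * m - k) = (-1) ^ k := neg_one_pow_congr (by
          simp only [Nat.even_iff]; omega)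
        rw [pow_add, hz]; ring
    simp only [Finset.sum_congr rfl fun k hk => e _ k hk]
    simp only [Finset.sum_sub_distrib, ← Finset.mul_sum, ← Finset.sum_mul, hsum, halt]
    ring
  -- all pairs
  set K : Finset G := Finset.univ.filter fun g => orderOf g = 2 with hK
  have hKsum : ∀ χ : Cfsg.IrrCharacter G,
      ∑ a ∈ K, ∑ b ∈ K, (χ : G → ℂ) (a * b) =
        (K.card : ℂ) ^ 2 * (χ : G → ℂ) J ^ 2 / (χ : G → ℂ) 1 := by
    intro χ
    have e := CharTheory.DihedralEight.sum_mul_involutions χ.2 K J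
      (fun u hu x => Finset.mem_filter.2 ⟨Finset.mem_univ _, by
        rw [BlockCharsA.RegularPart.orderOf_conj']; exact (Finset.mem_filter.1 hu).2⟩)
      (fun u hu => by
        obtain ⟨e, rfl⟩ := isConj_iff.1 ((h.involution_conj hc1 hc2).1 (Finset.mem_filter.1 hu).2)
        exact irr_isClassFunction χ _ e)
    rw [eq_div_iff (irr_one_ne_zero χ.2)]
    linear_combination e
  have hleft : ∑ a ∈ K, ∑ b ∈ K, F (a * b) =
      (K.card : ℂ) ^ 2 * (1 + (d1 : ℂ) / (c1 : G → ℂ) 1 + (d2 : ℂ) / (c2 : G → ℂ) 1 +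
        (d3 : ℂ) / (c3 : G → ℂ) 1) := by
    simp only [hF, Finset.sum_add_distrib, ← Finset.mul_sum, hKsum,
      Finset.sum_const, nsmul_eq_mul]
    have hsgn : (-1 : ℂ) ^ (m + 1) = -1 := by
      rw [pow_succ, (even_iff_two_dvd.2 h.even).neg_one_pow, one_mul]
    have v1 : (c1 : G → ℂ) J = d1 := T.val1 m hm (by omega)
    have v2 : (c2 : G → ℂ) J = -(d2 : ℂ) := by
      rw [hJdef, T.val2 m hm (by omega), hsgn]; ring
    have v3 : (c3 : G → ℂ) J = -(d3 : ℂ) := by
      rw [hJdef, T.val3 m hm (by omega), hsgn]; ring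
    have e1 : (d1 : ℂ) * d1 = 1 := by exact_mod_cast T.sq1
    have e2 : (d2 : ℂ) * d2 = 1 := by exact_mod_cast T.sq2
    have e3 : (d3 : ℂ) * d3 = 1 := by exact_mod_cast T.sq3
    rw [v1, v2, v3]
    linear_combination ((K.card : ℂ) ^ 2 * (d1 : ℂ) / (c1 : G → ℂ) 1) * e1 +
      ((K.card : ℂ) ^ 2 * (d2 : ℂ) / (c2 : G → ℂ) 1) * e2 +
      ((K.card : ℂ) ^ 2 * (d3 : ℂ) / (c3 : G → ℂ) 1) * e3
  -- every singular pair lies over one involution
  set Pr : G → Finset (G × G) := fun z => (K ×ˢ K).filter fun w =>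
    2 ∣ orderOf (w.1 * w.2) ∧ (w.1 * w.2) ^ (orderOf (w.1 * w.2) / 2) = z with hPr
  have hright : ∑ a ∈ K, ∑ b ∈ K, F (a * b) = (K.card : ℂ) * ∑ w ∈ Pr J, F (w.1 * w.2) := by
    rw [← Finset.sum_product', ← Finset.sum_filter_of_ne
      (p := fun w : G × G => 2 ∣ orderOf (w.1 * w.2)) (fun w _ hne => by
        by_contra h0; exact hne (hreg _ h0)),
      ← Finset.sum_fiberwise_of_maps_to (t := K)
        (g := fun w : G × G => (w.1 * w.2) ^ (orderOf (w.1 * w.2) / 2)) (fun w hw => ?_)]
    · rw [Finset.sum_congr rfl (g := fun _ => ∑ w ∈ Pr J, F (w.1 * w.2)) fun z hz => ?_,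
        Finset.sum_const, nsmul_eq_mul]
      obtain ⟨e, he⟩ := isConj_iff.1 ((h.involution_conj hc1 hc2).1 (Finset.mem_filter.1 hz).2)
      rw [Finset.filter_filter]
      show ∑ w ∈ Pr z, F (w.1 * w.2) = _
      symm
      have hmul : ∀ u v : G, e * u * e⁻¹ * (e * v * e⁻¹) = e * (u * v) * e⁻¹ := fun u v => by group
      refine Finset.sum_bij (fun w _ => (e * w.1 * e⁻¹, e * w.2 * e⁻¹)) (fun w hw => ?_)
        (fun _ _ _ _ e' => Prod.ext (mul_left_cancel (mul_right_cancel (congrArg Prod.fst e')))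
          (mul_left_cancel (mul_right_cancel (congrArg Prod.snd e'))))
        (fun w hw => ⟨(e⁻¹ * w.1 * e, e⁻¹ * w.2 * e), ?_, Prod.ext (by group) (by group)⟩)
        (fun w _ => by simp only [hmul, hFc])
      · simp only [hPr, hK, Finset.mem_filter, Finset.mem_product, Finset.mem_univ, true_and,
          BlockCharsA.RegularPart.orderOf_conj', hmul, conj_pow] at hw ⊢
        exact ⟨hw.1, hw.2.1, by rw [hw.2.2, he]⟩
      · have hmul' : e⁻¹ * w.1 * e * (e⁻¹ * w.2 * e) = e⁻¹ * (w.1 * w.2) * e⁻¹⁻¹ := by group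
        have ho : ∀ g : G, orderOf (e⁻¹ * g * e) = orderOf g := fun g => by
          have := BlockCharsA.RegularPart.orderOf_conj' g e⁻¹; rwa [inv_inv] at this
        simp only [hPr, hK, Finset.mem_filter, Finset.mem_product, Finset.mem_univ, true_and,
          ho, hmul', BlockCharsA.RegularPart.orderOf_conj', conj_pow] at hw ⊢
        refine ⟨hw.1, hw.2.1, ?_⟩
        rw [hw.2.2, ← he]; group; exact zpow_natCast σ m
    · obtain ⟨-, hw2⟩ := Finset.mem_filter.1 hw
      refine Finset.mem_filter.2 ⟨Finset.mem_univ _, ?_⟩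
      obtain ⟨k, hk⟩ := hw2
      have hpos := orderOf_pos (w.1 * w.2)
      rw [hk, Nat.mul_div_cancel_left k two_pos, orderOf_pow_of_dvd (by omega)
        (hk ▸ dvd_mul_left k 2), hk]
      exact Nat.mul_div_cancel _ (by omega)
  have hPrQ : ∑ w ∈ Pr J, F (w.1 * w.2) = ∑ z ∈ Q, F ((z.1 : G) * z.2) := by
    symm
    rw [← Finset.sum_filter_of_ne (s := Q) (p := fun z : C × C => 2 ∣ orderOf ((z.1 : G) * z.2))
      (fun z _ hne => by by_contra h0; exact hne (hreg _ h0))]
    refine Finset.sum_bij (fun z _ => ((z.1 : G), (z.2 : G))) (fun z hz => ?_)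
      (fun a _ b _ e' => Prod.ext (Subtype.ext (congrArg Prod.fst e'))
        (Subtype.ext (congrArg Prod.snd e'))) (fun w hw => ?_) (fun _ _ => rfl)
    · simp only [hQ, Finset.mem_filter, Finset.mem_univ, true_and] at hz
      obtain ⟨⟨ha, hb, hpa, hpb⟩, hd⟩ := hz
      simp only [hPr, hK, Finset.mem_filter, Finset.mem_product, Finset.mem_univ, true_and]
      refine ⟨⟨by rwa [Subgroup.orderOf_coe], by rwa [Subgroup.orderOf_coe]⟩, hd, ?_⟩
      set g : C := z.1 * z.2
      have ho : orderOf ((z.1 : G) * z.2) = orderOf g := Subgroup.orderOf_coe g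
      rw [ho] at hd ⊢
      set N := orderOf g / 2
      set y : C := g ^ N
      have hN : 2 * N = orderOf g := Nat.mul_div_cancel' hd
      have hy2 : orderOf y = 2 := by
        have hpos := orderOf_pos g
        rw [orderOf_pow_of_dvd (by omega) ⟨2, by omega⟩]
        rw [← hN, Nat.mul_div_cancel _ (by omega)]
      -- its image is the involution of the rotations
      obtain ⟨i, hi | hi⟩ := h.cases _ (π z.1).2
      · exact absurd (DihSylow.mem_of_pow i hi) hpa
      obtain ⟨k, hk | hk⟩ := h.cases _ (π z.2).2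
      · exact absurd (DihSylow.mem_of_pow k hk) hpb
      have hmem : ((π y : (P : Subgroup G)) : G) ∈ Subgroup.zpowers σ := by
        rw [show y = g ^ N from rfl, map_pow, Subgroup.coe_pow, map_mul, Subgroup.coe_mul, hi, hk]
        refine pow_mem ?_ _
        rw [← h.pow_mod k, hinvr i _ (Nat.mod_lt _ (by omega))]
        exact pow_mem (Subgroup.mem_zpowers σ) _
      have hy1 : ((π y : (P : Subgroup G)) : G) ≠ 1 := fun e' => hCinv hy2 (Subtype.ext e')
      have hπy : ((π y : (P : Subgroup G)) : G) = J := by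
        obtain ⟨hd2, he2⟩ := h.pow_half hmem hy1
        have : orderOf ((π y : (P : Subgroup G)) : G) = 2 := by
          refine Nat.dvd_antisymm ?_ hd2
          rw [Subgroup.orderOf_coe]
          exact (orderOf_map_dvd π y).trans (dvd_of_eq hy2)
        rwa [this, Nat.div_self two_pos, pow_one] at he2
      set Jc : C := ⟨J, h.sylow_le (pow_mem h.σ_mem m)⟩
      have hJy : Jc * y = 1 := by
        by_contra hne
        have hc : Commute Jc y := Subtype.ext (Subgroup.mem_centralizer_singleton_iff.1 y.2).symm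
        have hsq : (Jc * y) ^ 2 = 1 := by
          rw [hc.mul_pow, show y ^ 2 = 1 by rw [← hy2, pow_orderOf_eq_one], mul_one]
          exact Subtype.ext (by simp [Jc, pow_two]; exact h.J_sq)
        haveI := Fact.mk Nat.prime_two
        have ho2 := orderOf_eq_prime hsq hne
        refine (hker (Jc * y)).1 ?_ (by rw [ho2])
        rw [map_mul, hπ Jc (pow_mem h.σ_mem m)]
        exact Subtype.ext (by rw [Subgroup.coe_mul, hπy]; exact h.J_sq)
      have := congrArg Subtype.val hJy
      rw [Subgroup.coe_mul, Subgroup.coe_one] at this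
      have hyv : (y : G) = J := by
        calc (y : G) = J * J * y := by rw [h.J_sq, one_mul]
          _ = J := by rw [mul_assoc, this, mul_one]
      rw [← hyv]
      rfl
    · simp only [hPr, hK, Finset.mem_filter, Finset.mem_product, Finset.mem_univ, true_and] at hw
      obtain ⟨⟨hu, hv⟩, hd, hz⟩ := hw
      set N := orderOf (w.1 * w.2) / 2
      have huu : w.1 * w.1 = 1 := by rw [← pow_two, ← hu, pow_orderOf_eq_one]
      have hvv : w.2 * w.2 = 1 := by rw [← pow_two, ← hv, pow_orderOf_eq_one]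
      have hinv : w.1 * (w.1 * w.2) * w.1⁻¹ = (w.1 * w.2)⁻¹ := by
        rw [← mul_assoc, huu, one_mul, mul_inv_rev, inv_eq_of_mul_eq_one_right hvv]
      have hJi : J⁻¹ = J := inv_eq_of_mul_eq_one_right h.J_sq
      have hu' : w.1 ∈ C := Subgroup.mem_centralizer_singleton_iff.2 (mul_inv_eq_iff_eq_mul.1 (by
        conv_lhs => rw [← hz, ← conj_pow, hinv, inv_pow, hz, hJi]))
      have hg : w.1 * w.2 ∈ C := Subgroup.mem_centralizer_singleton_iff.2
        (by rw [← hz]; exact (Commute.self_pow (w.1 * w.2) N).eq)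
      have hv' : w.2 ∈ C := by
        rw [show w.2 = w.1⁻¹ * (w.1 * w.2) by rw [inv_mul_cancel_left]]
        exact C.mul_mem (inv_mem hu') hg
      refine ⟨(⟨w.1, hu'⟩, ⟨w.2, hv'⟩), ?_, rfl⟩
      simp only [hQ, Finset.mem_filter, Finset.mem_univ, true_and, Subgroup.orderOf_mk]
      set a : C := ⟨w.1, hu'⟩
      set b : C := ⟨w.2, hv'⟩
      have ha2 : orderOf a = 2 := by rw [Subgroup.orderOf_mk, hu]
      have hb2 : orderOf b = 2 := by rw [Subgroup.orderOf_mk, hv]
      have hJ' : ((π (a * b) : (P : Subgroup G)) : G) ^ N = J := by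
        rw [← Subgroup.coe_pow, ← map_pow]
        have hmem : ((((a * b) ^ N : C)) : G) ∈ (P : Subgroup G) := by
          show (w.1 * w.2) ^ N ∈ (P : Subgroup G)
          rw [hz]; exact pow_mem h.σ_mem m
        rw [hπ _ hmem]
        exact hz
      have himg : ∀ {a : C}, orderOf a = 2 →
          ((π a : (P : Subgroup G)) : G) ∈ Subgroup.zpowers σ → ((π a : (P : Subgroup G)) : G) = J := by
        intro a ha hmem
        obtain ⟨hd2, he2⟩ := h.pow_half hmem fun e' => hCinv ha (Subtype.ext e')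
        have : orderOf ((π a : (P : Subgroup G)) : G) = 2 := by
          refine Nat.dvd_antisymm ?_ hd2
          rw [Subgroup.orderOf_coe]
          exact (orderOf_map_dvd π a).trans (dvd_of_eq ha)
        rwa [this, Nat.div_self two_pos, pow_one] at he2
      have hJz : J ∈ Subgroup.zpowers σ := pow_mem (Subgroup.mem_zpowers σ) m
      -- the image of the product is a rotation
      have hrotp : ((π a : (P : Subgroup G)) : G) * ((π b : (P : Subgroup G)) : G) ∈
          Subgroup.zpowers σ ∧ ((π a : (P : Subgroup G)) : G) * ((π b : (P : Subgroup G)) : G) ≠ 1 := by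
        rw [map_mul, Subgroup.coe_mul] at hJ'
        refine ⟨?_, fun e' => h.J_ne_one (by rw [← hJdef, ← hJ', e', one_pow])⟩
        obtain ⟨i, hi | hi⟩ := h.cases _ (mul_mem (π a).2 (π b).2)
        · exact DihSylow.mem_of_pow i hi
        · rw [hi] at hJ' ⊢
          rcases Nat.even_or_odd N with ⟨t, ht⟩ | ⟨t, ht⟩
          · exfalso
            rw [ht, ← two_mul, pow_mul, pow_two, h.refl_sq, one_pow] at hJ'
            exact h.J_ne_one hJ'.symm
          · rw [ht, pow_add, pow_mul, pow_two, h.refl_sq, one_pow, one_mul, pow_one] at hJ'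
            exact absurd (hJ' ▸ hJz) (h.refl_ne i)
      refine ⟨⟨hu, hv, fun hm' => ?_, fun hm' => ?_⟩, hd⟩
      · have hb' : ((π b : (P : Subgroup G)) : G) ∈ Subgroup.zpowers σ := by
          have := mul_mem (inv_mem hm') hrotp.1
          rwa [inv_mul_cancel_left] at this
        exact hrotp.2 (by rw [himg ha2 hm', himg hb2 hb']; exact h.J_sq)
      · have ha' : ((π a : (P : Subgroup G)) : G) ∈ Subgroup.zpowers σ := by
          have := mul_mem hrotp.1 (inv_mem hm')
          rwa [mul_inv_cancel_right] at this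
        exact hrotp.2 (by rw [himg ha2 ha', himg hb2 hm']; exact h.J_sq)
  rw [hright, hPrQ, hQval] at hleft
  have hK0 : (K.card : ℂ) ≠ 0 := Nat.cast_ne_zero.2 (Finset.card_ne_zero.2
    ⟨J, Finset.mem_filter.2 ⟨Finset.mem_univ _, h.orderOf_J⟩⟩)
  have hKG : (Nat.card G : ℂ) = (K.card : ℂ) * c := by
    have : K.card * Nat.card C = Nat.card G := by
      rw [← card_carrier_mul_card_centralizer J]
      congr 1
      rw [Nat.card_eq_fintype_card, ← Set.toFinset_card]
      congr 1
      ext g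
      simp only [hK, Finset.mem_filter, Finset.mem_univ, true_and, Set.mem_toFinset,
        ConjClasses.mem_carrier_iff_mk_eq, ConjClasses.mk_eq_mk_iff_isConj]
      exact (h.involution_conj hc1 hc2).trans ⟨fun e' => e'.symm, fun e' => e'.symm⟩
    rw [← this]; push_cast; rfl
  have hdiv : ∀ r, r < 2 → (m : ℂ) * n r =
      c / (Nat.card (Subgroup.centralizer ({J, σ ^ r * τ} : Set G)) : ℂ) := fun r hr => by
    rw [eq_div_iff (Nat.cast_ne_zero.2 Nat.card_pos.ne')]
    show _ = (Nat.card C : ℂ)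
    exact_mod_cast hcount r hr
  have e0 := hdiv 0 two_pos
  rw [pow_zero, one_mul] at e0
  have e1 := hdiv 1 one_lt_two
  rw [pow_one] at e1
  rw [← e0, ← e1, hKG, mul_div_cancel_right₀ _ (Nat.cast_ne_zero.2 Nat.card_pos.ne' : c ≠ 0)]
  refine mul_left_cancel₀ hK0 ?_
  linear_combination -hleft

end Cfsg.Agent.GW
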