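import Mathlib
import Cfsg.Agent.Lib.GW.SigmaIdentity
import Cfsg.Agent.Lib.GW.OrderBounds
import Cfsg.Agent.Lib.GW.KleinThree

/-!
# Dihedral Sylow 2-subgroups of order eight with centralizers in a ratio of at least three to one

If a nontrivial element of odd order centralizes the Sylow subgroup of order eight of a simple
group, the nonprincipal characters of the principal block have degree at least `16`.  The two
identities of the signed degrees then bound the ratio of the centralizers of the two four-groups: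
it lies strictly between `1/3` and `3`.
-/

set_option autoImplicit false
set_option linter.style.haveILetI false
set_option linter.unusedSectionVars false

namespace Cfsg.Agent.GW.BenderFourColumns

open Cfsg.Agent.Blocks Cfsg.Agent.Characters Cfsg.Agent.CharTheory.DihedralPrincipal

universe u

/-- The signed degrees: no solution with all of absolute value at least `16`. -/
theorem arith {k a b : ℤ} (hy : 16 ≤ |4 * k + 1|) (ha : 16 ≤ |a|) (hb : 16 ≤ |b|)
    (hsum : a + b = -(4 * k + 2))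
    (h : (a * b) ^ 2 * (k ^ 2 + 4 * k + 1) ≤ (2 * k + 1) ^ 2 * (4 * k + 1) * (a * b)) : False := by
  have hk : 4 ≤ k ∨ k ≤ -5 := by
    rcases le_abs.1 hy with h' | h' <;> omega
  have hD : 0 < k ^ 2 + 4 * k + 1 := by rcases hk with h' | h' <;> nlinarith
  have hC : 0 < (2 * k + 1) ^ 2 := by
    have : 2 * k + 1 ≠ 0 := by omega
    positivity
  rcases le_abs.1 ha with ha' | ha' <;> rcases le_abs.1 hb with hb' | hb'
  · -- both positive: then `k` is negative and `a b > 0`
    have hP : 0 < a * b := mul_pos (by omega) (by omega)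
    have hk' : k ≤ -5 := by omega
    have h' : a * b * (k ^ 2 + 4 * k + 1) ≤ (2 * k + 1) ^ 2 * (4 * k + 1) :=
      le_of_mul_le_mul_left (by linarith) hP
    nlinarith [mul_pos hP hD, mul_neg_of_pos_of_neg hC (show 4 * k + 1 < 0 by omega)]
  · -- `b < 0 < a`
    have hP : a * b < 0 := mul_neg_of_pos_of_neg (by omega) (by omega)
    have h' : (2 * k + 1) ^ 2 * (4 * k + 1) ≤ a * b * (k ^ 2 + 4 * k + 1) := by nlinarith
    have hk' : k ≤ -5 := by
      rcases hk with h4 | h4
      · nlinarith [mul_pos hC (show 0 < 4 * k + 1 by omega), mul_neg_of_neg_of_pos hP hD]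
      · exact h4
    have hP' : a * b ≤ 64 * k - 224 := by nlinarith
    have h'' : (2 * k + 1) ^ 2 * (4 * k + 1) ≤ (64 * k - 224) * (k ^ 2 + 4 * k + 1) :=
      h'.trans (mul_le_mul_of_nonneg_right hP' hD.le)
    nlinarith [mul_le_mul_of_nonneg_right hk' (mul_self_nonneg k)]
  · -- `a < 0 < b`
    have hP : a * b < 0 := mul_neg_of_neg_of_pos (by omega) (by omega)
    have h' : (2 * k + 1) ^ 2 * (4 * k + 1) ≤ a * b * (k ^ 2 + 4 * k + 1) := by nlinarith
    have hk' : k ≤ -5 := by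
      rcases hk with h4 | h4
      · nlinarith [mul_pos hC (show 0 < 4 * k + 1 by omega), mul_neg_of_neg_of_pos hP hD]
      · exact h4
    have hP' : a * b ≤ 64 * k - 224 := by nlinarith
    have h'' : (2 * k + 1) ^ 2 * (4 * k + 1) ≤ (64 * k - 224) * (k ^ 2 + 4 * k + 1) :=
      h'.trans (mul_le_mul_of_nonneg_right hP' hD.le)
    nlinarith [mul_le_mul_of_nonneg_right hk' (mul_self_nonneg k)]
  · -- both negative
    have hP : 0 < a * b := mul_pos_of_neg_of_neg (by omega) (by omega)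
    have h' : a * b * (k ^ 2 + 4 * k + 1) ≤ (2 * k + 1) ^ 2 * (4 * k + 1) :=
      le_of_mul_le_mul_left (by linarith) hP
    have hk' : 8 ≤ k := by omega
    have hP' : 64 * k - 224 ≤ a * b := by nlinarith
    have h'' : (64 * k - 224) * (k ^ 2 + 4 * k + 1) ≤ (2 * k + 1) ^ 2 * (4 * k + 1) :=
      le_trans (mul_le_mul_of_nonneg_right hP' hD.le) h'
    nlinarith [mul_le_mul_of_nonneg_right hk' (mul_self_nonneg k)]

variable {G : Type u} [Group G] [Finite G] {P : Sylow 2 G} {σ τ : G}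

/-- The principal block is constant on the sections of the Sylow subgroup. -/
theorem value_const (h : DihSylow P σ τ 2)
    (hone : ∀ u v : G, orderOf u = 2 → orderOf v = 2 → IsConj u v) {M : Ideal Cfsg.AlgInt}
    (hM : Cfsg.IsPModular 2 M) {χ : Cfsg.IrrCharacter G} (hχ : χ ∈ Cfsg.principalBlock M G)
    {x : G} (hx : x ∈ (P : Subgroup G)) (hx1 : x ≠ 1) {s : G} (hc : Commute x s)
    (hs : ¬ 2 ∣ orderOf s) : (χ : G → ℂ) (x * s) = (χ : G → ℂ) x := by
  haveI := Fintype.ofFinite G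
  haveI := Fintype.ofFinite (Cfsg.IrrCharacter G)
  obtain ⟨hc1, hc2⟩ := OrderBounds.conj_of_one_class h hone
  obtain ⟨i, hi | hi⟩ := h.cases x hx
  · exact h.value_section hM (DihSylow.mem_of_pow i hi) hx1 hχ hc hs
  · have ho : orderOf x = 2 := by rw [hi]; exact h.orderOf_refl i
    obtain ⟨g, hg⟩ := isConj_iff.1 ((h.involution_conj hc1 hc2).1 ho).symm
    rw [← irr_isClassFunction χ (x * s) g, ← irr_isClassFunction χ x g,
      show g * (x * s) * g⁻¹ = (g * x * g⁻¹) * (g * s * g⁻¹) by group, hg]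
    refine h.value_section hM (DihSylow.mem_of_pow 2 rfl) h.J_ne_one hχ ?_
      (by rwa [BlockCharsA.RegularPart.orderOf_conj'])
    exact hg ▸ hc.map (MulAut.conj g).toMonoidHom

/-- A faithful character constant on the sections has degree at least `16`. -/
theorem sixteen_le [IsSimpleGroup G] (hG : ¬ IsMulCommutative G) (h : DihSylow P σ τ 2)
    (hone : ∀ u v : G, orderOf u = 2 → orderOf v = 2 → IsConj u v) {M : Ideal Cfsg.AlgInt}
    (hM : Cfsg.IsPModular 2 M) {χ : Cfsg.IrrCharacter G} (hχ : χ ∈ Cfsg.principalBlock M G)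
    (hne : χ ≠ trivIrr G) {a : G} (hodd : Odd (orderOf a)) (ha1 : a ≠ 1)
    (hcomm : ∀ x ∈ (P : Subgroup G), a * x = x * a) :
    16 ≤ Cfsg.charDegree (χ : G → ℂ) := by
  classical
  haveI := Fintype.ofFinite G
  -- an element of prime order
  obtain ⟨p, hp, hpd⟩ := Nat.exists_prime_and_dvd (fun e => ha1 (orderOf_eq_one_iff.1 e))
  obtain ⟨c, hc⟩ := hpd
  haveI : Fact p.Prime := ⟨hp⟩
  have hp2 : p ≠ 2 := fun e => Nat.not_even_iff_odd.2 hodd ⟨c, by rw [hc, e, two_mul]⟩
  set b : G := a ^ c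
  have hc0 : c ≠ 0 := fun e => by rw [e, mul_zero] at hc; exact (orderOf_pos a).ne' hc
  have hb : orderOf b = p := by
    rw [orderOf_pow_of_dvd hc0 ⟨p, by rw [hc, mul_comm]⟩, hc,
      Nat.mul_div_cancel _ (Nat.pos_of_ne_zero hc0)]
  have hbcomm : ∀ x ∈ (P : Subgroup G), Commute b x := fun x hx =>
    (show Commute a x from hcomm x hx).pow_left c
  obtain ⟨n, ρ, hρ, he⟩ := χ.2
  haveI := hρ
  obtain ⟨B, w, hw, hB⟩ := exists_eigenbasis ρ b
  have hval : ∀ k : ℕ, (χ : G → ℂ) (b ^ k) = ∑ i, w i ^ k := fun k => by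
    rw [← he]; exact trace_of_eigenbasis B _ (apply_pow_eigenbasis ρ B w hB k)
  obtain ⟨ω, hω⟩ : ∃ ω : ℂ, IsPrimitiveRoot ω p :=
    ⟨_, Complex.isPrimitiveRoot_exp p hp.ne_zero⟩
  set ψ : AddChar (ZMod p) ℂ := AddChar.zmodChar p hω.pow_eq_one with hψ
  have hψprim : ψ.IsPrimitive := AddChar.zmodChar_primitive_of_primitive_root p hω
  choose e₀ he₀ hwe₀ using fun i => hω.eq_pow_of_pow_eq_one (hb ▸ hw i)
  set e : _ → ZMod p := fun i => (e₀ i : ZMod p) with hedef
  have hwe : ∀ i, w i = ψ (e i) := fun i => by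
    rw [hψ, AddChar.zmodChar_apply, hedef]
    simp only
    rw [ZMod.val_natCast_of_lt (he₀ i), hwe₀ i]
  have hvalψ : ∀ k : ZMod p, (χ : G → ℂ) (b ^ k.val) = ∑ i, ψ (k * e i) := fun k => by
    rw [hval]
    refine Finset.sum_congr rfl fun i _ => ?_
    rw [hwe, ← AddChar.map_nsmul_eq_pow, nsmul_eq_mul, ZMod.natCast_zmod_val]
  have hconj : ∀ x : ZMod p, (starRingEnd ℂ) (ψ x) = ψ (-x) := fun x => by
    rw [AddChar.map_neg_eq_inv, Complex.inv_eq_conj (Complex.norm_eq_one_of_pow_eq_one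
      (n := p) (by rw [← AddChar.map_nsmul_eq_pow, nsmul_eq_mul, ZMod.natCast_self, zero_mul,
        AddChar.map_zero_eq_one]) hp.ne_zero)]
  -- the multiplicities of the nontrivial eigenvalues are multiples of eight
  set α : ZMod p → ℕ := fun j => (Finset.univ.filter fun i => e i = j).card with hα
  have height : ∀ j : ZMod p, j ≠ 0 → 8 ∣ α j := by
    intro j hj
    let φ : Multiplicative (ZMod p) × (P : Subgroup G) →* G :=
      MonoidHom.noncommCoprod
        { toFun := fun k => b ^ (Multiplicative.toAdd k).val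
          map_one' := by simp
          map_mul' := fun k l => by
            rw [← pow_add, toAdd_mul, ZMod.val_add]
            exact (pow_eq_pow_mod _ (hb ▸ pow_orderOf_eq_one b)).symm }
        (P : Subgroup G).subtype fun k x => (hbcomm x x.2).pow_left _
    obtain ⟨m, hm⟩ := classInner_char_nat (isCharacter_comp φ (irr_isCharacter χ))
      (isCharacter_of_isIrr (isIrrCharacter_monoidHom
        (((AddChar.toMonoidHomEquiv (AddChar.mulShift ψ j)) : Multiplicative (ZMod p) →* ℂ).comp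
          (MonoidHom.fst (Multiplicative (ZMod p)) (P : Subgroup G)))))
    rw [classInner_def, Nat.card_prod, h.card_sylow, Fintype.sum_prod_type] at hm
    simp only [Nat.card_eq_fintype_card, Fintype.card_multiplicative, ZMod.card] at hm
    set R : ℂ := ∑ x ∈ (Finset.univ.erase (1 : (P : Subgroup G))), (χ : G → ℂ) x
    have hrow : ∀ k : ℕ, ∑ x : (P : Subgroup G), (χ : G → ℂ) (b ^ k * x) =
        (χ : G → ℂ) (b ^ k) + R := by
      intro k
      rw [← Finset.add_sum_erase _ _ (Finset.mem_univ (1 : (P : Subgroup G))), OneMemClass.coe_one,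
        mul_one]
      refine congrArg _ (Finset.sum_congr rfl fun x hx => ?_)
      rw [((hbcomm x x.2).pow_left k).eq]
      refine value_const h hone hM hχ x.2
        (fun e' => (Finset.ne_of_mem_erase hx) (Subtype.ext e'))
        ((hbcomm x x.2).pow_left k).symm fun h2 => ?_
      have h3 : 2 ∣ p := hb ▸ h2.trans (orderOf_pow_dvd k)
      exact hp2 ((Nat.prime_dvd_prime_iff_eq Nat.prime_two hp).1 h3).symm
    have key : ∀ (k : Multiplicative (ZMod p)), ∑ x : (P : Subgroup G),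
        ((fun g => (χ : G → ℂ) g) ∘ φ) (k, x) *
          (starRingEnd ℂ) ((((AddChar.toMonoidHomEquiv (AddChar.mulShift ψ j)) :
            Multiplicative (ZMod p) →* ℂ).comp
              (MonoidHom.fst (Multiplicative (ZMod p)) (P : Subgroup G))) (k, x)) =
        ψ (-(j * Multiplicative.toAdd k)) *
          ((χ : G → ℂ) (b ^ (Multiplicative.toAdd k).val) + R) := by
      intro k
      rw [← hrow, Finset.mul_sum, ← hconj]
      exact Finset.sum_congr rfl fun x _ => mul_comm _ _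
    erw [Finset.sum_congr rfl fun k _ => key k] at hm
    rw [← Equiv.sum_comp (Multiplicative.ofAdd : ZMod p ≃ Multiplicative (ZMod p))] at hm
    simp only [toAdd_ofAdd, hvalψ, mul_add, Finset.mul_sum, Finset.sum_add_distrib] at hm
    rw [Finset.sum_comm (γ := ZMod p)] at hm
    have h1 : ∀ i, ∑ k : ZMod p, ψ (-(j * k)) * ψ (k * e i) =
        if e i = j then (p : ℂ) else 0 := fun i => by
      rw [Finset.sum_congr rfl (g := fun k => ψ (k * (e i - j))) fun k _ => by
          rw [← AddChar.map_add_eq_mul]; congr 1; ring,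
        AddChar.sum_mulShift _ hψprim, ZMod.card]
      simp [sub_eq_zero]
    have h2 : ∑ k : ZMod p, ψ (-(j * k)) * R = 0 := by
      rw [← Finset.sum_mul, Finset.sum_congr rfl (g := fun k => ψ (k * -j)) fun k _ => by
          congr 1; ring,
        AddChar.sum_mulShift _ hψprim, if_neg (neg_ne_zero.2 hj), Nat.cast_zero, zero_mul]
    simp only [← Finset.mul_sum] at hm
    rw [Finset.sum_congr rfl fun i _ => h1 i, h2, mul_zero, add_zero, ← Finset.sum_filter,
      Finset.sum_const, nsmul_eq_mul] at hm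
    refine ⟨m, ?_⟩
    have hp0 : (p : ℂ) ≠ 0 := Nat.cast_ne_zero.2 hp.ne_zero
    have h3 : (α j : ℂ) = 8 * m := by
      rw [← hm, hα]; push_cast; field_simp
    exact_mod_cast h3
  -- the determinant
  have hdet : LinearMap.det (ρ b) = ∏ i, w i := by
    rw [← LinearMap.det_toMatrix B,
      show LinearMap.toMatrix B B (ρ b) = Matrix.diagonal w from ?_, Matrix.det_diagonal]
    ext i j
    rw [LinearMap.toMatrix_apply, hB j, map_smul, B.repr_self, Finsupp.smul_single, smul_eq_mul,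
      mul_one, Matrix.diagonal_apply]
    by_cases hij : i = j
    · rw [hij, Finsupp.single_eq_same, if_pos rfl]
    · rw [Finsupp.single_eq_of_ne hij, if_neg hij]
  have hdet1 : LinearMap.det (ρ b) = 1 := by
    let f : G →* ℂ := (LinearMap.det : ((Fin n → ℂ) →ₗ[ℂ] (Fin n → ℂ)) →* ℂ).comp ρ
    exact congrArg Units.val (SmallSimple.Basic.hom_eq_one hG f.toHomUnits b)
  have hsum0 : ∑ i, e i = 0 := by
    have h1 : ψ (∑ i, e i) = 1 := by
      have hprod : ∀ s : Finset (Fin (Module.finrank ℂ (Fin n → ℂ))),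
          ψ (∑ i ∈ s, e i) = ∏ i ∈ s, ψ (e i) := fun s => by
        induction s using Finset.induction with
        | empty => simp
        | insert i s hi ih => rw [Finset.sum_insert hi, Finset.prod_insert hi,
            AddChar.map_add_eq_mul, ih]
      rw [hprod, ← Finset.prod_congr rfl fun i _ => hwe i, ← hdet, hdet1]
    rw [hψ, AddChar.zmodChar_apply, hω.pow_eq_one_iff_dvd] at h1
    exact (ZMod.val_eq_zero _).1 (Nat.eq_zero_of_dvd_of_lt h1 (ZMod.val_lt _))
  have hcard : Fintype.card (Fin (Module.finrank ℂ (Fin n → ℂ))) =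
      Cfsg.charDegree (χ : G → ℂ) := by
    have := hval 0
    simp only [pow_zero, Finset.sum_const, Finset.card_univ, nsmul_eq_mul, mul_one,
      ← charDegree_cast] at this
    exact_mod_cast this.symm
  have hdeg1 : (χ : G → ℂ) 1 ≠ 1 := fun e1 => hne (by
    have hm := char_mul_of_degree_one (irr_isCharacter χ) e1
    let f : G →* ℂ := { toFun := (χ : G → ℂ), map_one' := e1, map_mul' := hm }
    refine Subtype.ext (funext fun x => ?_)
    show f x = (1 : ℂ)
    have := congrArg Units.val (SmallSimple.Basic.hom_eq_one hG f.toHomUnits x)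
    simpa using this)
  obtain ⟨i₀, hi₀⟩ : ∃ i, e i ≠ 0 := by
    by_contra! hall
    have hfull : (χ : G → ℂ) b = (χ : G → ℂ) 1 := by
      rw [← pow_one b, hval, ← pow_zero b, hval]
      exact Finset.sum_congr rfl fun i _ => by rw [hwe, hall i, AddChar.map_zero_eq_one]; simp
    have := Separation.eq_one_of_apply_eq χ hdeg1 hfull
    rw [this, orderOf_one] at hb
    exact hp.one_lt.ne hb
  obtain ⟨m₀, hm₀⟩ := height (e i₀) hi₀
  have hm0pos : 0 < α (e i₀) := Finset.card_pos.2 ⟨i₀, Finset.mem_filter.2 ⟨Finset.mem_univ _, rfl⟩⟩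
  rw [← hcard, ← Finset.card_univ]
  by_cases hsame : ∀ i, e i = 0 ∨ e i = e i₀
  · -- one nontrivial eigenvalue: its multiplicity is divisible by `p`
    have h8 : ((α (e i₀) : ℕ) : ZMod p) * e i₀ = 0 := by
      rw [← hsum0, Finset.sum_congr rfl (g := fun i => if e i = e i₀ then e i₀ else 0) fun i _ => by
        rcases hsame i with h0 | h0
        · rw [h0, if_neg hi₀.symm]
        · rw [if_pos h0, h0], ← Finset.sum_filter, Finset.sum_const, nsmul_eq_mul]
    have hp8 : p ∣ α (e i₀) := (ZMod.natCast_eq_zero_iff _ _).1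
      ((mul_eq_zero.1 h8).resolve_right hi₀)
    have hp3 : 3 ≤ p := by have := hp.two_le; omega
    have hm2 : 2 ≤ m₀ := by
      by_contra hlt
      have : m₀ = 1 := by
        rcases Nat.eq_zero_or_pos m₀ with h0 | h0
        · rw [hm₀, h0, mul_zero] at hm0pos; omega
        · omega
      rw [hm₀, this, mul_one] at hp8
      have h23 : p ∣ 2 ^ 3 := hp8
      exact hp2 ((Nat.prime_dvd_prime_iff_eq hp Nat.prime_two).1 (hp.dvd_of_dvd_pow h23))
    calc 16 ≤ α (e i₀) := by rw [hm₀]; omega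
      _ ≤ _ := Finset.card_le_card (Finset.filter_subset _ _)
  · push Not at hsame
    obtain ⟨i₁, hi₁, hi₁'⟩ := hsame
    obtain ⟨m₁, hm₁⟩ := height (e i₁) hi₁
    have hm1pos : 0 < α (e i₁) :=
      Finset.card_pos.2 ⟨i₁, Finset.mem_filter.2 ⟨Finset.mem_univ _, rfl⟩⟩
    have hdisj : Disjoint (Finset.univ.filter fun i => e i = e i₀)
        (Finset.univ.filter fun i => e i = e i₁) := by
      rw [Finset.disjoint_left]
      intro i h0 h1
      exact hi₁' ((Finset.mem_filter.1 h1).2.symm.trans (Finset.mem_filter.1 h0).2)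
    calc 16 ≤ α (e i₀) + α (e i₁) := by rw [hm₀, hm₁] at *; omega
      _ = _ := (Finset.card_union_of_disjoint hdisj).symm
      _ ≤ _ := Finset.card_le_card (Finset.subset_univ _)

set_option maxHeartbeats 800000 in
/-- The ratio of the centralizers of the four-groups is less than three. -/
theorem false_of_ratio [IsSimpleGroup G] (hG : ¬ IsMulCommutative G) (h : DihSylow P σ τ 2)
    (hone : ∀ u v : G, orderOf u = 2 → orderOf v = 2 → IsConj u v)
    (hratio : 3 * Nat.card (Subgroup.centralizer ({σ ^ 2, σ * τ} : Set G)) ≤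
        Nat.card (Subgroup.centralizer ({σ ^ 2, τ} : Set G)) ∨
      3 * Nat.card (Subgroup.centralizer ({σ ^ 2, τ} : Set G)) ≤
        Nat.card (Subgroup.centralizer ({σ ^ 2, σ * τ} : Set G)))
    {a : G} (hodd : Odd (orderOf a)) (ha1 : a ≠ 1)
    (hcomm : ∀ x ∈ (P : Subgroup G), a * x = x * a) : False := by
  classical
  haveI := Fintype.ofFinite G
  haveI := Fintype.ofFinite (Cfsg.IrrCharacter G)
  obtain ⟨M, hM⟩ := BlockCharsA.DefectZeroVanish.exists_modular Nat.prime_two
  obtain ⟨ζ, hζ⟩ : ∃ ζ : ℂ, IsPrimitiveRoot ζ (2 * 2) :=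
    ⟨_, Complex.isPrimitiveRoot_exp (2 * 2) (by omega)⟩
  obtain ⟨c1, c2, c3, d1, d2, d3, X, T⟩ := exists_principal h hM hζ
  obtain ⟨hc1, hc2⟩ := OrderBounds.conj_of_one_class h hone
  have h16 := fun {χ : Cfsg.IrrCharacter G} (hχ : χ ∈ Cfsg.principalBlock M G)
      (hne : χ ≠ trivIrr G) => sixteen_le hG h hone hM hχ hne hodd ha1 hcomm
  have g1 := h16 ((T.mem _).2 (Or.inr (Or.inl rfl))) T.ne1
  have g2 := h16 ((T.mem _).2 (Or.inr (Or.inr (Or.inl rfl)))) T.ne2
  have g3 := h16 ((T.mem _).2 (Or.inr (Or.inr (Or.inr (Or.inl rfl))))) T.ne3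
  have hord := order_formula h hM hζ hc1 hc2 T
  have hsig := sigma_identity h hM hζ hc1 hc2 T
  simp only at hord hsig
  have hreg := T.reg 1 (by simp)
  have hX := hreg.2 1 one_pos (by omega)
  have hsum := hreg.1
  rw [← charDegree_cast c1, ← charDegree_cast (X 1)] at hord hX
  rw [← charDegree_cast c1, ← charDegree_cast c2, ← charDegree_cast c3] at hsum hsig
  set x1 := Cfsg.charDegree (c1 : G → ℂ) with hx1
  set x2 := Cfsg.charDegree (c2 : G → ℂ)
  set x3 := Cfsg.charDegree (c3 : G → ℂ)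
  set w := Cfsg.charDegree ((X 1 : Cfsg.IrrCharacter G) : G → ℂ)
  set c := Nat.card (Subgroup.centralizer ({σ ^ 2} : Set G)) with hcdef
  set g := Nat.card G
  set cτ := Nat.card (Subgroup.centralizer ({σ ^ 2, τ} : Set G))
  set cσ := Nat.card (Subgroup.centralizer ({σ ^ 2, σ * τ} : Set G))
  have hc0 : (c : ℂ) ≠ 0 := Nat.cast_ne_zero.2 Nat.card_pos.ne'
  have hcτ : (cτ : ℂ) ≠ 0 := Nat.cast_ne_zero.2 Nat.card_pos.ne'
  have hcσ : (cσ : ℂ) ≠ 0 := Nat.cast_ne_zero.2 Nat.card_pos.ne'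
  have hw' : (w : ℂ) ≠ 0 := Nat.cast_ne_zero.2 (charDegree_pos (X 1)).ne'
  set y1 : ℤ := d1 * x1 with hy1
  set y2 : ℤ := d2 * x2 with hy2
  set y3 : ℤ := d3 * x3 with hy3
  have habs : ∀ (d : ℤ) (x : ℕ), d * d = 1 → 16 ≤ x → 16 ≤ |d * (x : ℤ)| := by
    intro d x hd hx
    rcases mul_self_eq_one_iff.1 hd with rfl | rfl <;> simp <;> omega
  have b1 := habs d1 x1 T.sq1 g1
  have b2 := habs d2 x2 T.sq2 g2
  have b3 := habs d3 x3 T.sq3 g3
  rw [← hy1] at b1; rw [← hy2] at b2; rw [← hy3] at b3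
  have hinv : ∀ (d : ℤ) (x : ℕ), d * d = 1 → (d : ℂ) / x = 1 / ((d * (x : ℤ) : ℤ) : ℂ) := by
    intro d x hd
    rcases mul_self_eq_one_iff.1 hd with rfl | rfl <;> simp [neg_div]
  rw [hinv d1 x1 T.sq1, hinv d2 x2 T.sq2, hinv d3 x3 T.sq3, ← hy1, ← hy2, ← hy3] at hsig
  rw [hinv d1 x1 T.sq1, ← hy1] at hord
  have hz : ∀ {y : ℤ}, 16 ≤ |y| → (y : ℂ) ≠ 0 := fun {y} hy e => by
    have : y = 0 := by exact_mod_cast e
    subst this; simp at hy
  have hy1' := hz b1
  have hy2' := hz b2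
  have hy3' := hz b3
  have hX' : (4 : ℂ) * d1 / w = 4 / (1 + (y1 : ℂ)) := by
    rw [hy1]; push_cast
    rw [← hX]
    rcases mul_self_eq_one_iff.1 T.sq1 with e | e <;> rw [e] <;> simp [neg_div, div_neg]
  rw [hX'] at hord
  have hy11 : (1 : ℂ) + y1 ≠ 0 := by
    rw [hy1]; push_cast
    rw [← hX]
    exact mul_ne_zero (by rcases mul_self_eq_one_iff.1 T.sq1 with e | e <;> rw [e] <;> norm_num) hw'
  have hsum' : 1 + y1 + y2 + y3 = 0 := by
    have : ((1 + y1 + y2 + y3 : ℤ) : ℂ) = ((0 : ℤ) : ℂ) := by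
      rw [hy1, hy2, hy3]; push_cast; exact hsum
    exact_mod_cast this
  have hsumC : (1 : ℂ) + y1 + y2 + y3 = 0 := by exact_mod_cast hsum'
  -- the two formulas
  have hA : (g : ℤ) * (y1 - 1) ^ 2 * ((cτ : ℤ) * cσ) ^ 2 =
      2 * y1 * (1 + y1) * (c : ℤ) ^ 3 * ((cσ : ℤ) + cτ) ^ 2 := by
    have : (((g : ℤ) * (y1 - 1) ^ 2 * ((cτ : ℤ) * cσ) ^ 2 : ℤ) : ℂ) =
        ((2 * y1 * (1 + y1) * (c : ℤ) ^ 3 * ((cσ : ℤ) + cτ) ^ 2 : ℤ) : ℂ) := by
      push_cast
      field_simp at hord
      linear_combination -hord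
    exact_mod_cast this
  have hE : (g : ℤ) * ((1 + y1) * (y2 * y3 - y1)) * ((cτ : ℤ) * cσ) =
      8 * (c : ℤ) ^ 3 * (y1 * (y2 * y3)) := by
    have : (((g : ℤ) * ((1 + y1) * (y2 * y3 - y1)) * ((cτ : ℤ) * cσ) : ℤ) : ℂ) =
        ((8 * (c : ℤ) ^ 3 * (y1 * (y2 * y3)) : ℤ) : ℂ) := by
      push_cast
      field_simp at hsig
      linear_combination hsig - (g : ℂ) * (y1 : ℂ) * (cτ : ℂ) * cσ * hsumC
    exact_mod_cast this
  have hgp : (0 : ℤ) < g := Nat.cast_pos.2 Nat.card_pos
  have hcp : (0 : ℤ) < c := Nat.cast_pos.2 Nat.card_pos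
  have htp : (0 : ℤ) < cτ := Nat.cast_pos.2 Nat.card_pos
  have hsp : (0 : ℤ) < cσ := Nat.cast_pos.2 Nat.card_pos
  have hkey : (1 + y1) ^ 2 * (y2 * y3 - y1) * ((cσ : ℤ) + cτ) ^ 2 =
      4 * (y1 - 1) ^ 2 * ((cτ : ℤ) * cσ) * (y2 * y3) := by
    have hne : 2 * y1 * (c : ℤ) ^ 3 ≠ 0 := by
      refine mul_ne_zero (mul_ne_zero two_ne_zero ?_) (pow_ne_zero 3 hcp.ne')
      intro e; rw [e] at b1; simp at b1
    refine mul_left_cancel₀ hne ?_
    linear_combination -((1 + y1) * (y2 * y3 - y1)) * hA + (y1 - 1) ^ 2 * ((cτ : ℤ) * cσ) * hE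
  have hr : 16 * ((cτ : ℤ) * cσ) ≤ 3 * ((cσ : ℤ) + cτ) ^ 2 := by
    rcases hratio with e | e <;> zify at e <;> nlinarith
  have hineq : 4 * (1 + y1) ^ 2 * (y2 * y3 - y1) * (y2 * y3) ≤ 3 * (y1 - 1) ^ 2 * (y2 * y3) ^ 2 := by
    have hs : (0 : ℤ) < ((cσ : ℤ) + cτ) ^ 2 := by positivity
    refine le_of_mul_le_mul_right ?_ hs
    calc 4 * (1 + y1) ^ 2 * (y2 * y3 - y1) * (y2 * y3) * ((cσ : ℤ) + cτ) ^ 2
        = (y1 - 1) ^ 2 * (y2 * y3) ^ 2 * (16 * ((cτ : ℤ) * cσ)) := by
          linear_combination 4 * (y2 * y3) * hkey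
      _ ≤ (y1 - 1) ^ 2 * (y2 * y3) ^ 2 * (3 * ((cσ : ℤ) + cτ) ^ 2) :=
          mul_le_mul_of_nonneg_left hr (by positivity)
      _ = _ := by ring
  -- the congruence modulo four
  obtain ⟨k, hk⟩ : (4 : ℤ) ∣ y1 - 1 := by
    obtain ⟨v, -, hv⟩ := DihSylow.exists_mult hζ h c1
    have e0 := hv 0 (Nat.zero_le _)
    rw [Finset.sum_congr rfl fun l _ => show gv ζ 0 l * (c1 : G → ℂ) (σ ^ l) =
        2 * (c1 : G → ℂ) (σ ^ l) by simp only [gv, Nat.zero_mul, pow_zero, inv_one]; norm_num,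
      ← Finset.mul_sum, Finset.sum_range_succ', pow_zero, ← charDegree_cast c1,
      Finset.sum_congr rfl fun l hl => T.val1 (l + 1) (by omega)
        (by have := Finset.mem_range.1 hl; omega),
      Finset.sum_const, Finset.card_range, nsmul_eq_mul, ← hx1] at e0
    have e1 : (4 : ℤ) * v 0 = 3 * d1 + x1 := by
      have : (((4 * v 0 : ℤ)) : ℂ) = ((3 * d1 + x1 : ℤ) : ℂ) := by
        simp at e0
        push_cast
        linear_combination e0 / 2
      exact_mod_cast this
    refine ⟨d1 * v 0 - 1, ?_⟩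
    rw [hy1]; linear_combination -(d1 : ℤ) * e1 - 3 * T.sq1
  have hy : y1 = 4 * k + 1 := by omega
  rw [hy] at b1 hineq hsum'
  exact arith b1 b2 b3 (by omega) (by nlinarith)

end Cfsg.Agent.GW.BenderFourColumns
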