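import Cfsg.Agent.Lib.GW.BenderKey
import Cfsg.Agent.Lib.GW.BenderFourColumns

/-!
# A dihedral Sylow subgroup of order eight: fixed points in the ratio three to one

The centralizer of `{t, u i}` is the product of its four-group and `A i`.  If `|A i|` is three
times `|A (i + 1)|` or more, no element of odd order centralizes the Sylow subgroup.
-/

set_option autoImplicit false
set_option linter.style.haveILetI false
set_option linter.unusedSectionVars false

namespace Cfsg.Agent.GW.Bender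

open Subgroup Cfsg.Agent.Involutions

universe u

variable {G : Type u} [Group G] [Finite G]

namespace Data

variable (d : Data G)

theorem inf_eq_one {x : G} (hO : x ∈ d.O) (hS : x ∈ (d.S : Subgroup G)) : x = 1 := by
  obtain ⟨k, hk⟩ := IsPGroup.iff_orderOf.1 d.S.2 ⟨x, hS⟩
  rw [orderOf_mk] at hk
  rw [← orderOf_eq_one_iff]
  exact Nat.eq_one_of_dvd_coprimes ((Nat.coprime_two_right.2 (d.orderOf_odd hO)).pow_right k)
    dvd_rfl hk.dvd

theorem card_centralizer_sr {n : ℕ} (hn : n = 4) (i : ZMod n) :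
    Nat.card {x : DihedralGroup n // x * DihedralGroup.sr i = DihedralGroup.sr i * x} = 4 := by
  subst hn
  rw [Nat.card_eq_fintype_card]
  revert i
  decide

/-- `|C(t, u i)| = 4 |A i|`. -/
theorem card_centralizer_pair (h4 : d.m = 4) (i : ZMod d.m) :
    Nat.card (centralizer ({d.t, d.u i} : Set G)) = 4 * Nat.card (d.A i) := by
  set C := centralizer ({d.t, d.u i} : Set G) with hC
  have hmem : ∀ x : G, x ∈ C ↔ x ∈ d.H ∧ x * d.u i = d.u i * x := fun x => by
    simp only [hC, mem_centralizer_iff, Set.mem_insert_iff, Set.mem_singleton_iff, forall_eq_or_imp,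
      forall_eq]
    exact ⟨fun h => ⟨h.1, h.2.symm⟩, fun h => ⟨h.1, h.2.symm⟩⟩
  let W := {v : (d.S : Subgroup G) // (v : G) * d.u i = d.u i * v}
  let f : d.A i × W → C := fun z => ⟨(z.1 : G) * ((z.2.1 : (d.S : Subgroup G)) : G), by
    rw [hmem]
    refine ⟨mul_mem (d.O_le z.1.2.1) (d.S_le z.2.1.2), ?_⟩
    rw [mul_assoc, z.2.2, ← mul_assoc, mem_centralizer_singleton_iff.1 z.1.2.2, mul_assoc]⟩
  have hf : Function.Bijective f := by
    refine ⟨fun z z' he => ?_, fun x => ?_⟩
    · have he' : (z.1 : G) * ((z.2.1 : (d.S : Subgroup G)) : G) =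
          (z'.1 : G) * ((z'.2.1 : (d.S : Subgroup G)) : G) := congrArg Subtype.val he
      have h1 : (z'.1 : G)⁻¹ * z.1 =
          ((z'.2.1 : (d.S : Subgroup G)) : G) * ((z.2.1 : (d.S : Subgroup G)) : G)⁻¹ := by
        rw [inv_mul_eq_iff_eq_mul, ← mul_assoc, ← mul_inv_eq_iff_eq_mul.2 he'.symm]
      have h2 := d.inf_eq_one (mul_mem (inv_mem z'.1.2.1) z.1.2.1)
        (h1 ▸ mul_mem z'.2.1.2 (inv_mem z.2.1.2))
      have h3 := h1.symm.trans h2
      exact Prod.ext (Subtype.ext (inv_mul_eq_one.1 h2).symm)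
        (Subtype.ext (Subtype.ext (mul_inv_eq_one.1 h3).symm))
    · obtain ⟨hxH, hxu⟩ := (hmem _).1 x.2
      obtain ⟨o, ho, s, hs, he⟩ := d.exists_mul hxH
      have hu := d.u_mem i
      -- the commutator of `s` and `u i` lies in `O` and in `S`
      have h1 : s * d.u i * s⁻¹ * (d.u i)⁻¹ = 1 := by
        refine d.inf_eq_one ?_ (mul_mem (mul_mem (mul_mem hs hu) (inv_mem hs)) (inv_mem hu))
        rw [show s * d.u i * s⁻¹ * (d.u i)⁻¹ = o⁻¹ * (d.u i * o * (d.u i)⁻¹) by
          have hx : o * s * d.u i = d.u i * (o * s) := he ▸ hxu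
          calc s * d.u i * s⁻¹ * (d.u i)⁻¹ = o⁻¹ * (o * s * d.u i) * s⁻¹ * (d.u i)⁻¹ := by group
            _ = _ := by rw [hx]; group]
        exact mul_mem (inv_mem ho)
          ((mem_normalizer_iff.1 (d.H_le_normalizer_O (d.u_mem_H i)) o).1 ho)
      have hsu : s * d.u i = d.u i * s := mul_inv_eq_iff_eq_mul.1 (mul_inv_eq_one.1 h1)
      have hou : o * d.u i = d.u i * o := by
        refine mul_right_cancel (b := s) ?_
        rw [mul_assoc, ← hsu, ← mul_assoc, ← he, hxu, he, mul_assoc]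
      exact ⟨(⟨o, ho, mem_centralizer_singleton_iff.2 hou⟩, ⟨⟨s, hs⟩, hsu⟩), Subtype.ext he.symm⟩
  rw [← Nat.card_eq_of_bijective f hf, Nat.card_prod, mul_comm]
  congr 1
  refine (Nat.card_congr (d.e.toEquiv.subtypeEquiv fun v => ?_)).trans (card_centralizer_sr h4 i)
  have key : d.e ⟨d.u i, d.u_mem i⟩ = DihedralGroup.sr i := d.e.apply_symm_apply _
  rw [← key]
  show _ ↔ d.e v * _ = _ * d.e v
  rw [← map_mul, ← map_mul, d.e.injective.eq_iff]
  exact ⟨fun h => Subtype.ext h, fun h => congrArg Subtype.val h⟩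

theorem dihSylow_of_four (h4 : d.m = 4) (i : ZMod d.m) :
    CharTheory.DihedralPrincipal.DihSylow d.S
      ((d.e.symm (DihedralGroup.r 1) : (d.S : Subgroup G)) : G) (d.u i) 2 := by
  haveI : NeZero d.m := ⟨d.ne_zero⟩
  have ho : orderOf ((d.e.symm (DihedralGroup.r 1) : (d.S : Subgroup G)) : G) = 2 * 2 := by
    rw [Subgroup.orderOf_coe, MulEquiv.orderOf_eq, DihedralGroup.orderOf_r_one, h4]
  have hrel : d.u i * ((d.e.symm (DihedralGroup.r 1) : (d.S : Subgroup G)) : G) * (d.u i)⁻¹ =
      ((d.e.symm (DihedralGroup.r 1) : (d.S : Subgroup G)) : G)⁻¹ := by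
    have key : DihedralGroup.sr i * DihedralGroup.r 1 * (DihedralGroup.sr i)⁻¹ =
        (DihedralGroup.r 1 : DihedralGroup d.m)⁻¹ := by simp
    have := congrArg (fun z => ((d.e.symm z : (d.S : Subgroup G)) : G)) key
    simp only [map_mul, map_inv, Subgroup.coe_mul, Subgroup.coe_inv] at this
    exact this
  have hn := CharTheory.DihedralPrincipal.τ_notMem_of_rel le_rfl ho hrel
  refine ⟨(d.e.symm _).2, d.u_mem i, ho, d.u_sq i, hrel, hn, dvd_rfl, ⟨1, rfl⟩,
    CharTheory.DihedralPrincipal.exists_cases_of_card (d.e.symm _).2 (d.u_mem i) ho hn ?_⟩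
  rw [Nat.card_congr d.e.toEquiv, DihedralGroup.nat_card, h4]

variable [IsSimpleGroup G]

/-- Fixed points in a ratio of at least three: no element of odd order centralizes `S`. -/
theorem false_of_card_le (hG : ¬ IsMulCommutative G) (h4 : d.m = 4) (i : ZMod d.m)
    (hcard : 3 * Nat.card (d.A (i + 1)) ≤ Nat.card (d.A i) ∨
      3 * Nat.card (d.A i) ≤ Nat.card (d.A (i + 1)))
    {a : G} (hodd : Odd (orderOf a)) (ha1 : a ≠ 1)
    (haS : ∀ s ∈ (d.S : Subgroup G), a * s = s * a) : False := by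
  haveI : Fact (Nat.Prime 2) := ⟨Nat.prime_two⟩
  set σ : G := ((d.e.symm (DihedralGroup.r 1) : (d.S : Subgroup G)) : G) with hσ
  have hsq : σ ^ 2 = d.t := by
    have : ∀ n, n = 4 → (DihedralGroup.r 1 : DihedralGroup n) ^ 2 =
        DihedralGroup.r (DihedralEmbedding.half n) := by
      rintro n rfl; decide
    rw [hσ, ← SubmonoidClass.coe_pow, ← map_pow, this d.m h4]
    rfl
  have hpair : centralizer ({d.t, σ * d.u i} : Set G) = centralizer ({d.t, d.u (i + 1)} : Set G) := by
    have hst : σ * d.u i = d.t * d.u (i + 1) := by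
      have : ∀ n, n = 4 → ∀ i : ZMod n, DihedralGroup.r 1 * DihedralGroup.sr i =
          (DihedralGroup.r (DihedralEmbedding.half n) * DihedralGroup.sr (i + 1) : DihedralGroup n) := by
        rintro n rfl i; revert i; decide
      have := congrArg (fun z => ((d.e.symm z : (d.S : Subgroup G)) : G)) (this d.m h4 i)
      simp only [map_mul, Subgroup.coe_mul] at this
      exact this
    rw [hst]
    ext x
    simp only [mem_centralizer_iff, Set.mem_insert_iff, Set.mem_singleton_iff, forall_eq_or_imp,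
      forall_eq]
    refine and_congr_right fun h1 => ⟨fun h2 => ?_, fun h2 => ?_⟩
    · refine mul_left_cancel (a := d.t) ?_
      rw [← mul_assoc, h2, ← mul_assoc d.t x, h1, mul_assoc]
    · rw [mul_assoc, h2, ← mul_assoc, h1, mul_assoc]
  have hG2 : 2 < Nat.card G := by
    have h1 := Nat.le_of_dvd Nat.card_pos (orderOf_dvd_natCard a)
    have h3 : orderOf a ≠ 1 := fun e => ha1 (orderOf_eq_one_iff.1 e)
    have := hodd.pos
    rcases hodd with ⟨k, hk⟩
    omega
  refine BenderFourColumns.false_of_ratio hG (d.dihSylow_of_four h4 i)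
    (OrderBounds.one_class hG2 d.S d.two_le d.e) ?_ hodd ha1 haS
  rw [← hσ, hsq, hpair, d.card_centralizer_pair h4, d.card_centralizer_pair h4]
  omega

/-- Fixed points in the ratio three to one: no element of order three centralizes `S`. -/
theorem false_of_card (hG : ¬ IsMulCommutative G) (h4 : d.m = 4) (i : ZMod d.m)
    (hcard : Nat.card (d.A i) = 3 * Nat.card (d.A (i + 1)) ∨
      Nat.card (d.A (i + 1)) = 3 * Nat.card (d.A i))
    {a : G} (ha : orderOf a = 3) (haS : ∀ s ∈ (d.S : Subgroup G), a * s = s * a) : False :=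
  d.false_of_card_le hG h4 i (hcard.imp (fun e => e.ge) (fun e => e.ge)) (ha ▸ by decide)
    (fun e => by rw [e, orderOf_one] at ha; omega) haS

end Data

end Cfsg.Agent.GW.Bender
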