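import Mathlib
import Cfsg.Agent.Lib.GW.OrderBounds
import Cfsg.Agent.Lib.Characters.Integrality

/-!
# The congruence for the central character at an involution, and the Klein four data

Let `Q` centralize the involution `t`, let `n` divide the length of every `Q`-orbit of conjugates
of `t` other than `{t}`, and let `N = |G : C(t)|`.  Then `N ≡ 1` modulo `n`, and a character with
`χ(t) = ±1` has degree dividing `N`, of square `≡ 1` modulo `n`.
-/

set_option autoImplicit false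
set_option linter.style.haveILetI false
set_option linter.unusedSectionVars false

open scoped Classical

namespace Cfsg.Agent.GW.KleinCongruence

open Cfsg.Agent.Characters Cfsg.Agent.Blocks

universe u

section Orbits

variable {Q X : Type*} [Group Q] [MulAction Q X] [Fintype X]

/-- A sum of an invariant function over orbits of lengths divisible by `n`. -/
theorem sum_orbits_eq (f : X → ℂ) (hf : ∀ (a : Q) (x : X), f (a • x) = f x)
    (hint : ∀ x, IsIntegral ℤ (f x)) (n : ℕ)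
    (hn : ∀ x, f x ≠ 0 → n ∣ Nat.card (MulAction.orbit Q x)) :
    ∃ α : ℂ, IsIntegral ℤ α ∧ ∑ x, f x = n * α := by
  have key : ∀ o : Quotient (MulAction.orbitRel Q X), ∃ α : ℂ, IsIntegral ℤ α ∧
      ∑ x ∈ Finset.univ.filter (fun x => Quotient.mk (MulAction.orbitRel Q X) x = o), f x = n * α := by
    intro o
    induction o using Quotient.inductionOn with
    | _ x =>
      have hmem : ∀ y, Quotient.mk (MulAction.orbitRel Q X) y = Quotient.mk _ x ↔
          y ∈ MulAction.orbit Q x := fun y => Quotient.eq.trans MulAction.orbitRel_apply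
      rw [Finset.sum_congr rfl (g := fun _ => f x) fun y hy => ?_, Finset.sum_const, nsmul_eq_mul]
      · by_cases hx : f x = 0
        · exact ⟨0, isIntegral_zero, by rw [hx, mul_zero, mul_zero]⟩
        obtain ⟨k, hk⟩ := hn x hx
        refine ⟨k * f x, ((isIntegral_algebraMap (x := (k : ℤ))).mul (hint x)), ?_⟩
        rw [show (Finset.univ.filter fun y => Quotient.mk (MulAction.orbitRel Q X) y =
            Quotient.mk _ x).card = Nat.card (MulAction.orbit Q x) from ?_, hk]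
        · push_cast; ring
        · rw [Nat.card_eq_fintype_card, Fintype.card_subtype]
          exact congrArg Finset.card (Finset.filter_congr fun y _ => hmem y)
      · obtain ⟨a, rfl⟩ := (hmem y).1 (Finset.mem_filter.1 hy).2
        exact hf a x
  choose α hα hsum using key
  refine ⟨∑ o, α o, IsIntegral.sum _ fun o _ => hα o, ?_⟩
  rw [Finset.mul_sum, ← Finset.sum_fiberwise Finset.univ
    (fun x => Quotient.mk (MulAction.orbitRel Q X) x)]
  exact Finset.sum_congr rfl fun o _ => hsum o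

end Orbits

section Congruence

variable {G : Type u} [Group G] [Finite G] {t : G}

/-- A character with value `±1` at `t` has degree dividing the class length of `t`. -/
theorem degree_dvd_index (χ : Cfsg.IrrCharacter G) {δ : ℤ} (hδ : δ = 1 ∨ δ = -1)
    (hχ : (χ : G → ℂ) t = δ) :
    Cfsg.charDegree (χ : G → ℂ) ∣ (Subgroup.centralizer ({t} : Set G)).index := by
  have hdeg := charDegree_cast χ
  have hpos := charDegree_pos χ
  obtain ⟨m, ρ, hρ, he⟩ := χ.2
  haveI := hρ
  have h := class_central_char_isIntegral ρ t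
  rw [he, hχ] at h
  have hd : (Module.finrank ℂ (Fin m → ℂ) : ℂ) = (Cfsg.charDegree (χ : G → ℂ) : ℂ) := by
    rw [hdeg, ← he, ρ.char_one]
  rw [hd] at h
  refine dvd_of_isIntegral_div hpos.ne' ?_
  rcases hδ with rfl | rfl
  · simpa using h
  · simpa [neg_div] using h.neg

variable {Q : Subgroup G} {n : ℕ}

/-- The orbit condition: `n` divides the `Q`-orbit length of every conjugate other than `t`. -/
def OrbitDvd (Q : Subgroup G) (t : G) (n : ℕ) : Prop :=
  ∀ g : G, g * t * g⁻¹ ≠ t →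
    Nat.card (Q ⊓ Subgroup.centralizer ({g * t * g⁻¹} : Set G) : Subgroup G) * n ∣ Nat.card Q

/-- `Q` inside the group acting by conjugation. -/
abbrev conjQ (Q : Subgroup G) : Subgroup (ConjAct G) :=
  Q.map (ConjAct.toConjAct : G ≃* ConjAct G).toMonoidHom

theorem ofConj_mem (a : conjQ Q) : ConjAct.ofConjAct (a : ConjAct G) ∈ Q := by
  obtain ⟨x, hx, e⟩ := a.2
  rw [← e]
  exact hx

theorem pair_smul (a : conjQ Q) (z : G × G) :
    a • z = (ConjAct.ofConjAct (a : ConjAct G) * z.1 * (ConjAct.ofConjAct (a : ConjAct G))⁻¹,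
      ConjAct.ofConjAct (a : ConjAct G) * z.2 * (ConjAct.ofConjAct (a : ConjAct G))⁻¹) := by
  rw [Subgroup.smul_def, Prod.smul_def, ConjAct.smul_def, ConjAct.smul_def]

/-- The orbit of a pair with a conjugate of `t` other than `t` has length divisible by `n`. -/
theorem dvd_orbit (h : OrbitDvd Q t n) {z : G × G}
    (hz : (IsConj t z.1 ∧ z.1 ≠ t) ∨ (IsConj t z.2 ∧ z.2 ≠ t)) :
    n ∣ Nat.card (MulAction.orbit (conjQ Q) z) := by
  haveI := Fintype.ofFinite G
  haveI : Finite (ConjAct G) := Finite.of_equiv G ConjAct.toConjAct.toEquiv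
  obtain ⟨i, hi, hfix⟩ : ∃ i : G, (∃ g : G, g * t * g⁻¹ = i ∧ g * t * g⁻¹ ≠ t) ∧
      ∀ a : conjQ Q, a • z = z → ConjAct.ofConjAct (a : ConjAct G) * i =
        i * ConjAct.ofConjAct (a : ConjAct G) := by
    rcases hz with ⟨h1, h2⟩ | ⟨h1, h2⟩
    · obtain ⟨g, hg⟩ := isConj_iff.1 h1
      refine ⟨z.1, ⟨g, hg, hg ▸ h2⟩, fun a ha => ?_⟩
      rw [pair_smul] at ha
      exact mul_inv_eq_iff_eq_mul.1 (congrArg Prod.fst ha)
    · obtain ⟨g, hg⟩ := isConj_iff.1 h1
      refine ⟨z.2, ⟨g, hg, hg ▸ h2⟩, fun a ha => ?_⟩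
      rw [pair_smul] at ha
      exact mul_inv_eq_iff_eq_mul.1 (congrArg Prod.snd ha)
  obtain ⟨g, hgi, hg⟩ := hi
  have h1 := h g hg
  rw [hgi] at h1
  let f : (conjQ Q) →* G :=
    (ConjAct.ofConjAct : ConjAct G ≃* G).toMonoidHom.comp (conjQ Q).subtype
  have hf : Function.Injective f := fun a b e => Subtype.ext e
  have h2 : Nat.card ((MulAction.stabilizer (conjQ Q) z).map f) ∣
      Nat.card (Q ⊓ Subgroup.centralizer ({i} : Set G) : Subgroup G) := by
    refine Subgroup.card_dvd_of_le ?_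
    rintro _ ⟨a, ha, rfl⟩
    exact ⟨ofConj_mem a, Subgroup.mem_centralizer_singleton_iff.2
      (hfix a (MulAction.mem_stabilizer_iff.1 ha))⟩
  rw [Subgroup.card_map_of_injective hf] at h2
  have h3 : Nat.card (MulAction.orbit (conjQ Q) z) *
      Nat.card (MulAction.stabilizer (conjQ Q) z) = Nat.card Q := by
    rw [Nat.card_congr (MulAction.orbitEquivQuotientStabilizer (conjQ Q) z),
      ← Subgroup.card_eq_card_quotient_mul_card_subgroup,
      Subgroup.card_map_of_injective (MulEquiv.injective _)]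
  refine Nat.dvd_of_mul_dvd_mul_left (Nat.card_pos (α := MulAction.stabilizer (conjQ Q) z)) ?_
  rw [mul_comm _ (Nat.card (MulAction.orbit (conjQ Q) z)), h3]
  exact (mul_dvd_mul_right h2 n).trans h1

/-- The class of `t` has size `1` modulo `n`. -/
theorem dvd_index_sub_one (hQt : ∀ x ∈ Q, x * t = t * x) (h : OrbitDvd Q t n) :
    (n : ℤ) ∣ ((Subgroup.centralizer ({t} : Set G)).index : ℤ) - 1 := by
  haveI := Fintype.ofFinite G
  set K := Finset.univ.filter fun x : G => IsConj t x with hK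
  have hKcard : K.card = (Subgroup.centralizer ({t} : Set G)).index := by
    rw [← classCard_eq_index t, Nat.card_eq_fintype_card, Fintype.card_subtype]
    refine congrArg Finset.card (Finset.filter_congr fun x _ => ?_)
    rw [ConjClasses.mem_carrier_iff_mk_eq, ConjClasses.mk_eq_mk_iff_isConj]
    exact ⟨IsConj.symm, IsConj.symm⟩
  have hfix : ∀ a : conjQ Q, ConjAct.ofConjAct (a : ConjAct G) * t *
      (ConjAct.ofConjAct (a : ConjAct G))⁻¹ = t := fun a => by
    rw [hQt _ (ofConj_mem a), mul_inv_cancel_right]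
  obtain ⟨α, hα, hsum⟩ := sum_orbits_eq (Q := conjQ Q)
    (fun z : G × G => if (IsConj t z.1 ∧ z.1 ≠ t) ∧ z.2 = t then (1 : ℂ) else 0)
    (fun a z => by
      rw [pair_smul]
      set b := ConjAct.ofConjAct (a : ConjAct G)
      refine if_congr ?_ rfl rfl
      have hc : IsConj z.1 (b * z.1 * b⁻¹) := isConj_iff.2 ⟨b, rfl⟩
      have he : ∀ x : G, b * x * b⁻¹ = t ↔ x = t := fun x =>
        ⟨fun e => mul_left_cancel (mul_right_cancel (e.trans (hfix a).symm)),
          fun e => by rw [e]; exact hfix a⟩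
      exact and_congr (and_congr ⟨fun e => e.trans hc.symm, fun e => e.trans hc⟩
        (not_congr (he _))) (he _))
    (fun z => by split_ifs <;> [exact isIntegral_one; exact isIntegral_zero]) n
    (fun z hz => dvd_orbit h (Or.inl (by
      simp only [ne_eq, ite_eq_right_iff, one_ne_zero, imp_false, not_not] at hz
      exact hz.1)))
  have hcount : (K.card : ℂ) - 1 = n * α := by
    have htK : t ∈ K := Finset.mem_filter.2 ⟨Finset.mem_univ _, IsConj.refl t⟩
    rw [← hsum, Fintype.sum_prod_type,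
      Finset.sum_congr rfl (g := fun x : G => if x ∈ K.erase t then (1 : ℂ) else 0) fun x _ => ?_,
      Finset.sum_boole, Finset.filter_mem_eq_inter, Finset.univ_inter,
      ← Finset.card_erase_add_one htK]
    · push_cast; ring
    · rw [Finset.sum_eq_single t (fun y _ hy => if_neg fun e => hy e.2)
        (fun h' => absurd (Finset.mem_univ _) h')]
      refine if_congr ?_ rfl rfl
      simp [hK, and_comm]
  by_cases hn : n = 0
  · subst hn
    refine ⟨0, ?_⟩
    simp only [Nat.cast_zero, zero_mul, sub_eq_zero] at hcount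
    rw [← hKcard]
    have : K.card = 1 := by exact_mod_cast hcount
    simp [this]
  obtain ⟨k, hk⟩ := exists_int_of_isIntegral_ratCast (q := ((K.card : ℚ) - 1) / n) (by
    push_cast
    rw [hcount, mul_div_cancel_left₀ _ (Nat.cast_ne_zero.2 hn)]
    exact hα)
  refine ⟨k, ?_⟩
  rw [← hKcard]
  have : ((K.card : ℤ) - 1 : ℂ) = ((n : ℤ) * k : ℤ) := by
    push_cast at hk ⊢
    rw [← hk, mul_div_cancel₀ _ (Nat.cast_ne_zero.2 hn)]
  exact_mod_cast this

/-- The congruence: a character with value `±1` at `t` has degree `±1` modulo `n`. -/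
theorem dvd_degree_sq_sub_one (hQt : ∀ x ∈ Q, x * t = t * x) (ht : t * t = 1)
    (h : OrbitDvd Q t n) (χ : Cfsg.IrrCharacter G) {δ : ℤ} (hδ : δ = 1 ∨ δ = -1)
    (hχ : (χ : G → ℂ) t = δ) :
    (n : ℤ) ∣ (Cfsg.charDegree (χ : G → ℂ) : ℤ) ^ 2 - 1 := by
  haveI := Fintype.ofFinite G
  obtain ⟨k, hk⟩ := dvd_index_sub_one hQt h
  set K := Finset.univ.filter fun x : G => IsConj t x with hK
  have hKcard : K.card = (Subgroup.centralizer ({t} : Set G)).index := by
    rw [← classCard_eq_index t, Nat.card_eq_fintype_card, Fintype.card_subtype]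
    refine congrArg Finset.card (Finset.filter_congr fun x _ => ?_)
    rw [ConjClasses.mem_carrier_iff_mk_eq, ConjClasses.mk_eq_mk_iff_isConj]
    exact ⟨IsConj.symm, IsConj.symm⟩
  rw [← hKcard] at hk
  have hsum := CharTheory.DihedralEight.sum_mul_involutions χ.2 K t
    (fun u hu a => Finset.mem_filter.2 ⟨Finset.mem_univ _,
      (Finset.mem_filter.1 hu).2.trans (isConj_iff.2 ⟨a, rfl⟩)⟩)
    (fun u hu => by
      obtain ⟨a, ha⟩ := isConj_iff.1 (Finset.mem_filter.1 hu).2
      rw [← ha, irr_isClassFunction χ t a])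
  have hfix : ∀ a : conjQ Q, ConjAct.ofConjAct (a : ConjAct G) * t *
      (ConjAct.ofConjAct (a : ConjAct G))⁻¹ = t := fun a => by
    rw [hQt _ (ofConj_mem a), mul_inv_cancel_right]
  obtain ⟨α, hα, horb⟩ := sum_orbits_eq (Q := conjQ Q)
    (fun z : G × G => if (z.1 ∈ K ∧ z.2 ∈ K) ∧ z ≠ (t, t) then (χ : G → ℂ) (z.1 * z.2) else 0)
    (fun a z => by
      rw [pair_smul]
      set b := ConjAct.ofConjAct (a : ConjAct G)
      have hc : ∀ x : G, b * x * b⁻¹ ∈ K ↔ x ∈ K := fun x => by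
        have hc : IsConj x (b * x * b⁻¹) := isConj_iff.2 ⟨b, rfl⟩
        simp only [hK, Finset.mem_filter, Finset.mem_univ, true_and]
        exact ⟨fun e => e.trans hc.symm, fun e => e.trans hc⟩
      have he : ∀ x : G, b * x * b⁻¹ = t ↔ x = t := fun x =>
        ⟨fun e => mul_left_cancel (mul_right_cancel (e.trans (hfix a).symm)),
          fun e => by rw [e]; exact hfix a⟩
      refine if_congr (and_congr (and_congr (hc _) (hc _)) (not_congr ?_)) ?_ rfl
      · rw [Prod.ext_iff, Prod.ext_iff, he, he]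
      · rw [show b * z.1 * b⁻¹ * (b * z.2 * b⁻¹) = b * (z.1 * z.2) * b⁻¹ by group,
          irr_isClassFunction χ (z.1 * z.2) b])
    (fun z => by
      split_ifs
      · obtain ⟨m, ρ, hρ, he⟩ := χ.2
        rw [← he]; exact rep_value_isIntegral ρ _ 
      · exact isIntegral_zero) n
    (fun z hz => by
      simp only [ne_eq, ite_eq_right_iff, Classical.not_imp, hK, Finset.mem_filter,
        Finset.mem_univ, true_and] at hz
      obtain ⟨⟨⟨h1, h2⟩, hne⟩, -⟩ := hz
      refine dvd_orbit h ?_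
      by_cases h1t : z.1 = t
      · exact Or.inr ⟨h2, fun h2t => hne (Prod.ext h1t h2t)⟩
      · exact Or.inl ⟨h1, h1t⟩)
  have htK : (t, t) ∈ K ×ˢ K := Finset.mk_mem_product
    (Finset.mem_filter.2 ⟨Finset.mem_univ _, IsConj.refl t⟩)
    (Finset.mem_filter.2 ⟨Finset.mem_univ _, IsConj.refl t⟩)
  have hsplit : ∑ u ∈ K, ∑ v ∈ K, (χ : G → ℂ) (u * v) = (χ : G → ℂ) 1 + n * α := by
    rw [← Finset.sum_product', ← Finset.add_sum_erase _ _ htK, ht, ← horb]
    congr 1
    rw [← Finset.sum_filter]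
    refine Finset.sum_congr ?_ fun _ _ => rfl
    ext z
    simp [Finset.mem_erase, and_comm, hK]
  rw [hsplit, hχ, ← charDegree_cast χ] at hsum
  set d := Cfsg.charDegree (χ : G → ℂ)
  have hδ2 : δ * δ = 1 := by rcases hδ with rfl | rfl <;> rfl
  have hδ2' : (δ : ℂ) * δ = 1 := by exact_mod_cast hδ2
  by_cases hn : n = 0
  · subst hn
    refine ⟨0, ?_⟩
    simp only [Nat.cast_zero, zero_mul, add_zero, sub_eq_zero] at hsum hk
    have hK1 : (K.card : ℂ) = 1 := by exact_mod_cast hk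
    rw [hK1, one_mul, sq (δ : ℂ), hδ2'] at hsum
    have : ((d : ℤ) ^ 2 : ℂ) = ((1 : ℤ) : ℂ) := by push_cast; rw [sq]; exact hsum
    have := (show (d : ℤ) ^ 2 = 1 by exact_mod_cast this)
    simp [this]
  obtain ⟨j, hj⟩ := exists_int_of_isIntegral_ratCast
    (q := ((K.card : ℚ) ^ 2 - (d : ℚ) ^ 2) / n) (by
      push_cast
      rw [show ((K.card : ℂ) ^ 2 - (d : ℂ) ^ 2) / n = d * α by
        rw [div_eq_iff (Nat.cast_ne_zero.2 hn)]
        linear_combination -hsum - (K.card : ℂ) ^ 2 * hδ2']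
      exact (isIntegral_algebraMap (x := (d : ℤ))).mul hα)
  have hj' : (K.card : ℤ) ^ 2 - (d : ℤ) ^ 2 = n * j := by
    have : (((K.card : ℤ) ^ 2 - (d : ℤ) ^ 2 : ℤ) : ℂ) = (((n : ℤ) * j : ℤ) : ℂ) := by
      push_cast at hj ⊢
      rw [← hj, mul_div_cancel₀ _ (Nat.cast_ne_zero.2 hn)]
    exact_mod_cast this
  exact ⟨k * ((K.card : ℤ) + 1) - j, by linear_combination -hj' + ((K.card : ℤ) + 1) * hk⟩

end Congruence

/-- A number with square `≡ 1` modulo an odd prime power is `≡ ±1`. -/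
theorem dvd_sub_or_dvd_add {p e : ℕ} (hp : p.Prime) (hp2 : p ≠ 2) {y : ℤ}
    (h : ((p ^ e : ℕ) : ℤ) ∣ y ^ 2 - 1) :
    ((p ^ e : ℕ) : ℤ) ∣ y - 1 ∨ ((p ^ e : ℕ) : ℤ) ∣ y + 1 := by
  have hpz : Prime (p : ℤ) := Nat.prime_iff_prime_int.1 hp
  have hno : ¬ ((p : ℤ) ∣ y - 1 ∧ (p : ℤ) ∣ y + 1) := fun ⟨a, b⟩ => by
    have h2 : p ∣ 2 := by
      have : (p : ℤ) ∣ 2 := by simpa using dvd_sub b a
      exact_mod_cast this
    exact hp2 ((Nat.prime_dvd_prime_iff_eq hp Nat.prime_two).1 h2)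
  push_cast at h ⊢
  rw [show y ^ 2 - 1 = (y - 1) * (y + 1) by ring] at h
  by_cases h1 : (p : ℤ) ∣ y - 1
  · exact Or.inl (hpz.pow_dvd_of_dvd_mul_right e (fun b => hno ⟨h1, b⟩) h)
  · exact Or.inr (hpz.pow_dvd_of_dvd_mul_left e h1 h)

/-- Three signed degrees with `1 + y₁ + y₂ + y₃ = 0`: modulo an odd prime power exactly one is
`1`. -/
theorem pattern {p e : ℕ} (hp : p.Prime) (hp2 : p ≠ 2) (he : e ≠ 0) {y : Fin 3 → ℤ}
    (hsum : 1 + ∑ i, y i = 0) (h : ∀ i, ((p ^ e : ℕ) : ℤ) ∣ y i ^ 2 - 1) :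
    ∃ i, ((p ^ e : ℕ) : ℤ) ∣ y i - 1 ∧ ∀ j, j ≠ i → ((p ^ e : ℕ) : ℤ) ∣ y j + 1 := by
  set n : ℤ := ((p ^ e : ℕ) : ℤ) with hn
  have hno : ∀ a : ℤ, a = 2 ∨ a = 4 ∨ a = -2 → ¬ n ∣ a := fun a ha hd => by
    have hp' : (p : ℤ) ∣ a := dvd_trans (by rw [hn]; push_cast; exact dvd_pow_self _ he) hd
    have h4 : p ∣ 2 ^ 2 := by
      have : (p : ℤ) ∣ 4 := by
        rcases ha with rfl | rfl | rfl
        · exact hp'.trans ⟨2, by norm_num⟩
        · exact hp'
        · exact hp'.trans ⟨-2, by norm_num⟩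
      exact_mod_cast this
    exact hp2 ((Nat.prime_dvd_prime_iff_eq hp Nat.prime_two).1 (hp.dvd_of_dvd_pow h4))
  rw [Fin.sum_univ_three] at hsum
  have c := fun i => dvd_sub_or_dvd_add hp hp2 (h i)
  rcases c 0 with h0 | h0 <;> rcases c 1 with h1 | h1 <;> rcases c 2 with h2 | h2
  · refine absurd ?_ (hno 4 (by simp))
    have := dvd_add (dvd_add h0 h1) h2
    rw [show y 0 - 1 + (y 1 - 1) + (y 2 - 1) = -4 by linarith, dvd_neg] at this
    exact this
  · refine absurd ?_ (hno 2 (by simp))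
    have := dvd_add (dvd_add h0 h1) h2
    rw [show y 0 - 1 + (y 1 - 1) + (y 2 + 1) = -2 by linarith, dvd_neg] at this
    exact this
  · refine absurd ?_ (hno 2 (by simp))
    have := dvd_add (dvd_add h0 h1) h2
    rw [show y 0 - 1 + (y 1 + 1) + (y 2 - 1) = -2 by linarith, dvd_neg] at this
    exact this
  · exact ⟨0, h0, fun j hj => by fin_cases j <;> first | exact absurd rfl hj | assumption⟩
  · refine absurd ?_ (hno 2 (by simp))
    have := dvd_add (dvd_add h0 h1) h2
    rw [show y 0 + 1 + (y 1 - 1) + (y 2 - 1) = -2 by linarith, dvd_neg] at this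
    exact this
  · exact ⟨1, h1, fun j hj => by fin_cases j <;> first | exact absurd rfl hj | assumption⟩
  · exact ⟨2, h2, fun j hj => by fin_cases j <;> first | exact absurd rfl hj | assumption⟩
  · refine absurd ?_ (hno 2 (by simp))
    have := dvd_add (dvd_add h0 h1) h2
    rw [show y 0 + 1 + (y 1 + 1) + (y 2 + 1) = 2 by linarith] at this
    exact this

section Klein

variable {G : Type u} [Group G] [Finite G]

/-- The three signed degrees of the principal block. -/
theorem exists_klein_data (P : Sylow 2 G) (hP : IsKleinFour (P : Subgroup G))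
    (hone : ∀ u v : G, orderOf u = 2 → orderOf v = 2 → IsConj u v)
    (hlin : ∀ f : G →* ℂˣ, f = 1) {t : G} (htP : t ∈ (P : Subgroup G)) (ht : orderOf t = 2) :
    ∃ y : Fin 3 → ℤ, 1 + ∑ i, y i = 0 ∧
      (∀ i, (4 : ℤ) ∣ y i - 1 ∧ 3 ≤ |y i| ∧
        y i ∣ ((Subgroup.centralizer ({t} : Set G)).index : ℤ)) ∧
      (Nat.card (Subgroup.centralizer ((P : Subgroup G) : Set G)) : ℤ) ^ 2 *
          ((Subgroup.centralizer ({t} : Set G)).index : ℤ) * ∏ i, (1 + y i) =
        8 * (Nat.card (Subgroup.centralizer ({t} : Set G)) : ℤ) ^ 2 * ∏ i, y i ∧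
      ∀ (Q : Subgroup G) (n : ℕ), (∀ x ∈ Q, x * t = t * x) → OrbitDvd Q t n →
        ∀ i, (n : ℤ) ∣ y i ^ 2 - 1 := by
  haveI := Fintype.ofFinite G
  haveI := Fintype.ofFinite (Cfsg.IrrCharacter G)
  obtain ⟨M, hM⟩ := BlockCharsA.DefectZeroVanish.exists_modular Nat.prime_two
  obtain ⟨B, a, hmem, hcard, hval, h0, hS⟩ :=
    BlockCharsA.KleinOrder.order_formula hM P hP hone htP ht
  obtain ⟨B', a', hmem', -, hsgn', hval', -, -, hmod'⟩ := ZStar.KleinFour.principal P hP hone hM
  have hts : 2 ∣ orderOf t := by rw [ht]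
  have ha : ∀ χ ∈ B, (a χ = 1 ∨ a χ = -1) ∧
      (4 : ℤ) ∣ (Cfsg.charDegree (χ : G → ℂ) : ℤ) - a χ := by
    intro χ hχ
    have hχ' : χ ∈ B' := (hmem' χ).2 ((hmem χ).1 hχ)
    have e : a χ = a' χ := by exact_mod_cast (hval χ hχ).symm.trans (hval' χ hχ' t hts)
    obtain ⟨k, hk⟩ := hmod' χ hχ'
    rw [← charDegree_cast χ] at hk
    refine ⟨e ▸ hsgn' χ hχ', k, ?_⟩
    have : (Cfsg.charDegree (χ : G → ℂ) : ℤ) = a' χ + 4 * k := by exact_mod_cast hk
    rw [e, this]; ring
  have h1 : trivIrr G ∈ B := (hmem _).2 (trivIrr_mem_principal hM)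
  have ha1 : a (trivIrr G) = 1 := by
    have := hval _ h1
    simp only [trivIrr] at this ⊢
    exact_mod_cast this.symm
  have hB3 : (B.erase (trivIrr G)).card = 3 := by rw [Finset.card_erase_of_mem h1, hcard]
  let c : Fin 3 ≃ (B.erase (trivIrr G) : Finset _) :=
    (Fintype.equivFinOfCardEq (by rw [Fintype.card_coe, hB3])).symm
  have hc : ∀ i, (c i : Cfsg.IrrCharacter G) ∈ B ∧ (c i : Cfsg.IrrCharacter G) ≠ trivIrr G :=
    fun i => ⟨Finset.mem_of_mem_erase (c i).2, Finset.ne_of_mem_erase (c i).2⟩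
  set d : Fin 3 → ℕ := fun i => Cfsg.charDegree ((c i : Cfsg.IrrCharacter G) : G → ℂ) with hd
  set y : Fin 3 → ℤ := fun i => a (c i) * d i with hy
  have hsgn : ∀ i, a (c i) = 1 ∨ a (c i) = -1 := fun i => (ha _ (hc i).1).1
  have hsq : ∀ i, a (c i) * a (c i) = 1 := fun i => by
    rcases hsgn i with e | e <;> rw [e] <;> rfl
  have hexp : ∀ f : Cfsg.IrrCharacter G → ℂ,
      ∑ χ ∈ B, f χ = f (trivIrr G) + ∑ i, f (c i) := by
    intro f
    rw [← Finset.add_sum_erase _ _ h1, ← Finset.sum_coe_sort (B.erase (trivIrr G)),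
      Equiv.sum_comp c (fun x => f x)]
  rw [hexp, ha1] at h0 hS
  have ht1 : ((trivIrr G : Cfsg.IrrCharacter G) : G → ℂ) 1 = 1 := rfl
  simp only [ht1, ← charDegree_cast, Int.cast_one, mul_one, div_one] at h0 hS
  have hd0 : ∀ i, (d i : ℂ) ≠ 0 := fun i => Nat.cast_ne_zero.2 (charDegree_pos _).ne'
  refine ⟨y, ?_, fun i => ⟨?_, ?_, ?_⟩, ?_, fun Q n hQt hor i => ?_⟩
  · have : ((1 + ∑ i, y i : ℤ) : ℂ) = ((0 : ℤ) : ℂ) := by
      push_cast [hy, hd]; simpa using h0
    exact_mod_cast this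
  · obtain ⟨k, hk⟩ := (ha _ (hc i).1).2
    exact ⟨a (c i) * k, by rw [hy]; linear_combination a (c i) * hk + hsq i⟩
  · have hne : d i ≠ 1 := fun e => by
      refine (hc i).2 (Subtype.ext (funext fun g => ?_))
      have hχ1 : ((c i : Cfsg.IrrCharacter G) : G → ℂ) 1 = 1 := by
        rw [← charDegree_cast]; exact_mod_cast e
      have := hlin (linearOfDegreeOne (irr_isCharacter _) hχ1)
      rw [← linearOfDegreeOne_apply (irr_isCharacter _) hχ1 g, this]
      simp [trivIrr]
    have hpos : 0 < d i := charDegree_pos _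
    obtain ⟨k, hk⟩ := (ha _ (hc i).1).2
    change (d i : ℤ) - a (c i) = 4 * k at hk
    have h3 : 3 ≤ d i := by
      rcases hsgn i with e | e <;> rw [e] at hk <;> omega
    rw [hy, abs_mul, show |a (c i)| = 1 by rcases hsgn i with e | e <;> rw [e] <;> rfl, one_mul]
    exact_mod_cast h3
  · have h := Int.natCast_dvd_natCast.2
      (degree_dvd_index (c i : Cfsg.IrrCharacter G) (hsgn i) (hval _ (hc i).1))
    rcases hsgn i with e | e <;> rw [hy] <;> simp only [e, one_mul, neg_mul, neg_dvd]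
    · exact h
    · exact h
  · set C := Nat.card (Subgroup.centralizer ({t} : Set G)) with hC
    set CP := Nat.card (Subgroup.centralizer ((P : Subgroup G) : Set G))
    have hG : (Nat.card G : ℂ) = (C : ℂ) * ((Subgroup.centralizer ({t} : Set G)).index : ℂ) := by
      rw [hC, ← Nat.cast_mul, Subgroup.card_mul_index]
    have hC0 : (C : ℂ) ≠ 0 := Nat.cast_ne_zero.2 Nat.card_pos.ne'
    have hCP0 : (CP : ℂ) ≠ 0 := Nat.cast_ne_zero.2 Nat.card_pos.ne'
    rw [hG, mul_assoc, eq_div_iff (pow_ne_zero 2 hCP0)] at hS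
    have hS' : ((Subgroup.centralizer ({t} : Set G)).index : ℂ) *
        (1 + ∑ i, (a (c i) : ℂ) / (d i : ℂ)) * (CP : ℂ) ^ 2 = 8 * (C : ℂ) ^ 2 :=
      mul_left_cancel₀ hC0 (by linear_combination hS)
    have hinv : ∀ i, (a (c i) : ℂ) / (d i : ℂ) = ((y i : ℤ) : ℂ)⁻¹ := fun i => by
      rw [hy]; push_cast
      rcases hsgn i with e | e <;> rw [e] <;> simp [neg_div, inv_neg]
    simp only [hinv, Fin.sum_univ_three] at hS'
    have hy0 : ∀ i, ((y i : ℤ) : ℂ) ≠ 0 := fun i => by
      rw [hy]; push_cast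
      exact mul_ne_zero (by rcases hsgn i with e | e <;> rw [e] <;> norm_num) (hd0 i)
    have hsum' : (1 : ℂ) + ((y 0 : ℂ) + y 1 + y 2) = 0 := by
      have : ((1 + ∑ i, y i : ℤ) : ℂ) = ((0 : ℤ) : ℂ) := by
        push_cast [hy, hd]; simpa using h0
      push_cast [Fin.sum_univ_three] at this
      exact this
    have := hy0 0; have := hy0 1; have := hy0 2
    field_simp at hS'
    have key : (((CP : ℤ) ^ 2 * ((Subgroup.centralizer ({t} : Set G)).index : ℤ) *
        ((1 + y 0) * (1 + y 1) * (1 + y 2)) : ℤ) : ℂ) =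
        ((8 * (C : ℤ) ^ 2 * (y 0 * y 1 * y 2) : ℤ) : ℂ) := by
      push_cast
      linear_combination hS' +
        (CP : ℂ) ^ 2 * ((Subgroup.centralizer ({t} : Set G)).index : ℂ) * hsum'
    simp only [Fin.prod_univ_three]
    exact_mod_cast key
  · have h := dvd_degree_sq_sub_one hQt (BlockCharsA.KleinOrder.mul_self_of_two ht) hor
      (c i : Cfsg.IrrCharacter G) (hsgn i) (hval _ (hc i).1)
    rwa [hy, mul_pow, sq (a (c i)), hsq i, one_mul]

/-- The index of the centralizer is at most `15 (c(t)/c(P))²`. -/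
theorem index_le (P : Sylow 2 G) (hP : IsKleinFour (P : Subgroup G))
    (hone : ∀ u v : G, orderOf u = 2 → orderOf v = 2 → IsConj u v)
    (hlin : ∀ f : G →* ℂˣ, f = 1) {t : G} (htP : t ∈ (P : Subgroup G)) (ht : orderOf t = 2) :
    (Subgroup.centralizer ({t} : Set G)).index *
        Nat.card (Subgroup.centralizer ((P : Subgroup G) : Set G)) ^ 2 ≤
      15 * Nat.card (Subgroup.centralizer ({t} : Set G)) ^ 2 := by
  obtain ⟨S, -, hS, hSeq⟩ := OrderBounds.exists_klein_factor P hP hone htP ht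
  have hS' := hS hlin
  set C := Nat.card (Subgroup.centralizer ({t} : Set G)) with hC
  set CP := Nat.card (Subgroup.centralizer ((P : Subgroup G) : Set G))
  set N := (Subgroup.centralizer ({t} : Set G)).index
  have hG : (Nat.card G : ℚ) = (C : ℚ) * (N : ℚ) := by
    rw [hC, ← Nat.cast_mul, Subgroup.card_mul_index]
  have hC0 : (0 : ℚ) < C := Nat.cast_pos.2 Nat.card_pos
  have hCP0 : (0 : ℚ) < CP := Nat.cast_pos.2 Nat.card_pos
  rw [hG, mul_assoc, eq_div_iff (pow_ne_zero 2 hCP0.ne')] at hSeq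
  have h2 : (N : ℚ) * S * (CP : ℚ) ^ 2 = 8 * (C : ℚ) ^ 2 :=
    mul_left_cancel₀ hC0.ne' (by linear_combination hSeq)
  have : (N : ℚ) * (CP : ℚ) ^ 2 ≤ 15 * (C : ℚ) ^ 2 := by
    nlinarith [mul_le_mul_of_nonneg_left hS' (show (0 : ℚ) ≤ N * CP ^ 2 by positivity)]
  exact_mod_cast this

end Klein

end Cfsg.Agent.GW.KleinCongruence
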