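import Cfsg.Agent.Lib.GW.BenderArithFit
import Cfsg.Agent.Lib.GW.BenderKleinPure
import Cfsg.Agent.Lib.GW.KleinCongruence

/-!
# The upper bound for the group order in the setting

If all fixed-point groups `A i` have order `a` then `2 |G| a² ≤ 15 m³ |O|³`, in every case
`|S| = 2 m ≥ 4`.
-/

set_option autoImplicit false
set_option linter.style.haveILetI false
set_option linter.unusedSectionVars false

namespace Cfsg.Agent.GW.Bender

open Subgroup Cfsg.Agent.Involutions

universe u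

variable {G : Type u} [Group G] [Fintype G]

namespace Data

variable (d : Data G)

theorem centralizer_S_of_two (hm : d.m = 2) (i : ZMod d.m) :
    centralizer ((d.S : Subgroup G) : Set G) = centralizer ({d.t, d.u i} : Set G) := by
  ext x
  simp only [mem_centralizer_iff, Set.forall_mem_insert, Set.mem_singleton_iff, forall_eq,
    SetLike.mem_coe]
  refine ⟨fun h => ⟨h _ d.t_mem, h _ (d.u_mem i)⟩, fun ⟨h1, h2⟩ v hv => ?_⟩
  rcases d.mem_four_of_two hm i hv with rfl | rfl | rfl | rfl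
  · rw [one_mul, mul_one]
  · exact h1
  · exact h2
  · rw [mul_assoc, h2, ← mul_assoc, h1, mul_assoc]

theorem dihSylow_std (hm : 2 < d.m) :
    ∃ (σ τ : G) (k : ℕ), d.m = 2 * k ∧ CharTheory.DihedralPrincipal.DihSylow d.S σ τ k ∧
      σ ^ k = d.t ∧ (∃ i, τ = d.u i) ∧ ∃ j, σ * τ = d.u j := by
  haveI : Fact (Nat.Prime 2) := ⟨Nat.prime_two⟩
  haveI : NeZero d.m := ⟨d.ne_zero⟩
  obtain ⟨c, hc⟩ := DihedralSylow.four_dvd d.S d.e hm
  set σ : G := ((d.e.symm (DihedralGroup.r 1) : (d.S : Subgroup G)) : G) with hσ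
  have ho : orderOf σ = 2 * (2 * c) := by
    rw [hσ, Subgroup.orderOf_coe, MulEquiv.orderOf_eq, DihedralGroup.orderOf_r_one, hc]; ring
  have hrel : d.u 0 * σ * (d.u 0)⁻¹ = σ⁻¹ := by
    have key : DihedralGroup.sr 0 * DihedralGroup.r 1 * (DihedralGroup.sr 0)⁻¹ =
        (DihedralGroup.r 1 : DihedralGroup d.m)⁻¹ := by simp
    have := congrArg (fun z => ((d.e.symm z : (d.S : Subgroup G)) : G)) key
    simp only [map_mul, map_inv, Subgroup.coe_mul, Subgroup.coe_inv] at this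
    exact this
  have hn := CharTheory.DihedralPrincipal.τ_notMem_of_rel (m := 2 * c) (by omega) ho hrel
  refine ⟨σ, d.u 0, 2 * c, by omega, ⟨(d.e.symm _).2, d.u_mem 0, ho, d.u_sq 0, hrel, hn,
    dvd_mul_right 2 c, ?_, CharTheory.DihedralPrincipal.exists_cases_of_card (d.e.symm _).2
      (d.u_mem 0) ho hn ?_⟩, ?_, ⟨0, rfl⟩, ⟨0 - 1, ?_⟩⟩
  · obtain ⟨k, hk⟩ := IsPGroup.iff_card.1 d.S.2
    rw [Nat.card_congr d.e.toEquiv, DihedralGroup.nat_card] at hk
    obtain ⟨j, -, hj⟩ := (Nat.dvd_prime_pow Nat.prime_two).1 (show 2 * c ∣ 2 ^ k from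
      hk ▸ Dvd.intro 4 (by rw [hc]; ring))
    exact ⟨j, hj⟩
  · rw [Nat.card_congr d.e.toEquiv, DihedralGroup.nat_card, hc]; ring
  · rw [hσ, ← SubmonoidClass.coe_pow, ← map_pow, DihedralGroup.r_one_pow]
    show _ = ((d.e.symm (DihedralGroup.r (DihedralEmbedding.half d.m)) : (d.S : Subgroup G)) : G)
    rw [DihedralEmbedding.half, show d.m / 2 = 2 * c by omega]
  · have key : DihedralGroup.r 1 * DihedralGroup.sr (0 : ZMod d.m) = DihedralGroup.sr (0 - 1) :=
      DihedralGroup.r_mul_sr 1 0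
    have := congrArg (fun z => ((d.e.symm z : (d.S : Subgroup G)) : G)) key
    simp only [map_mul, Subgroup.coe_mul] at this
    exact this

variable [IsSimpleGroup G]

/-- The upper bound of the order formula. -/
theorem card_mul_sq_le (hG : ¬ IsMulCommutative G) {a : ℕ} (ha : ∀ i, Nat.card (d.A i) = a) :
    2 * Nat.card G * a ^ 2 ≤ 15 * d.m ^ 3 * Nat.card d.O ^ 3 := by
  haveI : Fact (Nat.Prime 2) := ⟨Nat.prime_two⟩
  set o := Nat.card d.O
  have hG4 : 2 < Nat.card G := by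
    have h4 : 2 * d.m ∣ Nat.card G := d.card_S ▸ (d.S : Subgroup G).card_subgroup_dvd_card
    have := Nat.le_of_dvd Nat.card_pos h4
    have := d.two_le
    omega
  have hone := OrderBounds.one_class hG4 d.S d.two_le d.e
  rcases lt_or_eq_of_le d.two_le with hm | hm
  · obtain ⟨σ, τ, k, hk, h, hσ, ⟨i, hi⟩, j, hj⟩ := d.dihSylow_std hm
    obtain ⟨F, -, hF, hFeq⟩ := OrderBounds.exists_factor h hone
    rw [hσ, hi, ← hi, hj, hi, d.card_centralizer_four, d.card_centralizer_four, ha, ha,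
      d.card_H] at hFeq
    push_cast at hFeq
    have hap : (0 : ℚ) < a := Nat.cast_pos.2 (ha i ▸ Nat.card_pos)
    have : ((2 * Nat.card G * a ^ 2 : ℕ) : ℚ) ≤ ((15 * d.m ^ 3 * o ^ 3 : ℕ) : ℚ) := by
      push_cast
      rw [hFeq]
      calc 2 * (F * (2 * (d.m : ℚ) * o) ^ 3 * (1 / (4 * (a : ℚ)) + 1 / (4 * a)) ^ 2) * (a : ℚ) ^ 2
          = 4 * F * (d.m : ℚ) ^ 3 * o ^ 3 := by field_simp; ring
        _ ≤ 4 * (15 / 4) * (d.m : ℚ) ^ 3 * o ^ 3 := by gcongr
        _ = _ := by ring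
    exact_mod_cast this
  · obtain ⟨g, hg1, hg2⟩ := d.rho 0
    have hK := d.kleinCore_of_two hm.symm hg1 hg2
    have h := KleinCongruence.index_le d.S hK.klein hone
      (fun f => SmallSimple.Basic.hom_eq_one hG f |> MonoidHom.ext) d.t_mem d.t_order
    rw [d.centralizer_S_of_two hm.symm 0, d.card_centralizer_four, ha] at h
    rw [show Nat.card (centralizer ({d.t} : Set G)) = 2 * d.m * o from d.card_H] at h
    have hN : Nat.card G = 2 * d.m * o * (centralizer ({d.t} : Set G)).index := by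
      rw [← (centralizer ({d.t} : Set G)).card_mul_index, ← d.card_H]
    rw [← hm] at h hN
    rw [hN, ← hm]
    set N := (centralizer ({d.t} : Set G)).index
    calc 2 * (2 * 2 * o * N) * a ^ 2 = o * (N * (4 * a) ^ 2) / 2 := by
          rw [show o * (N * (4 * a) ^ 2) = 2 * (2 * (2 * 2 * o * N) * a ^ 2) by ring,
            Nat.mul_div_cancel_left _ two_pos]
      _ ≤ o * (15 * (2 * 2 * o) ^ 2) / 2 := Nat.div_le_div_right (Nat.mul_le_mul_left o h)
      _ = _ := by
          rw [show o * (15 * (2 * 2 * o) ^ 2) = 2 * (15 * 2 ^ 3 * o ^ 3) by ring,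
            Nat.mul_div_cancel_left _ two_pos]

end Data

end Cfsg.Agent.GW.Bender
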