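import Cfsg.Agent.Lib.GW.CountBasic

/-!
# Conjugate count: a central element of the Fitting subgroup in the centralizer of the component

`E ≅ PSL₂(q)` lies in the centralizer of `z`, `q ± 1 = |C_E(t)| = 4 σ c`, and the orbit of `z` under
`O` meets the torus of `E`.  The number of conjugates of `z` then exceeds what the order formula
allows.  Here `A = C_O(u)`, so `|O| = |A| c R` with `3 ≤ R ≤ (3 c - 1) / 2`.
-/

set_option autoImplicit false
set_option linter.style.haveILetI false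
set_option linter.unusedSectionVars false

namespace Cfsg.Agent.GW.Count

open Subgroup

universe u

variable {G : Type u} [Group G] [Finite G]

/-- The numerical contradiction. -/
theorem arith_central {c σ I X Y : ℕ} (hc : Odd c) (hc3 : 3 ≤ c) (hσ : 1 ≤ σ) (hY : 0 < Y)
    (h3 : 3 * Y ≤ X) (hX : 2 * X ≤ (3 * c - 1) * Y)
    (hI : σ * ((4 * c - 1) * (2 * c - 1)) ≤ I)
    (h : I ^ 2 * (X - Y) * Y ^ 2 ≤ 15 * σ ^ 2 * c ^ 2 * X ^ 3) : False := by
  have hXY : Y ≤ X := by omega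
  zify [hXY, show 1 ≤ 3 * c by omega, show 1 ≤ 4 * c by omega, show 1 ≤ 2 * c by omega] at *
  have hJ : 0 ≤ ((4 : ℤ) * c - 1) * (2 * c - 1) := by nlinarith
  have hσ2 : (0 : ℤ) < (σ : ℤ) ^ 2 := by positivity
  have hI2 : (σ : ℤ) ^ 2 * (((4 : ℤ) * c - 1) * (2 * c - 1)) ^ 2 ≤ (I : ℤ) ^ 2 := by
    rw [← mul_pow]; exact pow_le_pow_left₀ (mul_nonneg (by positivity) hJ) hI 2
  have key : ((((4 : ℤ) * c - 1) * (2 * c - 1)) ^ 2) * ((X - Y) * (Y : ℤ) ^ 2) ≤
      15 * (c : ℤ) ^ 2 * (X : ℤ) ^ 3 := by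
    refine le_of_mul_le_mul_left ?_ hσ2
    have hnn : (0 : ℤ) ≤ ((X : ℤ) - Y) * (Y : ℤ) ^ 2 := mul_nonneg (by linarith) (by positivity)
    nlinarith [mul_le_mul_of_nonneg_right hI2 hnn]
  clear h hI hI2 hJ
  have hY' : (0 : ℤ) < Y := by exact_mod_cast hY
  rcases (show c = 3 ∨ 5 ≤ c by rcases hc with ⟨j, rfl⟩; omega) with rfl | h5
  · norm_num at key hX
    nlinarith [mul_nonneg (mul_nonneg (show (0 : ℤ) ≤ X - 3 * Y by linarith)
      (show (0 : ℤ) ≤ 4 * Y - X by linarith)) hY'.le, pow_pos hY' 3,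
      mul_nonneg (mul_nonneg (show (0 : ℤ) ≤ X - 3 * Y by linarith)
        (show (0 : ℤ) ≤ 4 * Y - X by linarith)) (show (0 : ℤ) ≤ (X : ℤ) by positivity)]
  · have hc5 : (5 : ℤ) ≤ c := by exact_mod_cast h5
    have hX0 : (0 : ℤ) < X := by linarith
    -- `2 J² Y² ≤ 45 c² X²` and `2 X ≤ (3 c - 1) Y`
    have k1 : 2 * ((((4 : ℤ) * c - 1) * (2 * c - 1)) ^ 2) * (Y : ℤ) ^ 2 ≤
        45 * (c : ℤ) ^ 2 * (X : ℤ) ^ 2 := by
      refine le_of_mul_le_mul_left ?_ hX0
      nlinarith [mul_nonneg (mul_nonneg (sq_nonneg (((4 : ℤ) * c - 1) * (2 * c - 1))) (sq_nonneg (Y : ℤ)))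
        (show (0 : ℤ) ≤ X - 3 * Y by linarith)]
    have k2 : 4 * (X : ℤ) ^ 2 ≤ (3 * (c : ℤ) - 1) ^ 2 * (Y : ℤ) ^ 2 := by
      nlinarith [mul_self_le_mul_self (show (0 : ℤ) ≤ 2 * X by positivity) hX]
    have k3 : 8 * ((((4 : ℤ) * c - 1) * (2 * c - 1)) ^ 2) ≤ 45 * (c : ℤ) ^ 2 * (3 * c - 1) ^ 2 := by
      refine le_of_mul_le_mul_right ?_ (pow_pos hY' 2)
      nlinarith [mul_le_mul_of_nonneg_left k2 (show (0 : ℤ) ≤ 45 * (c : ℤ) ^ 2 by positivity)]
    nlinarith [mul_nonneg (show (0 : ℤ) ≤ c - 5 by linarith) (pow_nonneg (show (0 : ℤ) ≤ c by linarith) 3),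
      mul_nonneg (show (0 : ℤ) ≤ c - 5 by linarith) (pow_nonneg (show (0 : ℤ) ≤ c by linarith) 2),
      mul_nonneg (show (0 : ℤ) ≤ c - 5 by linarith) (show (0 : ℤ) ≤ c by linarith)]

/-- A `u`-inverted element of odd order is a square of one. -/
theorem exists_sqrt {D : Subgroup G} (hD : Odd (Nat.card D)) {u v : G} (hv : v ∈ D)
    (hinv : u * v * u⁻¹ = v⁻¹) : ∃ s ∈ D, s * s = v ∧ u * s * u⁻¹ = s⁻¹ := by
  obtain ⟨k, hk⟩ := hD.of_dvd_nat (Subgroup.orderOf_dvd_natCard D hv)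
  refine ⟨v ^ (k + 1), pow_mem hv _, ?_, ?_⟩
  · rw [← pow_add, show k + 1 + (k + 1) = orderOf v + 1 by omega, pow_succ, pow_orderOf_eq_one,
      one_mul]
  · rw [← conj_pow, hinv, inv_pow]

/-- **Case A of the conjugate count.** -/
theorem false_of_central {σ c : ℕ} (hσ : 1 ≤ σ) (hc : Odd c) (hc3 : 3 ≤ c)
    {E O : Subgroup G} {z t u : G} {F : Type} [Field F] [Fintype F] (hq : Odd (Fintype.card F))
    (e : E ≃* Matrix.ProjectiveSpecialLinearGroup (Fin 2) F)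
    (ht : orderOf t = 2) (htE : t ∈ E) (hu : orderOf u = 2) (huE : u ∈ E) (hut : u ≠ t)
    (hutc : Commute u t) (hEz : E ≤ centralizer ({z} : Set G))
    (hO : Odd (Nat.card O)) (hOt : ∀ o ∈ O, Commute o t) (huO : ∀ o ∈ O, u * o * u⁻¹ ∈ O)
    (hEC : Nat.card (E ⊓ centralizer ({t} : Set G) : Subgroup G) = 4 * (σ * c))
    (hzF : ∀ o ∈ O, ∃ d c₀ : G, o * z * o⁻¹ = d * c₀ ∧ (∀ x ∈ E, Commute d x) ∧ c₀ ∈ E ∧ c₀ ∈ O)
    (hcz : Nat.card (O ⊓ centralizer ({z} : Set G) : Subgroup G) ≤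
      c * Nat.card (O ⊓ centralizer ({u} : Set G) ⊓ centralizer ({z} : Set G) : Subgroup G))
    (hR3 : 3 * (c * Nat.card (O ⊓ centralizer ({u} : Set G) : Subgroup G)) ≤ Nat.card O)
    (hR : 2 * Nat.card O ≤
      (3 * c - 1) * (c * Nat.card (O ⊓ centralizer ({u} : Set G) : Subgroup G)))
    (hN : Nat.card G * Nat.card (O ⊓ centralizer ({u} : Set G) : Subgroup G) ^ 2 ≤
      60 * σ ^ 3 * Nat.card O ^ 3) : False := by
  classical
  obtain ⟨p₀, hp₀, X, hX, q, hT, hcent, hq'⟩ := exists_torus_subgroup hq e htE ht hEC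
  haveI := hp₀
  letI := hX
  set A : Subgroup G := O ⊓ centralizer ({u} : Set G) with hA
  set C₁ : Subgroup G := O ⊓ centralizer ({z} : Set G) with hC₁
  set C₂ : Subgroup G := A ⊓ centralizer ({z} : Set G) with hC₂
  have hodd : ∀ x ∈ O, Odd (orderOf x) := fun x hx =>
    hO.of_dvd_nat (Subgroup.orderOf_dvd_natCard O hx)
  -- `E ⊓ C₂ = ⊥`
  have hdis : E ⊓ C₂ = ⊥ := by
    rw [eq_bot_iff]
    rintro x ⟨hxE, ⟨hxO, hxu⟩, -⟩
    rw [mem_bot]
    exact congrArg Subtype.val (hT.eq_one_of_commute_invol (u := ⟨u, huE⟩) (x := ⟨x, hxE⟩)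
      (by rw [← Subgroup.orderOf_coe]; exact hu) (fun e' => hut (congrArg Subtype.val e'))
      (Subtype.ext hutc.eq) (by rw [← Subgroup.orderOf_coe]; exact hodd x hxO)
      (Subtype.ext (hOt x hxO).eq) (Subtype.ext (mem_centralizer_singleton_iff.1 hxu)))
  have hupper := card_class_mul_le hEz (show C₂ ≤ centralizer ({z} : Set G) from inf_le_right) hdis
  -- the orbit of `z` and its fixed points
  set Ω : Set G := {x | ∃ o ∈ O, x = o * z * o⁻¹} with hΩ
  set Φ : Set G := {x | ∃ o ∈ A, x = o * z * o⁻¹} with hΦ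
  set U : Set G := Ω \ Φ with hU
  set K : Set G := {x | IsConj z x} with hK
  have hΩc : Ω.ncard * Nat.card C₁ = Nat.card O := ncard_conj_mul O z
  have hΦc : Φ.ncard * Nat.card C₂ = Nat.card A := ncard_conj_mul A z
  have hΦΩ : Φ ⊆ Ω := fun x ⟨o, ho, hx⟩ => ⟨o, ho.1, hx⟩
  -- a point of the orbit outside `Φ` has a non-trivial torus component
  have hUne : ∀ x ∈ U, ¬ Commute x u := by
    rintro x ⟨⟨o, ho, rfl⟩, hxΦ⟩ hxu
    refine hxΦ ?_
    have huz : Commute u z := mem_centralizer_singleton_iff.1 (hEz huE)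
    have hy : o⁻¹ * u * o * u⁻¹ ∈ C₁ := by
      refine ⟨?_, mem_centralizer_singleton_iff.2 ?_⟩
      · rw [mul_assoc o⁻¹ u o, mul_assoc]
        exact O.mul_mem (O.inv_mem ho) (huO o ho)
      · have h1 : o⁻¹ * u * o * z = z * (o⁻¹ * u * o) := by
          calc o⁻¹ * u * o * z = o⁻¹ * (u * (o * z * o⁻¹)) * o := by group
            _ = o⁻¹ * ((o * z * o⁻¹) * u) * o := by rw [hxu.eq]
            _ = z * (o⁻¹ * u * o) := by group
        exact ((Commute.eq (Commute.mul_left (h1 : Commute (o⁻¹ * u * o) z) huz.inv_left)))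
    set v := o⁻¹ * u * o * u⁻¹ with hv
    have hu2 : u * u = 1 := by rw [← sq, ← hu, pow_orderOf_eq_one]
    have hui : u⁻¹ = u := inv_eq_of_mul_eq_one_right hu2
    have hinv : u * v * u⁻¹ = v⁻¹ := by
      rw [hv, hui]
      simp only [mul_inv_rev, inv_inv, hui, mul_assoc]
      rw [hu2, mul_one]
    have hodd1 : Odd (Nat.card C₁) := hO.of_dvd_nat (card_dvd_of_le inf_le_left)
    obtain ⟨s, hs, hss, hsu⟩ := exists_sqrt hodd1 hy hinv
    refine ⟨o * s, ⟨O.mul_mem ho hs.1, mem_centralizer_singleton_iff.2 ?_⟩, ?_⟩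
    · have h2 : u * s = s⁻¹ * u := by rw [← hsu, inv_mul_cancel_right]
      have h3 : o⁻¹ * u * o = s * s * u := by rw [hss, hv, inv_mul_cancel_right]
      have h4 : u * o * s = o * s * u := by
        calc u * o * s = o * (o⁻¹ * u * o) * s := by group
          _ = o * (s * s) * (u * s) := by rw [h3]; simp only [mul_assoc]
          _ = o * s * u := by rw [h2]; group
      rw [← mul_assoc, h4]
    · have hsz : s * z = z * s := mem_centralizer_singleton_iff.1 hs.2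
      calc o * z * o⁻¹ = o * (s * z * s⁻¹) * o⁻¹ := by rw [hsz, mul_inv_cancel_right]
        _ = o * s * z * (o * s)⁻¹ := by group
  have hclass : ∀ x ∈ U, ∀ a : G, a ∈ E → IsConj z (a * x * a⁻¹) := by
    rintro x ⟨⟨o, -, rfl⟩, -⟩ a -
    exact isConj_iff.2 ⟨a * o, by group⟩
  -- each conjugate of `z` arises at most `|C_E(t)|` times
  letI := Fintype.ofFinite G
  letI := Fintype.ofFinite E
  have hfib : U.ncard * Nat.card E ≤ 4 * (σ * c) * K.ncard := by
    set S : Finset (G × E) := U.toFinset ×ˢ (Finset.univ : Finset E) with hS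
    have hScard : S.card = U.ncard * Nat.card E := by
      rw [hS, Finset.card_product, ← Set.ncard_eq_toFinset_card', Finset.card_univ,
        Nat.card_eq_fintype_card]
    rw [← hScard]
    refine (Finset.card_le_mul_card_image (f := fun x => (x.2 : G) * x.1 * (x.2 : G)⁻¹) S
      (4 * (σ * c)) ?_).trans ?_
    · intro y hy
      obtain ⟨⟨x₁, a₁⟩, hxa, hy⟩ := Finset.mem_image.1 hy
      simp only [hS, Finset.mem_product, Set.mem_toFinset, Finset.mem_univ, and_true] at hxa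
      subst hy
      obtain ⟨o₁, ho₁, hx₁⟩ := hxa.1
      obtain ⟨d₁, c₁, h1, hd₁, hc₁E, hc₁O⟩ := hzF o₁ ho₁
      rw [← hx₁] at h1
      have hc₁1 : c₁ ≠ 1 := fun e' => hUne x₁ hxa (by rw [h1, e', mul_one]; exact hd₁ u huE)
      set γ : E := ⟨c₁, hc₁E⟩ with hγ
      have hγo : Odd (orderOf γ) := by rw [← Subgroup.orderOf_coe]; exact hodd c₁ hc₁O
      have hγ1 : γ ≠ 1 := fun e' => hc₁1 (congrArg Subtype.val e')
      have hγt : Commute γ (⟨t, htE⟩ : E) := Subtype.ext (hOt c₁ hc₁O).eq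
      have hcard := hT.natCard_cent_odd hγo hγ1 hγt
      rw [hcent] at hcard
      set J : Finset E := Finset.univ.filter fun a => a * γ * a⁻¹ = a₁ * γ * a₁⁻¹ ∨
        a * γ⁻¹ * a⁻¹ = a₁ * γ * a₁⁻¹ with hJ
      refine (Finset.card_le_card_of_injOn (fun x : G × E => x.2) (t := J) ?_ ?_).trans ?_
      · intro x hx
        simp only [Finset.coe_filter, Set.mem_ofPred_eq, hS, Finset.mem_product, Set.mem_toFinset,
          Finset.mem_univ, and_true] at hx
        obtain ⟨⟨o, ho, hxo⟩, -⟩ := hx.1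
        obtain ⟨d, c₂, h2, hd, hc₂E, hc₂O⟩ := hzF o ho
        rw [← hxo] at h2
        have heq : d * ((x.2 : G) * c₂ * (x.2 : G)⁻¹) = d₁ * ((a₁ : G) * c₁ * (a₁ : G)⁻¹) := by
          have h3 : (x.2 : G) * x.1 * (x.2 : G)⁻¹ = (a₁ : G) * x₁ * (a₁ : G)⁻¹ := hx.2
          rw [h1, h2] at h3
          calc d * ((x.2 : G) * c₂ * (x.2 : G)⁻¹) = d * (x.2 : G) * c₂ * (x.2 : G)⁻¹ := by group
            _ = (x.2 : G) * (d * c₂) * (x.2 : G)⁻¹ := by rw [(hd _ x.2.2).eq]; group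
            _ = (a₁ : G) * (d₁ * c₁) * (a₁ : G)⁻¹ := h3
            _ = (a₁ : G) * d₁ * c₁ * (a₁ : G)⁻¹ := by group
            _ = d₁ * ((a₁ : G) * c₁ * (a₁ : G)⁻¹) := by rw [← (hd₁ _ a₁.2).eq]; group
        set w : E := x.2 * ⟨c₂, hc₂E⟩ * x.2⁻¹ * (a₁ * γ * a₁⁻¹)⁻¹ with hw
        have hwd : (w : G) = d⁻¹ * d₁ := by
          have h4 : (x.2 : G) * c₂ * (x.2 : G)⁻¹ = d⁻¹ * (d₁ * ((a₁ : G) * c₁ * (a₁ : G)⁻¹)) := by
            rw [← heq, inv_mul_cancel_left]
          simp only [hw, hγ, coe_mul, InvMemClass.coe_inv]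
          rw [h4, mul_assoc, mul_assoc d₁, mul_inv_cancel, mul_one]
        have hwt : ∀ y : E, Commute w y := fun y => Subtype.ext (by
          simp only [coe_mul, hwd]
          exact ((hd _ y.2).inv_left.mul_left (hd₁ _ y.2)).eq)
        have hw1 : w = 1 := hT.eq_one_of_central hwt
        have hconj : x.2 * ⟨c₂, hc₂E⟩ * x.2⁻¹ = a₁ * γ * a₁⁻¹ := mul_inv_eq_one.1 hw1
        refine Finset.mem_coe.2 (Finset.mem_filter.2 ⟨Finset.mem_univ _, ?_⟩)
        have hback : (a₁⁻¹ * x.2) * ⟨c₂, hc₂E⟩ * (a₁⁻¹ * x.2)⁻¹ = γ := by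
          calc (a₁⁻¹ * x.2) * ⟨c₂, hc₂E⟩ * (a₁⁻¹ * x.2)⁻¹
              = a₁⁻¹ * (x.2 * ⟨c₂, hc₂E⟩ * x.2⁻¹) * a₁ := by group
            _ = γ := by rw [hconj]; group
        have hc₂o : Odd (orderOf (⟨c₂, hc₂E⟩ : E)) := by
          rw [← Subgroup.orderOf_coe]; exact hodd c₂ hc₂O
        rcases hT.eq_or_eq_inv hc₂o (Subtype.ext (hOt c₂ hc₂O).eq) hγt hback with h | h
        · exact Or.inl (h ▸ hconj)
        · right; rw [show γ⁻¹ = ⟨c₂, hc₂E⟩ by rw [h, inv_inv]]; exact hconj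
      · intro x hx y hy hxy
        simp only [Finset.coe_filter, Set.mem_ofPred_eq] at hx hy
        simp only at hxy
        have h3 := hx.2.trans hy.2.symm
        simp only [hxy, mul_left_inj, mul_right_inj] at h3
        exact Prod.ext h3 hxy
      · have hinv : centralizer ({γ⁻¹} : Set E) = centralizer ({γ} : Set E) := by
          ext y
          simp only [mem_centralizer_singleton_iff]
          exact Commute.inv_right_iff
        rw [hJ, Finset.filter_or]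
        refine (Finset.card_union_le _ _).trans ?_
        have h7 := card_solutions_le γ (a₁ * γ * a₁⁻¹)
        have h8 := card_solutions_le γ⁻¹ (a₁ * γ * a₁⁻¹)
        rw [hinv] at h8
        omega
    · refine Nat.mul_le_mul_left _ ?_
      rw [Set.ncard_eq_toFinset_card']
      refine Finset.card_le_card fun y hy => ?_
      obtain ⟨x, hx, rfl⟩ := Finset.mem_image.1 hy
      simp only [hS, Finset.mem_product, Set.mem_toFinset, Finset.mem_univ, and_true] at hx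
      rw [Set.mem_toFinset]
      exact hclass x.1 hx x.2 x.2.2
  -- arithmetic
  have hUc : U.ncard + Φ.ncard = Ω.ncard := Set.ncard_sdiff_add_ncard_of_subset hΦΩ (Set.toFinite _)
  set I := if q = 4 * (σ * c) + 1 then (4 * (σ * c) + 1) * (2 * (σ * c) + 1)
    else q * (2 * (σ * c) - 1) with hI
  have hE : Nat.card E = 4 * (σ * c) * I := by
    rcases hq' with ⟨h1, h2⟩ | ⟨h1, h2⟩
    · rw [hI, if_pos h1, h2]
    · rw [hI, if_neg (by omega), h2]
  have hlow : σ * ((4 * c - 1) * (2 * c - 1)) ≤ I := by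
    refine le_trans (le_of_eq_of_le ?_ (Nat.mul_le_mul_left σ (Nat.mul_le_mul_left (4 * c - 1)
      (show 2 * c - 1 ≤ 2 * (σ * c) - 1 from ?_)))) ?_
    · rfl
    · have : c ≤ σ * c := Nat.le_mul_of_pos_left c hσ
      omega
    rw [← mul_assoc]
    have h1 : σ * (4 * c - 1) ≤ 4 * (σ * c) - 1 := by
      rw [Nat.mul_sub, mul_one, ← mul_assoc, mul_comm σ 4, mul_assoc]
      omega
    refine le_trans (Nat.mul_le_mul_right _ h1) ?_
    rw [hI]
    split_ifs with h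
    · exact Nat.mul_le_mul (by omega) (by omega)
    · rcases hq' with ⟨h', -⟩ | ⟨h', -⟩
      · exact absurd h' h
      · exact Nat.mul_le_mul_right _ (by omega)
  set k := K.ncard
  set o := Nat.card O
  set a := Nat.card A
  set C := Nat.card C₂
  have hC0 : 0 < C := Nat.card_pos
  have ha0 : 0 < a := Nat.card_pos
  refine arith_central (X := o) (Y := c * a) hc hc3 hσ (by positivity) hR3 hR hlow ?_
  -- `o - c a ≤ c C |U|`
  have h1 : o - c * a ≤ c * C * U.ncard := by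
    have h2 : o ≤ c * C * Ω.ncard := by
      rw [← hΩc, mul_comm]; exact Nat.mul_le_mul_right _ hcz
    rw [← hUc, mul_add, mul_assoc c C Φ.ncard, mul_comm C Φ.ncard, hΦc] at h2
    omega
  have h3 : (o - c * a) * Nat.card E * (Nat.card E * a ^ 2) ≤
      c * (4 * (σ * c)) * (60 * σ ^ 3 * o ^ 3) := by
    calc (o - c * a) * Nat.card E * (Nat.card E * a ^ 2)
        ≤ c * C * U.ncard * Nat.card E * (Nat.card E * a ^ 2) :=
          Nat.mul_le_mul_right _ (Nat.mul_le_mul_right _ h1)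
      _ = c * (U.ncard * Nat.card E) * (C * Nat.card E * a ^ 2) := by ring
      _ ≤ c * (4 * (σ * c) * k) * (C * Nat.card E * a ^ 2) :=
          Nat.mul_le_mul_right _ (Nat.mul_le_mul_left _ hfib)
      _ = c * (4 * (σ * c)) * (k * (Nat.card E * C) * a ^ 2) := by ring
      _ ≤ c * (4 * (σ * c)) * (Nat.card G * a ^ 2) :=
          Nat.mul_le_mul_left _ (Nat.mul_le_mul_right _ hupper)
      _ ≤ c * (4 * (σ * c)) * (60 * σ ^ 3 * o ^ 3) := Nat.mul_le_mul_left _ hN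
  rw [hE] at h3
  have h4 : 16 * σ ^ 2 * (I ^ 2 * (o - c * a) * (c * a) ^ 2) ≤
      16 * σ ^ 2 * (15 * σ ^ 2 * c ^ 2 * o ^ 3) := by
    calc 16 * σ ^ 2 * (I ^ 2 * (o - c * a) * (c * a) ^ 2)
        = (o - c * a) * (4 * (σ * c) * I) * ((4 * (σ * c) * I) * a ^ 2) := by ring
      _ ≤ c * (4 * (σ * c)) * (60 * σ ^ 3 * o ^ 3) := h3
      _ = 16 * σ ^ 2 * (15 * σ ^ 2 * c ^ 2 * o ^ 3) := by ring
  exact Nat.le_of_mul_le_mul_left h4 (by positivity)

end Cfsg.Agent.GW.Count
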