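import Cfsg.Agent.Lib.GW.BenderCaseDefs
import Cfsg.Agent.Lib.GW.BenderFourWrap
import Cfsg.Agent.Lib.GW.BenderOrder
import Cfsg.Agent.Lib.GW.CountCaseA

/-!
# No abelian normal subgroup of `H` meets the fixed points of a reflection

All three-cycles are central and all reflections act alike on the core.  If `X ≤ O` is abelian,
normal in `H`, contains nontrivial fixed points of the reflections and each of these has a component
in its centralizer, then the conjugate count is contradicted.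
-/

set_option autoImplicit false
set_option linter.style.haveILetI false

namespace Cfsg.Agent.GW.Bender

open Subgroup Cfsg.Agent.Involutions Cfsg.Agent.GW.Overgroups

universe u

variable {G : Type u} [Group G] [Finite G]

namespace Data

variable (d : Data G)

/-- What a fixed point `z` of the reflections needs of the component `E` of its centralizer. -/
structure Component (z : G) : Prop where
  facts : CompFacts (centralizer ({z} : Set G))
  psl : IsPSLType (centralizer ({z} : Set G))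
  disjoint : maxPerfect (centralizer ({z} : Set G)) ⊓ oddPart (centralizer ({z} : Set G)) = ⊥
  sylow_le : (d.S : Subgroup G) ≤ maxPerfect (centralizer ({z} : Set G))

namespace Component

variable {d} {z : G} (hE : d.Component z)

include hE in
theorem t_mem : d.t ∈ maxPerfect (centralizer ({z} : Set G)) := hE.sylow_le d.t_mem

include hE in
theorem u_mem (i : ZMod d.m) : d.u i ∈ maxPerfect (centralizer ({z} : Set G)) :=
  hE.sylow_le (d.u_mem i)

include hE in
/-- A fixed point in the odd part of `E O(L)` centralizes the component. -/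
theorem fixed_mem_oddPart {x : G}
    (hx : x ∈ maxPerfect (centralizer ({z} : Set G)) ⊔ oddPart (centralizer ({z} : Set G)))
    (hxA : x ∈ d.A 0) : x ∈ oddPart (centralizer ({z} : Set G)) :=
  hE.facts.four_fixed hE.psl d.t hE.t_mem (d.u 0) (hE.u_mem 0) d.t_order (d.u_order 0) (d.u_ne_t 0)
    (d.commute_tu 0) x hx (d.orderOf_odd hxA.1) (d.commute_t_O hxA.1)
    (mem_centralizer_singleton_iff.1 hxA.2).symm

include hE in
/-- No nontrivial element of the core in the component is fixed by the reflection. -/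
theorem eq_one_of_fixed {x : G} (hx : x ∈ maxPerfect (centralizer ({z} : Set G)))
    (hxA : x ∈ d.A 0) : x = 1 := by
  have h : x ∈ (⊥ : Subgroup G) :=
    hE.disjoint ▸ ⟨hx, hE.fixed_mem_oddPart (mem_sup_left hx) hxA⟩
  exact mem_bot.1 h

include hE in
/-- Commutators with the reflection land in the component. -/
theorem comm_mem {k : G} (hk : k ∈ d.O) (hkz : k ∈ centralizer ({z} : Set G)) :
    d.u 0 * k * (d.u 0)⁻¹ * k⁻¹ ∈ d.O ⊓ maxPerfect (centralizer ({z} : Set G)) := by
  refine mem_inf.2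
    ⟨mul_mem ((mem_normalizer_iff.1 (d.H_le_normalizer_O (d.u_mem_H 0)) k).1 hk) (inv_mem hk), ?_⟩
  rw [show d.u 0 * k * (d.u 0)⁻¹ * k⁻¹ = d.u 0 * (k * (d.u 0)⁻¹ * k⁻¹) by group]
  exact mul_mem (hE.u_mem 0)
    ((mem_normalizer_iff.1 (le_normalizer_maxPerfect _ hkz) _).1 (inv_mem (hE.u_mem 0)))

include hE in
/-- The centralizer of the central involution in the component. -/
theorem card_centralizer_t :
    Nat.card (maxPerfect (centralizer ({z} : Set G)) ⊓ centralizer ({d.t} : Set G) : Subgroup G) =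
      Nat.card (d.O ⊓ maxPerfect (centralizer ({z} : Set G)) : Subgroup G) * (2 * d.m) := by
  set E := maxPerfect (centralizer ({z} : Set G))
  let f : (d.O ⊓ E : Subgroup G) × (d.S : Subgroup G) →
      (E ⊓ centralizer ({d.t} : Set G) : Subgroup G) :=
    fun w => ⟨(w.1 : G) * w.2, mem_inf.2 ⟨mul_mem w.1.2.2 (hE.sylow_le w.2.2),
      mul_mem (d.O_le w.1.2.1) (d.S_le w.2.2)⟩⟩
  have hf : Function.Bijective f := by
    refine ⟨fun w w' he => ?_, fun x => ?_⟩
    · have he' : (w.1 : G) * w.2 = (w'.1 : G) * w'.2 := congrArg Subtype.val he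
      have h1 : (w'.1 : G)⁻¹ * w.1 = (w'.2 : G) * (w.2 : G)⁻¹ := by
        rw [inv_mul_eq_iff_eq_mul, ← mul_assoc, ← mul_inv_eq_iff_eq_mul.2 he'.symm]
      have h2 := d.inf_eq_one (mul_mem (inv_mem w'.1.2.1) w.1.2.1)
        (h1 ▸ mul_mem w'.2.2 (inv_mem w.2.2))
      exact Prod.ext (Subtype.ext (inv_mul_eq_one.1 h2).symm)
        (Subtype.ext (mul_inv_eq_one.1 (h1.symm.trans h2)).symm)
    · obtain ⟨o, ho, s, hs, he⟩ := d.exists_mul x.2.2
      have hoE : o ∈ E := by
        have hxE : (x : G) ∈ E := x.2.1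
        have := mul_mem hxE (inv_mem (hE.sylow_le hs))
        rwa [he, mul_inv_cancel_right] at this
      exact ⟨(⟨o, ho, hoE⟩, ⟨s, hs⟩), Subtype.ext he.symm⟩
  rw [← Nat.card_eq_of_bijective f hf, Nat.card_prod, Nat.card_congr d.e.toEquiv,
    DihedralGroup.nat_card]

end Component

/-- The map `x ↦ u x u⁻¹ x⁻¹` on a subgroup bounds it by its image and the fixed points. -/
theorem card_le_of_comm {K C : Subgroup G} {u : G}
    (hC : ∀ k ∈ K, u * k * u⁻¹ * k⁻¹ ∈ C) :
    Nat.card K ≤ Nat.card C * Nat.card (K ⊓ centralizer ({u} : Set G) : Subgroup G) := by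
  classical
  let φ : K → C := fun k => ⟨_, hC k k.2⟩
  let sec : C → K := fun c => if h : ∃ k, φ k = c then h.choose else 1
  have hsec : ∀ k, φ (sec (φ k)) = φ k := fun k => by
    have hk : ∃ k', φ k' = φ k := ⟨k, rfl⟩
    simp only [sec, dif_pos hk]
    exact hk.choose_spec
  rw [← Nat.card_prod]
  refine Nat.card_le_card_of_injective (fun k : K => (φ k,
    (⟨((sec (φ k) : K) : G)⁻¹ * k, mem_inf.2 ⟨mul_mem (inv_mem (sec (φ k)).2) k.2, ?_⟩⟩ :
      (K ⊓ centralizer ({u} : Set G) : Subgroup G)))) ?_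
  · have h := congrArg Subtype.val (hsec k)
    change u * _ * u⁻¹ * _⁻¹ = u * _ * u⁻¹ * _⁻¹ at h
    set a : G := ((sec (φ k) : K) : G)
    rw [mem_centralizer_singleton_iff]
    have h2 : u * a * u⁻¹ = u * k * u⁻¹ * (k : G)⁻¹ * a := by rw [← h, inv_mul_cancel_right]
    have h3 : u * (a⁻¹ * k) * u⁻¹ = a⁻¹ * k := by
      calc u * (a⁻¹ * k) * u⁻¹ = (u * a * u⁻¹)⁻¹ * (u * k * u⁻¹) := by group
        _ = a⁻¹ * k := by rw [h2]; group
    exact (mul_inv_eq_iff_eq_mul.1 h3).symm
  · intro k k' he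
    have h1 := congrArg Prod.fst he
    have h2 := congrArg (fun w => ((w.2 : (K ⊓ centralizer ({u} : Set G) : Subgroup G)) : G)) he
    have h3 : φ k = φ k' := h1
    simp only at h2
    rw [h3] at h2
    exact Subtype.ext (mul_left_cancel h2)

end Data

namespace Setting

variable (d : Setting G) [IsSimpleGroup G]

omit [IsSimpleGroup G] in
/-- A subgroup containing the prime power parts of `x` contains `x`. -/
theorem mem_of_prime_parts {T : Subgroup G} {x : G}
    (h : ∀ p : ℕ, p.Prime → p ∣ orderOf x → ∀ y ∈ zpowers x, (∃ k, orderOf y = p ^ k) → y ∈ T) :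
    x ∈ T := by
  have hdvd : orderOf x ∣ Nat.card (T ⊓ zpowers x : Subgroup G) := by
    rw [Nat.dvd_iff_prime_pow_dvd_dvd]
    intro p k hp hk
    rcases Nat.eq_zero_or_pos k with rfl | hk0
    · simp
    set y := x ^ (orderOf x / p ^ k) with hy
    have hyo : orderOf y = p ^ k := orderOf_pow_orderOf_div (orderOf_pos x).ne' hk
    have hyx : y ∈ zpowers x := pow_mem (mem_zpowers x) _
    have hyT : y ∈ T := h p hp ((dvd_pow_self p hk0.ne').trans hk) y hyx ⟨k, hyo⟩
    rw [← hyo]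
    exact Subgroup.orderOf_dvd_natCard _ (show y ∈ T ⊓ zpowers x from ⟨hyT, hyx⟩)
  have heq : (T ⊓ zpowers x : Subgroup G) = zpowers x := eq_of_le_of_card_ge inf_le_right (by
    rw [Nat.card_zpowers]; exact Nat.le_of_dvd Nat.card_pos hdvd)
  exact ((heq.symm ▸ mem_zpowers x : x ∈ T ⊓ zpowers x)).1

variable {d}

/-- The conjugate count for an abelian normal subgroup meeting the fixed points. -/
theorem false_of_abelian (hf : d.HasCompFacts) (hc : ∀ i, d.Central i) (hal : d.Alike)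
    {X : Subgroup G} (hX : X ≤ d.O) (hab : ∀ x ∈ X, ∀ y ∈ X, x * y = y * x)
    (hXn : d.H ≤ normalizer (X : Set G)) {z₀ : G} (hz₀X : z₀ ∈ X) (hz₀A : z₀ ∈ d.A 0)
    (hz₀p : (orderOf z₀).Prime) : False := by
  classical
  haveI : Fact (Nat.Prime 2) := ⟨Nat.prime_two⟩
  haveI : NeZero d.m := ⟨d.ne_zero⟩
  have hz₀ : z₀ ≠ 1 := fun h => by rw [h, orderOf_one] at hz₀p; exact Nat.not_prime_one hz₀p
  obtain ⟨σ, hσ⟩ := d.dvd
  -- all reflections fix the same part of the core
  have hAfix : ∀ x ∈ d.A 0, ∀ j, d.u j * x = x * d.u j := by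
    intro x hx j
    refine mul_inv_eq_iff_eq_mul.1 ?_
    rw [← hal 0 j x hx.1]
    exact mul_inv_eq_iff_eq_mul.2 (mem_centralizer_singleton_iff.1 hx.2).symm
  have hA : ∀ x ∈ d.A 0, ∀ s ∈ (d.S : Subgroup G), s * x = x * s := by
    intro x hx s hs
    rcases d.exists_refl hs with ⟨j, rfl⟩ | ⟨i, j, rfl⟩
    · exact hAfix x hx j
    · have c1 : Commute (d.u i) x := hAfix x hx i
      have c2 : Commute (d.u j) x := hAfix x hx j
      exact (c1.mul_left c2).eq
  obtain ⟨g, hg1, -, hga⟩ := hc 0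
  have hN : Nat.card G * Nat.card (d.A 0) ^ 2 ≤ 60 * σ ^ 3 * Nat.card d.O ^ 3 := by
    haveI : Fintype G := Fintype.ofFinite G
    have hAeq : ∀ i, d.A i = d.A 0 := fun i => le_antisymm
      (fun x hx => ⟨hx.1, mem_centralizer_singleton_iff.2 (mul_inv_eq_iff_eq_mul.1
        ((hal 0 i x hx.1).trans (mul_inv_eq_iff_eq_mul.2
          (mem_centralizer_singleton_iff.1 hx.2).symm))).symm⟩)
      fun x hx => ⟨hx.1, mem_centralizer_singleton_iff.2 (hAfix x hx i).symm⟩
    have h := d.toData.card_mul_sq_le d.not_commutative (a := Nat.card (d.A 0))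
      fun i => by rw [hAeq i]
    have h2 : d.m ^ 3 = 8 * σ ^ 3 := by rw [hσ, mul_pow]; norm_num
    rw [h2] at h
    linarith
  -- `X` is not fixed by the reflection
  have hmove : ∀ W : Subgroup G, W ≤ d.O → d.H ≤ normalizer (W : Set G) → W ≤ d.A 0 → W = ⊥ := by
    intro W hW hn hWA
    refine d.eq_bot_of_moved (hW.trans d.O_le) hn (g := g) ?_ (by rw [hg1]; exact d.u_ne_t 0)
    exact centralizer_le_normalizer _ (mem_centralizer_iff.2 fun w hw => (hga w (hWA hw)).symm)
  have hXA : ¬ X ≤ d.A 0 := fun h => by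
    have hb := hmove X hX hXn h
    rw [hb, mem_bot] at hz₀X
    exact hz₀ hz₀X
  have hXz : ∀ z ∈ X, X ≤ centralizer ({z} : Set G) := fun z hz x hx =>
    mem_centralizer_singleton_iff.2 (hab x hx z hz)
  -- the component in the centralizer of a fixed point
  have hcomp : ∀ z ∈ X, z ∈ d.A 0 → (orderOf z).Prime → d.Component z := by
    intro z hz hzA hzp
    have hz1 : z ≠ 1 := fun h => by rw [h, orderOf_one] at hzp; exact Nat.not_prime_one hzp
    -- the frame of `z`
    set q := orderOf z with hq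
    haveI : Fact q.Prime := ⟨hzp⟩
    have hq2 : q ≠ 2 := fun h => by
      have := d.orderOf_odd (hX hz)
      rw [← hq, h] at this
      exact absurd this (by decide)
    have hzP : z ∈ d.P q := by
      haveI : (X.subgroupOf d.H).Normal := normal_subgroupOf_of_le_normalizer hXn
      letI : CommGroup (X.subgroupOf d.H) :=
        { (inferInstance : Group (X.subgroupOf d.H)) with
          mul_comm := fun a b => Subtype.ext (Subtype.ext (hab _ a.2 _ b.2)) }
      haveI : Group.IsNilpotent (X.subgroupOf d.H) := CommGroup.isNilpotent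
      refine d.toData.mem_P_of_fitting (x := ⟨z, d.O_le (hX hz)⟩)
        (Cores.le_fittingSubgroup inferInstance (mem_subgroupOf.2 hz)) (k := 1) ?_
      rw [Subgroup.orderOf_mk, pow_one]
    have hfr : d.Frame 0 q (zpowers z) := d.frame_of_central hf (hc 0) hzp hq2
      (zpowers_le.2 hzP) (zpowers_le.2 hzA.2) (zpowers_ne_bot.2 hz1)
    have hlayer : Cfsg.layer (centralizer ({z} : Set G)) ≠ ⊥ := by
      set N := normalizer (zpowers z : Set G) with hN'
      have hlN : Cfsg.layer N ≠ ⊥ := fun h => by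
        have hut : orderOf (d.u 0 * d.t) = 2 := by
          refine orderOf_eq_prime ?_ fun h => d.u_ne_t 0 ?_
          · rw [sq, show d.u 0 * d.t * (d.u 0 * d.t) = d.u 0 * (d.t * d.u 0) * d.t by group,
              d.commute_tu, ← mul_assoc, d.u_sq, one_mul, d.t_sq]
          · rw [mul_eq_one_iff_eq_inv, d.t_inv] at h; exact h
        have hgN : g ∈ N := centralizer_le_normalizer _ (mem_centralizer_iff.2 fun y hy => by
          obtain ⟨j, rfl⟩ := mem_zpowers_iff.1 hy
          exact (Commute.zpow_left (hga z hzA : Commute g z).symm j).eq)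
        have hP : d.P q ≠ ⊥ := fun hb => hz1 (mem_bot.1 (hb ▸ hzP))
        have := d.t_moves_odd hq2 hP (zpowers z) (zpowers_le.2 hzP) h hgN
        rw [hg1, hut] at this
        exact absurd this (by decide)
      rw [Ne, Components.Basic.layer_eq_bot_iff] at hlN ⊢
      push Not at hlN ⊢
      obtain ⟨L, hL⟩ := hlN
      have hCN : centralizer ({z} : Set G) ≤ N := fun y hy =>
        centralizer_le_normalizer _ (mem_centralizer_iff.2 fun w hw => by
          obtain ⟨j, rfl⟩ := mem_zpowers_iff.1 hw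
          exact (Commute.zpow_left (mem_centralizer_singleton_iff.1 hy : Commute y z).symm j).eq)
      have hLC : L ≤ (centralizer ({z} : Set G)).subgroupOf N := by
        intro y hy
        rw [mem_subgroupOf, mem_centralizer_singleton_iff]
        have hyE : (y : G) ∈ maxPerfect N := Overgroups.le_maxPerfect (map_subtype_le L) (by
          rw [← map_commutator, Components.Basic.component_commutator_self hL]) ⟨y, hy, rfl⟩
        exact (mem_centralizer_iff.1 (hfr.component_centralizes hyE) z (mem_zpowers z)).symm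
      exact ⟨_, (Components.Basic.isComponent_map_equiv (subgroupOfEquivOfLe hCN) _).2
        (Components.Basic.component_subgroupOf hL hLC)⟩
    set L := centralizer ({z} : Set G) with hL
    have hLtop : L ≠ ⊤ := by
      intro h
      have hle : zpowers z ≤ d.H := zpowers_le.2 (d.O_le (hX hz))
      refine d.normalizer_ne_top hle (zpowers_ne_bot.2 hz1) (top_le_iff.1 (h ▸ ?_))
      rw [hL]
      exact fun y hy => centralizer_le_normalizer _ (mem_centralizer_iff.2 fun w hw => by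
        obtain ⟨j, rfl⟩ := mem_zpowers_iff.1 hw
        exact (Commute.zpow_left (mem_centralizer_singleton_iff.1 hy : Commute y z).symm j).eq)
    have hB := hf L hLtop hlayer
    have htL : d.t ∈ L := mem_centralizer_singleton_iff.2 (d.commute_t_O (hX hz))
    have hgens : ∀ i, d.u i ∈ maxPerfect L ∧ d.t ∈ maxPerfect L := by
      intro i
      obtain ⟨gi, h1, h2, h3⟩ := hc i
      have hzi : z ∈ d.A i := ⟨hX hz, mem_centralizer_singleton_iff.2 (hAfix z hzA i).symm⟩
      have hgL : gi ∈ L := mem_centralizer_singleton_iff.2 (h3 z hzi)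
      have hut : orderOf (d.u i * d.t) = 2 := by
        refine orderOf_eq_prime ?_ fun h => d.u_ne_t i ?_
        · rw [sq, show d.u i * d.t * (d.u i * d.t) = d.u i * (d.t * d.u i) * d.t by group,
            d.commute_tu, ← mul_assoc, d.u_sq, one_mul, d.t_sq]
        · rw [mul_eq_one_iff_eq_inv, d.t_inv] at h; exact h
      have hutE : d.u i * d.t ∈ maxPerfect L := by
        refine hB.mem_of_two _ (hB.derived ?_) ⟨1, by rw [hut, pow_one]⟩
        have := commutator_mem_commutator hgL htL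
        rwa [commutatorElement_def, h1, d.t_inv] at this
      have htE : d.t ∈ maxPerfect L := by
        have := (mem_normalizer_iff.1 (le_normalizer_maxPerfect L hgL) _).1 hutE
        rwa [show gi * (d.u i * d.t) * gi⁻¹ = (gi * d.u i * gi⁻¹) * (gi * d.t * gi⁻¹) by group, h1, h2,
          mul_assoc, d.u_sq, mul_one] at this
      refine ⟨?_, htE⟩
      have := mul_mem hutE htE
      rwa [mul_assoc, d.t_sq, mul_one] at this
    have hSE : (d.S : Subgroup G) ≤ maxPerfect L := by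
      intro s hs
      rcases d.exists_refl hs with ⟨j, rfl⟩ | ⟨i, j, rfl⟩
      · exact (hgens j).1
      · exact mul_mem (hgens i).1 (hgens j).1
    have hSL : (d.S : Subgroup G) ≤ L := hSE.trans (maxPerfect_le L)
    have hpsl : IsPSLType L := by
      by_contra hA7
      obtain ⟨v, hvE, hv2, hvt, htv, hvc⟩ := (hB.alt hA7).2 d.t (hgens 0).2 d.t_order
      have hvX : ∀ x ∈ X, v * x = x * v := fun x hx =>
        hvc x (hXz z hz hx) (d.commute_t_O (hX hx)) (d.orderOf_odd (hX hx))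
      have hvH : v ∈ d.H := mem_centralizer_singleton_iff.2 htv.symm
      have hvP : IsPGroup 2 (zpowers (⟨v, hvH⟩ : d.H)) := IsPGroup.of_card (n := 1) (by
        rw [Nat.card_zpowers, Subgroup.orderOf_mk, hv2, pow_one])
      obtain ⟨Q, hQ⟩ := hvP.exists_le_sylow
      obtain ⟨h, hh⟩ := MulAction.exists_smul_eq d.H Q (d.S.subtype d.S_le)
      have hmem : (h : G) * v * (h : G)⁻¹ ∈ (d.S : Subgroup G) := by
        have h1 : MulAut.conj h (⟨v, hvH⟩ : d.H) ∈ ((h • Q : Sylow 2 d.H) : Subgroup d.H) :=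
          Subgroup.smul_mem_pointwise_smul _ (MulAut.conj h) _ (hQ (mem_zpowers _))
        rw [hh] at h1
        exact h1
      rcases d.involution_cases hmem (by rw [Involutions.Basic.orderOf_conj, hv2]) with h1 | ⟨j, h1⟩
      · refine hvt ?_
        have h2 := d.conj_t (inv_mem h.2)
        rw [inv_inv] at h2
        calc v = (h : G)⁻¹ * ((h : G) * v * (h : G)⁻¹) * (h : G) := by group
          _ = d.t := by rw [h1, h2]
      · refine hXA fun x hx => ⟨hX hx, mem_centralizer_singleton_iff.2 ?_⟩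
        have hx' : (h : G)⁻¹ * x * (h : G) ∈ X := by
          simpa using (mem_normalizer_iff.1 (hXn (inv_mem h.2)) x).1 hx
        have hk := (Commute.conj_iff (h : G)).2 (hvX _ hx')
        rw [h1, show (h : G) * ((h : G)⁻¹ * x * h) * (h : G)⁻¹ = x by group] at hk
        have hk' : d.u j * x * (d.u j)⁻¹ = x := mul_inv_eq_iff_eq_mul.2 hk.eq
        rw [← hal 0 j x (hX hx)] at hk'
        exact (mul_inv_eq_iff_eq_mul.1 hk').symm
    refine ⟨hB, hpsl, ?_, hSE⟩
    rcases hB.centre hpsl with h | h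
    · exact h
    · refine absurd (fun x hx => ⟨hX hx, mem_centralizer_singleton_iff.2 ?_⟩) hXA
      exact (hB.commute (hgens 0).1 (h d.t (hgens 0).2 d.t_order x (hXz z hz hx)
        (d.commute_t_O (hX hx)) (d.orderOf_odd (hX hx)))).symm
  -- the elements of `X` are inner in each of these components
  have hinner : ∀ z ∈ X, z ∈ d.A 0 → (orderOf z).Prime → ∀ x ∈ X,
      x ∈ maxPerfect (centralizer ({z} : Set G)) ⊔ oddPart (centralizer ({z} : Set G)) := by
    intro z hz hzA hzp x hx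
    have hE := hcomp z hz hzA hzp
    refine mem_of_prime_parts fun p hp hpx y hy hyp => ?_
    have hyX : y ∈ X := zpowers_le.2 hx hy
    have hp2 : p ≠ 2 := fun h => by
      have := d.orderOf_odd (hX hx)
      rw [h] at hpx
      exact absurd this (Nat.not_odd_iff_even.2 (even_iff_two_dvd.2 hpx))
    refine hE.facts.inner_part d.t hE.t_mem d.t_order p hp hp2 y (hXz z hz hyX)
      (d.commute_t_O (hX hyX)) hyp fun w _ htw _ _ => ?_
    obtain ⟨k, hk⟩ := hyp
    have hwH : w ∈ d.H := mem_centralizer_singleton_iff.2 htw.symm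
    have h1 : w * y⁻¹ * w⁻¹ ∈ X := (mem_normalizer_iff.1 (hXn hwH) _).1 (inv_mem hyX)
    rw [show y * w * y⁻¹ * w⁻¹ = y * (w * y⁻¹ * w⁻¹) by group]
    have hcy : Commute y (w * y⁻¹ * w⁻¹) := hab y hyX _ h1
    have h2 := hcy.orderOf_mul_dvd_mul_orderOf
    rw [Involutions.Basic.orderOf_conj, orderOf_inv, hk, ← pow_add] at h2
    obtain ⟨i, -, hi⟩ := (Nat.dvd_prime_pow hp).1 h2
    exact ⟨i, hi⟩
  set D : Subgroup G := X ⊓ d.A 0 with hD
  have hE₀ := hcomp z₀ hz₀X hz₀A hz₀p
  set E := maxPerfect (centralizer ({z₀} : Set G)) with hEdef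
  set C : Subgroup G := d.O ⊓ E with hCdef
  set K : Subgroup G := d.O ⊓ centralizer ({z₀} : Set G) with hKdef
  have hCK : C ≤ K := fun x hx => ⟨hx.1, maxPerfect_le _ hx.2⟩
  have hK1 : ∀ k ∈ K, d.u 0 * k * (d.u 0)⁻¹ * k⁻¹ ∈ C := fun k hk => hE₀.comm_mem hk.1 hk.2
  -- the fixed part of `X` lies in the odd core of `C(z₀)`
  have hDodd : ∀ x ∈ D, x ∈ oddPart (centralizer ({z₀} : Set G)) := fun x hx =>
    hE₀.fixed_mem_oddPart (hinner z₀ hz₀X hz₀A hz₀p x hx.1) hx.2
  -- the stabilizer of `D`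
  set M : Subgroup G := d.O ⊓ normalizer (D : Set G) with hMdef
  have hAM : d.A 0 ≤ M := by
    refine fun a ha => ⟨ha.1, mem_normalizer_fintype fun x hx => ⟨?_, ?_⟩⟩
    · exact (mem_normalizer_iff.1 (hXn (d.O_le ha.1)) x).1 hx.1
    · exact (mul_mem (mul_mem ha hx.2) (inv_mem ha) : a * x * a⁻¹ ∈ d.A 0)
  have hKM : K ≤ M := by
    refine fun k hk => ⟨hk.1, mem_normalizer_fintype fun x hx => ?_⟩
    have hxX : k * x * k⁻¹ ∈ X := (mem_normalizer_iff.1 (hXn (d.O_le hk.1)) x).1 hx.1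
    refine ⟨hxX, hX hxX, mem_centralizer_singleton_iff.2 (mul_inv_eq_iff_eq_mul.1 ?_).symm⟩
    have hodd : k * x * k⁻¹ ∈ oddPart (centralizer ({z₀} : Set G)) :=
      (mem_normalizer_iff.1 (le_normalizer_oddPart _ hk.2) x).1 (hDodd x hx)
    have hux : d.u 0 * x * (d.u 0)⁻¹ = x :=
      mul_inv_eq_iff_eq_mul.2 (mem_centralizer_singleton_iff.1 hx.2.2).symm
    have hcc := hE₀.facts.commute (hE₀.comm_mem hk.1 hk.2).2 hodd
    calc d.u 0 * (k * x * k⁻¹) * (d.u 0)⁻¹
        = (d.u 0 * k * (d.u 0)⁻¹ * k⁻¹) * (k * (d.u 0 * x * (d.u 0)⁻¹) * k⁻¹) *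
            (d.u 0 * k * (d.u 0)⁻¹ * k⁻¹)⁻¹ := by group
      _ = k * x * k⁻¹ := by rw [hux, hcc, mul_inv_cancel_right]
  have hmeet : ∀ o ∈ d.O, ∀ z ∈ D, z ≠ 1 → o * z * o⁻¹ ∈ D → o ∈ M := by
    intro o ho z' hz' hz'1 hoz'
    obtain ⟨q, hq, hqd⟩ := Nat.exists_prime_and_dvd (fun h => hz'1 (orderOf_eq_one_iff.1 h))
    set z := z' ^ (orderOf z' / q) with hzdef
    have hz : z ∈ D := pow_mem hz' _
    have hzo : orderOf z = q := orderOf_pow_orderOf_div (orderOf_pos z').ne' hqd
    have hzp : (orderOf z).Prime := hzo ▸ hq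
    have hoz : o * z * o⁻¹ ∈ D := by rw [hzdef, ← conj_pow]; exact pow_mem hoz' _
    have hE := hcomp z hz.1 hz.2 hzp
    -- the conjugate reflection lies in `C(z)`
    set u' : G := o⁻¹ * d.u 0 * o with hu'
    have hu'z : u' * z = z * u' := by
      have h1 : Commute (d.u 0) (o * z * o⁻¹) := (mem_centralizer_singleton_iff.1 hoz.2.2).symm
      have h2 := (Commute.conj_iff o⁻¹).2 h1
      rwa [inv_inv, show o⁻¹ * (o * z * o⁻¹) * o = z by group] at h2
    set k : G := o⁻¹ * (d.u 0 * o * (d.u 0)⁻¹) with hk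
    have hku : u' = k * d.u 0 := by rw [hu', hk]; group
    have hkO : k ∈ d.O :=
      mul_mem (inv_mem ho) ((mem_normalizer_iff.1 (d.H_le_normalizer_O (d.u_mem_H 0)) o).1 ho)
    have hkz : k ∈ centralizer ({z} : Set G) := by
      rw [mem_centralizer_singleton_iff, show k = u' * (d.u 0)⁻¹ by rw [hku, mul_inv_cancel_right]]
      have c1 : Commute u' z := hu'z
      have c2 : Commute (d.u 0) z := (mem_centralizer_singleton_iff.1 hz.2.2).symm
      exact (c1.mul_left c2.inv_left).eq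
    -- `k` is inverted by the reflection, and a square root of it moves `o` into `A`
    have hkinv : d.u 0 * k * (d.u 0)⁻¹ = k⁻¹ := by
      rw [hk]
      calc d.u 0 * (o⁻¹ * (d.u 0 * o * (d.u 0)⁻¹)) * (d.u 0)⁻¹
          = d.u 0 * o⁻¹ * (d.u 0)⁻¹ * ((d.u 0 * d.u 0) * o * (d.u 0 * d.u 0)⁻¹) := by group
        _ = (o⁻¹ * (d.u 0 * o * (d.u 0)⁻¹))⁻¹ := by rw [d.u_sq]; group
    obtain ⟨j, hj⟩ := exists_pow_eq_self_of_coprime
      (Nat.coprime_two_left.2 (d.orderOf_odd hkO) : Nat.Coprime 2 (orderOf k))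
    set l : G := k ^ j with hl
    have hl2 : l * l = k := by rw [hl, ← pow_add, ← two_mul, pow_mul, hj]
    have hlinv : d.u 0 * l * (d.u 0)⁻¹ = l⁻¹ := by rw [hl, ← conj_pow, hkinv, inv_pow]
    have hol : o * l ∈ d.A 0 := by
      refine ⟨mul_mem ho (pow_mem hkO j), mem_centralizer_singleton_iff.2 ?_⟩
      refine (mul_inv_eq_iff_eq_mul.1 ?_).symm
      calc d.u 0 * (o * l) * (d.u 0)⁻¹
          = o * k * (d.u 0 * l * (d.u 0)⁻¹) := by rw [hk]; group
        _ = o * l := by rw [hlinv, ← hl2]; group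
    have hlK : l ∈ d.O ⊓ centralizer ({z} : Set G) := ⟨pow_mem hkO j, pow_mem hkz j⟩
    -- `C_O(z)` normalizes `D`
    have hlM : l ∈ M := by
      refine ⟨hlK.1, mem_normalizer_fintype fun x hx => ?_⟩
      have hxX : l * x * l⁻¹ ∈ X := (mem_normalizer_iff.1 (hXn (d.O_le hlK.1)) x).1 hx.1
      refine ⟨hxX, hX hxX, mem_centralizer_singleton_iff.2 (mul_inv_eq_iff_eq_mul.1 ?_).symm⟩
      have hxodd : x ∈ oddPart (centralizer ({z} : Set G)) :=
        hE.fixed_mem_oddPart (hinner z hz.1 hz.2 hzp x hx.1) hx.2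
      have hodd : l * x * l⁻¹ ∈ oddPart (centralizer ({z} : Set G)) :=
        (mem_normalizer_iff.1 (le_normalizer_oddPart _ hlK.2) x).1 hxodd
      have hux : d.u 0 * x * (d.u 0)⁻¹ = x :=
        mul_inv_eq_iff_eq_mul.2 (mem_centralizer_singleton_iff.1 hx.2.2).symm
      have hcc := hE.facts.commute (hE.comm_mem hlK.1 hlK.2).2 hodd
      calc d.u 0 * (l * x * l⁻¹) * (d.u 0)⁻¹
          = (d.u 0 * l * (d.u 0)⁻¹ * l⁻¹) * (l * (d.u 0 * x * (d.u 0)⁻¹) * l⁻¹) *
              (d.u 0 * l * (d.u 0)⁻¹ * l⁻¹)⁻¹ := by group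
        _ = l * x * l⁻¹ := by rw [hux, hcc, mul_inv_cancel_right]
    have := mul_mem (hAM hol) (inv_mem hlM)
    rwa [mul_inv_cancel_right] at this
  have hz₀D : z₀ ∈ D := ⟨hz₀X, hz₀A⟩
  set a := Nat.card (d.A 0) with ha
  set c := Nat.card C with hc'
  -- the order of the stabilizer
  have hMlow : a * c ≤ Nat.card M := by
    rw [ha, hc', ← Nat.card_prod]
    refine Nat.card_le_card_of_injective
      (fun w : d.A 0 × C => (⟨(w.1 : G) * w.2, mul_mem (hAM w.1.2) (hKM (hCK w.2.2))⟩ : M)) ?_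
    intro w w' he
    have he' : (w.1 : G) * w.2 = (w'.1 : G) * w'.2 := congrArg Subtype.val he
    have h1 : (w'.1 : G)⁻¹ * w.1 = (w'.2 : G) * (w.2 : G)⁻¹ := by
      rw [inv_mul_eq_iff_eq_mul, ← mul_assoc, ← mul_inv_eq_iff_eq_mul.2 he'.symm]
    have h2 := hE₀.eq_one_of_fixed (h1 ▸ mul_mem w'.2.2.2 (inv_mem w.2.2.2))
      (mul_mem (inv_mem w'.1.2) w.1.2)
    exact Prod.ext (Subtype.ext (inv_mul_eq_one.1 h2).symm)
      (Subtype.ext (mul_inv_eq_one.1 (h1.symm.trans h2)).symm)
  have hMcomm : ∀ o ∈ M, d.u 0 * o * (d.u 0)⁻¹ * o⁻¹ ∈ C := by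
    -- `o` is a product of a fixed point and an element of `C_O(z₀)`
    intro o ho
    have hoz : o * z₀ * o⁻¹ ∈ D := (mem_normalizer_iff.1 ho.2 z₀).1 hz₀D
    have hoz' : o * z₀ * o⁻¹ ≠ 1 := fun h => hz₀ (conj_eq_one_iff.1 h)
    -- work at the inverse conjugate
    set u' : G := o⁻¹ * d.u 0 * o with hu'
    have hu'z : u' * z₀ = z₀ * u' := by
      have h1 : Commute (d.u 0) (o * z₀ * o⁻¹) := (mem_centralizer_singleton_iff.1 hoz.2.2).symm
      have h2 := (Commute.conj_iff o⁻¹).2 h1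
      rwa [inv_inv, show o⁻¹ * (o * z₀ * o⁻¹) * o = z₀ by group] at h2
    have hoi : o⁻¹ ∈ M := inv_mem ho
    have hoz2 : o⁻¹ * z₀ * o ∈ D := by simpa using (mem_normalizer_iff.1 hoi.2 z₀).1 hz₀D
    have hu'' : d.u 0 * o * (d.u 0)⁻¹ * o⁻¹ ∈ centralizer ({z₀} : Set G) := by
      have h1 : Commute (d.u 0) (o⁻¹ * z₀ * o) := (mem_centralizer_singleton_iff.1 hoz2.2.2).symm
      have h2 := (Commute.conj_iff o).2 h1.inv_left
      rw [show o * (o⁻¹ * z₀ * o) * o⁻¹ = z₀ by group] at h2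
      rw [mem_centralizer_singleton_iff,
        show d.u 0 * o * (d.u 0)⁻¹ * o⁻¹ = d.u 0 * (o * (d.u 0)⁻¹ * o⁻¹) by group]
      have c2 : Commute (d.u 0) z₀ := (mem_centralizer_singleton_iff.1 hz₀A.2).symm
      exact (c2.mul_left h2).eq
    have hOc : d.u 0 * o * (d.u 0)⁻¹ * o⁻¹ ∈ d.O :=
      mul_mem ((mem_normalizer_iff.1 (d.H_le_normalizer_O (d.u_mem_H 0)) o).1 ho.1) (inv_mem ho.1)
    -- an element of `C_O(z₀)` inverted by the reflection lies in the component
    set k : G := d.u 0 * o * (d.u 0)⁻¹ * o⁻¹ with hk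
    have hkinv : d.u 0 * k * (d.u 0)⁻¹ = k⁻¹ := by
      rw [hk]
      calc d.u 0 * (d.u 0 * o * (d.u 0)⁻¹ * o⁻¹) * (d.u 0)⁻¹
          = (d.u 0 * d.u 0) * o * (d.u 0 * d.u 0)⁻¹ * (d.u 0 * o⁻¹ * (d.u 0)⁻¹) := by group
        _ = (d.u 0 * o * (d.u 0)⁻¹ * o⁻¹)⁻¹ := by rw [d.u_sq]; group
    obtain ⟨j, hj⟩ := exists_pow_eq_self_of_coprime
      (Nat.coprime_two_left.2 (d.orderOf_odd hOc) : Nat.Coprime 2 (orderOf k))
    have h3 := hK1 (k ^ j) ⟨pow_mem hOc j, pow_mem hu'' j⟩
    rw [← conj_pow, hkinv, inv_pow, ← mul_inv_rev, ← pow_add, ← two_mul, pow_mul, hj] at h3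
    simpa using inv_mem h3
  have hMfix : (M ⊓ centralizer ({d.u 0} : Set G) : Subgroup G) = d.A 0 :=
    le_antisymm (fun x hx => ⟨hx.1.1, hx.2⟩) fun x hx => ⟨hAM hx, hx.2⟩
  have hMcard : Nat.card M = a * c := by
    refine le_antisymm ?_ hMlow
    have := Data.card_le_of_comm (C := C) hMcomm
    rw [hMfix, ← ha, ← hc'] at this
    rwa [mul_comm a c]
  -- the index of the stabilizer
  set r := M.relIndex d.O with hr
  have hrO : r * (a * c) = Nat.card d.O := by
    have h1 := (M.subgroupOf d.O).card_mul_index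
    rw [Nat.card_congr (subgroupOfEquivOfLe (inf_le_left : M ≤ d.O)).toEquiv, hMcard] at h1
    rw [hr, Subgroup.relIndex, mul_comm]
    exact h1
  have hodd : Odd (Nat.card d.O) := d.O_odd
  have hrodd : Odd r := hodd.of_dvd_nat ⟨a * c, hrO.symm⟩
  have hcodd : Odd c := hodd.of_dvd_nat ⟨r * a, by rw [← hrO]; ring⟩
  have hc3 : 3 ≤ c := by
    obtain ⟨x, hx, hxA⟩ := SetLike.not_le_iff_exists.1 hXA
    have hne : d.u 0 * x * (d.u 0)⁻¹ * x⁻¹ ≠ 1 := fun h => hxA ⟨hX hx,
      mem_centralizer_singleton_iff.2 (mul_inv_eq_iff_eq_mul.1 (mul_inv_eq_one.1 h)).symm⟩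
    have hmem := hK1 x ⟨hX hx, hXz z₀ hz₀X hx⟩
    haveI : Nontrivial C := ⟨⟨⟨_, hmem⟩, 1, fun h => hne (congrArg Subtype.val h)⟩⟩
    have h2 := Finite.one_lt_card (α := C)
    obtain ⟨j, hj⟩ := hcodd
    omega
  -- more than one conjugate of `D`
  have hr1 : r ≠ 1 := by
    intro h
    have hOM : d.O ≤ M := Subgroup.relIndex_eq_one.1 h
    have hDn : d.H ≤ normalizer (D : Set G) := by
      intro y hy
      obtain ⟨o, ho, s, hs, rfl⟩ := d.exists_mul hy
      refine mul_mem (hOM ho).2 (mem_normalizer_fintype fun x hx => ?_)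
      rw [hA x hx.2 s hs, mul_inv_cancel_right]
      exact hx
    have hb := hmove D (inf_le_left.trans hX) hDn inf_le_right
    rw [hb, mem_bot] at hz₀D
    exact hz₀ hz₀D
  have hr3 : 3 ≤ r := by
    obtain ⟨j, hj⟩ := hrodd
    omega
  -- the conjugates of `D` meet trivially inside `X`
  have hD3 : 3 ≤ Nat.card D := by
    haveI : Nontrivial D := ⟨⟨⟨z₀, hz₀D⟩, 1, fun h => hz₀ (congrArg Subtype.val h)⟩⟩
    have h1 := Finite.one_lt_card (α := D)
    have h2 : Odd (Nat.card D) :=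
      hodd.of_dvd_nat (card_dvd_of_le (inf_le_left.trans hX : D ≤ d.O))
    obtain ⟨j, hj⟩ := h2
    omega
  have hXle : Nat.card X ≤ c * Nat.card D := by
    have h := Data.card_le_of_comm (C := C) (u := d.u 0)
      fun x hx => hK1 x ⟨hX hx, hXz z₀ hz₀X hx⟩
    have hfix : (X ⊓ centralizer ({d.u 0} : Set G) : Subgroup G) = D :=
      le_antisymm (fun x hx => ⟨hx.1, hX hx.1, hx.2⟩) fun x hx => ⟨hx.1, hx.2.2⟩
    rwa [hfix] at h
  have hsep : r * (Nat.card D - 1) + 1 ≤ Nat.card X := by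
    haveI : Fintype G := Fintype.ofFinite G
    let ι : (↥d.O ⧸ M.subgroupOf d.O) × {x : D // x ≠ 1} → {x : X // x ≠ 1} := fun w =>
      ⟨⟨(w.1.out : G) * ((w.2.1 : D) : G) * (w.1.out : G)⁻¹,
        (mem_normalizer_iff.1 (hXn (d.O_le w.1.out.2)) _).1 w.2.1.2.1⟩,
        fun h => w.2.2 (Subtype.ext (conj_eq_one_iff.1 (congrArg Subtype.val h)))⟩
    have hι : Function.Injective ι := by
      rintro ⟨q, x, hx⟩ ⟨q', x', hx'⟩ he
      have he' : (q.out : G) * (x : G) * (q.out : G)⁻¹ = (q'.out : G) * (x' : G) * (q'.out : G)⁻¹ :=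
        congrArg (fun w : {x : X // x ≠ 1} => ((w.1 : X) : G)) he
      have hoo : ((q'.out : G)⁻¹ * q.out) ∈ M := by
        refine hmeet _ (mul_mem (inv_mem q'.out.2) q.out.2) x x.2
          (fun h => hx (Subtype.ext h)) ?_
        rw [show (q'.out : G)⁻¹ * q.out * x * ((q'.out : G)⁻¹ * q.out)⁻¹ =
          (q'.out : G)⁻¹ * ((q.out : G) * x * (q.out : G)⁻¹) * q'.out by group, he',
          show (q'.out : G)⁻¹ * ((q'.out : G) * x' * (q'.out : G)⁻¹) * q'.out = x' by group]
        exact x'.2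
      have hq : q' = q := by
        rw [← q'.out_eq, ← q.out_eq]
        exact QuotientGroup.eq.2 (mem_subgroupOf.2 hoo)
      subst hq
      refine Prod.ext rfl (Subtype.ext (Subtype.ext ?_))
      exact mul_left_cancel (mul_right_cancel he')
    have h1 := Nat.card_le_card_of_injective ι hι
    rw [Nat.card_prod] at h1
    have h2 : ∀ W : Subgroup G, Nat.card {x : W // x ≠ 1} = Nat.card W - 1 := fun W => by
      rw [Nat.card_eq_fintype_card, Nat.card_eq_fintype_card, Fintype.card_subtype_compl,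
        Fintype.card_subtype_eq]
    rw [h2, h2, ← Subgroup.index_eq_card] at h1
    have := Nat.card_pos (α := X)
    rw [hr, Subgroup.relIndex]
    omega
  have hrc : 2 * r ≤ 3 * c - 1 := by
    obtain ⟨e', he'⟩ : ∃ e', Nat.card D = e' + 3 := ⟨Nat.card D - 3, by omega⟩
    have h1 := hsep.trans hXle
    rw [he', show e' + 3 - 1 = e' + 2 by omega] at h1
    by_contra hn
    have hn' : 3 * c ≤ 2 * r := by omega
    nlinarith
  -- the component is `PSL₂`
  obtain ⟨F, hF1, hF2, hFodd, -, ⟨φ⟩⟩ := hE₀.psl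
  have hcore : Cfsg.oddCore E = ⊥ := by
    rw [← Subgroup.map_eq_bot_iff_of_injective _ E.subtype_injective, eq_bot_iff, ← hE₀.disjoint]
    refine le_inf (map_subtype_le _) ?_
    refine Bender.le_oddPart ((map_subtype_le _).trans (maxPerfect_le _)) ?_ (oddPart_odd E)
    exact fun x hx => mem_normalizer_oddPart (le_normalizer_maxPerfect _ hx)
  let e : E ≃* Matrix.ProjectiveSpecialLinearGroup (Fin 2) F :=
    ((QuotientGroup.quotientMulEquivOfEq hcore).trans QuotientGroup.quotientBot).symm.trans φ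
  refine Count.false_of_central (σ := σ) (c := c) (E := E) (O := d.O) (z := z₀) (t := d.t)
    (u := d.u 0) (by have := d.two_le; omega) hcodd hc3 hFodd e d.t_order hE₀.t_mem (d.u_order 0)
    (hE₀.u_mem 0) (d.u_ne_t 0) (d.commute_tu 0).symm (maxPerfect_le _) d.O_odd
    (fun o ho => mem_centralizer_singleton_iff.1 (d.O_le ho))
    (fun o ho => (mem_normalizer_iff.1 (d.H_le_normalizer_O (d.u_mem_H 0)) o).1 ho) ?_ ?_ ?_ ?_ ?_
    hN
  · rw [hE₀.card_centralizer_t, ← hEdef, ← hCdef, ← hc', hσ]; ring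
  · intro o ho
    have hx : o * z₀ * o⁻¹ ∈ X := (mem_normalizer_iff.1 (hXn (d.O_le ho)) z₀).1 hz₀X
    obtain ⟨e₁, he₁, o₁, ho₁, he⟩ := hE₀.facts.exists_mul (hinner z₀ hz₀X hz₀A hz₀p _ hx)
    have hco : Commute e₁ o₁ := hE₀.facts.commute he₁ ho₁
    refine ⟨o₁, e₁, he.trans hco.eq, fun w hw => (hE₀.facts.commute hw ho₁ : Commute w o₁).symm,
      he₁, ?_⟩
    have htx : Commute d.t (e₁ * o₁) := he ▸ d.commute_t_O (hX hx)
    have hte : Commute d.t e₁ := by
      have hto : Commute d.t o₁ := hE₀.facts.commute hE₀.t_mem ho₁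
      have := htx.mul_right hto.inv_right
      rwa [mul_inv_cancel_right] at this
    refine d.mem_O_of_odd (mem_centralizer_singleton_iff.2 hte.symm.eq) ?_
    have hd := (hco.mul_left (Commute.refl o₁)).inv_right.orderOf_mul_dvd_mul_orderOf
    rw [mul_inv_cancel_right, orderOf_inv, ← he] at hd
    exact ((d.orderOf_odd (hX hx)).mul (odd_of_mem_oddPart ho₁)).of_dvd_nat hd
  · have h := Data.card_le_of_comm (C := C) hK1
    rw [← hc'] at h
    have hfix : (K ⊓ centralizer ({d.u 0} : Set G) : Subgroup G) =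
        d.O ⊓ centralizer ({d.u 0} : Set G) ⊓ centralizer ({z₀} : Set G) :=
      le_antisymm (fun x hx => ⟨⟨hx.1.1, hx.2⟩, hx.1.2⟩) fun x hx => ⟨⟨hx.1.1, hx.2⟩, hx.1.2⟩
    rwa [hfix] at h
  · show 3 * (c * a) ≤ Nat.card d.O
    rw [← hrO, mul_comm a c]
    exact Nat.mul_le_mul hr3 le_rfl
  · show 2 * Nat.card d.O ≤ (3 * c - 1) * (c * a)
    rw [← hrO, mul_comm a c, ← mul_assoc]
    exact Nat.mul_le_mul hrc le_rfl

/-- No abelian subgroup of the core normal in `H` meets the fixed points of the reflections. -/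
theorem noAbelianFixed (hf : d.HasCompFacts) (hc : ∀ i, d.Central i) (hal : d.Alike) :
    d.NoAbelianFixed := by
  intro X hX hXc hXn
  by_contra hne
  obtain ⟨x, hx, hx1⟩ := (Subgroup.bot_or_exists_ne_one _).resolve_left hne
  obtain ⟨q, hq, hqd⟩ := Nat.exists_prime_and_dvd (fun h => hx1 (orderOf_eq_one_iff.1 h))
  have hz : x ^ (orderOf x / q) ∈ X ⊓ centralizer ({d.u 0} : Set G) := pow_mem hx _
  refine false_of_abelian hf hc hal hX (fun a ha b hb => ?_) hXn hz.1 ⟨hX hz.1, hz.2⟩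
    (by rw [orderOf_pow_orderOf_div (orderOf_pos x).ne' hqd]; exact hq)
  haveI := hXc
  exact congrArg Subtype.val (mul_comm' (⟨a, ha⟩ : X) ⟨b, hb⟩)

end Setting

end Cfsg.Agent.GW.Bender
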