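import Cfsg.Agent.Lib.GW.CountNeighbours

/-!
# Conjugate count: a nonabelian Sylow subgroup of the Fitting subgroup

The second neighbourhood of `w` among its conjugates is larger than the order formula allows.
-/

set_option autoImplicit false
set_option linter.style.haveILetI false

namespace Cfsg.Agent.GW.Count

open Subgroup

universe u

variable {G : Type u} [Group G] [Finite G]

/-- The numerical contradiction. -/
theorem arith_noncentral {σ c p q I k o g : ℕ} (hσ : 0 < σ) (hp3 : 3 ≤ p) (hpc : p ≤ c)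
    (hI : (q = 4 * (σ * c) + 1 ∧ I = q * (2 * (σ * c) + 1)) ∨
      (q + 1 = 4 * (σ * c) ∧ I = q * (2 * (σ * c) - 1)))
    (hlow : p * p * (p - 1) * ((p - 1) * I) ≤
      k + p * p * (p - 1) * ((p - 1) + (p - 1) * (p - 1) * q))
    (hup : k * (4 * (σ * c) * I * p) ≤ g) (hN : g * p ^ 2 ≤ 60 * σ ^ 3 * o ^ 3)
    (hR : 2 * o ≤ p * p * (p + 1) * c) : False := by
  have hp1 : 1 ≤ p := by omega
  have hc0' : 0 < c := by omega
  have hcC : c ≤ σ * c := Nat.le_mul_of_pos_left c hσ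
  have hI' : (3 * ((σ : ℤ) * c) ^ 2 + 1 + ((p : ℤ) - 1) * q ≤ (I : ℤ)) ∧
      6 * ((σ : ℤ) * c) ^ 2 ≤ I := by
    obtain ⟨C, hC⟩ : ∃ C, C = σ * c := ⟨_, rfl⟩
    rw [← hC] at hI hcC
    rw [show (σ : ℤ) * c = (C : ℤ) by rw [hC]; push_cast; ring]
    have hpc' : (p : ℤ) ≤ C := by exact_mod_cast hpc.trans hcC
    have hc3 : (3 : ℤ) ≤ C := by exact_mod_cast hp3.trans (hpc.trans hcC)
    rcases hI with ⟨hq, hI⟩ | ⟨hq, hI⟩
    · subst hI; subst hq
      push_cast
      constructor <;> nlinarith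
    · have hq' : (q : ℤ) = 4 * C - 1 := by omega
      subst hI
      push_cast [show 1 ≤ 2 * C by omega]
      rw [hq']
      constructor <;> nlinarith
  have hup' : k * (4 * (σ * c) * I * p) * p ^ 2 * 8 ≤ 60 * σ ^ 3 * (p * p * (p + 1) * c) ^ 3 := by
    calc k * (4 * (σ * c) * I * p) * p ^ 2 * 8 ≤ 60 * σ ^ 3 * o ^ 3 * 8 :=
          Nat.mul_le_mul_right _ ((Nat.mul_le_mul_right _ hup).trans hN)
      _ = 60 * σ ^ 3 * (2 * o) ^ 3 := by ring
      _ ≤ 60 * σ ^ 3 * (p * p * (p + 1) * c) ^ 3 := Nat.mul_le_mul_left _ (Nat.pow_le_pow_left hR 3)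
  have hP : (0 : ℤ) < (p : ℤ) ^ 3 * (σ * c) := by positivity
  zify [hp1] at hlow hup'
  have hlow' : (p : ℤ) ^ 2 * (p - 1) ^ 2 * (3 * ((σ : ℤ) * c) ^ 2) ≤ k := by
    have h2 : (p : ℤ) ^ 2 * (p - 1) ^ 2 * (I - 1 - (p - 1) * q) ≤ k := by linarith
    refine le_trans ?_ h2
    exact mul_le_mul_of_nonneg_left (by linarith [hI'.1]) (by positivity)
  have h3 : 8 * (k : ℤ) * I ≤ 15 * (σ : ℤ) ^ 2 * (p : ℤ) ^ 3 * c ^ 2 * (p + 1) ^ 3 := by
    refine le_of_mul_le_mul_left ?_ (mul_pos (show (0 : ℤ) < 4 by norm_num) hP)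
    linarith
  have h4 : 144 * (p : ℤ) ^ 2 * (p - 1) ^ 2 * ((σ : ℤ) * c) ^ 4 ≤
      15 * (σ : ℤ) ^ 2 * (p : ℤ) ^ 3 * c ^ 2 * (p + 1) ^ 3 := by
    refine le_trans ?_ h3
    have := mul_le_mul hlow' hI'.2 (by positivity) (by positivity)
    linarith
  have h5 : 144 * ((p : ℤ) - 1) ^ 2 * ((σ : ℤ) * c) ^ 2 ≤ 15 * p * (p + 1) ^ 3 := by
    refine le_of_mul_le_mul_left ?_ (show (0 : ℤ) < (p : ℤ) ^ 2 * ((σ : ℤ) * c) ^ 2 by positivity)
    linarith
  have hpc' : (p : ℤ) ≤ (σ : ℤ) * c := by exact_mod_cast hpc.trans hcC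
  have h6 : 144 * ((p : ℤ) - 1) ^ 2 * p ≤ 15 * (p + 1) ^ 3 := by
    refine le_of_mul_le_mul_left ?_ (show (0 : ℤ) < p by exact_mod_cast hp1)
    refine le_trans ?_ (h5.trans_eq (by ring))
    have : (p : ℤ) * p ≤ ((σ : ℤ) * c) ^ 2 := by nlinarith
    nlinarith [mul_le_mul_of_nonneg_left this (show (0 : ℤ) ≤ 144 * ((p : ℤ) - 1) ^ 2 by positivity)]
  have hp3' : (3 : ℤ) ≤ p := by exact_mod_cast hp3
  nlinarith [mul_nonneg (sub_nonneg.2 hp3') (mul_nonneg (sub_nonneg.2 hp3') (show (0 : ℤ) ≤ p by positivity)),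
    mul_nonneg (sub_nonneg.2 hp3') (sub_nonneg.2 hp3')]

/-- **Case B of the conjugate count**, `|C_E(t)| = 4 σ c`. -/
theorem false_of_noncentral_gen {p σ c : ℕ} (hσ : 0 < σ) (hpc : p ≤ c) {E O : Subgroup G} {w t ζ : G}
    (D : NeighbourData p E O w t ζ)
    {F : Type} [Field F] [Fintype F] (hq : Odd (Fintype.card F))
    (e : E ≃* Matrix.ProjectiveSpecialLinearGroup (Fin 2) F)
    (hEC : Nat.card (E ⊓ centralizer ({t} : Set G) : Subgroup G) = 4 * (σ * c))
    (hN : Nat.card G * p ^ 2 ≤ 60 * σ ^ 3 * Nat.card O ^ 3)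
    (hR : 2 * Nat.card O ≤ p * p * (p + 1) * c) : False := by
  classical
  obtain ⟨p₀, hp₀, X, hX, q, hT, hcent, hq'⟩ := exists_torus_subgroup hq e D.t_mem D.t_order hEC
  haveI := hp₀
  letI := hX
  have hp3 : 3 ≤ p := by
    rcases D.prime.odd_of_ne_two D.ne_two with ⟨j, hj⟩
    have := D.prime.two_le
    omega
  have hpC := D.dvd_cent hT
  obtain ⟨C, hCdef⟩ : ∃ C, C = σ * c := ⟨_, rfl⟩
  rw [← hCdef] at hq' hcent hEC
  have hpC' : p ≤ C := hCdef ▸ hpc.trans (Nat.le_mul_of_pos_left c hσ)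
  set I := if q = 4 * C + 1 then q * (2 * C + 1) else q * (2 * C - 1) with hIdef
  have hI : (q = 4 * C + 1 ∧ I = q * (2 * C + 1)) ∨ (q + 1 = 4 * C ∧ I = q * (2 * C - 1)) := by
    rcases hq' with ⟨h, -⟩ | ⟨h, -⟩
    · exact Or.inl ⟨h, if_pos h⟩
    · exact Or.inr ⟨h, if_neg (by omega)⟩
  have hE : Nat.card E = 4 * C * I := by
    rcases hq' with ⟨h, h'⟩ | ⟨h, h'⟩
    · rw [hIdef, if_pos h, h', h]
    · rw [hIdef, if_neg (by omega), h']
  -- elements of order `p`
  set P : Set E := {f | orderOf f = p} with hP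
  have hPc : P.ncard = (p - 1) * I := by
    have h := hT.ncard_order D.prime D.ne_two hpC
    rw [hcent, hE] at h
    refine Nat.eq_of_mul_eq_mul_right (show 0 < 4 * C by omega) ?_
    rw [h]; ring
  have hbig : p * p * (p - 1) ≤ P.ncard := by
    rw [hPc, mul_comm (p - 1) I]
    refine Nat.mul_le_mul_right _ ?_
    rcases hI with ⟨h1, h2⟩ | ⟨h1, h2⟩ <;> rw [h2] <;> exact Nat.mul_le_mul (by omega) (by omega)
  obtain ⟨S, hS, hSc, hSshare⟩ := hT.exists_select D.prime D.ne_two hpC hbig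
  letI := Fintype.ofFinite G
  letI := Fintype.ofFinite E
  let A : E → Finset G := fun f =>
    Finset.univ.filter fun v => Adj p E w (w * f) v ∧ ¬ Commute w v
  have hadj : ∀ f : E, orderOf f = p → Adj p E w w (w * f) := fun f hf =>
    D.adj_base.2 ⟨f, f.2, by rw [Subgroup.orderOf_coe]; exact hf, rfl⟩
  -- the size of one set
  have hA : ∀ f ∈ S, P.ncard ≤ (A f).card + (p - 1) := by
    intro f hf
    obtain ⟨g₀, f₀, hf₀, hf₀o, hwf, hw⟩ := D.adj_symm hT (hadj f (hS f hf))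
    have himg : ((P.toFinset).filter fun g : E => ¬ Commute f₀ (g : G)).image
        (fun g : E => g₀ * (w * g) * g₀⁻¹) ⊆ A f := by
      intro v hv
      obtain ⟨g, hg, rfl⟩ := Finset.mem_image.1 hv
      obtain ⟨hgP, hgc⟩ := Finset.mem_filter.1 hg
      refine Finset.mem_filter.2 ⟨Finset.mem_univ _, ⟨g₀, g, g.2, by
        rw [Subgroup.orderOf_coe]; exact (Set.mem_toFinset (s := P)).1 hgP, hwf, rfl⟩, fun hc' => hgc ?_⟩
      have h := hc'.map (MulAut.conj g₀⁻¹)
      simp only [MulAut.conj_apply, inv_inv] at h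
      rw [show g₀⁻¹ * w * g₀ = w * f₀ by
          calc g₀⁻¹ * w * g₀ = g₀⁻¹ * (g₀ * (w * f₀) * g₀⁻¹) * g₀ := by rw [← hw]
            _ = w * f₀ := by group,
        show g₀⁻¹ * (g₀ * (w * (g : G)) * g₀⁻¹) * g₀ = w * g by group] at h
      -- `w` is central in what follows
      have hwf₀ : Commute w f₀ := (D.commute_E hf₀).symm
      have hwg : Commute w (g : G) := (D.commute_E g.2).symm
      have h1 : Commute (w⁻¹ * (w * f₀)) (w⁻¹ * (w * (g : G))) :=
        ((((Commute.refl w).inv_left.inv_right).mul_right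
            (((Commute.refl w).inv_left).mul_right hwg.inv_left))).mul_left
          ((((Commute.refl w).mul_left hwf₀.symm).inv_right).mul_right h)
      rwa [inv_mul_cancel_left, inv_mul_cancel_left] at h1
    have h1 := Finset.card_le_card himg
    rw [Finset.card_image_of_injective _ (fun g g' h => Subtype.ext (by
      have h' : g₀ * (w * (g : G)) * g₀⁻¹ = g₀ * (w * (g' : G)) * g₀⁻¹ := h
      simpa using h'))] at h1
    have h2 := Finset.card_filter_add_card_filter_not (s := P.toFinset) (fun g : E => ¬ Commute f₀ (g : G))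
    have h3 : ((P.toFinset).filter fun g : E => ¬¬ Commute f₀ (g : G)).card ≤ p - 1 := by
      have hsub : ((P.toFinset).filter fun g : E => ¬¬ Commute f₀ (g : G)).image (fun g : E => (g : G)) ⊆
          ((zpowers f₀ : Set G) \ {1}).toFinset := by
        intro v hv
        obtain ⟨g, hg, rfl⟩ := Finset.mem_image.1 hv
        obtain ⟨hgP, hgc⟩ := Finset.mem_filter.1 hg
        have hgo : orderOf (g : G) = p := by
          rw [Subgroup.orderOf_coe]; exact (Set.mem_toFinset (s := P)).1 hgP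
        refine Set.mem_toFinset.2 ⟨D.mem_powers_E hT hf₀ g.2 hf₀o hgo (not_not.1 hgc), fun h => ?_⟩
        rw [Set.mem_singleton_iff] at h
        rw [h, orderOf_one] at hgo
        omega
      have h4 := Finset.card_le_card hsub
      rw [Finset.card_image_of_injective _ Subtype.val_injective, ← Set.ncard_eq_toFinset_card',
        Set.ncard_sdiff_singleton_of_mem (show (1 : G) ∈ (zpowers f₀ : Set G) from one_mem _),
        ← Nat.card_coe_set_eq, SetLike.coe_sort_coe, Nat.card_zpowers, hf₀o] at h4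
      exact h4
    rw [Set.ncard_eq_toFinset_card']
    omega
  -- two sets
  have hinter : ∀ f ∈ S, ∀ g ∈ S, g ≠ f →
      (A f ∩ A g).card ≤ if ¬ Commute f g ∧ Share X f g then q else 0 := by
    intro f hf g hg hne
    by_cases h0 : A f ∩ A g = ∅
    · simp [h0]
    obtain ⟨v, hv⟩ := Finset.nonempty_iff_ne_empty.2 h0
    simp only [A, Finset.mem_inter, Finset.mem_filter, Finset.mem_univ, true_and] at hv
    have hvw : IsConj w v := by
      obtain ⟨g₁, f₁, hf₁, hf₁o, -, hv'⟩ := hv.1.1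
      obtain ⟨g₂, f₂, -, -, h2, -⟩ := D.adj_symm hT ⟨g₁, f₁, hf₁, hf₁o, rfl, hv'⟩
      exact isConj_iff.2 ⟨g₂, h2.symm⟩
    have hcf : f ∈ D.common v := ⟨hS f hf, D.adj_symm hT hv.1.1⟩
    have hcg : g ∈ D.common v := ⟨hS g hg, D.adj_symm hT hv.2.1⟩
    have hnc := D.common_not_commute hT hv.1.2 f hcf g hcg hne.symm
    obtain ⟨z, hz⟩ := D.common_share hT hv.1.2 hvw ⟨f, hcf⟩
    rw [if_pos ⟨hnc, z, hz f hcf, hz g hcg⟩]
    have hconj : ∀ f ∈ S, IsConj w (w * (f : G)) := fun f hf => by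
      obtain ⟨g₂, f₂, -, -, h2, -⟩ := D.adj_symm hT (hadj f (hS f hf))
      exact isConj_iff.2 ⟨g₂, h2.symm⟩
    have hncG : ¬ Commute (w * (f : G)) (w * g) := fun h => hnc (Subtype.ext (by
      have hwf : Commute w (f : G) := (D.commute_E f.2).symm
      have hwg : Commute w (g : G) := (D.commute_E g.2).symm
      have h1 : Commute (w⁻¹ * (w * (f : G))) (w⁻¹ * (w * (g : G))) :=
        ((((Commute.refl w).inv_left.inv_right).mul_right
            (((Commute.refl w).inv_left).mul_right hwg.inv_left))).mul_left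
          ((((Commute.refl w).mul_left hwf.symm).inv_right).mul_right h)
      rw [inv_mul_cancel_left, inv_mul_cancel_left] at h1
      exact h1.eq))
    refine le_trans ?_ (D.ncard_adj_le hT (hconj f hf) (hconj g hg) hncG)
    rw [← Set.ncard_coe_finset]
    refine Set.ncard_le_ncard (fun x hx => ?_) (Set.toFinite _)
    simp only [A, Finset.coe_inter, Finset.coe_filter, Set.mem_inter_iff, Set.mem_ofPred_eq,
      Finset.mem_univ, true_and] at hx
    exact ⟨hx.1.1, hx.2.1⟩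
  -- the union
  set K : Set G := {x | IsConj w x} with hK
  have hunion : S.toFinset.biUnion A ⊆ K.toFinset := by
    intro v hv
    obtain ⟨f, -, hv⟩ := Finset.mem_biUnion.1 hv
    obtain ⟨g₁, f₁, hf₁, hf₁o, -, hv'⟩ := (Finset.mem_filter.1 hv).2.1
    obtain ⟨g₂, f₂, -, -, h2, -⟩ := D.adj_symm hT ⟨g₁, f₁, hf₁, hf₁o, rfl, hv'⟩
    exact Set.mem_toFinset.2 (isConj_iff.2 ⟨g₂, h2.symm⟩)
  have hsum := two_mul_sum_card_le S.toFinset A
  have hS' : S.toFinset.card = p * p * (p - 1) := by rw [← Set.ncard_eq_toFinset_card', hSc]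
  have hdouble : ∑ i ∈ S.toFinset, ∑ j ∈ S.toFinset.erase i, (A i ∩ A j).card ≤
      p * p * (p - 1) * (2 * ((p - 1) * (p - 1)) * q) := by
    rw [← hS']
    refine (Finset.sum_le_card_nsmul _ _ _ fun i hi => ?_).trans (le_of_eq (smul_eq_mul _ _))
    rw [Set.mem_toFinset] at hi
    calc ∑ j ∈ S.toFinset.erase i, (A i ∩ A j).card
        ≤ ∑ j ∈ S.toFinset.erase i, if ¬ Commute i j ∧ Share X i j then q else 0 :=
          Finset.sum_le_sum fun j hj => hinter i hi j
            (Set.mem_toFinset.1 (Finset.mem_of_mem_erase hj)) (Finset.ne_of_mem_erase hj)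
      _ = ((S.toFinset.erase i).filter fun j => ¬ Commute i j ∧ Share X i j).card * q := by
          rw [Finset.sum_ite, Finset.sum_const, Finset.sum_const_zero, add_zero, smul_eq_mul]
      _ ≤ 2 * ((p - 1) * (p - 1)) * q := by
          refine Nat.mul_le_mul_right _ (le_trans ?_ (hSshare i hi))
          rw [← Set.ncard_coe_finset]
          refine Set.ncard_le_ncard (fun j hj => ?_) (Set.toFinite _)
          simp only [Finset.coe_filter, Finset.mem_erase, Set.mem_toFinset, Set.mem_ofPred_eq] at hj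
          exact ⟨hj.1.2, hj.2⟩
  have hlow : p * p * (p - 1) * P.ncard ≤
      K.ncard + p * p * (p - 1) * ((p - 1) + (p - 1) * (p - 1) * q) := by
    have h1 : ∑ f ∈ S.toFinset, P.ncard ≤ ∑ f ∈ S.toFinset, ((A f).card + (p - 1)) :=
      Finset.sum_le_sum fun f hf => hA f (Set.mem_toFinset.1 hf)
    rw [Finset.sum_const, Finset.sum_add_distrib, Finset.sum_const, smul_eq_mul, smul_eq_mul, hS'] at h1
    have h2 : (S.toFinset.biUnion A).card ≤ K.ncard := by
      rw [Set.ncard_eq_toFinset_card']; exact Finset.card_le_card hunion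
    have h3 : p * p * (p - 1) * (2 * ((p - 1) * (p - 1)) * q) =
        2 * (p * p * (p - 1) * ((p - 1) * (p - 1) * q)) := by ring
    rw [mul_add]
    omega
  rw [hPc] at hlow
  have hdis : E ⊓ zpowers w = ⊥ := by
    rw [eq_bot_iff]
    rintro x ⟨hxE, hxw⟩
    obtain ⟨k, rfl⟩ := mem_zpowers_iff.1 hxw
    refine mem_bot.2 (congrArg Subtype.val (hT.eq_one_of_central (w := ⟨w ^ k, hxE⟩) fun y =>
      Subtype.ext ((D.commute_E y.2).symm.zpow_left k).eq))
  have hup := card_class_mul_le D.E_le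
    (zpowers_le.2 (mem_centralizer_singleton_iff.2 rfl)) hdis
  rw [hE, Nat.card_zpowers, D.w_order] at hup
  rw [hCdef] at hI hup
  exact arith_noncentral hσ hp3 hpc hI hlow hup hN hR

/-- **Case B of the conjugate count** for a Klein four-group. -/
theorem false_of_noncentral {p c : ℕ} (hc : Odd c) {E O : Subgroup G} {w t ζ : G}
    (D : NeighbourData p E O w t ζ)
    {F : Type} [Field F] [Fintype F] (hq : Odd (Fintype.card F))
    (e : E ≃* Matrix.ProjectiveSpecialLinearGroup (Fin 2) F)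
    (hEC : Nat.card (E ⊓ centralizer ({t} : Set G) : Subgroup G) = 4 * c)
    (hN : Nat.card G * p ^ 2 ≤ 60 * Nat.card O ^ 3)
    (hR : 2 * Nat.card O ≤ p * p * (p + 1) * c) : False := by
  obtain ⟨p₀, hp₀, X, hX, q, hT, hcent, -⟩ := exists_torus_subgroup hq e D.t_mem D.t_order hEC
  haveI := hp₀
  letI := hX
  have hpC := D.dvd_cent hT
  rw [hcent, show (4 : ℕ) = 2 ^ 2 from rfl] at hpC
  have hp2 : Nat.Coprime p (2 ^ 2) :=
    ((Nat.coprime_two_right.2 (D.prime.odd_of_ne_two D.ne_two))).pow_right 2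
  exact false_of_noncentral_gen one_pos (Nat.le_of_dvd hc.pos (hp2.dvd_of_dvd_mul_left hpC)) D hq e
    (by rw [one_mul]; exact hEC) (by simpa using hN) hR

end Cfsg.Agent.GW.Count
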