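import Cfsg.Agent.Lib.GW.BenderExtraCoord
import Cfsg.Agent.Lib.GW.AbelianFixed
import Cfsg.Agent.Lib.GW.CountCaseB

/-!
# The mixed case: a nonabelian Sylow subgroup of the Fitting subgroup

`ExtraData` contradicts the conjugate count: the core has order at most `p² c |Q|` with `c` the odd
part of the torus and `Q ≤ SL₂(p)` of order at most `(p + 1) / 2`.
-/

set_option autoImplicit false
set_option linter.style.haveILetI false
set_option linter.unusedSectionVars false

namespace Cfsg.Agent.GW.Bender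

open Subgroup Cfsg.Agent.Involutions Cfsg.Agent.GW.Overgroups Cfsg.Agent.GW.Count.SLTwo
open scoped commutatorElement MatrixGroups

universe u v

variable {G : Type u} [Group G] [Finite G]

namespace Data

/-- A subgroup containing the Sylow 2-subgroup meets `H` in its part of the core times `S`. -/
theorem card_inf_centralizer_t (d : Data G) {E : Subgroup G} (hSE : (d.S : Subgroup G) ≤ E) :
    Nat.card (E ⊓ centralizer ({d.t} : Set G) : Subgroup G) =
      Nat.card (d.O ⊓ E : Subgroup G) * (2 * d.m) := by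
  let f : (d.O ⊓ E : Subgroup G) × (d.S : Subgroup G) →
      (E ⊓ centralizer ({d.t} : Set G) : Subgroup G) :=
    fun w => ⟨(w.1 : G) * w.2, mem_inf.2 ⟨mul_mem w.1.2.2 (hSE w.2.2),
      mul_mem (d.O_le w.1.2.1) (d.S_le w.2.2)⟩⟩
  have hf : Function.Bijective f := by
    refine ⟨fun w w' he => ?_, fun x => ?_⟩
    · have he' : (w.1 : G) * w.2 = (w'.1 : G) * w'.2 := congrArg Subtype.val he
      have h1 : (w'.1 : G)⁻¹ * w.1 = (w'.2 : G) * (w.2 : G)⁻¹ := by
        rw [inv_mul_eq_iff_eq_mul, ← mul_assoc, ← mul_inv_eq_iff_eq_mul.2 he'.symm]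
      have h2 := d.inf_eq_one (mul_mem (inv_mem w'.1.2.1) w.1.2.1)
        (h1 ▸ mul_mem w'.2.2 (inv_mem w.2.2))
      exact Prod.ext (Subtype.ext (inv_mul_eq_one.1 h2).symm)
        (Subtype.ext (mul_inv_eq_one.1 (h1.symm.trans h2)).symm)
    · obtain ⟨o, ho, s, hs, he⟩ := d.exists_mul x.2.2
      have hoE : o ∈ E := by
        have hxE : (x : G) ∈ E := x.2.1
        have := mul_mem hxE (inv_mem (hSE hs))
        rwa [he, mul_inv_cancel_right] at this
      exact ⟨(⟨o, ho, hoE⟩, ⟨s, hs⟩), Subtype.ext he.symm⟩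
  rw [← Nat.card_eq_of_bijective f hf, Nat.card_prod, Nat.card_congr d.e.toEquiv,
    DihedralGroup.nat_card]

/-- A homomorphism to an abelian group invariant under the reflections is trivial. -/
theorem NoFixedLinear.eq_one {d : Data G} (hN : d.NoFixedLinear) {M : Type v} [CommGroup M]
    (φ : d.O →* M)
    (h : ∀ (i : ZMod d.m) (a a' : d.O), (a' : G) = d.u i * a * (d.u i)⁻¹ → φ a' = φ a) :
    ∀ a, φ a = 1 := by
  have hs : ∀ s ∈ (d.S : Subgroup G), ∀ a a' : d.O, (a' : G) = s * a * s⁻¹ → φ a' = φ a := by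
    intro s hs a a' he
    rcases d.exists_refl hs with ⟨i, rfl⟩ | ⟨i, j, rfl⟩
    · exact h i a a' he
    · have hm : d.u j * (a : G) * (d.u j)⁻¹ ∈ d.O :=
        (mem_normalizer_iff.1 (d.H_le_normalizer_O (d.u_mem_H j)) _).1 a.2
      rw [h i ⟨_, hm⟩ a' (by rw [he]; group), h j a ⟨_, hm⟩ rfl]
  have hle : d.O ≤ φ.ker.map d.O.subtype := by
    refine hN.trans (sup_le ?_ ?_) <;> rw [commutator_le]
    · intro x hx y hy
      refine ⟨⁅(⟨x, hx⟩ : d.O), ⟨y, hy⟩⁆, MonoidHom.mem_ker.2 ?_, ?_⟩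
      · rw [map_commutatorElement]; exact commutatorElement_eq_one_iff_commute.2 (Commute.all _ _)
      · simp [commutatorElement_def]
    · intro x hx s hs'
      have hm : s * x⁻¹ * s⁻¹ ∈ d.O :=
        (mem_normalizer_iff.1 (d.H_le_normalizer_O (d.S_le hs')) _).1 (inv_mem hx)
      refine ⟨⟨x, hx⟩ * ⟨_, hm⟩, MonoidHom.mem_ker.2 ?_, ?_⟩
      · rw [map_mul, hs s hs' (⟨x, hx⟩ : d.O)⁻¹ ⟨_, hm⟩ rfl, map_inv, mul_inv_cancel]
      · simp [commutatorElement_def, mul_assoc]
  intro a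
  obtain ⟨a', ha', he⟩ := hle a.2
  rw [← (Subtype.ext he : a' = a)]
  exact MonoidHom.mem_ker.1 ha'

end Data

namespace Setting

variable {d : Setting G} [IsSimpleGroup G]

/-- **The residual configuration of the mixed case is impossible.** -/
theorem false_of_extra (hf : d.HasCompFacts) (hM : d.Mixed) {p : ℕ} {w b ζ : G}
    (hx : d.ExtraData p w b ζ) : False := by
  classical
  haveI : Fintype G := Fintype.ofFinite G
  haveI : Fact p.Prime := ⟨hx.prime⟩
  haveI : Fact (Nat.Prime 2) := ⟨Nat.prime_two⟩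
  haveI : NeZero d.m := ⟨d.ne_zero⟩
  have hp2 := hx.ne_two
  have f := hx.frame 0
  set B := normalizer (zpowers w : Set G) with hBdef
  set E := maxPerfect B with hEdef
  have hPne : d.P p ≠ ⊥ := fun h => by
    have := hx.b_mem
    rw [h, mem_bot] at this
    have hb := hx.b_order
    rw [this, orderOf_one] at hb
    exact hx.prime.one_lt.ne hb
  have hpsl : IsPSLType B := frame_isPSL f
  have hED : E ⊓ oddPart B = ⊥ := (frame_dvd f hx.prime hp2 hPne).2
  have htE : d.t ∈ E := f.t_mem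
  have huE : ∀ i, d.u i ∈ E := fun i => (hx.frame i).u_mem
  have hSE : (d.S : Subgroup G) ≤ E := by
    intro s hs
    rcases d.exists_refl hs with ⟨i, rfl⟩ | ⟨i, j, rfl⟩
    · exact huE i
    · exact mul_mem (huE i) (huE j)
  have hEw : E ≤ centralizer ({w} : Set G) := fun x hxE => mem_centralizer_singleton_iff.2
    (mem_centralizer_iff.1 (f.component_centralizes hxE) w (mem_zpowers w)).symm
  have hZcE : ∀ r : ℕ, r.Prime → r ≠ 2 → d.Zc r ≤ E := fun r hr hr2 z hz =>
    frame_inverted f hr hr2 hz.1 (f.center_le hr hz) ((hx.centre r hr hr2 z hz).1 0)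
  set Z : Subgroup G := d.O ⊓ E ⊓ centralizer (d.O : Set G) with hZdef
  have hZc : ∀ r : ℕ, r.Prime → r ≠ 2 → d.Zc r ≤ Z := fun r hr hr2 z hz => by
    haveI : Fact r.Prime := ⟨hr⟩
    exact ⟨⟨d.P_le_O hr2 hz.1, hZcE r hr hr2 hz⟩,
      mem_centralizer_iff.2 fun o ho => (hx.commute_O hr hr2 ho hz).eq⟩
  -- the elements of order `p` of the centre
  have hcyc : IsCyclic (d.Zc p) := by
    refine f.facts.torus_cyclic hpsl d.t htE d.t_order (d.Zc p)
      (fun z hz => ⟨hZcE p hx.prime hp2 hz, d.P_le p hz.1⟩)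
      (d.O_odd.of_dvd_nat (card_dvd_of_le ((d.Zc_le p).trans (d.P_le_O hp2)))) ?_
    rw [eq_bot_iff, ← hED]
    exact inf_le_inf_right _ (hZcE p hx.prime hp2)
  have homega : ∀ z ∈ d.Zc p, z ^ p = 1 → ∃ k : ZMod p, z = zk ζ k := by
    intro z hz hzp
    haveI := hcyc
    set ζ' : d.Zc p := ⟨ζ, hx.zeta_mem⟩
    set T := (Finset.univ : Finset (d.Zc p)).filter fun a => a ^ p = 1
    have hsub : (zpowers ζ' : Set (d.Zc p)).toFinset ⊆ T := by
      intro a ha
      obtain ⟨k, rfl⟩ := mem_zpowers_iff.1 (Set.mem_toFinset.1 ha)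
      refine Finset.mem_filter.2 ⟨Finset.mem_univ _, ?_⟩
      have h1 : ζ' ^ p = 1 := Subtype.ext (by
        rw [SubmonoidClass.coe_pow]; exact hx.zeta_order ▸ pow_orderOf_eq_one ζ)
      rw [← zpow_natCast, ← zpow_mul, mul_comm, zpow_mul, zpow_natCast, h1, one_zpow]
    have hcard : T.card ≤ (zpowers ζ' : Set (d.Zc p)).toFinset.card := by
      rw [← Set.ncard_eq_toFinset_card', ← Nat.card_coe_set_eq, SetLike.coe_sort_coe,
        Nat.card_zpowers, Subgroup.orderOf_mk, hx.zeta_order]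
      exact IsCyclic.card_pow_eq_one_le hx.prime.pos
    have hzT : (⟨z, hz⟩ : d.Zc p) ∈ T :=
      Finset.mem_filter.2 ⟨Finset.mem_univ _, Subtype.ext (by rw [SubmonoidClass.coe_pow]; exact hzp)⟩
    rw [← Finset.eq_of_subset_of_card_le hsub hcard] at hzT
    obtain ⟨n, hn⟩ := mem_powers_iff_mem_zpowers.2 (Set.mem_toFinset.1 hzT)
    exact ⟨n, by rw [zk_natCast hx.zeta_order]; exact (congrArg Subtype.val hn).symm⟩
  -- conjugates of the generators with trivial coordinates
  have htriv : ∀ v : G, v ∈ d.P p → orderOf v = p → ∀ a ∈ d.O,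
      hx.α (a * v * a⁻¹) = hx.α v → hx.β (a * v * a⁻¹) = hx.β v →
      ∃ k : ZMod p, a * v * a⁻¹ = v * zk ζ k := by
    intro v hv hvo a ha h1 h2
    have hv' := hx.conj_mem ha hv
    obtain ⟨i1, i2⟩ := hx.coord_inv hv
    have hz : v⁻¹ * (a * v * a⁻¹) ∈ d.Zc p := hx.mem_Zc (mul_mem (inv_mem hv) hv')
      (by rw [hx.α_mul (inv_mem hv) hv', i1, h1, neg_add_cancel])
      (by rw [hx.β_mul (inv_mem hv) hv', i2, h2, neg_add_cancel])
    have hpow : (v⁻¹ * (a * v * a⁻¹)) ^ p = 1 := by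
      have hc : Commute v (v⁻¹ * (a * v * a⁻¹)) := hx.commute_Zc hv hz
      have h3 : (v * (v⁻¹ * (a * v * a⁻¹))) ^ p = 1 := by
        rw [mul_inv_cancel_left, conj_pow, ← hvo, pow_orderOf_eq_one]; group
      rwa [hc.mul_pow, ← hvo, pow_orderOf_eq_one, one_mul, hvo] at h3
    obtain ⟨k, hk⟩ := homega _ hz hpow
    exact ⟨k, by rw [← hk, mul_inv_cancel_left]⟩
  -- the kernel
  have hker : ∀ a : d.O, hx.rho a = 1 →
      ∃ i j : ZMod p, ∃ z ∈ Z, (a : G) = w ^ i.val * b ^ j.val * z := by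
    intro a ha
    have e00 : hx.rho a 0 0 = 1 := by rw [ha]; simp
    have e01 : hx.rho a 0 1 = 0 := by rw [ha]; simp
    have e10 : hx.rho a 1 0 = 0 := by rw [ha]; simp
    have e11 : hx.rho a 1 1 = 1 := by rw [ha]; simp
    rw [Data.ExtraData.rho_00] at e00
    rw [Data.ExtraData.rho_01] at e01
    rw [Data.ExtraData.rho_10] at e10
    rw [Data.ExtraData.rho_11] at e11
    obtain ⟨k1, hk1⟩ := htriv w hx.w_mem hx.w_order a a.2
      (by rw [e00, hx.coord_w.1]) (by rw [e10, hx.coord_w.2])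
    obtain ⟨k2, hk2⟩ := htriv b hx.b_mem hx.b_order a a.2
      (by rw [e01, hx.coord_b.1]) (by rw [e11, hx.coord_b.2])
    set x := w ^ (-k2).val * b ^ k1.val with hxdef
    have hxP : x ∈ d.P p := hx.wb_mem _ _
    obtain ⟨ca, cb⟩ := hx.coord_wb (-k2).val k1.val
    rw [← hxdef, ZMod.natCast_zmod_val] at ca cb
    have hxw : x * w * x⁻¹ = w * zk ζ k1 := by rw [hx.conj_w hxP, cb]
    have hxb : x * b * x⁻¹ = b * zk ζ k2 := by rw [hx.conj_b hxP, ca, neg_neg]
    set c := x⁻¹ * (a : G) with hc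
    have hcO : c ∈ d.O := mul_mem (inv_mem (d.P_le_O hp2 hxP)) a.2
    have hcw : Commute c w := mul_inv_eq_iff_eq_mul.1 (by
      rw [hc, show x⁻¹ * (a : G) * w * (x⁻¹ * (a : G))⁻¹ = x⁻¹ * ((a : G) * w * (a : G)⁻¹) * x by group,
        hk1, ← hxw]
      group)
    have hcb : Commute c b := mul_inv_eq_iff_eq_mul.1 (by
      rw [hc, show x⁻¹ * (a : G) * b * (x⁻¹ * (a : G))⁻¹ = x⁻¹ * ((a : G) * b * (a : G)⁻¹) * x by group,
        hk2, ← hxb]
      group)
    have hcP : d.P p ≤ centralizer ({c} : Set G) := hx.generated.trans (sup_le (sup_le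
      (zpowers_le.2 (mem_centralizer_singleton_iff.2 hcw.symm.eq))
      (zpowers_le.2 (mem_centralizer_singleton_iff.2 hcb.symm.eq)))
      fun z hz => mem_centralizer_singleton_iff.2 (hx.commute_O hx.prime hp2 hcO hz).symm.eq)
    have hfit := d.mem_fitting hcO fun r hr hr2 y hy => by
      by_cases hrp : r = p
      · subst hrp; exact (mem_centralizer_singleton_iff.1 (hcP hy)).symm
      · exact (hx.commute_O hr hr2 hcO (hx.others r hr hr2 hrp hy)).eq
    have hK : ∀ r : ℕ, r.Prime → r ≠ 2 → d.P r ≤ (zpowers w ⊔ zpowers b) ⊔ Z := by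
      intro r hr hr2
      by_cases hrp : r = p
      · subst hrp; exact hx.generated.trans (sup_le_sup_left (hZc r hr hr2) _)
      · exact ((hx.others r hr hr2 hrp).trans (hZc r hr hr2)).trans le_sup_right
    have hWP : zpowers w ⊔ zpowers b ≤ d.P p :=
      sup_le (zpowers_le.2 hx.w_mem) (zpowers_le.2 hx.b_mem)
    have hWn : zpowers w ⊔ zpowers b ≤ normalizer (Z : Set G) := fun y hy =>
      centralizer_le_normalizer _ (mem_centralizer_iff.2 fun z hz =>
        (mem_centralizer_iff.1 hz.2 y (d.P_le_O hp2 (hWP hy))).symm)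
    have hmem := d.mem_of_cores hK hcO hfit
    rw [← SetLike.mem_coe, coe_mul_of_left_le_normalizer_right _ _ hWn] at hmem
    obtain ⟨y, hy, z, hz, hyz⟩ := hmem
    have hyP : y ∈ d.P p := hWP hy
    have hzw : ∀ v ∈ d.P p, Commute z v := fun v hv =>
      (mem_centralizer_iff.1 hz.2 v (d.P_le_O hp2 hv)).symm
    have hyZ : y ∈ d.Zc p := ⟨hyP, mem_centralizer_iff.2 fun v hv => by
      have h1 : Commute c v := (mem_centralizer_singleton_iff.1 (hcP hv)).symm
      have h2 : Commute (c * z⁻¹) v := h1.mul_left (hzw v hv).inv_left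
      rw [show c * z⁻¹ = y by rw [← hyz]; group] at h2
      exact h2.symm.eq⟩
    refine ⟨-k2, k1, c, ?_, ?_⟩
    · rw [← hyz]; exact mul_mem (hZc p hx.prime hp2 hyZ) hz
    · rw [hc, hxdef]; group
  -- invariant characters and the image
  set Q : Subgroup SL(2, ZMod p) := hx.rho.range with hQdef
  have hJ : ∀ q ∈ Q, jc q ∈ Q := by
    rintro _ ⟨a, rfl⟩
    exact ⟨_, hx.rho_u 0 a⟩
  have hQodd : Odd (Nat.card Q) :=
    d.O_odd.of_dvd_nat (Subgroup.card_range_dvd hx.rho)
  have hNI : NoInvariant Q hJ := by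
    intro M _ χ hχ q
    obtain ⟨q, a, rfl⟩ := q
    refine hM.noFixedLinear.eq_one (χ.comp hx.rho.rangeRestrict) (fun i a a' he => ?_) a
    have ha' : hx.rho a' = jc (hx.rho a) := by
      rw [← hx.rho_u i a]; exact congrArg hx.rho (Subtype.ext he)
    rw [MonoidHom.comp_apply, MonoidHom.comp_apply, ← hχ (hx.rho.rangeRestrict a)]
    exact congrArg χ (Subtype.ext ha')
  have hup : ∃ q ∈ Q, q 1 0 ≠ 0 := by
    by_contra hcon
    push Not at hcon
    set X : Subgroup G := zpowers w ⊔ d.Zc p with hXdef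
    have hXO : X ≤ d.O := sup_le (zpowers_le.2 hx.w_O) ((d.Zc_le p).trans (d.P_le_O hp2))
    have hXc : ∀ x ∈ X, ∀ y ∈ X, x * y = y * x := by
      have h1 : X ≤ centralizer ({w} : Set G) := sup_le
        (zpowers_le.2 (mem_centralizer_singleton_iff.2 rfl))
        fun z hz => mem_centralizer_singleton_iff.2 (hx.commute_Zc hx.w_mem hz).symm.eq
      intro x hxX y hy
      refine mem_centralizer_singleton_iff.1 ((sup_le ?_ ?_ : X ≤ centralizer ({y} : Set G)) hxX)
      · exact zpowers_le.2 (mem_centralizer_singleton_iff.2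
          (mem_centralizer_singleton_iff.1 (h1 hy)).symm)
      · exact fun z hz => mem_centralizer_singleton_iff.2
          (hx.commute_O hx.prime hp2 (hXO hy) hz).symm.eq
    have hnorm : ∀ g ∈ d.H, g * w * g⁻¹ ∈ X → g ∈ normalizer (X : Set G) := by
      intro g hg hgw
      have hle : X ≤ X.comap (MulAut.conj g).toMonoidHom := sup_le (zpowers_le.2 hgw) fun z hz =>
        mem_sup_right ((mem_normalizer_iff.1 (d.H_le_normalizer_Zc p hg) z).1 hz)
      exact mem_normalizer_fintype fun x hx => hle hx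
    have hS : (d.S : Subgroup G) ≤ normalizer (X : Set G) := fun s hs => by
      refine hnorm s (d.S_le hs) (mem_sup_left ?_)
      rcases d.exists_refl hs with ⟨i, rfl⟩ | ⟨i, j, rfl⟩
      · rw [hx.u_w i]; exact mem_zpowers w
      · rw [show d.u i * d.u j * w * (d.u i * d.u j)⁻¹ = d.u i * (d.u j * w * (d.u j)⁻¹) * (d.u i)⁻¹ by
          group, hx.u_w j, hx.u_w i]
        exact mem_zpowers w
    have hXn : d.H ≤ normalizer (X : Set G) := by
      intro h hh
      obtain ⟨o, ho, s, hs, rfl⟩ := d.exists_mul hh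
      refine mul_mem (hnorm o (d.O_le ho) ?_) (hS hs)
      obtain ⟨z, hz, hdec⟩ := hx.decomp (hx.conj_mem ho hx.w_mem)
      have h0 : hx.β (o * w * o⁻¹) = 0 := hcon _ ⟨⟨o, ho⟩, rfl⟩
      rw [h0, ZMod.val_zero, pow_zero, mul_one] at hdec
      rw [hdec]
      exact mul_mem (mem_sup_left (pow_mem (mem_zpowers w) _)) (mem_sup_right hz)
    have hbot := noAbelianFixed hf hM.central hM.alike X hXO
      ⟨⟨fun x y => Subtype.ext (hXc x x.2 y y.2)⟩⟩ hXn
    have hw1 : w ∈ X ⊓ centralizer ({d.u 0} : Set G) :=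
      ⟨mem_sup_left (mem_zpowers w), ((hx.fixed_eq 0).ge (mem_zpowers w)).2⟩
    rw [hbot, mem_bot] at hw1
    have := hx.w_order
    rw [hw1, orderOf_one] at this
    exact hx.prime.one_lt.ne this
  have hlow : ∃ q ∈ Q, q 0 1 ≠ 0 := by
    by_contra hcon
    push Not at hcon
    have h01 : ∀ a : d.O, hx.rho a 0 1 = 0 := fun a => hcon _ ⟨a, rfl⟩
    have hdet : ∀ a : d.O, hx.rho a 0 0 * hx.rho a 1 1 = 1 := fun a => by
      have h := (hx.rho a).2
      rw [Matrix.det_fin_two, h01 a, zero_mul, sub_zero] at h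
      exact h
    let χ : d.O →* ZMod p :=
      { toFun := fun a => hx.rho a 1 1
        map_one' := by simp
        map_mul' := fun a a' => by
          simp [Matrix.mul_apply, Fin.sum_univ_two, h01 a'] }
    have hχ : ∀ a, χ.toHomUnits a = 1 := hM.noFixedLinear.eq_one χ.toHomUnits fun i a a' he => by
      refine Units.ext ?_
      show hx.rho a' 1 1 = hx.rho a 1 1
      rw [show a' = (⟨_, hx.u_conj_O i a.2⟩ : d.O) from Subtype.ext he, hx.rho_u, jc_11]
    have h11 : ∀ a : d.O, hx.rho a 1 1 = 1 := fun a => congrArg Units.val (hχ a)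
    have hb : ∀ a : d.O, (a : G) * b * (a : G)⁻¹ = b * zk ζ (expo p ζ b (a : G)) := by
      intro a
      obtain ⟨k, hk⟩ := htriv b hx.b_mem hx.b_order a a.2
        ((h01 a).trans hx.coord_b.1.symm) ((h11 a).trans hx.coord_b.2.symm)
      rw [expo_eq hx.zeta_order hk, hk]
    let φ : d.O →* Multiplicative (ZMod p) := MonoidHom.mk'
      (fun a => Multiplicative.ofAdd (expo p ζ b (a : G))) fun a a' => by
        rw [← ofAdd_add]
        refine congrArg _ (expo_eq hx.zeta_order ?_)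
        have hc : (a : G) * zk ζ (expo p ζ b (a' : G)) * (a : G)⁻¹ = zk ζ (expo p ζ b (a' : G)) :=
          mul_inv_eq_iff_eq_mul.2 (hx.commute_O hx.prime hp2 a.2 (hx.zk_Zc _)).eq
        rw [Subgroup.coe_mul, zk_add hx.zeta_order,
          show (a : G) * a' * b * ((a : G) * a')⁻¹ = (a : G) * ((a' : G) * b * (a' : G)⁻¹) * (a : G)⁻¹ by
            group, hb a',
          show (a : G) * (b * zk ζ (expo p ζ b (a' : G))) * (a : G)⁻¹ =
            (a : G) * b * (a : G)⁻¹ * ((a : G) * zk ζ (expo p ζ b (a' : G)) * (a : G)⁻¹) by group,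
          hc, hb a, mul_assoc]
    have hφ : ∀ a, φ a = 1 := hM.noFixedLinear.eq_one φ fun i a a' he => by
      refine congrArg Multiplicative.ofAdd (expo_eq hx.zeta_order ?_)
      have h1 := hx.b_inverted i
      have hb' : d.u i * b⁻¹ * (d.u i)⁻¹ = b := by rw [← conj_inv, h1, inv_inv]
      have hcz : Commute (zk ζ (expo p ζ b (a : G))) b :=
        (hx.commute_Zc hx.b_mem (hx.zk_Zc _)).symm
      rw [he, show d.u i * (a : G) * (d.u i)⁻¹ * b * (d.u i * (a : G) * (d.u i)⁻¹)⁻¹ =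
        d.u i * ((a : G) * ((d.u i)⁻¹ * b * d.u i) * (a : G)⁻¹) * (d.u i)⁻¹ by group,
        show (d.u i)⁻¹ * b * d.u i = b⁻¹ by rw [d.u_inv] at h1 ⊢; exact h1, ← conj_inv, hb a,
        mul_inv_rev, show d.u i * ((zk ζ (expo p ζ b (a : G)))⁻¹ * b⁻¹) * (d.u i)⁻¹ =
          (d.u i * zk ζ (expo p ζ b (a : G)) * (d.u i)⁻¹)⁻¹ * (d.u i * b⁻¹ * (d.u i)⁻¹) by group,
        hx.u_zk, ← zk_neg hx.zeta_order, neg_neg, hb', hcz.eq]
    have h := congrArg Multiplicative.toAdd (hφ ⟨w, hx.w_O⟩)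
    simp only [φ, MonoidHom.mk'_apply, toAdd_ofAdd, toAdd_one,
      expo_eq hx.zeta_order hx.w_conj_b] at h
    exact one_ne_zero (neg_eq_zero.1 h)
  -- the fixed points
  have hA : ∀ i, d.A i = zpowers w := by
    intro i
    refine le_antisymm (fun a ha => ?_) ?_
    · have hua : d.u i * a * (d.u i)⁻¹ = a :=
        mul_inv_eq_iff_eq_mul.2 (mem_centralizer_singleton_iff.1 ha.2).symm
      have hr := hx.rho_u i ⟨a, ha.1⟩
      rw [show (⟨_, hx.u_conj_O i ha.1⟩ : d.O) = ⟨a, ha.1⟩ from Subtype.ext hua] at hr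
      have hz : ∀ x : ZMod p, x = -x → x = 0 := fun x h =>
        (mul_eq_zero.1 (show (2 : ZMod p) * x = 0 by linear_combination h)).resolve_left
          (two_ne_zero' hp2)
      have h01 := hz _ ((congrArg (fun M : SL(2, ZMod p) => M 0 1) hr).trans (jc_01 _))
      have h10 := hz _ ((congrArg (fun M : SL(2, ZMod p) => M 1 0) hr).trans (jc_10 _))
      have h1 := eq_one_of_diag hp2 hQodd hJ hNI ⟨_, rfl⟩ h01 h10
      obtain ⟨k, j, z, hzZ, haz⟩ := hker _ h1
      have hzc : ∀ v ∈ d.O, Commute v z := fun v hv => mem_centralizer_iff.1 hzZ.2 v hv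
      -- conjugation of `w` determines the second exponent
      have haw : a * w * a⁻¹ = w * zk ζ j := by
        have hxP := hx.wb_mem k.val j.val
        have h := hx.conj_w hxP
        rw [(hx.coord_wb k.val j.val).2, ZMod.natCast_zmod_val] at h
        change a = _ at haz
        rw [haz, ← h, show w ^ k.val * b ^ j.val * z * w * (w ^ k.val * b ^ j.val * z)⁻¹ =
          w ^ k.val * b ^ j.val * (z * w * z⁻¹) * (w ^ k.val * b ^ j.val)⁻¹ by group,
          mul_inv_eq_iff_eq_mul.2 (hzc w hx.w_O).symm.eq]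
      have hj : j = 0 := by
        have h2 : d.u i * (a * w * a⁻¹) * (d.u i)⁻¹ = a * w * a⁻¹ := by
          rw [show d.u i * (a * w * a⁻¹) * (d.u i)⁻¹ = (d.u i * a * (d.u i)⁻¹) *
            (d.u i * w * (d.u i)⁻¹) * (d.u i * a * (d.u i)⁻¹)⁻¹ by group, hua, hx.u_w]
        rw [haw, show d.u i * (w * zk ζ j) * (d.u i)⁻¹ = (d.u i * w * (d.u i)⁻¹) *
          (d.u i * zk ζ j * (d.u i)⁻¹) by group, hx.u_w, hx.u_zk] at h2
        exact hz j (zk_inj hx.zeta_order (mul_left_cancel h2)).symm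
      change a = _ at haz
      rw [hj, ZMod.val_zero, pow_zero, mul_one] at haz
      have hzu : d.u i * z = z * d.u i := by
        have c1 : Commute (d.u i) a := (mem_centralizer_singleton_iff.1 ha.2).symm
        have c2 : Commute (d.u i) w := mul_inv_eq_iff_eq_mul.1 (hx.u_w i)
        have c3 := (c2.pow_right k.val).inv_right.mul_right c1
        rw [haz, inv_mul_cancel_left] at c3
        exact c3.eq
      have hz1 : z = 1 := by
        have h : z ∈ (⊥ : Subgroup G) := hED ▸ ⟨hzZ.1.2,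
          (hx.frame i).facts.four_fixed hpsl d.t htE (d.u i) (huE i) d.t_order (d.u_order i)
            (d.u_ne_t i) (d.commute_tu i) z (mem_sup_left hzZ.1.2) (d.orderOf_odd hzZ.1.1)
            (d.commute_t_O hzZ.1.1) hzu⟩
        exact mem_bot.1 h
      rw [haz, hz1, mul_one]
      exact pow_mem (mem_zpowers w) _
    · rw [← hx.fixed_eq i]
      exact fun x hxP => ⟨d.P_le_O hp2 hxP.1, hxP.2⟩
  -- the numbers
  obtain ⟨σ, hσ⟩ := d.dvd
  set c := Nat.card (d.O ⊓ E : Subgroup G) with hcdef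
  have hpc : p ≤ c := by
    have h := Subgroup.orderOf_dvd_natCard _ (show ζ ∈ d.O ⊓ E from
      ⟨d.P_le_O hp2 hx.zeta_P, hZcE p hx.prime hp2 hx.zeta_mem⟩)
    rw [hx.zeta_order] at h
    exact Nat.le_of_dvd Nat.card_pos h
  have hkerle : Nat.card hx.rho.ker ≤ p * p * c := by
    choose i j z hz hdec using hker
    have h := Nat.card_le_card_of_injective
      (fun a : hx.rho.ker => ((i a (MonoidHom.mem_ker.1 a.2), j a (MonoidHom.mem_ker.1 a.2)),
        (⟨z a (MonoidHom.mem_ker.1 a.2), (hz a (MonoidHom.mem_ker.1 a.2)).1⟩ :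
          (d.O ⊓ E : Subgroup G))))
      (fun a a' he => by
        simp only [Prod.mk.injEq, Subtype.mk.injEq] at he
        refine Subtype.ext (Subtype.ext ?_)
        rw [hdec a (MonoidHom.mem_ker.1 a.2), hdec a' (MonoidHom.mem_ker.1 a'.2), he.1.1, he.1.2,
          he.2])
    rwa [Nat.card_prod, Nat.card_prod, Nat.card_zmod] at h
  have hR : 2 * Nat.card d.O ≤ p * p * (p + 1) * c := by
    have hQ := two_mul_card_le hp2 hQodd hJ hNI hup hlow
    rw [← hx.rho.ker.card_mul_index, Subgroup.index_ker, ← hQdef]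
    calc 2 * (Nat.card hx.rho.ker * Nat.card Q) = Nat.card hx.rho.ker * (2 * Nat.card Q) := by ring
      _ ≤ p * p * c * (p + 1) := Nat.mul_le_mul hkerle hQ
      _ = p * p * (p + 1) * c := by ring
  have hN : Nat.card G * p ^ 2 ≤ 60 * σ ^ 3 * Nat.card d.O ^ 3 := by
    have h := d.toData.card_mul_sq_le d.not_commutative (a := p) fun i => by
      rw [hA i, Nat.card_zpowers, hx.w_order]
    have h2 : d.m ^ 3 = 8 * σ ^ 3 := by rw [hσ, mul_pow]; norm_num
    rw [h2] at h
    linarith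
  -- the component is `PSL₂`
  obtain ⟨F, hF1, hF2, hFodd, -, ⟨φ⟩⟩ := hpsl
  have hcore : Cfsg.oddCore E = ⊥ := by
    rw [← Subgroup.map_eq_bot_iff_of_injective _ E.subtype_injective, eq_bot_iff, ← hED]
    refine le_inf (map_subtype_le _) ?_
    refine Bender.le_oddPart ((map_subtype_le _).trans (maxPerfect_le _)) ?_ (oddPart_odd E)
    exact fun x hx => mem_normalizer_oddPart (le_normalizer_maxPerfect _ hx)
  let e : E ≃* Matrix.ProjectiveSpecialLinearGroup (Fin 2) F :=
    ((QuotientGroup.quotientMulEquivOfEq hcore).trans QuotientGroup.quotientBot).symm.trans φ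
  have hnorm : ∀ g : G, Commute g w → g ∈ B := fun g hg =>
    centralizer_le_normalizer _ (mem_centralizer_iff.2 fun y hy => by
      obtain ⟨k, rfl⟩ := mem_zpowers_iff.1 hy
      exact (hg.zpow_right k).symm.eq)
  have hinvol : ∀ x : G, orderOf x = 2 → Commute x w → x ∈ E := by
    intro x hx2 hxw
    have hxB := hnorm x hxw
    have hSB : (d.S : Subgroup G) ≤ B := hSE.trans (maxPerfect_le B)
    have hxP : IsPGroup 2 (zpowers (⟨x, hxB⟩ : B)) := IsPGroup.of_card (n := 1) (by
      rw [Nat.card_zpowers, Subgroup.orderOf_mk, hx2, pow_one])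
    obtain ⟨R, hR'⟩ := hxP.exists_le_sylow
    obtain ⟨h, hh⟩ := MulAction.exists_smul_eq B R (d.S.subtype hSB)
    have hmem : (h : G) * x * (h : G)⁻¹ ∈ (d.S : Subgroup G) := by
      have h1 : MulAut.conj h (⟨x, hxB⟩ : B) ∈ ((h • R : Sylow 2 B) : Subgroup B) :=
        Subgroup.smul_mem_pointwise_smul _ (MulAut.conj h) _ (hR' (mem_zpowers _))
      rw [hh] at h1
      exact h1
    exact (mem_normalizer_iff.1 (le_normalizer_maxPerfect B h.2) x).2 (hSE hmem)
  have D : Count.NeighbourData p E d.O w d.t ζ :=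
    { prime := hx.prime
      ne_two := hp2
      t_mem := htE
      t_order := d.t_order
      E_le := hEw
      E_normal := fun g hg y hy => (mem_normalizer_iff.1 (le_normalizer_maxPerfect B (hnorm g hg)) y).1 hy
      E_invol := hinvol
      w_order := hx.w_order
      zeta_mem := hZcE p hx.prime hp2 hx.zeta_mem
      zeta_order := hx.zeta_order
      zeta_t := (d.commute_t_O (d.P_le_O hp2 hx.zeta_P)).symm
      centralizer_t := fun h hh => by
        obtain ⟨o, ho, s, hs, he⟩ := d.exists_mul (mem_centralizer_singleton_iff.2 hh.eq)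
        exact ⟨o, ho, s, hSE hs, he⟩
      moved := ⟨b, hx.moved, hx.commute_Zc hx.b_mem hx.zeta_mem⟩
      comm := fun o ho => by
        have hv := hx.conj_mem ho hx.w_mem
        refine ⟨(hx.commute_Zc hv hx.zeta_mem).symm, ?_⟩
        have h := hx.pairing hx.w_mem hv
        rw [commutatorElement_def, show ∀ v : G, w * v * w⁻¹ * v⁻¹ = (w * v * w⁻¹) * v⁻¹ from
          fun v => rfl, h, ((hx.commute_Zc hv (hx.zk_Zc _))).eq, mul_inv_cancel_right]
        exact pow_mem (mem_zpowers ζ) _ }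
  refine Count.false_of_noncentral_gen (σ := σ) (c := c) (by have := d.two_le; omega) hpc D hFodd e
    ?_ hN hR
  rw [d.card_inf_centralizer_t hSE, ← hcdef, hσ]; ring

end Setting

end Cfsg.Agent.GW.Bender
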