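import Cfsg.Agent.Lib.GW.Main
import Cfsg.Agent.Lib.GW.BenderComponentInput
import Cfsg.Agent.Lib.GW.BenderExtra

/-!
# The theorems of Gorenstein–Walter and Bender–Glauberman
-/

set_option autoImplicit false

namespace Cfsg.Agent.GW

universe u

theorem extraCase : Bender.ExtraCase.{u} :=
  fun _ _ _ _ d _ hf hM _ _ _ _ hx => d.false_of_extra hf hM hx

/-- The theorem of Gorenstein and Walter for perfect groups. -/
theorem perfectGW : Cons.PerfectGW.{u} :=
  Bender.perfectGW_of Bender.compFactsInput extraCase

/-- The theorem of Gorenstein and Walter for simple groups. -/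
theorem simpleGW : Assembly.SimpleGW.{u} :=
  Assembly.simple_gw (Bender.trivialCores_of Bender.compFactsInput extraCase) NoBare.bareOvergroup

/-- The theorem of Bender and Glauberman. -/
theorem benderGlauberman {G : Type u} [Group G] [Finite G] [IsSimpleGroup G] (S : Sylow 2 G) (m : ℕ)
    (eS : (S : Subgroup G) ≃* DihedralGroup m) (t : G) (ht : orderOf t = 2) (K : Subgroup G)
    (hlt : Subgroup.centralizer ({t} : Set G) < K)
    (hK : Cfsg.generalizedFittingSubgroup K = Cfsg.fittingSubgroup K) : Assembly.FourGroups G :=
  Bender.benderGlauberman_of Bender.compFactsInput extraCase S m eS t ht K hlt hK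

end Cfsg.Agent.GW
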