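import Cfsg.Agent.Lib.AutPSL.Out
import Cfsg.Agent.Lib.AutPSL.Speiser
import Cfsg.Agent.NormEq.Outer

/-!
Outer involutions of `PSL(2, q)` whose fixed points contain no four-group are diagonal.
-/

set_option autoImplicit false
set_option linter.unusedSectionVars false

namespace Cfsg.Agent.GW.Cons

open Matrix Cfsg.Agent.AutPSL.Basic Cfsg.Agent.AutPSL.Main Cfsg.Agent.AutPSL.Out

universe u

/-- No two distinct commuting involutions are fixed. -/
def NoFour {P : Type u} [Group P] (α : MulAut P) : Prop :=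
  ∀ x y : P, orderOf x = 2 → orderOf y = 2 → x ≠ y → Commute x y → α x = x → α y = y → False

variable {F : Type u} [Field F] [Fintype F]

local notation "PG" => Matrix.ProjectiveSpecialLinearGroup (Fin 2) F
local notation "SL2" => Matrix.SpecialLinearGroup (Fin 2) F
local notation "M2" => Matrix (Fin 2) (Fin 2) F

theorem gAut_toGL (s : SL2) :
    (gAut (Matrix.SpecialLinearGroup.toGL s) : MulAut PG) = MulAut.conj (QuotientGroup.mk s : PG) := by
  refine MulEquiv.ext fun x => ?_
  induction x using QuotientGroup.induction_on with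
  | _ x =>
    show (QuotientGroup.mk (conjSL (Matrix.SpecialLinearGroup.toGL s) x) : PG) = _
    rw [MulAut.conj_apply, ← QuotientGroup.mk_inv, ← QuotientGroup.mk_mul, ← QuotientGroup.mk_mul]
    congr 1

theorem gAut_scalar {g : GL (Fin 2) F} {c : F} (h : (g : M2) = c • (1 : M2)) :
    (gAut g : MulAut PG) = 1 := by
  rw [gAut_eq_one_iff le_rfl, Matrix.GeneralLinearGroup.mem_center_iff_val_mem_range_scalar]
  exact ⟨c, by rw [h, Matrix.scalar_apply, ← Matrix.smul_one_eq_diagonal]⟩

omit [Fintype F] in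
theorem cayley_two (A : M2) : A * A = A.trace • A - A.det • (1 : M2) := by
  ext i j
  fin_cases i <;> fin_cases j <;>
    simp [Matrix.mul_apply, Fin.sum_univ_two, Matrix.det_fin_two, Matrix.trace_fin_two] <;> ring

/-- A standard field automorphism of even order fixes a four-group. -/
theorem field_four (h2 : (2 : F) ≠ 0) (τ : F ≃+* F) :
    ∃ u v : PG, orderOf u = 2 ∧ orderOf v = 2 ∧ u ≠ v ∧ Commute u v ∧
      (fAut τ : MulAut PG) u = u ∧ (fAut τ : MulAut PG) v = v := by
  obtain ⟨p, hchar⟩ := CharP.exists F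
  have : Fact p.Prime := ⟨CharP.char_is_prime F p⟩
  obtain ⟨a₀, b₀, hab₀⟩ := ZMod.sq_add_sq p (-1)
  let ι : ZMod p →+* F := ZMod.castHom dvd_rfl F
  have hfix : ∀ x, τ (ι x) = ι x := fun x =>
    DFunLike.congr_fun (Subsingleton.elim (τ.toRingHom.comp ι) ι) x
  set a := ι a₀ with ha
  set b := ι b₀ with hb
  have hab : a * a + b * b = -1 := by
    rw [ha, hb, ← map_mul, ← map_mul, ← map_add, ← pow_two, ← pow_two, hab₀, map_neg, map_one]
  have hne : a ≠ 0 ∨ b ≠ 0 := by
    by_contra h
    push Not at h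
    rw [h.1, h.2] at hab
    simp at hab
  let i : SL2 := ⟨!![0, 1; -1, 0], by simp [Matrix.det_fin_two_of]⟩
  let j : SL2 := ⟨!![a, b; b, -a], by rw [Matrix.det_fin_two_of]; linear_combination -hab⟩
  have hii : (i : M2) * i = (-1 : F) • (1 : M2) := by
    ext r s; fin_cases r <;> fin_cases s <;> simp [i, Matrix.mul_apply, Fin.sum_univ_two]
  have hjj : (j : M2) * j = (-1 : F) • (1 : M2) := by
    ext r s; fin_cases r <;> fin_cases s <;> simp [j, Matrix.mul_apply, Fin.sum_univ_two]
    · exact hab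
    · ring
    · ring
    · linear_combination hab
  have hij : (i : M2) * j = (-1 : F) • ((j : M2) * i) := by
    ext r s; fin_cases r <;> fin_cases s <;> simp [i, j, Matrix.mul_apply, Fin.sum_univ_two]
  have hone : ∀ {x : SL2}, (QuotientGroup.mk x : PG) = 1 → ∃ c : F, (x : M2) = c • (1 : M2) :=
    fun {x} h => by
      obtain ⟨c, hc⟩ := (mk_eq_one_iff x).1 h
      exact ⟨c, hc⟩
  have hi1 : (QuotientGroup.mk i : PG) ≠ 1 := fun h => by
    obtain ⟨c, hc⟩ := hone h
    have := congrFun (congrFun hc 0) 1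
    simp [i] at this
  have hj1 : (QuotientGroup.mk j : PG) ≠ 1 := fun h => by
    obtain ⟨c, hc⟩ := hone h
    have e00 := congrFun (congrFun hc 0) 0
    have e01 := congrFun (congrFun hc 0) 1
    have e11 := congrFun (congrFun hc 1) 1
    simp [j] at e00 e01 e11
    rcases hne with h' | h'
    · exact h' ((mul_eq_zero.1 (show (2 : F) * a = 0 by linear_combination e00 - e11)).resolve_left h2)
    · exact h' e01
  have hsq : ∀ {x : SL2}, (x : M2) * x = (-1 : F) • (1 : M2) →
      (QuotientGroup.mk x : PG) ^ 2 = 1 := fun {x} h => by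
    rw [pow_two, ← QuotientGroup.mk_mul]
    exact (mk_eq_one_iff _).2 ⟨-1, by rw [Matrix.SpecialLinearGroup.coe_mul, h]⟩
  refine ⟨QuotientGroup.mk i, QuotientGroup.mk j, orderOf_eq_prime (hsq hii) hi1,
    orderOf_eq_prime (hsq hjj) hj1, fun h => ?_, ?_, ?_, ?_⟩
  · obtain ⟨c, hc⟩ := (mk_eq_mk_iff _ _).1 h
    have e00 := congrFun (congrFun hc 0) 0
    have e01 := congrFun (congrFun hc 0) 1
    have e10 := congrFun (congrFun hc 1) 0
    simp [i, j] at e00 e01 e10
    rcases hne with h' | h'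
    · exact h' e00
    · exact h' ((mul_eq_zero.1 (show (2 : F) * b = 0 by
        linear_combination e01 + e10)).resolve_left h2)
  · show _ * _ = _ * _
    rw [← QuotientGroup.mk_mul, ← QuotientGroup.mk_mul]
    refine (mk_eq_mk_iff _ _).2 ⟨-1, ?_⟩
    rw [Matrix.SpecialLinearGroup.coe_mul, Matrix.SpecialLinearGroup.coe_mul, hij, smul_smul]
    norm_num
  all_goals
    show (QuotientGroup.mk (fieldSL τ _) : PG) = _
    congr 1
    ext r s
    rw [fieldSL_coe, Matrix.map_apply]
    fin_cases r <;> fin_cases s <;> simp [i, j, ha, hb, hfix]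

/-- An outer involution without fixed four-group is diagonal with nonsquare determinant. -/
theorem outer_form (h2 : (2 : F) ≠ 0) (α : MulAut PG) (hα : α * α = 1) (hN : NoFour α)
    (hout : ∀ x : PG, α ≠ MulAut.conj x) :
    ∃ g : GL (Fin 2) F, α = gAut g ∧ ¬ IsSquare (g : M2).det ∧ (g : M2).trace = 0 := by
  obtain ⟨g, τ, rfl⟩ := exists_decomp_two α
  have hsq : (gAut (g * fieldGL τ g) * fAut (τ * τ) : MulAut PG) = 1 := by
    rw [← hα, map_mul, map_mul]
    calc gAut g * gAut (fieldGL τ g) * (fAut τ * fAut τ)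
        = gAut g * (gAut (fieldGL τ g) * fAut τ) * fAut τ := by group
      _ = gAut g * (fAut τ * gAut g) * fAut τ := by rw [fAut_mul_gAut]
      _ = _ := by group
  obtain ⟨hττ, hgg⟩ := mul_field_eq_one le_rfl hsq
  rw [Matrix.GeneralLinearGroup.mem_center_iff_val_mem_range_scalar] at hgg
  obtain ⟨c, hc⟩ := hgg
  rw [Matrix.scalar_apply, ← Matrix.smul_one_eq_diagonal] at hc
  rcases eq_or_ne τ 1 with rfl | hτ
  · have hgg' : (g : M2) * g = c • (1 : M2) := by
      rw [hc, Units.val_mul, fieldGL_coe]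
      congr 1
    refine ⟨g, by rw [map_one, mul_one], fun hd => ?_, ?_⟩
    · obtain ⟨r, hr⟩ := hd
      have hdet := ((Matrix.isUnit_iff_isUnit_det _).1 g.isUnit).ne_zero
      have hr0 : r ≠ 0 := fun e => hdet (by rw [hr, e, mul_zero])
      have hs : (r⁻¹ • (g : M2)).det = 1 := by
        rw [Matrix.det_smul, Fintype.card_fin, hr]; field_simp
      refine hout (QuotientGroup.mk (⟨_, hs⟩ : SL2)) ?_
      rw [map_one, mul_one]
      refine Eq.trans ?_ (gAut_toGL (⟨_, hs⟩ : SL2))
      exact NormEq.Outer.gAut_eq_iff.2 ⟨r⁻¹, rfl⟩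
    · by_contra ht
      refine hout 1 ?_
      have hlin : (g : M2).trace • (g : M2) = (c + (g : M2).det) • (1 : M2) := by
        rw [add_smul, ← hgg', cayley_two, sub_add_cancel]
      rw [map_one, map_one, mul_one]
      refine gAut_scalar (c := ((g : M2).trace)⁻¹ * (c + (g : M2).det)) ?_
      rw [← smul_smul, ← hlin, smul_smul, inv_mul_cancel₀ ht, one_smul]
  · exfalso
    have hord : orderOf τ = 2 := orderOf_eq_prime (by rw [pow_two, hττ]) hτ
    have hτ2 : ∀ x, τ (τ x) = x := fun x => DFunLike.congr_fun hττ x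
    set gt := fieldGL τ g with hgt
    have hgtg : ((gt * g : GL (Fin 2) F) : M2) = c • (1 : M2) := by
      have h1 : ((g⁻¹ * (g * gt) * g : GL (Fin 2) F) : M2) = c • (1 : M2) := by
        rw [Units.val_mul, Units.val_mul, ← hc, mul_smul_comm, mul_one, smul_mul_assoc,
          ← Units.val_mul, inv_mul_cancel, Units.val_one]
      rwa [inv_mul_cancel_left] at h1
    have hc0 : c ≠ 0 := fun e => Units.ne_zero (g * gt) (by rw [← hc, e, zero_smul])
    have hτc : τ c = c := by
      have h1 := congrArg (fun A : M2 => A.map τ) hc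
      have h2' : ((g * gt : GL (Fin 2) F) : M2).map τ = ((gt * g : GL (Fin 2) F) : M2) := by
        have hback : fieldGL τ gt = g := Units.ext (Matrix.ext fun r s => by
          rw [fieldGL_coe, Matrix.map_apply, hgt, fieldGL_coe, Matrix.map_apply, hτ2])
        rw [← fieldGL_coe, map_mul, hback]
      rw [h2', hgtg] at h1
      have := congrFun (congrFun h1 0) 0
      simpa using this
    obtain ⟨l, hl⟩ := AutPSL.Speiser.nrm_surjective τ (Units.mk0 c hc0) hτc
    rw [AutPSL.Speiser.nrm, hord, Finset.prod_range_succ, Finset.prod_range_one, pow_zero, pow_one,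
      Units.val_mk0] at hl
    have hl' : (l : F) * τ l = c := hl
    let sc : Fˣ → GL (Fin 2) F := fun x => Matrix.GeneralLinearGroup.scalar (Fin 2) x
    have hscv : ∀ x : Fˣ, (sc x : M2) = (x : F) • (1 : M2) := fun x => by
      simp [sc, Matrix.smul_one_eq_diagonal]
    set g' := g * sc l⁻¹ with hg'
    have hg'v : (g' : M2) = ((l⁻¹ : Fˣ) : F) • (g : M2) := by
      rw [hg', Units.val_mul, hscv, mul_smul_comm, mul_one]
    have htw : AutPSL.Speiser.twist τ g' (orderOf τ) = 1 := by
      rw [hord, show AutPSL.Speiser.twist τ g' 2 = g' * fieldGL τ g' by simp [AutPSL.Speiser.twist]]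
      refine Units.ext ?_
      rw [Units.val_mul, fieldGL_coe, hg'v, Units.val_one, Matrix.map_smul' _ _ _ (map_mul τ),
        smul_mul_assoc, mul_smul_comm, smul_smul, ← fieldGL_coe, ← Units.val_mul, ← hc, smul_smul,
        ← hl', Units.val_inv_eq_inv_val, map_inv₀]
      rw [show (l : F)⁻¹ * (τ l)⁻¹ * ((l : F) * τ l) = 1 by
        field_simp [Units.ne_zero l, (map_ne_zero τ).2 (Units.ne_zero l)], one_smul]
    obtain ⟨B, hB⟩ := AutPSL.Speiser.speiser τ g' htw
    have hgB : (gAut g : MulAut PG) = gAut g' := NormEq.Outer.gAut_eq_iff.2 ⟨_, hg'v⟩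
    have hconj : (gAut g * fAut τ : MulAut PG) = gAut B * fAut τ * (gAut B)⁻¹ := by
      rw [hgB, hB, map_mul, map_inv, mul_assoc, mul_assoc, ← map_inv, ← map_inv, ← fAut_mul_gAut, map_inv]
    obtain ⟨x, y, hx, hy, hxy, hcomm, hfx, hfy⟩ := field_four h2 τ
    refine hN (gAut B x) (gAut B y) (by rw [MulEquiv.orderOf_eq, hx]) (by rw [MulEquiv.orderOf_eq, hy])
      ((gAut B : MulAut PG).injective.ne hxy) (hcomm.map (gAut B : MulAut PG).toMonoidHom) ?_ ?_
    all_goals
      rw [hconj]
      simp [MulAut.mul_apply, hfx, hfy]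

end Cfsg.Agent.GW.Cons
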