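import Cfsg.Prelude.Def_CaseTheorems
import Cfsg.Agent.Lib.AutPSL.Out
import Cfsg.Agent.NormEq.Outer
import Cfsg.Agent.Lib.GW.ConsPSLInvolution
import Cfsg.Agent.Lib.Involutions.WreathedSubgroups
import Cfsg.Agent.Lib.Cores.Basic
import Cfsg.Agent.Lib.Classical.SL2Rep

/-!
The derived group of a core-free group with quasi-dihedral or wreathed Sylow 2-subgroup, central
centre of the Sylow subgroup and a normal SL(2, q) is that SL(2, q).
-/

set_option autoImplicit false

namespace Cfsg.Agent.GW.Cons.CentMod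

open Subgroup Matrix Cfsg.Agent.AutPSL.Basic
open Cfsg.Agent.AutPSL.Main (fieldGL fAut_mul_gAut)
open scoped commutatorElement

universe u v

/-- The two facts about the 2-groups in question. -/
theorem two_group_facts {S : Type u} [Group S]
    (hS : Cfsg.IsQuasiDihedral S ∨ Cfsg.IsWreathed S) :
    ∃ U : Subgroup S, U.index = 2 ∧ (∀ a ∈ U, ∀ b ∈ U, a * b = b * a) ∧
      IsCyclic (center S) ∧ 8 ≤ (center S).index := by
  rcases hS with hS | hS
  · obtain ⟨D⟩ := Involutions.QuasiDihedral.exists_gens hS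
    have := Involutions.QuasiDihedral.finite_of_gens D
    refine ⟨zpowers D.x, D.index_zpowers, fun a ha b hb => ?_, ?_, ?_⟩
    · obtain ⟨i, rfl⟩ := D.exists_eq_P ha
      obtain ⟨j, rfl⟩ := D.exists_eq_P hb
      exact D.P_comm i j
    all_goals
      have hsub : ∀ s ∈ center S, s ∈ zpowers D.z := fun s hs => by
        rcases D.eq_center fun a => ((mem_center_iff.1 hs a).symm : Commute s a) with rfl | rfl
        · exact one_mem _
        · exact mem_zpowers _
    · exact isCyclic_of_injective (Subgroup.inclusion hsub) (Subgroup.inclusion_injective hsub)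
    · have h1 : Nat.card (center S) ≤ 2 := by
        refine (Subgroup.card_le_of_le hsub).trans (le_of_eq ?_)
        rw [Nat.card_zpowers, D.orderOf_z]
      have h2 : (2 : ℕ) ^ (D.n + 1) = Nat.card (center S) * (center S).index := by
        rw [card_mul_index, D.hcard]
      have h3 : 16 ≤ (2 : ℕ) ^ (D.n + 1) :=
        le_trans (by norm_num) (Nat.pow_le_pow_right (show 1 ≤ 2 by norm_num)
          (show 4 ≤ D.n + 1 by have := D.hn; omega))
      nlinarith
  · obtain ⟨D⟩ := Involutions.Wreathed.exists_gens hS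
    have := D.finite
    refine ⟨D.base, ?_, ?_, D.isCyclic_center, ?_⟩
    · have h2 : Nat.card D.base = (2 : ℕ) ^ D.n * (2 : ℕ) ^ D.n := by
        rw [← Nat.card_congr D.baseEquiv.toEquiv, Nat.card_congr Multiplicative.toAdd, Nat.card_prod,
          Nat.card_zmod]
      have h3 := D.base.card_mul_index
      rw [h2, D.hcard, show 2 * D.n + 1 = D.n + D.n + 1 by ring, pow_succ, pow_add] at h3
      exact Nat.eq_of_mul_eq_mul_left (by positivity) h3
    · rintro a ⟨i, j, rfl⟩ b ⟨k, l, rfl⟩
      exact D.U_comm i j k l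
    · have : NeZero (2 ^ D.n) := ⟨by positivity⟩
      have hsub : (center S : Set S) ⊆ Set.range fun k => D.U k k := fun s hs => by
        obtain ⟨k, hk⟩ := D.mem_center.1 hs
        exact ⟨k, hk.symm⟩
      have h1 : Nat.card (center S) ≤ 2 ^ D.n := by
        have h := Nat.card_mono (Set.finite_range _) hsub
        refine h.trans ((Finite.card_range_le _).trans (le_of_eq ?_))
        rw [Nat.card_zmod]
      have h2 := (center S).card_mul_index
      rw [D.hcard, show 2 * D.n + 1 = D.n + (D.n + 1) by ring, pow_add] at h2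
      have h3 : 8 ≤ (2 : ℕ) ^ (D.n + 1) :=
        le_trans (by norm_num) (Nat.pow_le_pow_right (show 1 ≤ 2 by norm_num)
          (show 3 ≤ D.n + 1 by have := D.hn; omega))
      have h4 : (2 : ℕ) ^ D.n * 8 ≤ Nat.card (center S) * (center S).index := by
        rw [h2]; exact Nat.mul_le_mul_left _ h3
      by_contra hlt
      push Not at hlt
      have h5 : Nat.card (center S) * (center S).index < 2 ^ D.n * 8 :=
        Nat.mul_lt_mul_of_le_of_lt h1 hlt (by positivity)
      omega

/-- A central element in the derived group of a group with an abelian subgroup of index two has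
square one. -/
theorem center_inf_commutator_sq {S : Type u} [Group S] {U : Subgroup S} (hU : U.index = 2)
    (hab : ∀ a ∈ U, ∀ b ∈ U, a * b = b * a) {c : S} (hc : c ∈ commutator S)
    (hcz : c ∈ center S) : c * c = 1 := by
  have hsq : ∀ s : S, s * s ∈ U := fun s => Subgroup.mul_self_mem_of_index_two hU s
  obtain ⟨q, hq⟩ : ∃ q : S, q ∉ U := by
    by_contra h
    push Not at h
    rw [show U = ⊤ from eq_top_iff.2 fun s _ => h s, Subgroup.index_top] at hU
    omega
  have := Subgroup.normal_of_index_eq_two hU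
  have hφU : ∀ a ∈ U, q * a * q⁻¹ ∈ U := fun a ha => this.conj_mem a ha q
  have hφφ : ∀ a ∈ U, q * (q * a * q⁻¹) * q⁻¹ = a := fun a ha => by
    rw [show q * (q * a * q⁻¹) * q⁻¹ = (q * q) * a * (q * q)⁻¹ by group, hab _ (hsq q) a ha,
      mul_inv_cancel_right]
  let K : Subgroup S :=
    { carrier := {x | x ∈ U ∧ q * x * q⁻¹ = x⁻¹}
      one_mem' := ⟨one_mem U, by group⟩
      mul_mem' := fun {x y} hx hy => ⟨mul_mem hx.1 hy.1, by
        rw [show q * (x * y) * q⁻¹ = (q * x * q⁻¹) * (q * y * q⁻¹) by group, hx.2, hy.2,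
          _root_.mul_inv_rev, hab _ (inv_mem hx.1) _ (inv_mem hy.1)]⟩
      inv_mem' := fun {x} hx => ⟨inv_mem hx.1, by
        rw [show q * x⁻¹ * q⁻¹ = (q * x * q⁻¹)⁻¹ by group, hx.2]⟩ }
  have hD : ∀ a ∈ U, a * (q * a * q⁻¹)⁻¹ ∈ K := fun a ha => ⟨mul_mem ha (inv_mem (hφU a ha)), by
    rw [show q * (a * (q * a * q⁻¹)⁻¹) * q⁻¹ = (q * a * q⁻¹) * (q * (q * a * q⁻¹) * q⁻¹)⁻¹ by group,
      hφφ a ha, _root_.mul_inv_rev, inv_inv]⟩
  have hform : ∀ s, s ∉ U → ∃ a ∈ U, s = a * q := fun s hs => by
    refine ⟨s * q⁻¹, ?_, by group⟩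
    exact (Subgroup.mul_mem_iff_of_index_two hU).2 (by simp [hs, hq])
  have key : commutator S ≤ K := by
    rw [commutator_def, commutator_le]
    intro s _ t _
    by_cases hs : s ∈ U <;> by_cases ht : t ∈ U
    · rw [commutatorElement_eq_one_iff_mul_comm.2 (hab s hs t ht)]; exact one_mem K
    · obtain ⟨b, hb, rfl⟩ := hform t ht
      rw [show ⁅s, b * q⁆ = (s * b) * (q * s * q⁻¹)⁻¹ * b⁻¹ by rw [commutatorElement_def]; group,
        hab s hs b hb, mul_assoc b s, hab b hb _ (hD s hs).1, mul_inv_cancel_right]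
      exact hD s hs
    · obtain ⟨a, ha, rfl⟩ := hform s hs
      rw [← commutatorElement_inv, show ⁅t, a * q⁆ = (t * a) * (q * t * q⁻¹)⁻¹ * a⁻¹ by
          rw [commutatorElement_def]; group,
        hab t ht a ha, mul_assoc a t, hab a ha _ (hD t ht).1, mul_inv_cancel_right]
      exact inv_mem (hD t ht)
    · obtain ⟨a, ha, rfl⟩ := hform s hs
      obtain ⟨b, hb, rfl⟩ := hform t ht
      have e : ⁅a * q, b * q⁆ = a * ((q * b * q⁻¹) * (q * a * q⁻¹)⁻¹) * b⁻¹ := by
        rw [commutatorElement_def]; group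
      rw [e, hab _ (hφU b hb) _ (inv_mem (hφU a ha)), ← mul_assoc a, mul_assoc (a * _),
        show q * b * q⁻¹ * b⁻¹ = (b * (q * b * q⁻¹)⁻¹)⁻¹ by group]
      exact mul_mem (hD a ha) (inv_mem (hD b hb))
  obtain ⟨-, h2⟩ := key hc
  rw [mem_center_iff.1 hcz q, mul_inv_cancel_right] at h2
  nth_rewrite 1 [h2]
  exact inv_mul_cancel c

variable {F : Type v} [Field F] [Fintype F]

local notation "PG" => Matrix.ProjectiveSpecialLinearGroup (Fin 2) F
local notation "SL2" => Matrix.SpecialLinearGroup (Fin 2) F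
local notation "M2" => Matrix (Fin 2) (Fin 2) F

/-- A commutator of automorphisms of `PSL(2, q)`, `q` odd, is inner. -/
theorem commutator_inner (hodd : Odd (Fintype.card F)) (β β' : MulAut PG) :
    ∃ s : SL2, β * β' * β⁻¹ * β'⁻¹ = MulAut.conj (QuotientGroup.mk s : PG) := by
  obtain ⟨g, σ, rfl⟩ := AutPSL.Out.exists_decomp_two β
  obtain ⟨g', σ', rfl⟩ := AutPSL.Out.exists_decomp_two β'
  obtain ⟨p, hchar⟩ := CharP.exists F
  have : Fact p.Prime := ⟨CharP.char_is_prime F p⟩
  obtain ⟨f, hf⟩ : ∃ f : ℕ, Fintype.card F = p ^ f := by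
    obtain ⟨f, -, hf⟩ := FiniteField.card F p; exact ⟨f, hf⟩
  obtain ⟨eR⟩ := AutPSL.Out.exists_ringAut_equiv hf
  have hcomm : σ * σ' = σ' * σ := eR.injective (by rw [map_mul, map_mul, mul_comm])
  set X : GL (Fin 2) F := g * fieldGL σ g' * (fieldGL σ' g)⁻¹ * g'⁻¹ with hX
  have e1 : (gAut g * fAut σ * (gAut g' * fAut σ') : MulAut PG) =
      gAut X * (gAut g' * fAut σ' * (gAut g * fAut σ)) := by
    rw [show (gAut g * fAut σ * (gAut g' * fAut σ') : MulAut PG) =
        gAut g * (fAut σ * gAut g') * fAut σ' by group, fAut_mul_gAut,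
      show (gAut g' * fAut σ' * (gAut g * fAut σ) : MulAut PG) =
        gAut g' * (fAut σ' * gAut g) * fAut σ by group, fAut_mul_gAut,
      show (gAut g * (gAut (fieldGL σ g') * fAut σ) * fAut σ' : MulAut PG) =
        gAut g * gAut (fieldGL σ g') * (fAut σ * fAut σ') by group,
      ← map_mul fAut, hcomm, map_mul fAut, hX, map_mul, map_mul, map_mul, map_inv, map_inv]
    group
  have e2 : (gAut g * fAut σ * (gAut g' * fAut σ') * (gAut g * fAut σ)⁻¹ * (gAut g' * fAut σ')⁻¹ :
      MulAut PG) = gAut X := by rw [e1]; group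
  rw [e2]
  have hdetσ : ∀ (τ : F ≃+* F) (h : GL (Fin 2) F), ((fieldGL τ h : GL (Fin 2) F) : M2).det =
      τ ((h : M2).det) := fun τ h => by
    rw [AutPSL.Main.fieldGL_coe]
    exact ((τ : F →+* F).map_det _).symm
  have hdi : ∀ h : GL (Fin 2) F, ((h⁻¹ : GL (Fin 2) F) : M2).det = ((h : M2).det)⁻¹ := fun h => by
    refine eq_inv_of_mul_eq_one_left ?_
    rw [← Matrix.det_mul, Units.inv_mul, Matrix.det_one]
  obtain ⟨r, hr⟩ : IsSquare (X : M2).det := by
    rw [hX, Units.val_mul, Units.val_mul, Units.val_mul, Matrix.det_mul, Matrix.det_mul,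
      Matrix.det_mul, hdetσ, hdi, hdi, hdetσ,
      show (g : M2).det * σ (g' : M2).det * (σ' (g : M2).det)⁻¹ * ((g' : M2).det)⁻¹ =
        ((g : M2).det * σ' (g : M2).det) * ((σ' (g : M2).det)⁻¹ * (σ' (g : M2).det)⁻¹) *
          (((g' : M2).det * σ (g' : M2).det) * (((g' : M2).det)⁻¹ * ((g' : M2).det)⁻¹)) by
        have h1 : σ' (g : M2).det ≠ 0 := by
          simpa using (Matrix.isUnits_det_units g).ne_zero
        have h2 : (g' : M2).det ≠ 0 := (Matrix.isUnits_det_units g').ne_zero
        field_simp]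
    exact IsSquare.mul
      (IsSquare.mul (NormEq.Outer.isSquare_mul_map σ' _) (IsSquare.mul_self _))
      (IsSquare.mul (NormEq.Outer.isSquare_mul_map σ _) (IsSquare.mul_self _))
  have hr0 : r ≠ 0 := fun h => (Matrix.isUnits_det_units X).ne_zero (by rw [hr, h, mul_zero])
  let s : SL2 := ⟨r⁻¹ • (X : M2), by
    rw [Matrix.det_smul, hr, Fintype.card_fin]; field_simp⟩
  refine ⟨s, ?_⟩
  rw [← gAut_toGL, NormEq.Outer.gAut_eq_iff]
  exact ⟨r⁻¹, rfl⟩

/-- Homomorphisms of `SL(2, q)`, `q` odd, killed by squaring are trivial. -/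
theorem hom_trivial (hodd : Odd (Fintype.card F)) {A : Type u} [Group A] (f : SL2 →* A)
    (hA : ∀ x, f x * f x = 1) : ∀ x, f x = 1 := by
  have h : f.ker = ⊤ := by
    refine Classical.Linear.eq_top_of_transvection_mem _ fun i j hij c => ?_
    rw [MonoidHom.mem_ker]
    have h2 : (2 : F) ≠ 0 := Ring.two_ne_zero fun h => by
      have := (FiniteField.even_card_iff_char_two (F := F)).1 h
      obtain ⟨k, hk⟩ := hodd
      omega
    have := hA (SpecialLinearGroup.transvection hij (c / 2))
    rw [← map_mul] at this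
    refine Eq.trans (congrArg f ?_) this
    refine Classical.Linear.eq_of_mulVec fun v k => ?_
    simp only [mul_smul, Classical.Linear.transvection_smul_apply]
    rcases eq_or_ne k i with rfl | hki
    · simp [hij.symm]; field_simp; ring
    · simp [hki]
  intro x
  exact MonoidHom.mem_ker.1 (h ▸ mem_top x)

/-- The automorphism group of `PSL(2, 3)` has at most 24 elements. -/
theorem card_mulAut_three (h3 : Fintype.card F = 3) : Nat.card (MulAut PG) ≤ 24 := by
  classical
  have hσ : ∀ σ : F ≃+* F, σ = 1 := by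
    intro σ
    have : Fact (Nat.Prime 3) := ⟨Nat.prime_three⟩
    obtain ⟨eR⟩ := AutPSL.Out.exists_ringAut_equiv (p := 3) (f := 1) (F := F) (by rw [h3, pow_one])
    exact eR.injective (Subsingleton.elim _ _)
  have hsurj : (gAut : GL (Fin 2) F →* MulAut PG).range = ⊤ := eq_top_iff.2 fun β _ => by
    obtain ⟨g, σ, rfl⟩ := AutPSL.Out.exists_decomp_two β
    exact ⟨g, by rw [hσ σ, map_one, mul_one]⟩
  have h1 : Nat.card (GL (Fin 2) F) = 48 := by
    rw [Classical.Linear.natCard_GL_fin 2, h3]
    decide
  have h2 : Nat.card (gAut : GL (Fin 2) F →* MulAut PG).range *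
      Nat.card (gAut : GL (Fin 2) F →* MulAut PG).ker = 48 := by
    rw [← h1, card_eq_card_quotient_mul_card_subgroup (gAut : GL (Fin 2) F →* MulAut PG).ker,
      Nat.card_congr (QuotientGroup.quotientKerEquivRange _).toEquiv]
  rw [hsurj, card_top] at h2
  let z : (gAut : GL (Fin 2) F →* MulAut PG).ker :=
    ⟨-1, gAut_scalar (c := (-1 : F)) (by simp)⟩
  have hz : z ≠ 1 := fun h => by
    have h2F : (2 : F) ≠ 0 := Ring.two_ne_zero fun h => by
      have := (FiniteField.even_card_iff_char_two (F := F)).1 h; omega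
    have := congrArg (fun w : (gAut : GL (Fin 2) F →* MulAut PG).ker =>
      ((w : GL (Fin 2) F) : M2) 0 0) h
    simp only [z, OneMemClass.coe_one, Units.val_neg, Units.val_one, Matrix.neg_apply,
      Matrix.one_apply_eq] at this
    exact h2F (by linear_combination -this)
  have : 2 ≤ Nat.card (gAut : GL (Fin 2) F →* MulAut PG).ker :=
    Finite.one_lt_card_iff_nontrivial.2 ⟨⟨z, 1, hz⟩⟩
  nlinarith

variable {H : Type u} [Group H] [Finite H]

theorem commutator_eq (hodd : Odd (Fintype.card F)) (hO : Cfsg.oddCore H = ⊥) (S : Sylow 2 H)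
    (hS : Cfsg.IsQuasiDihedral (S : Subgroup H) ∨ Cfsg.IsWreathed (S : Subgroup H))
    (hZ : ∀ c ∈ center (S : Subgroup H), (c : H) ∈ center H)
    (L : Subgroup H) [L.Normal] (e : L ≃* SL2) : commutator H = L := by
  classical
  have : Fact (Nat.Prime 2) := ⟨Nat.prime_two⟩
  have h2F : (2 : F) ≠ 0 := Ring.two_ne_zero fun h => by
    have := (FiniteField.even_card_iff_char_two (F := F)).1 h
    obtain ⟨k, hk⟩ := hodd
    omega
  obtain ⟨U, hU, hUab, hcyc, hidx⟩ := two_group_facts hS
  have := Subgroup.normal_of_index_eq_two hU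
  -- two elements of `L` in `S` that do not commute
  obtain ⟨a, b, haL, hbL, haS, hbS, hab⟩ : ∃ a b : H, a ∈ L ∧ b ∈ L ∧ a ∈ S ∧ b ∈ S ∧
      a * b ≠ b * a := by
    obtain ⟨p, hchar⟩ := CharP.exists F
    have : Fact p.Prime := ⟨CharP.char_is_prime F p⟩
    obtain ⟨x₀, y₀, hxy⟩ := ZMod.sq_add_sq p (-1)
    set x := ZMod.castHom dvd_rfl F x₀ with hx
    set y := ZMod.castHom dvd_rfl F y₀ with hy
    have hxy' : x * x + y * y = -1 := by
      rw [hx, hy, ← map_mul, ← map_mul, ← map_add, ← pow_two, ← pow_two, hxy, map_neg, map_one]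
    let i : SL2 := ⟨!![0, 1; -1, 0], by simp [Matrix.det_fin_two_of]⟩
    let j : SL2 := ⟨!![x, y; y, -x], by rw [Matrix.det_fin_two_of]; linear_combination -hxy'⟩
    have hji : j * i * j⁻¹ = i⁻¹ := by
      rw [mul_inv_eq_iff_eq_mul, eq_inv_mul_iff_mul_eq]
      apply Subtype.ext
      show (i : M2) * ((j : M2) * (i : M2)) = (j : M2)
      ext r s; fin_cases r <;> fin_cases s <;> simp [i, j, Matrix.mul_apply, Fin.sum_univ_two]
    have hi4 : i ^ (2 ^ 2) = 1 := by
      rw [show (2 : ℕ) ^ 2 = 2 * 2 from rfl, pow_mul, pow_two, pow_two]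
      apply Subtype.ext
      show ((i : M2) * (i : M2)) * ((i : M2) * (i : M2)) = 1
      ext r s; fin_cases r <;> fin_cases s <;> simp [i, Matrix.mul_apply, Fin.sum_univ_two]
    have hj4 : j ^ (2 ^ 2) = 1 := by
      rw [show (2 : ℕ) ^ 2 = 2 * 2 from rfl, pow_mul, pow_two, pow_two]
      have hjj : (j : M2) * (j : M2) = (-1 : F) • 1 := by
        ext r s
        fin_cases r <;> fin_cases s <;>
          simp [j, Matrix.mul_apply, Fin.sum_univ_two] <;>
          first | linear_combination hxy' | ring
      apply Subtype.ext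
      show ((j : M2) * (j : M2)) * ((j : M2) * (j : M2)) = 1
      rw [hjj]; simp
    have hP : ∀ {w : SL2}, w ^ (2 ^ 2) = 1 → IsPGroup 2 (zpowers w) := fun {w} hw => by
      refine IsPGroup.of_card (n := (orderOf w).factorization 2) ?_
      rw [Nat.card_zpowers]
      obtain ⟨k, -, hk⟩ := (Nat.dvd_prime_pow Nat.prime_two).1 (orderOf_dvd_of_pow_eq_one hw)
      rw [hk, Nat.Prime.factorization_pow Nat.prime_two, Finsupp.single_eq_same]
    have hnorm : zpowers j ≤ Subgroup.normalizer (zpowers i : Set SL2) := by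
      rw [zpowers_le, Subgroup.mem_normalizer_iff]
      intro w
      have hmap : (zpowers i).map (MulAut.conj j).toMonoidHom = zpowers i := by
        rw [MonoidHom.map_zpowers]
        show zpowers (j * i * j⁻¹) = zpowers i
        rw [hji, zpowers_inv]
      conv_rhs => rw [← hmap]
      rw [Subgroup.mem_map_equiv]
      simp [mul_assoc]
    obtain ⟨P, hPle⟩ := (IsPGroup.to_sup_of_normal_left' (hP hi4) (hP hj4) hnorm).exists_le_sylow
    set P' : Subgroup H := (((P : Subgroup SL2).comap e.toMonoidHom)).map L.subtype with hP'def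
    have hP' : IsPGroup 2 P' :=
      (P.isPGroup'.comap_of_injective e.toMonoidHom e.injective).map _
    obtain ⟨T, hT⟩ := hP'.exists_le_sylow
    obtain ⟨g, hg⟩ := MulAction.exists_smul_eq H T S
    have hmem : ∀ w ∈ P', g * w * g⁻¹ ∈ S ∧ g * w * g⁻¹ ∈ L := fun w hw => by
      refine ⟨?_, ?_⟩
      · rw [← hg]
        exact ⟨w, hT hw, rfl⟩
      · obtain ⟨w', -, rfl⟩ := hw
        exact (inferInstance : L.Normal).conj_mem _ w'.2 g
    have hi' : (L.subtype (e.symm i)) ∈ P' :=
      ⟨e.symm i, by
        show e (e.symm i) ∈ (P : Subgroup SL2)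
        rw [e.apply_symm_apply]; exact hPle (le_sup_left (b := zpowers j) (mem_zpowers i)), rfl⟩
    have hj' : (L.subtype (e.symm j)) ∈ P' :=
      ⟨e.symm j, by
        show e (e.symm j) ∈ (P : Subgroup SL2)
        rw [e.apply_symm_apply]; exact hPle (le_sup_right (a := zpowers i) (mem_zpowers j)), rfl⟩
    refine ⟨_, _, (hmem _ hi').2, (hmem _ hj').2, (hmem _ hi').1, (hmem _ hj').1, fun hc => ?_⟩
    have hc' : (L.subtype (e.symm i)) * L.subtype (e.symm j) =
        L.subtype (e.symm j) * L.subtype (e.symm i) := by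
      apply (MulAut.conj g).injective
      simpa [map_mul] using hc
    have hc2 : i * j = j * i := e.symm.injective (L.subtype_injective (by
      rw [map_mul, map_mul, map_mul, map_mul]; exact hc'))
    have h := hji
    rw [← hc2, mul_inv_cancel_right] at h
    have h00 := congrArg (fun w : SL2 => (w : M2) 0 1) h
    simp only [Matrix.SpecialLinearGroup.coe_inv] at h00
    simp [i, Matrix.adjugate_fin_two_of] at h00
    exact h2F (by linear_combination h00)
  -- the centraliser of `L` in `S` is central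
  set C := centralizer (L : Set H) with hC
  have hCS : ∀ t : (S : Subgroup H), (t : H) ∈ C → t ∈ center (S : Subgroup H) := by
    intro t ht
    set a' : (S : Subgroup H) := ⟨a, haS⟩
    set b' : (S : Subgroup H) := ⟨b, hbS⟩
    have hta : Commute t a' := Subtype.ext (mem_centralizer_iff.1 ht a haL).symm
    have htb : Commute t b' := Subtype.ext (mem_centralizer_iff.1 ht b hbL).symm
    have hne : ¬ (a' * b' = b' * a') := fun h => hab (congrArg Subtype.val h)
    have hcentral : ∀ s q : (S : Subgroup H), q ∉ U → s ∈ U → Commute s q →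
        s ∈ center (S : Subgroup H) := by
      intro s q hq hs hsq
      rw [mem_center_iff]
      intro x
      by_cases hx : x ∈ U
      · exact hUab x hx s hs
      · have hxq : x * q⁻¹ ∈ U := (Subgroup.mul_mem_iff_of_index_two hU).2 (by simp [hx, hq])
        calc x * s = (x * q⁻¹) * (q * s) := by group
          _ = (x * q⁻¹) * (s * q) := by rw [hsq.eq]
          _ = ((x * q⁻¹) * s) * q := by group
          _ = (s * (x * q⁻¹)) * q := by rw [hUab _ hxq s hs]
          _ = s * x := by group
    by_cases htU : t ∈ U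
    · by_cases haU : a' ∈ U
      · have hbU : b' ∉ U := fun h => hne (hUab a' haU b' h)
        exact hcentral t b' hbU htU htb
      · exact hcentral t a' haU htU hta
    · exfalso
      have hU' : ∀ s : (S : Subgroup H), s ∈ U → Commute t s → s ∈ center (S : Subgroup H) :=
        fun s hs h => hcentral s t htU hs h.symm
      by_cases haU : a' ∈ U
      · exact hne (mem_center_iff.1 (hU' a' haU hta) b').symm
      by_cases hbU : b' ∈ U
      · exact hne (mem_center_iff.1 (hU' b' hbU htb) a')
      have hc : a' * b'⁻¹ ∈ U := (Subgroup.mul_mem_iff_of_index_two hU).2 (by simp [haU, hbU])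
      have hcc := hU' _ hc (hta.mul_right htb.inv_right)
      exact hne (by
        have := mem_center_iff.1 hcc b'
        calc a' * b' = (a' * b'⁻¹) * b' * b' := by group
          _ = b' * (a' * b'⁻¹) * b' := by rw [this]
          _ = b' * a' := by group)
  -- the centraliser of `L` is central
  have hCn : C.Normal := inferInstance
  have hCZ : ∀ c ∈ C, c ∈ S ∧ c ∈ center H := by
    have hTc : ∀ x ∈ (S : Subgroup H) ⊓ C, x ∈ center H := fun x hx =>
      hZ ⟨x, hx.1⟩ (hCS ⟨x, hx.1⟩ hx.2)
    obtain ⟨T⟩ := (inferInstance : Nonempty (Sylow 2 C))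
    have hTle : ∀ x ∈ (T : Subgroup C), (x : H) ∈ (S : Subgroup H) ⊓ C := by
      intro x hx
      obtain ⟨T', hT'⟩ := (T.isPGroup'.map C.subtype).exists_le_sylow
      obtain ⟨g, hg⟩ := MulAction.exists_smul_eq H T' S
      have hm : g * x * g⁻¹ ∈ (S : Subgroup H) ⊓ C :=
        ⟨by rw [← hg]; exact ⟨x, hT' ⟨x, hx, rfl⟩, rfl⟩, hCn.conj_mem _ x.2 g⟩
      have hx' : (x : H) = g * x * g⁻¹ := by
        have h := mem_center_iff.1 (hTc _ hm) g⁻¹
        calc (x : H) = g⁻¹ * (g * x * g⁻¹) * g := by group
          _ = (g * x * g⁻¹) * g⁻¹ * g := by rw [h]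
          _ = _ := by group
      exact hx' ▸ hm
    have hTc' : (T : Subgroup C) ≤ center C := fun x hx => mem_center_iff.2 fun y =>
      Subtype.ext (mem_center_iff.1 (hTc _ (hTle x hx)) y)
    have : (T : Subgroup C).Normal := ⟨fun x hx y => by
      rw [mem_center_iff.1 (hTc' hx) y, mul_inv_cancel_right]; exact hx⟩
    obtain ⟨K, hK⟩ := Subgroup.exists_left_complement'_of_coprime (N := (T : Subgroup C))
      T.card_coprime_index
    have hKn : K.Normal := by
      refine ⟨fun k hk c => ?_⟩
      obtain ⟨⟨k', t⟩, he⟩ := hK.2 c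
      have he' : (k' : C) * t = c := he
      rw [← he']
      have ht := mem_center_iff.1 (hTc' t.2)
      have he2 : (k' : C) * t * k * ((k' : C) * t)⁻¹ = k' * k * (k' : C)⁻¹ := by
        calc (k' : C) * t * k * ((k' : C) * t)⁻¹
            = k' * ((t : C) * k) * (t : C)⁻¹ * (k' : C)⁻¹ := by group
          _ = k' * (k * (t : C)) * (t : C)⁻¹ * (k' : C)⁻¹ := by rw [ht k]
          _ = _ := by group
      rw [he2]
      exact mul_mem (mul_mem k'.2 hk) (inv_mem k'.2)
    have hKodd : Odd (Nat.card K) := by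
      rw [← hK.index_eq_card, Nat.odd_iff, ← Nat.two_dvd_ne_zero]
      exact T.not_dvd_index
    have hKbot : K = ⊥ := by
      rw [← Subgroup.map_eq_bot_iff_of_injective _ C.subtype_injective, eq_bot_iff, ← hO]
      exact (Subgroup.map_mono (Cores.le_oddCore hKodd)).trans (Cores.map_pPrimeCore_subtype_le 2 C)
    intro c hc
    have hcT : (⟨c, hc⟩ : C) ∈ (T : Subgroup C) := by
      obtain ⟨⟨k, t⟩, he⟩ := hK.2 ⟨c, hc⟩
      have hk1 : (k : C) = 1 := mem_bot.1 (hKbot.le k.2)
      have he' : (k : C) * t = ⟨c, hc⟩ := he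
      rw [hk1, one_mul] at he'
      rw [← he']; exact t.2
    exact ⟨(hTle _ hcT).1, hTc _ (hTle _ hcT)⟩
  -- the central involution of `L`
  set z₀ : H := L.subtype (e.symm (-1)) with hz₀
  have hz₀L : z₀ ∈ L := (e.symm (-1)).2
  have hz₀C : z₀ ∈ C := mem_centralizer_iff.2 fun l hl => by
    have h : (⟨l, hl⟩ : L) * e.symm (-1) = e.symm (-1) * ⟨l, hl⟩ := e.injective (by
      rw [map_mul, map_mul, e.apply_symm_apply, neg_one_mul, mul_neg_one])
    exact congrArg Subtype.val h
  have hneg : (-1 : SL2) ≠ 1 := fun h => by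
    have h0 := congrArg (fun w : SL2 => (w : M2) 0 0) h
    simp at h0
    exact h2F (by linear_combination -h0)
  have hz₀1 : z₀ ≠ 1 := fun h => hneg (by
    have h' : e.symm (-1) = 1 := Subtype.ext h
    rw [← e.apply_symm_apply (-1 : SL2), h', map_one])
  -- the transfer
  have hder : ∀ c ∈ commutator H, c ∈ C → c ∈ L := by
    intro c hc hcC
    obtain ⟨hcS, hcc⟩ := hCZ c hcC
    have hcz : (⟨c, hcS⟩ : (S : Subgroup H)) ∈ center (S : Subgroup H) :=
      mem_center_iff.2 fun y => Subtype.ext (mem_center_iff.1 hcc y)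
    have htr := MonoidHom.transfer_eq_pow (Abelianization.of : (S : Subgroup H) →* _) c
      (fun k g₀ _ => by
        rw [mul_assoc, ← mem_center_iff.1 ((center H).pow_mem hcc k) g₀, inv_mul_cancel_left])
    rw [show MonoidHom.transfer (Abelianization.of : (S : Subgroup H) →* _) c = 1 from
      Abelianization.commutator_subset_ker _ hc, eq_comm, ← MonoidHom.mem_ker,
      Abelianization.ker_of] at htr
    have hcS' : (⟨c, hcS⟩ : (S : Subgroup H)) ∈ commutator (S : Subgroup H) := by
      have hco : (Nat.card (S : Subgroup H)).Coprime (S : Subgroup H).index := S.card_coprime_index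
      have hpow : (⟨c, hcS⟩ : (S : Subgroup H)) ^ (S : Subgroup H).index ∈
          commutator (S : Subgroup H) := by
        convert htr using 1
        exact Subtype.ext (SubmonoidClass.coe_pow _ _)
      obtain ⟨m, hm⟩ := exists_pow_eq_self_of_coprime (x := (⟨c, hcS⟩ : (S : Subgroup H)))
        (n := (S : Subgroup H).index) (hco.symm.coprime_dvd_right (orderOf_dvd_natCard _))
      rw [← hm]
      exact pow_mem hpow m
    have hsq := center_inf_commutator_sq hU hUab hcS' hcz
    have hz₀S := (hCZ z₀ hz₀C).1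
    have hz₀z : (⟨z₀, hz₀S⟩ : (S : Subgroup H)) ∈ center (S : Subgroup H) :=
      mem_center_iff.2 fun y => Subtype.ext (mem_center_iff.1 (hCZ z₀ hz₀C).2 y)
    by_cases hc1 : c = 1
    · rw [hc1]; exact one_mem L
    suffices c = z₀ by rw [this]; exact hz₀L
    by_contra hne
    have hz₀sq : z₀ * z₀ = 1 := by
      rw [hz₀, ← map_mul, ← map_mul, neg_one_mul, neg_neg, map_one, map_one]
    have hcyc' := hcyc
    set A : center (S : Subgroup H) := ⟨⟨c, hcS⟩, hcz⟩
    set B : center (S : Subgroup H) := ⟨⟨z₀, hz₀S⟩, hz₀z⟩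
    have := Fintype.ofFinite (center (S : Subgroup H))
    have hcard : (Finset.univ.filter fun w : center (S : Subgroup H) => w ^ 2 = 1).card ≤ 2 := by
      exact IsCyclic.card_pow_eq_one_le (by norm_num)
    have : ({1, A, B} : Finset (center (S : Subgroup H))) ⊆
        Finset.univ.filter fun w => w ^ 2 = 1 := by
      intro w hw
      simp only [Finset.mem_insert, Finset.mem_singleton] at hw
      refine Finset.mem_filter.2 ⟨Finset.mem_univ _, ?_⟩
      rcases hw with rfl | rfl | rfl
      · exact one_pow 2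
      · rw [pow_two]; exact Subtype.ext hsq
      · rw [pow_two]; exact Subtype.ext (Subtype.ext hz₀sq)
    have h3 := Finset.card_le_card this
    rw [Finset.card_insert_of_notMem, Finset.card_pair] at h3
    · omega
    · intro h
      exact hne (congrArg (fun w : center (S : Subgroup H) => ((w : (S : Subgroup H)) : H)) h)
    · simp only [Finset.mem_insert, Finset.mem_singleton, not_or]
      refine ⟨fun h => hc1 ?_, fun h => hz₀1 ?_⟩
      · exact (congrArg (fun w : center (S : Subgroup H) => ((w : (S : Subgroup H)) : H)) h).symm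
      · exact (congrArg (fun w : center (S : Subgroup H) => ((w : (S : Subgroup H)) : H)) h).symm
  -- the action on `PSL(2, q)`
  let ρ : H →* MulAut PG := descend.comp
    ((MulAut.congr e).toMonoidHom.comp (MulAut.conjNormal (H := L)))
  have hρ : ∀ (h : H) (x : SL2), ρ h (QuotientGroup.mk x : PG) =
      QuotientGroup.mk (e (MulAut.conjNormal h (e.symm x))) := fun h x => rfl
  have hker : ∀ h, ρ h = 1 → h ∈ C := by
    intro h hh
    have hc : ∀ x : SL2, e (MulAut.conjNormal h (e.symm x)) * x⁻¹ ∈ center SL2 := fun x => by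
      rw [← QuotientGroup.eq_one_iff, QuotientGroup.mk_mul, ← hρ, hh, MulAut.one_apply,
        ← QuotientGroup.mk_mul, mul_inv_cancel]
      rfl
    let f : SL2 →* center SL2 := MonoidHom.mk' (fun x => ⟨_, hc x⟩) fun x y => by
      refine Subtype.ext ?_
      show e (MulAut.conjNormal h (e.symm (x * y))) * (x * y)⁻¹ =
        (e (MulAut.conjNormal h (e.symm x)) * x⁻¹) * (e (MulAut.conjNormal h (e.symm y)) * y⁻¹)
      set φ := fun w : SL2 => e (MulAut.conjNormal h (e.symm w))
      have hx := mem_center_iff.1 (hc y) x⁻¹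
      calc e (MulAut.conjNormal h (e.symm (x * y))) * (x * y)⁻¹
          = φ x * ((φ y * y⁻¹) * x⁻¹) := by simp only [φ, map_mul]; group
        _ = φ x * (x⁻¹ * (φ y * y⁻¹)) := by rw [hx]
        _ = _ := by simp only [φ]; group
    have hf := hom_trivial hodd f fun x => by
      rw [← pow_two]
      refine Subtype.ext ?_
      obtain ⟨r, hr, he⟩ := Matrix.SpecialLinearGroup.mem_center_iff.1 (f x).2
      rw [Fintype.card_fin] at hr
      refine Subtype.ext ?_
      rw [Subgroup.coe_pow, Matrix.SpecialLinearGroup.coe_pow, ← he, ← map_pow, hr, map_one]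
      rfl
    rw [hC, mem_centralizer_iff]
    intro l hl
    have h1 : e (MulAut.conjNormal h (e.symm (e ⟨l, hl⟩))) * (e ⟨l, hl⟩)⁻¹ = 1 :=
      congrArg Subtype.val (hf (e ⟨l, hl⟩))
    rw [mul_inv_eq_one, e.symm_apply_apply, e.injective.eq_iff] at h1
    have h2 : h * l * h⁻¹ = l := congrArg Subtype.val h1
    exact (mul_inv_eq_iff_eq_mul.1 h2).symm
  have hinn : ∀ s : SL2, ρ (e.symm s : H) = MulAut.conj (QuotientGroup.mk s : PG) := fun s => by
    refine MulEquiv.ext fun x => ?_
    induction x using QuotientGroup.induction_on with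
    | H x =>
      rw [hρ, MulAut.conj_apply, ← QuotientGroup.mk_inv, ← QuotientGroup.mk_mul,
        ← QuotientGroup.mk_mul]
      congr 1
      rw [show MulAut.conjNormal ((e.symm s : L) : H) (e.symm x) = e.symm s * e.symm x * (e.symm s)⁻¹
        from Subtype.ext rfl, map_mul, map_mul, map_inv, e.apply_symm_apply, e.apply_symm_apply]
  -- `L` lies in the derived group
  have hLle : L ≤ commutator H := by
    let D : Subgroup SL2 := ((commutator H).comap L.subtype).map e.toMonoidHom
    suffices hD : D = ⊤ by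
      intro l hl
      have : e ⟨l, hl⟩ ∈ D := hD ▸ mem_top _
      obtain ⟨w, hw, he⟩ := this
      rw [show w = ⟨l, hl⟩ from e.injective he] at hw
      exact hw
    rcases lt_or_ge 3 (Fintype.card F) with hq | hq
    · rw [eq_top_iff, ← Classical.SL2Rep.commutator_two_eq_top hq, _root_.commutator_def, commutator_le]
      intro x _ y _
      refine ⟨⁅e.symm x, e.symm y⁆, ?_, by simp [map_commutatorElement]⟩
      show L.subtype ⁅e.symm x, e.symm y⁆ ∈ commutator H
      rw [map_commutatorElement]
      exact commutator_mem_commutator (mem_top _) (mem_top _)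
    · have h3 : Fintype.card F = 3 := by
        obtain ⟨k, hk⟩ := hodd
        have := Fintype.one_lt_card (α := F)
        omega
      have : CharP F 3 := by
        have : Fact (Nat.Prime 3) := ⟨Nat.prime_three⟩
        exact charP_of_card_eq_prime_pow (f := 1) (by rw [h3, pow_one])
      have h30 : (3 : F) = 0 := CharP.cast_eq_zero F 3
      have hfull : ρ.range = ⊤ := by
        refine Subgroup.eq_top_of_card_eq _ (le_antisymm (card_le_card_group _) ?_)
        refine (card_mulAut_three h3).trans (Nat.le_of_dvd Nat.card_pos ?_)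
        have h8 : 8 ∣ Nat.card ρ.range := by
          set S' := (S : Subgroup H).map ρ
          have hle : S' ≤ ρ.range := map_le_range _ _
          refine Dvd.dvd.trans ?_ (card_dvd_of_le hle)
          have hk : (ρ.comp (S : Subgroup H).subtype).ker ≤ center (S : Subgroup H) :=
            fun t ht => hCS t (hker _ ht)
          have hcard : Nat.card S' = (ρ.comp (S : Subgroup H).subtype).ker.index := by
            rw [index_ker, MonoidHom.range_comp, range_subtype]
          obtain ⟨k, hk'⟩ := (S.isPGroup'.map ρ).exists_card_eq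
          have h8' : 8 ≤ Nat.card S' := by
            rw [hcard]
            refine hidx.trans (Nat.le_of_dvd (Nat.pos_of_ne_zero index_ne_zero_of_finite) ?_)
            exact index_dvd_of_le hk
          rw [hk'] at h8' ⊢
          exact pow_dvd_pow 2 (show 3 ≤ k from (Nat.pow_le_pow_iff_right (by norm_num)).1 (show 2 ^ 3 ≤ 2 ^ k from h8'))
        have h3' : 3 ∣ Nat.card ρ.range := by
          set t : SL2 := SpecialLinearGroup.transvection (zero_ne_one (α := Fin 2)) 1 with ht
          have ho : orderOf (ρ (e.symm t : H)) = 3 := by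
            have : Fact (Nat.Prime 3) := ⟨Nat.prime_three⟩
            refine orderOf_eq_prime ?_ fun h => ?_
            · rw [← map_pow, ← coe_pow, ← map_pow]
              have : t ^ 3 = 1 := by
                refine Classical.Linear.eq_of_mulVec fun v k => ?_
                simp only [ht, pow_succ, pow_zero, one_mul, mul_smul,
                  Classical.Linear.transvection_smul_apply]
                fin_cases k <;> simp
                linear_combination v 1 * h30
              rw [this, map_one, coe_one, map_one]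
            · have hm := mem_centralizer_iff.1 (hker _ h)
              have hcen : t ∈ center SL2 := mem_center_iff.2 fun y => e.symm.injective (Subtype.ext (by
                rw [map_mul, map_mul]; exact hm _ (e.symm y).2))
              obtain ⟨r, -, he⟩ := Matrix.SpecialLinearGroup.mem_center_iff.1 hcen
              have := congrArg (fun m : M2 => m 0 1) he
              simp [ht, Matrix.SpecialLinearGroup.transvection_coe, Matrix.scalar_apply] at this
          rw [← ho]
          exact Subgroup.orderOf_dvd_natCard _ ⟨_, rfl⟩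
        exact Nat.Coprime.mul_dvd_of_dvd_of_dvd (by norm_num : (8 : ℕ).Coprime 3) h8 h3'
      obtain ⟨d, hd⟩ : gAut (NormEq.Outer.dg (-1 : Fˣ)) ∈ ρ.range := hfull ▸ mem_top _
      refine Classical.Linear.eq_top_of_transvection_mem _ fun i j hij c => ?_
      set t := SpecialLinearGroup.transvection hij c
      have hconj : conjSL (NormEq.Outer.dg (-1 : Fˣ)) t = t⁻¹ := by
        rw [SpecialLinearGroup.transvection_inv]
        apply Subtype.ext
        rw [conjSL_coe, SpecialLinearGroup.transvection_coe, SpecialLinearGroup.transvection_coe,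
          NormEq.Outer.dg_coe, ← map_inv, NormEq.Outer.dg_coe]
        ext r s
        fin_cases i <;> fin_cases j <;> fin_cases r <;> fin_cases s <;>
          simp [Matrix.transvection, Matrix.mul_apply, Matrix.vecMul, dotProduct, Fin.sum_univ_two, Matrix.single] at hij ⊢
      have hq' := hρ d t
      rw [hd, show (gAut (NormEq.Outer.dg (-1 : Fˣ)) : MulAut PG) (QuotientGroup.mk t) =
        QuotientGroup.mk (conjSL (NormEq.Outer.dg (-1 : Fˣ)) t) from rfl, hconj, eq_comm,
        QuotientGroup.eq] at hq'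
      set w := e (MulAut.conjNormal d (e.symm t)) with hw
      have hwD : w * t⁻¹ ∈ D := by
        refine ⟨MulAut.conjNormal d (e.symm t) * (e.symm t)⁻¹, ?_, by simp [hw]⟩
        show (d * (e.symm t : H) * d⁻¹) * (e.symm t : H)⁻¹ ∈ commutator H
        exact commutator_mem_commutator (mem_top _) (mem_top _)
      obtain ⟨r, hr, he⟩ := Matrix.SpecialLinearGroup.mem_center_iff.1 hq'
      rw [Fintype.card_fin] at hr
      have hsq : (w⁻¹ * t⁻¹) * (w⁻¹ * t⁻¹) = 1 := by
        apply Subtype.ext
        show ((w⁻¹ * t⁻¹ : SL2) : M2) * ((w⁻¹ * t⁻¹ : SL2) : M2) = 1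
        rw [← he, ← map_mul, ← pow_two, hr, map_one]
      have hwt : w⁻¹ * t⁻¹ = t⁻¹ * w⁻¹ := by
        have h := mem_center_iff.1 hq' t
        calc w⁻¹ * t⁻¹ = t⁻¹ * (t * (w⁻¹ * t⁻¹)) := by group
          _ = t⁻¹ * ((w⁻¹ * t⁻¹) * t) := by rw [h]
          _ = t⁻¹ * w⁻¹ := by group
      have ht3 : t ^ 3 = 1 := by
        refine Classical.Linear.eq_of_mulVec fun v k => ?_
        simp only [t, pow_succ, pow_zero, one_mul, mul_smul,
          Classical.Linear.transvection_smul_apply]
        rcases eq_or_ne k i with rfl | hki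
        · simp [hij.symm]; linear_combination (c * v j) * h30
        · simp [hki]
      have e4 : (w * t⁻¹) * (w * t⁻¹) = (t⁻¹) ^ 4 := by
        have e5 : w * w = t⁻¹ * t⁻¹ := by
          have h6 : (w⁻¹ * w⁻¹) * (t⁻¹ * t⁻¹) = 1 := by
            calc (w⁻¹ * w⁻¹) * (t⁻¹ * t⁻¹) = w⁻¹ * (w⁻¹ * t⁻¹) * t⁻¹ := by group
              _ = w⁻¹ * (t⁻¹ * w⁻¹) * t⁻¹ := by rw [hwt]
              _ = (w⁻¹ * t⁻¹) * (w⁻¹ * t⁻¹) := by group
              _ = 1 := hsq
          rw [← inv_mul_eq_one]
          rw [_root_.mul_inv_rev]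
          exact h6
        have hwt' : Commute w t⁻¹ := Commute.inv_left_iff.1 hwt
        rw [hwt'.symm.mul_mul_mul_comm, e5]
        simp only [pow_succ, pow_zero, one_mul, mul_assoc]
      have h4 : t⁻¹ ∈ D := by
        have := mul_mem hwD hwD
        rwa [e4, show (t⁻¹) ^ 4 = (t⁻¹) ^ 3 * t⁻¹ from pow_succ _ _, inv_pow, ht3, inv_one,
          one_mul] at this
      exact inv_mem_iff.1 h4
  refine le_antisymm ?_ hLle
  rw [_root_.commutator_def, commutator_le]
  intro x _ y _
  obtain ⟨s, hs⟩ := commutator_inner hodd (ρ x) (ρ y)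
  have hk : ⁅x, y⁆ * (e.symm s : H)⁻¹ ∈ C := hker _ (by
    rw [map_mul, map_inv, hinn, map_commutatorElement, commutatorElement_def, hs, mul_inv_cancel])
  have hmem := hder _ (mul_mem (commutator_mem_commutator (mem_top x) (mem_top y))
    (inv_mem (hLle (e.symm s).2))) hk
  have := mul_mem hmem (e.symm s).2
  rwa [inv_mul_cancel_right] at this

end Cfsg.Agent.GW.Cons.CentMod
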