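import Cfsg.Agent.Lib.GW.ConsBase
import Cfsg.Agent.Lib.Classical.SL2Rep
import Cfsg.Agent.Lib.TimesPSLTwo.PSLFacts

/-!
Perfect double covers of a group with dihedral Sylow 2-subgroups are isomorphic.
-/

set_option autoImplicit false

namespace Cfsg.Agent.GW.Cons

open Subgroup
open scoped Pointwise commutatorElement

universe u v w

/-- A central elementary subgroup of the derived group of a perfect group over a group with
dihedral Sylow 2-subgroups has order at most two. -/
theorem kernel_le_two {H : Type u} [Group H] [Finite H] {Q : Type v} [Group Q] [Finite Q]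
    (hH : commutator H = ⊤) (π : H →* Q) (hπ : Function.Surjective π) (hc : π.ker ≤ center H)
    (h2 : IsPGroup 2 π.ker) (T : Sylow 2 Q) {n : ℕ} [NeZero n]
    (eT : (T : Subgroup Q) ≃* DihedralGroup n) : Nat.card π.ker ≤ 2 := by
  have : Fact (Nat.Prime 2) := ⟨Nat.prime_two⟩
  have hn : π.ker.Normal := inferInstance
  obtain ⟨R⟩ := (inferInstance : Nonempty (Sylow 2 H))
  obtain ⟨g, hg⟩ := MulAction.exists_smul_eq Q (R.mapSurjective hπ) T
  obtain ⟨h, rfl⟩ := hπ g
  -- replace `R` by the conjugate lying over `T`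
  set R' : Sylow 2 H := h • R
  have hKR' : π.ker ≤ (R' : Subgroup H) := le_sup_right.trans_eq
    (R'.is_maximal' (R'.isPGroup'.to_sup_of_normal_right h2) le_sup_left)
  have hmap : ((R' : Subgroup H)).map π = (T : Subgroup Q) := by
    rw [← hg]
    show ((MulAut.conj h) • (R : Subgroup H)).map π = MulAut.conj (π h) • ((R : Subgroup H).map π)
    ext q
    simp only [Subgroup.mem_map, Subgroup.mem_pointwise_smul_iff_inv_smul_mem]
    constructor
    · rintro ⟨y, hy, rfl⟩
      exact ⟨_, hy, by simp [MulAut.smul_def]⟩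
    · rintro ⟨y, hy, he⟩
      refine ⟨h * y * h⁻¹, by simpa [MulAut.smul_def, mul_assoc] using hy, ?_⟩
      simp only [MulAut.smul_def, MulAut.inv_def, MulAut.conj_symm_apply] at he
      rw [map_mul, map_mul, map_inv, he]
      group
  set ψ : (R' : Subgroup H) →* DihedralGroup n := eT.toMonoidHom.comp
    ((π.comp (R' : Subgroup H).subtype).codRestrict (T : Subgroup Q) fun r =>
      by rw [← hmap]; exact Subgroup.mem_map_of_mem π r.2) with hψ
  have hker : ∀ r : (R' : Subgroup H), r ∈ ψ.ker ↔ (r : H) ∈ π.ker := fun r => by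
    simp only [hψ, MonoidHom.mem_ker, MonoidHom.comp_apply, MulEquiv.coe_toMonoidHom,
      MulEquiv.map_eq_one_iff]
    exact Subtype.ext_iff
  have hψs : Function.Surjective ψ := by
    refine eT.surjective.comp fun t => ?_
    obtain ⟨y, hy, he⟩ : (t : Q) ∈ (R' : Subgroup H).map π := by
      rw [hmap]; exact t.2
    exact ⟨⟨y, hy⟩, Subtype.ext he⟩
  have hstem : Cfsg.IsStemExtension ψ := by
    refine ⟨hψs, fun r hr => mem_center_iff.2 fun y => Subtype.ext ?_, fun r hr => ?_⟩
    · exact mem_center_iff.1 (hc ((hker r).1 hr)) y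
    · exact SimpleFacts.SLTwoMultiplier.mem_commutator_sylow R' (hc ((hker r).1 hr))
        (hH ▸ mem_top (r : H)) r.2
  -- move to the universe of the dihedral group
  have : Small.{0} (R' : Subgroup H) := by
    obtain ⟨k, ⟨f⟩⟩ := Finite.exists_equiv_fin (R' : Subgroup H)
    exact small_map f
  set sh := (Shrink.mulEquiv.{0} (α := (R' : Subgroup H))) with hsh
  have hstem' : Cfsg.IsStemExtension (ψ.comp sh.toMonoidHom) := by
    refine ⟨hψs.comp sh.surjective, fun r hr => mem_center_iff.2 fun y => sh.injective ?_, fun r hr => ?_⟩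
    · rw [map_mul, map_mul]
      exact mem_center_iff.1 (hstem.2.1 (show sh r ∈ ψ.ker from hr)) (sh y)
    · have h1 := Subgroup.mem_map_of_mem sh.symm.toMonoidHom (hstem.2.2 (show sh r ∈ ψ.ker from hr))
      rw [_root_.commutator_def, Subgroup.map_commutator,
        Subgroup.map_top_of_surjective _ sh.symm.surjective, ← _root_.commutator_def] at h1
      simpa using h1
  obtain ⟨d, hle, hd⟩ := GStructB.DihedralStem.bound_aux n (ψ.comp sh.toMonoidHom) hstem'
  have hd2 : orderOf d ≤ 2 := Nat.le_of_dvd two_pos (hd.trans (Nat.gcd_dvd_right n 2))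
  refine le_trans ?_ hd2
  rw [← Nat.card_zpowers]
  refine le_trans ?_ (Subgroup.card_le_of_le hle)
  refine Nat.card_le_card_of_injective
    (fun r : π.ker => (⟨sh.symm ⟨r, hKR' r.2⟩, by
      show ψ (sh (sh.symm ⟨r, hKR' r.2⟩)) = 1
      rw [MulEquiv.apply_symm_apply]
      exact (hker _).2 r.2⟩ : (ψ.comp sh.toMonoidHom).ker)) fun a b hab => ?_
  exact Subtype.ext (Subtype.mk.inj (sh.symm.injective (congrArg Subtype.val hab)))

/-- A perfect double cover: surjective, kernel central of order two. -/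
structure IsDouble {D : Type u} [Group D] {Q : Type v} [Group Q] (ξ : D →* Q) : Prop where
  perfect : commutator D = ⊤
  surj : Function.Surjective ξ
  central : ξ.ker ≤ center D
  card : Nat.card ξ.ker = 2

/-- A subgroup covering the quotient of a perfect central extension is everything. -/
theorem eq_top_of_cover {D : Type u} [Group D] {Q : Type v} [Group Q] (ξ : D →* Q)
    (hD : commutator D = ⊤) (hc : ξ.ker ≤ center D) {L : Subgroup D} (hL : L.map ξ = ⊤) : L = ⊤ := by
  rw [eq_top_iff, ← hD, _root_.commutator_def, Subgroup.commutator_le]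
  intro a _ b _
  have key : ∀ x : D, ∃ l ∈ L, ∃ k ∈ center D, x = l * k := fun x => by
    obtain ⟨l, hl, he⟩ : ξ x ∈ L.map ξ := hL ▸ mem_top _
    exact ⟨l, hl, l⁻¹ * x, hc (by rw [MonoidHom.mem_ker, map_mul, map_inv, he, inv_mul_cancel]),
      by group⟩
  obtain ⟨l, hl, k, hk, rfl⟩ := key a
  obtain ⟨l', hl', k', hk', rfl⟩ := key b
  have hk1 := mem_center_iff.1 hk
  have hk2 := mem_center_iff.1 hk'
  have e : ⁅l * k, l' * k'⁆ = ⁅l, l'⁆ := by
    simp only [commutatorElement_def, mul_inv_rev]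
    calc l * k * (l' * k') * (k⁻¹ * l⁻¹) * (k'⁻¹ * l'⁻¹)
        = l * (k * (l' * k')) * k⁻¹ * l⁻¹ * k'⁻¹ * l'⁻¹ := by group
      _ = l * l' * (k' * l⁻¹) * k'⁻¹ * l'⁻¹ := by rw [← hk1]; group
      _ = l * l' * l⁻¹ * l'⁻¹ := by rw [← hk2]; group
  rw [e]
  exact mul_mem (mul_mem (mul_mem hl hl') (inv_mem hl)) (inv_mem hl')

/-- Central factors do not change a commutator. -/
theorem commutator_mul_central {D : Type u} [Group D] (x y w w' : D) (hw : w ∈ center D)
    (hw' : w' ∈ center D) : ⁅w * x, w' * y⁆ = ⁅x, y⁆ := by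
  have h1 := mem_center_iff.1 hw
  have h2 := mem_center_iff.1 hw'
  simp only [commutatorElement_def, mul_inv_rev]
  calc w * x * (w' * y) * (x⁻¹ * w⁻¹) * (y⁻¹ * w'⁻¹)
      = w * (x * w' * y * x⁻¹) * w⁻¹ * y⁻¹ * w'⁻¹ := by group
    _ = x * w' * y * x⁻¹ * y⁻¹ * w'⁻¹ := by rw [← h1]; group
    _ = w' * (x * y * x⁻¹ * y⁻¹) * w'⁻¹ := by rw [h2]; group
    _ = x * y * x⁻¹ * y⁻¹ := by rw [← h2]; group

theorem card_double {D : Type u} [Group D] [Finite D] {Q : Type v} [Group Q] {ξ : D →* Q}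
    (h : IsDouble ξ) : Nat.card D = 2 * Nat.card Q := by
  rw [Subgroup.card_eq_card_quotient_mul_card_subgroup ξ.ker,
    Nat.card_congr (QuotientGroup.quotientKerEquivOfSurjective ξ h.surj).toEquiv, h.card, mul_comm]

/-- A lift of a covering map onto a double cover is bijective if the source is not larger. -/
theorem bijective_to_double {L : Type w} [Group L] [Finite L] {D : Type u} [Group D] [Finite D]
    {Q : Type v} [Group Q] {ξ : D →* Q} (h : IsDouble ξ) {π : L →* Q}
    (hπs : Function.Surjective π) (hcardL : Nat.card L ≤ 2 * Nat.card Q) (f : L →* D)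
    (hf : ∀ x, ξ (f x) = π x) : Function.Bijective f := by
  have hsurj : Function.Surjective f := by
    rw [← MonoidHom.range_eq_top]
    refine eq_top_of_cover ξ h.perfect h.central (eq_top_iff.2 fun q _ => ?_)
    obtain ⟨x, rfl⟩ := hπs q
    exact ⟨f x, ⟨x, rfl⟩, hf x⟩
  have hle := Nat.card_le_card_of_surjective f hsurj
  exact (Nat.bijective_iff_surjective_and_card f).2
    ⟨hsurj, le_antisymm (card_double h ▸ hcardL) hle⟩

/-- Perfect double covers of a group with dihedral Sylow 2-subgroups are isomorphic. -/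
theorem double_unique {D₁ : Type u} [Group D₁] [Finite D₁] {D₂ : Type w} [Group D₂] [Finite D₂]
    {Q : Type v} [Group Q] [Finite Q] {ξ₁ : D₁ →* Q} {ξ₂ : D₂ →* Q} (h₁ : IsDouble ξ₁)
    (h₂ : IsDouble ξ₂) (T : Sylow 2 Q) {n : ℕ} [NeZero n]
    (eT : (T : Subgroup Q) ≃* DihedralGroup n) : Nonempty (D₁ ≃* D₂) := by
  have : Fact (Nat.Prime 2) := ⟨Nat.prime_two⟩
  set P : Subgroup (D₁ × D₂) :=
    { carrier := {x | ξ₁ x.1 = ξ₂ x.2}
      one_mem' := by simp
      mul_mem' := by
        intro a b ha hb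
        simp only [Set.mem_setOf_eq, Prod.fst_mul, Prod.snd_mul, map_mul] at ha hb ⊢
        rw [ha, hb]
      inv_mem' := by
        intro a ha
        simp only [Set.mem_setOf_eq, Prod.fst_inv, Prod.snd_inv, map_inv] at ha ⊢
        rw [ha] } with hP
  set L : Subgroup (D₁ × D₂) := ⁅P, P⁆ with hL
  have hQ : commutator Q = ⊤ := by
    rw [_root_.commutator_def, ← Subgroup.map_top_of_surjective ξ₁ h₁.surj, ← Subgroup.map_commutator,
      ← _root_.commutator_def, h₁.perfect]
  have hLP : L ≤ P := Subgroup.commutator_le.2 fun a ha b hb =>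
    mul_mem (mul_mem (mul_mem ha hb) (inv_mem ha)) (inv_mem hb)
  have hπ : ∀ q : Q, ∃ x ∈ L, ξ₁ x.1 = q := by
    intro q
    have h : L.map (ξ₁.comp (MonoidHom.fst D₁ D₂)) = ⊤ := by
      have hmap : P.map (ξ₁.comp (MonoidHom.fst D₁ D₂)) = ⊤ := by
        rw [eq_top_iff]
        intro q _
        obtain ⟨a, rfl⟩ := h₁.surj q
        obtain ⟨b, hb⟩ := h₂.surj (ξ₁ a)
        exact ⟨(a, b), hb.symm, rfl⟩
      rw [hL, Subgroup.map_commutator, hmap, ← _root_.commutator_def, hQ]
    obtain ⟨x, hx, he⟩ : q ∈ L.map (ξ₁.comp (MonoidHom.fst D₁ D₂)) := h ▸ mem_top q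
    exact ⟨x, hx, he⟩
  set π : L →* Q := (ξ₁.comp (MonoidHom.fst D₁ D₂)).comp L.subtype with hπdef
  have hπs : Function.Surjective π := fun q => by
    obtain ⟨x, hx, he⟩ := hπ q
    exact ⟨⟨x, hx⟩, he⟩
  have hkmem : ∀ x : L, x ∈ π.ker → (x : D₁ × D₂).1 ∈ ξ₁.ker ∧ (x : D₁ × D₂).2 ∈ ξ₂.ker :=
    fun x hx => ⟨hx, MonoidHom.mem_ker.2 ((hLP x.2).symm.trans hx)⟩
  have hπc : π.ker ≤ center L := fun x hx => mem_center_iff.2 fun y => Subtype.ext (Prod.ext
    (mem_center_iff.1 (h₁.central (hkmem x hx).1) _) (mem_center_iff.1 (h₂.central (hkmem x hx).2) _))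
  have hp2 : IsPGroup 2 π.ker := fun x => ⟨1, by
    refine Subtype.ext (Subtype.ext (Prod.ext ?_ ?_))
    · have h := pow_card_eq_one' (x := (⟨_, (hkmem x.1 x.2).1⟩ : ξ₁.ker))
      rw [h₁.card] at h
      simpa using congrArg Subtype.val h
    · have h := pow_card_eq_one' (x := (⟨_, (hkmem x.1 x.2).2⟩ : ξ₂.ker))
      rw [h₂.card] at h
      simpa using congrArg Subtype.val h⟩
  -- the derived group of the fibre product is perfect
  have hLL : commutator L = ⊤ := by
    refine Subgroup.map_injective L.subtype_injective ?_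
    rw [_root_.commutator_def, Subgroup.map_commutator, ← MonoidHom.range_eq_map, Subgroup.range_subtype]
    refine le_antisymm (hL ▸ Subgroup.commutator_mono hLP hLP) ?_
    conv_lhs => rw [hL]
    rw [Subgroup.commutator_le]
    intro a ha b hb
    have key : ∀ x ∈ P, ∃ l ∈ L, x.1 * l.1⁻¹ ∈ ξ₁.ker ∧ x.2 * l.2⁻¹ ∈ ξ₂.ker := fun x hx => by
      obtain ⟨l, hl, he⟩ := hπ (ξ₁ x.1)
      refine ⟨l, hl, by rw [MonoidHom.mem_ker, map_mul, map_inv, he, mul_inv_cancel], ?_⟩
      rw [MonoidHom.mem_ker, map_mul, map_inv, ← hx, ← hLP hl, he, mul_inv_cancel]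
    obtain ⟨l, hl, hl1, hl2⟩ := key a ha
    obtain ⟨l', hl', hl1', hl2'⟩ := key b hb
    have e' : ⁅a, b⁆ = ⁅l, l'⁆ := by
      refine Prod.ext ?_ ?_
      · calc ⁅a, b⁆.1 = ⁅(a.1 * l.1⁻¹) * l.1, (b.1 * l'.1⁻¹) * l'.1⁆ := by
              simp [commutatorElement_def]
          _ = _ := commutator_mul_central _ _ _ _ (h₁.central hl1) (h₁.central hl1')
      · calc ⁅a, b⁆.2 = ⁅(a.2 * l.2⁻¹) * l.2, (b.2 * l'.2⁻¹) * l'.2⁆ := by
              simp [commutatorElement_def]
          _ = _ := commutator_mul_central _ _ _ _ (h₂.central hl2) (h₂.central hl2')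
    rw [e']
    exact Subgroup.commutator_mem_commutator hl hl'
  have hk2 := kernel_le_two hLL π hπs hπc hp2 T eT
  have hcardL : Nat.card L ≤ 2 * Nat.card Q := by
    rw [Subgroup.card_eq_card_quotient_mul_card_subgroup π.ker,
      Nat.card_congr (QuotientGroup.quotientKerEquivOfSurjective π hπs).toEquiv, mul_comm 2]
    exact Nat.mul_le_mul_left _ hk2
  have b₁ := bijective_to_double h₁ hπs hcardL ((MonoidHom.fst D₁ D₂).comp L.subtype) fun x => rfl
  have b₂ := bijective_to_double h₂ hπs hcardL ((MonoidHom.snd D₁ D₂).comp L.subtype) fun x =>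
    (hLP x.2).symm
  exact ⟨(MulEquiv.ofBijective _ b₁).symm.trans (MulEquiv.ofBijective _ b₂)⟩

/-- The special linear group is a perfect double cover of the projective one. -/
theorem sl_double (F : Type v) [Field F] [Fintype F] (hodd : Odd (Fintype.card F))
    (h3 : 3 < Fintype.card F) :
    IsDouble (QuotientGroup.mk' (center (Matrix.SpecialLinearGroup (Fin 2) F))) := by
  refine ⟨Classical.SL2Rep.commutator_two_eq_top h3, QuotientGroup.mk'_surjective _,
    (QuotientGroup.ker_mk' _).le, ?_⟩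
  rw [QuotientGroup.ker_mk', Classical.Linear.natCard_center_SL, Fintype.card_fin]
  obtain ⟨k, hk⟩ := hodd
  rw [hk, Nat.add_sub_cancel]
  exact Nat.gcd_eq_left (dvd_mul_right 2 k)

end Cfsg.Agent.GW.Cons
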