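import Cfsg.Agent.Lib.Involutions.QuasiDihedral
import Cfsg.Agent.Lib.Involutions.Wreathed
import Cfsg.Agent.Lib.Cores.Basic
import Cfsg.Agent.Lib.Classical.GL2
import Cfsg.Agent.Lib.Perm.NearFieldSolvable
import Cfsg.Agent.S2119

/-!
Facts for Q-groups: two generators of quasi-dihedral and wreathed groups, and the groups with a
normal alternating subgroup of degree seven.
-/

set_option autoImplicit false

namespace Cfsg.Agent.GW.Cons

open Subgroup

universe u v

/-- The elementary abelian group of order eight. -/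
abbrev Elem8 := ℤˣ × ℤˣ × ℤˣ

/-- A quasi-dihedral or wreathed group is generated by two elements. -/
theorem qw_two_gen {S : Type u} [Group S]
    (hS : Cfsg.IsQuasiDihedral S ∨ Cfsg.IsWreathed S) :
    ∃ a b : S, closure ({a, b} : Set S) = ⊤ := by
  rcases hS with h | h
  · obtain ⟨n, hn, hc, x, y, hx, hy, hxy⟩ := h
    have : Finite S := Nat.finite_of_card_ne_zero (by rw [hc]; positivity)
    refine ⟨x, y, ?_⟩
    have hne : y ∉ zpowers x := by
      rintro ⟨i, rfl⟩
      have hcomm : x ^ i * x * (x ^ i)⁻¹ = x := by group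
      rw [hcomm] at hxy
      nth_rewrite 1 [← pow_one x] at hxy
      rw [pow_eq_pow_iff_modEq, hx] at hxy
      have h2 : 2 ^ (n - 1) * 2 = 2 ^ n := by rw [← pow_succ]; congr 1; omega
      have h4 : 2 ^ 2 ≤ 2 ^ (n - 1) := Nat.pow_le_pow_right two_pos (by omega)
      rw [Nat.ModEq, Nat.mod_eq_of_lt (by omega), Nat.mod_eq_of_lt (by omega)] at hxy
      omega
    set C := closure ({x, y} : Set S) with hC
    have hlt : zpowers x < C := lt_of_le_not_ge (zpowers_le.2 (subset_closure (by simp)))
      fun h => hne (h (subset_closure (by simp)))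
    have hdvd : Nat.card C ∣ 2 ^ (n + 1) := hc ▸ card_subgroup_dvd_card C
    obtain ⟨k, hk, hk'⟩ := (Nat.dvd_prime_pow Nat.prime_two).1 hdvd
    refine Subgroup.eq_top_of_le_card _ ?_
    have hgt : Nat.card (zpowers x) < Nat.card C := by
      by_contra hge
      exact hlt.ne (Subgroup.eq_of_le_of_card_ge hlt.le (not_lt.1 hge))
    rw [Nat.card_zpowers, hx, hk'] at hgt
    have := (Nat.pow_lt_pow_iff_right (by norm_num)).1 hgt
    rw [hc, hk', show k = n + 1 by omega]
  · obtain ⟨D⟩ := Involutions.Wreathed.exists_gens h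
    refine ⟨D.x, D.z, eq_top_iff.2 fun s _ => ?_⟩
    have hx : D.x ∈ closure ({D.x, D.z} : Set S) := subset_closure (by simp)
    have hz : D.z ∈ closure ({D.x, D.z} : Set S) := subset_closure (by simp)
    have hy : D.y ∈ closure ({D.x, D.z} : Set S) := by
      rw [← D.hzx]
      exact mul_mem (mul_mem hz hx) (inv_mem hz)
    have hU : ∀ i j, D.U i j ∈ closure ({D.x, D.z} : Set S) := fun i j =>
      mul_mem (zpowers_le.2 hx (Classical.CyclicExt.pw_mem _ _ i))
        (zpowers_le.2 hy (Classical.CyclicExt.pw_mem _ _ j))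
    rcases D.forms s with ⟨i, j, rfl⟩ | ⟨i, j, rfl⟩
    · exact hU i j
    · exact mul_mem (hU i j) hz

/-- A quasi-dihedral or wreathed group has two involutions. -/
theorem qw_two_involutions {S : Type u} [Group S]
    (hS : Cfsg.IsQuasiDihedral S ∨ Cfsg.IsWreathed S) :
    ∃ a b : S, orderOf a = 2 ∧ orderOf b = 2 ∧ a ≠ b := by
  rcases hS with h | h
  · obtain ⟨n, hn, hc, x, y, hx, hy, hxy⟩ := h
    refine ⟨y, x ^ 2 ^ (n - 1), hy, ?_, fun he => ?_⟩
    · rw [orderOf_pow_of_dvd (by positivity) (by rw [hx]; exact pow_dvd_pow 2 (by omega)), hx,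
        Nat.pow_div (by omega) two_pos, show n - (n - 1) = 1 by omega, pow_one]
    · have hcomm : x ^ 2 ^ (n - 1) * x * (x ^ 2 ^ (n - 1))⁻¹ = x := by group
      rw [he, hcomm] at hxy
      nth_rewrite 1 [← pow_one x] at hxy
      rw [pow_eq_pow_iff_modEq, hx] at hxy
      have h2 : 2 ^ (n - 1) * 2 = 2 ^ n := by rw [← pow_succ]; congr 1; omega
      have h4 : 2 ^ 2 ≤ 2 ^ (n - 1) := Nat.pow_le_pow_right two_pos (by omega)
      rw [Nat.ModEq, Nat.mod_eq_of_lt (by omega), Nat.mod_eq_of_lt (by omega)] at hxy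
      omega
  · obtain ⟨n, hn, hc, x, y, z, hx, hxy, hdis, hz, hzx⟩ := h
    refine ⟨z, x ^ 2 ^ (n - 1), hz, ?_, fun he => ?_⟩
    · rw [orderOf_pow_of_dvd (by positivity) (by rw [hx]; exact pow_dvd_pow 2 (by omega)), hx,
        Nat.pow_div (by omega) two_pos, show n - (n - 1) = 1 by omega, pow_one]
    · have hcomm : x ^ 2 ^ (n - 1) * x * (x ^ 2 ^ (n - 1))⁻¹ = x := by group
      rw [he, hcomm] at hzx
      rw [← hzx, inf_idem, zpowers_eq_bot] at hdis
      rw [hdis, orderOf_one] at hx
      exact absurd hx.symm (Nat.one_lt_two_pow (by omega)).ne'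

/-- A two-generated group does not map onto the elementary group of order eight. -/
theorem not_surjective_elem8 {S : Type u} [Group S] {a b : S}
    (hgen : closure ({a, b} : Set S) = ⊤) (f : S →* Elem8) : ¬ Function.Surjective f := by
  intro hf
  have hle : (⊤ : Subgroup Elem8) ≤ zpowers (f a) ⊔ zpowers (f b) := by
    rw [← MonoidHom.range_eq_top.2 hf, MonoidHom.range_eq_map, ← hgen, MonoidHom.map_closure,
      closure_le]
    rintro _ ⟨s, hs, rfl⟩
    rcases hs with rfl | rfl
    exacts [mem_sup_left (mem_zpowers _), mem_sup_right (mem_zpowers _)]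
  have h2 : ∀ u : Elem8, orderOf u ≤ 2 := fun u => by
    refine orderOf_le_of_pow_eq_one two_pos ?_
    obtain ⟨p, q, r⟩ := u
    simp [Prod.ext_iff]
  have hdvd := Cores.card_sup_dvd_mul (zpowers (f a)) (zpowers (f b))
  rw [top_le_iff.1 hle, card_top, Nat.card_zpowers, Nat.card_zpowers] at hdvd
  have h8 : Nat.card Elem8 = 8 := by
    rw [Nat.card_eq_fintype_card]
    rfl
  rw [h8] at hdvd
  have h1 := Nat.le_of_dvd (Nat.mul_pos (orderOf_pos _) (orderOf_pos _)) hdvd
  have h3 := Nat.mul_le_mul (h2 (f a)) (h2 (f b))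
  omega

/-- A map from a Sylow 2-subgroup of an image pulls back to a Sylow 2-subgroup. -/
theorem surj_from_sylow {H : Type u} [Group H] [Finite H] {Q : Type v} [Group Q] [Finite Q]
    {π : H →* Q} (hπ : Function.Surjective π) (S : Sylow 2 H) (T : Sylow 2 Q) {A : Type*} [Group A]
    (f : (T : Subgroup Q) →* A) (hf : Function.Surjective f) :
    ∃ g : (S : Subgroup H) →* A, Function.Surjective g := by
  have : Fact (Nat.Prime 2) := ⟨Nat.prime_two⟩
  refine ⟨(f.comp ((S.mapSurjective hπ).equiv T).toMonoidHom).comp (π.subgroupMap S), ?_⟩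
  exact (hf.comp ((S.mapSurjective hπ).equiv T).surjective).comp (π.subgroupMap_surjective _)

/-- The sign character of a subgroup of index two. -/
theorem exists_sign_of_index_two {Q : Type v} [Group Q] {N : Subgroup Q} (hN : N.index = 2) :
    ∃ ε : Q →* ℤˣ, Function.Surjective ε := by
  classical
  let ε : Q →* ℤˣ :=
    { toFun := fun q => if q ∈ N then 1 else -1
      map_one' := if_pos N.one_mem
      map_mul' := fun a b => by
        by_cases ha : a ∈ N <;> by_cases hb : b ∈ N <;>
          simp [ha, hb, Subgroup.mul_mem_iff_of_index_two hN] }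
  refine ⟨ε, fun u => ?_⟩
  rcases Int.units_eq_one_or u with rfl | rfl
  · exact ⟨1, map_one ε⟩
  · obtain ⟨q, hq⟩ : ∃ q, q ∉ N := by
      by_contra h
      push Not at h
      rw [(eq_top_iff' N).2 h, index_top] at hN
      norm_num at hN
    exact ⟨q, if_neg hq⟩

/-- The parity pair of an element of the dihedral group of order eight. -/
def parFun : DihedralGroup 4 → ℤˣ × ℤˣ
  | .r i => ((-1) ^ i.val, 1)
  | .sr i => ((-1) ^ i.val, -1)

/-- The abelianisation of the dihedral group of order eight. -/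
def parHom : DihedralGroup 4 →* ℤˣ × ℤˣ :=
  MonoidHom.mk' parFun (by decide)

/-- A dihedral group of order eight on four of seven letters. -/
def d4Fun : DihedralGroup 4 → Equiv.Perm (Fin 7)
  | .r i => (Equiv.swap 0 1 * Equiv.swap 1 2 * Equiv.swap 2 3) ^ i.val
  | .sr i => Equiv.swap 0 2 * (Equiv.swap 0 1 * Equiv.swap 1 2 * Equiv.swap 2 3) ^ i.val

/-- The embedding of the dihedral group of order eight. -/
def d4Hom : DihedralGroup 4 →* Equiv.Perm (Fin 7) :=
  MonoidHom.mk' d4Fun (by decide)

/-- A transposition on two other letters. -/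
def swapHom : ℤˣ →* Equiv.Perm (Fin 7) :=
  MonoidHom.mk' (fun u => if u = 1 then 1 else Equiv.swap 4 5) (by decide)

/-- A Sylow 2-subgroup of the symmetric group of degree seven. -/
def sevenHom : DihedralGroup 4 × ℤˣ →* Equiv.Perm (Fin 7) :=
  MonoidHom.noncommCoprod d4Hom swapHom (by unfold Commute SemiconjBy; decide)

theorem sevenHom_injective : Function.Injective sevenHom := by
  rw [injective_iff_map_eq_one]
  decide

/-- A Sylow 2-subgroup of the alternating group of degree seven. -/
def altSevenHom : DihedralGroup 4 →* Equiv.Perm (Fin 7) :=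
  sevenHom.comp ((MonoidHom.id _).prod (Equiv.Perm.sign.comp d4Hom))

theorem altSevenHom_mem (x : DihedralGroup 4) : altSevenHom x ∈ alternatingGroup (Fin 7) := by
  rw [Equiv.Perm.mem_alternatingGroup]
  revert x
  decide

/-- A group with a normal alternating subgroup of degree seven, with 2-centraliser, is that
subgroup or has Sylow 2-subgroups mapping onto the elementary group of order eight. -/
theorem alt_seven_dichotomy {G : Type u} [Group G] [Finite G] (L : Subgroup G) [L.Normal]
    (e : L ≃* alternatingGroup (Fin 7)) (hC : IsPGroup 2 (centralizer (L : Set G)))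
    (S : Sylow 2 G) :
    L = ⊤ ∨ ∃ g : (S : Subgroup G) →* Elem8, Function.Surjective g := by
  have : Fact (Nat.Prime 2) := ⟨Nat.prime_two⟩
  set α : G →* MulAut (alternatingGroup (Fin 7)) :=
    (MulAut.congr e).toMonoidHom.comp (MulAut.conjNormal (H := L)) with hα
  set E := MulEquiv.ofBijective (MulAut.conjNormal : Equiv.Perm (Fin 7) →* MulAut (alternatingGroup (Fin 7)))
    (S2119.result 7 (by norm_num) (by norm_num)) with hE
  set φ : G →* Equiv.Perm (Fin 7) := E.symm.toMonoidHom.comp α with hφ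
  have hφL : ∀ l : L, φ l = (e l : Equiv.Perm (Fin 7)) := by
    intro l
    show E.symm (α l) = _
    rw [MulEquiv.symm_apply_eq]
    refine MulEquiv.ext fun a => Subtype.ext ?_
    have hstep : MulAut.conjNormal (l : G) (e.symm a) = l * e.symm a * l⁻¹ := Subtype.ext (by
      rw [MulAut.conjNormal_apply]; rfl)
    show ((e (MulAut.conjNormal (l : G) (e.symm a)) : alternatingGroup (Fin 7)) : Equiv.Perm (Fin 7)) = _
    rw [hE, MulEquiv.ofBijective_apply, MulAut.conjNormal_apply, hstep, map_mul, map_mul, map_inv,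
      MulEquiv.apply_symm_apply]
    rfl
  have hker : ∀ g, φ g = 1 → g ∈ centralizer (L : Set G) := by
    intro g hg
    rw [← Perm.NearField.ker_conjNormal, MonoidHom.mem_ker]
    have h1 : E.symm (α g) = 1 := hg
    rw [MulEquiv.map_eq_one_iff] at h1
    exact (MulEquiv.map_eq_one_iff (MulAut.congr e)).1 h1
  by_cases hA : ∃ g, φ g ∉ alternatingGroup (Fin 7)
  · -- the image is the symmetric group
    obtain ⟨g₀, hg₀⟩ := hA
    have hs : Function.Surjective φ := by
      intro σ
      by_cases hσ : σ ∈ alternatingGroup (Fin 7)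
      · exact ⟨e.symm ⟨σ, hσ⟩, by rw [hφL, MulEquiv.apply_symm_apply]⟩
      · have hmem : σ * φ g₀ ∈ alternatingGroup (Fin 7) :=
          (Subgroup.mul_mem_iff_of_index_two alternatingGroup.index_eq_two).2
            (iff_of_false hσ hg₀)
        refine ⟨e.symm ⟨_, hmem⟩ * g₀⁻¹, ?_⟩
        rw [map_mul, hφL, MulEquiv.apply_symm_apply, map_inv]
        exact mul_inv_cancel_right σ (φ g₀)
    have hc16 : Nat.card sevenHom.range = 16 := by
      rw [← Nat.card_congr (MonoidHom.ofInjective sevenHom_injective).toEquiv,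
        Nat.card_eq_fintype_card]
      rfl
    obtain ⟨T, hT⟩ : ∃ T : Sylow 2 (Equiv.Perm (Fin 7)),
        (T : Subgroup (Equiv.Perm (Fin 7))) = sevenHom.range := by
      have hp : IsPGroup 2 sevenHom.range := IsPGroup.of_card (n := 4) (by rw [hc16]; norm_num)
      refine ⟨hp.toSylow ?_, rfl⟩
      have h := sevenHom.range.card_mul_index
      rw [hc16, Nat.card_perm, Nat.card_eq_fintype_card, Fintype.card_fin] at h
      have h5040 : Nat.factorial 7 = 5040 := rfl
      omega
    let t := (MulEquiv.subgroupCongr hT).trans (MonoidHom.ofInjective sevenHom_injective).symm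
    let f : DihedralGroup 4 × ℤˣ →* Elem8 :=
      ((MonoidHom.fst ℤˣ ℤˣ).comp (parHom.comp (MonoidHom.fst _ _))).prod
        (((MonoidHom.snd ℤˣ ℤˣ).comp (parHom.comp (MonoidHom.fst _ _))).prod (MonoidHom.snd _ _))
    have hf : Function.Surjective f := by decide
    exact Or.inr (surj_from_sylow hs S T (f.comp t.toMonoidHom) (hf.comp t.surjective))
  · push Not at hA
    set φ' := φ.codRestrict (alternatingGroup (Fin 7)) hA with hφ'
    set Ψ : G →* alternatingGroup (Fin 7) × (G ⧸ L) := φ'.prod (QuotientGroup.mk' L) with hΨ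
    have hΨs : Function.Surjective Ψ := by
      rintro ⟨a, q⟩
      obtain ⟨g, rfl⟩ := QuotientGroup.mk_surjective q
      refine ⟨(e.symm (a * (φ' g)⁻¹) : G) * g, Prod.ext (Subtype.ext ?_) ?_⟩
      · show φ ((e.symm (a * (φ' g)⁻¹) : G) * g) = a
        rw [map_mul, hφL, MulEquiv.apply_symm_apply]
        show (a : Equiv.Perm (Fin 7)) * (φ g)⁻¹ * φ g = a
        exact inv_mul_cancel_right _ _
      · show ((((e.symm (a * (φ' g)⁻¹) : L) : G) * g : G) : G ⧸ L) = g
        rw [QuotientGroup.mk_mul, (QuotientGroup.eq_one_iff _).2 (e.symm (a * (φ' g)⁻¹)).2, one_mul]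
    have hQ : IsPGroup 2 (G ⧸ L) := by
      refine hC.of_surjective ((QuotientGroup.mk' L).comp (centralizer (L : Set G)).subtype) fun q => ?_
      obtain ⟨g, hg⟩ := hΨs (1, q)
      have h1 : φ g = 1 := congrArg
        (fun p : alternatingGroup (Fin 7) × (G ⧸ L) => (p.1 : Equiv.Perm (Fin 7))) hg
      exact ⟨⟨g, hker g h1⟩, congrArg Prod.snd hg⟩
    by_cases htop : L = ⊤
    · exact Or.inl htop
    right
    have hnt : Nontrivial (G ⧸ L) := by
      obtain ⟨g, hg⟩ : ∃ g, g ∉ L := by
        by_contra h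
        push Not at h
        exact htop ((eq_top_iff' L).2 h)
      exact ⟨⟨g, 1, fun h => hg ((QuotientGroup.eq_one_iff g).1 h)⟩⟩
    obtain ⟨N, hN⟩ : ∃ N : Subgroup (G ⧸ L), N.index = 2 := by
      obtain ⟨k, hk0, hk⟩ := hQ.nontrivial_iff_card.1 hnt
      obtain ⟨N, hN⟩ := Sylow.exists_subgroup_card_pow_prime 2 (G := G ⧸ L) (n := k - 1)
        (hk ▸ pow_dvd_pow 2 (Nat.sub_le k 1))
      refine ⟨N, Nat.eq_of_mul_eq_mul_left (pow_pos two_pos (k - 1)) ?_⟩
      rw [← pow_succ, show k - 1 + 1 = k by omega, ← hk, ← hN]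
      exact N.card_mul_index
    obtain ⟨ε, hε⟩ := exists_sign_of_index_two hN
    set d7 := altSevenHom.codRestrict (alternatingGroup (Fin 7)) altSevenHom_mem with hd7
    have hd7i : Function.Injective d7 := fun a b h => by
      have h' : altSevenHom a = altSevenHom b :=
        congrArg (fun p : alternatingGroup (Fin 7) => (p : Equiv.Perm (Fin 7))) h
      exact congrArg Prod.fst (sevenHom_injective h')
    have hc8 : Nat.card d7.range = 8 := by
      rw [← Nat.card_congr (MonoidHom.ofInjective hd7i).toEquiv, DihedralGroup.nat_card]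
    set R := d7.range.prod (⊤ : Subgroup (G ⧸ L)) with hR
    obtain ⟨T, hT⟩ : ∃ T : Sylow 2 (alternatingGroup (Fin 7) × (G ⧸ L)), (T : Subgroup _) = R := by
      obtain ⟨k, hk⟩ := hQ.exists_card_eq
      have hcR : Nat.card R = 2 ^ (3 + k) := by
        rw [hR, Nat.card_congr (Subgroup.prodEquiv _ _).toEquiv, Nat.card_prod, hc8, card_top, hk,
          pow_add]
        norm_num
      refine ⟨(IsPGroup.of_card hcR).toSylow ?_, rfl⟩
      have h := R.card_mul_index
      rw [hcR, Nat.card_prod, nat_card_alternatingGroup, Nat.card_eq_fintype_card (α := Fin 7),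
        Fintype.card_fin, hk, show Nat.factorial 7 / 2 = 2520 from rfl] at h
      have h' : R.index = 315 := Nat.eq_of_mul_eq_mul_left (show 0 < 2 ^ (3 + k) by positivity)
        (h.trans (by rw [pow_add]; ring))
      rw [h']
      norm_num
    let t := ((MulEquiv.subgroupCongr hT).trans (Subgroup.prodEquiv d7.range ⊤)).trans
      ((MonoidHom.ofInjective hd7i).symm.prodCongr Subgroup.topEquiv)
    let f : DihedralGroup 4 × (G ⧸ L) →* Elem8 :=
      ((MonoidHom.fst ℤˣ ℤˣ).comp (parHom.comp (MonoidHom.fst _ _))).prod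
        (((MonoidHom.snd ℤˣ ℤˣ).comp (parHom.comp (MonoidHom.fst _ _))).prod
          (ε.comp (MonoidHom.snd _ _)))
    have hf : Function.Surjective f := by
      rintro ⟨a, b, c⟩
      obtain ⟨x, hx⟩ : ∃ x, parHom x = (a, b) := (by decide : Function.Surjective parHom) (a, b)
      obtain ⟨q, hq⟩ := hε c
      exact ⟨(x, q), by simp [f, hx, hq]⟩
    exact surj_from_sylow hΨs S T (f.comp t.toMonoidHom) (hf.comp t.surjective)

/-- The special linear group of odd characteristic has no nontrivial 2-group image. -/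
theorem sl_to_two_group {F : Type v} [Field F] [Fintype F] (hodd : Odd (Fintype.card F)) {Q : Type u}
    [Group Q] (hQ : IsPGroup 2 Q) (f : Matrix.SpecialLinearGroup (Fin 2) F →* Q)
    (g : Matrix.SpecialLinearGroup (Fin 2) F) : f g = 1 := by
  suffices h : f.ker = ⊤ from MonoidHom.mem_ker.1 (h ▸ Subgroup.mem_top g)
  refine Classical.Linear.eq_top_of_transvection_mem _ fun i j hij c => ?_
  let τ : Multiplicative F →* Matrix.SpecialLinearGroup (Fin 2) F :=
    MonoidHom.mk' (fun c => Matrix.SpecialLinearGroup.transvection hij c.toAdd) fun a b => by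
      refine Subtype.ext ?_
      exact (Matrix.transvection_mul_transvection_same i j hij _ _).symm
  have ho : orderOf (f (τ (Multiplicative.ofAdd c))) ∣ Fintype.card F := by
    refine (orderOf_map_dvd (f.comp τ) (Multiplicative.ofAdd c)).trans ?_
    rw [← Nat.card_eq_fintype_card, Nat.card_congr (Multiplicative.ofAdd (α := F))]
    exact orderOf_dvd_natCard _
  obtain ⟨k, hk⟩ := IsPGroup.iff_orderOf.1 hQ (f (τ (Multiplicative.ofAdd c)))
  rw [hk] at ho
  have : f (τ (Multiplicative.ofAdd c)) = 1 := by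
    rw [← orderOf_eq_one_iff, hk]
    refine Nat.eq_one_of_dvd_coprimes (Nat.Coprime.pow_left k (Nat.coprime_two_left.2 hodd)) dvd_rfl ho
  exact MonoidHom.mem_ker.2 this

end Cfsg.Agent.GW.Cons
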