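import Cfsg.Agent.Lib.GW.ConsQuaternion
import Cfsg.Agent.Lib.GW.ConsCover
import Cfsg.Agent.Lib.GW.ConsQGroupBasics
import Cfsg.Agent.InvChar.Solvable

/-!
The normal special linear subgroup of a Q-group, from Gorenstein–Walter.
-/

set_option autoImplicit false

namespace Cfsg.Agent.GW.Cons

open Subgroup

universe u v

/-- A core-free solvable group with dihedral Sylow 2-subgroups and without subgroups of index
two has order twelve. -/
theorem twelve_of_solvable {Q : Type u} [Group Q] [Finite Q] (T : Sylow 2 Q) {n : ℕ} (hn : 2 ≤ n)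
    (eT : (T : Subgroup Q) ≃* DihedralGroup n) (hO : Cfsg.oddCore Q = ⊥)
    (hidx : ∀ M : Subgroup Q, M.index ≠ 2) (hs : Group.IsSolvable Q) :
    Nat.card Q = 12 ∧ ∃ F : Subgroup Q, F.Normal ∧ Nat.card F = 4 ∧ centralizer (F : Set Q) ≤ F := by
  classical
  have : Fact (Nat.Prime 2) := ⟨Nat.prime_two⟩
  have : NeZero n := ⟨by omega⟩
  have hnp : ¬ IsPGroup 2 Q := by
    intro hp
    obtain ⟨k, hk⟩ := hp.exists_card_eq
    have hT := Subgroup.card_le_card_group (T : Subgroup Q)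
    rw [Nat.card_congr eT.toEquiv, DihedralGroup.nat_card, hk] at hT
    have hk1 : 1 ≤ k := by
      by_contra h
      rw [show k = 0 by omega] at hT
      omega
    obtain ⟨N, hN⟩ := Sylow.exists_subgroup_card_pow_prime 2 (G := Q) (n := k - 1)
      (hk ▸ pow_dvd_pow 2 (Nat.sub_le k 1))
    refine hidx N (Nat.eq_of_mul_eq_mul_left (pow_pos two_pos (k - 1)) ?_)
    rw [← pow_succ, show k - 1 + 1 = k by omega, ← hk, ← hN]
    exact N.card_mul_index
  set F := Cfsg.pCore 2 Q with hF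
  have : F.Normal := Subgroup.sSup_normal _ fun N hN => hN.1
  have hC : centralizer (F : Set Q) ≤ F := InvChar.Solvable.centralizer_pCore_two_le hs hO
  have hFp : IsPGroup 2 F := Cores.pCore_isPGroup 2
  let _ : Fintype F := Fintype.ofFinite F
  -- an element of odd order acts nontrivially
  obtain ⟨g, hg, hne⟩ : ∃ g : Q, Odd (orderOf g) ∧ MulAut.conjNormal (H := F) g ≠ 1 := by
    by_contra h
    push Not at h
    refine hnp fun g => ?_
    obtain ⟨a, b, hb, hab⟩ := Nat.exists_eq_two_pow_mul_odd (orderOf_pos g).ne'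
    refine ⟨a, ?_⟩
    have hbo : orderOf (g ^ 2 ^ a) = b := by
      rw [orderOf_pow_of_dvd (by positivity) (hab ▸ dvd_mul_right _ _), hab,
        Nat.mul_div_cancel_left _ (by positivity)]
    have hmem : g ^ 2 ^ a ∈ F := by
      refine hC ?_
      rw [← Perm.NearField.ker_conjNormal, MonoidHom.mem_ker]
      exact h _ (by rwa [hbo])
    obtain ⟨k, hk⟩ := IsPGroup.iff_orderOf.1 hFp ⟨_, hmem⟩
    rw [Subgroup.orderOf_mk, hbo] at hk
    rw [← orderOf_eq_one_iff, hbo]
    exact Nat.eq_one_of_dvd_coprimes (Nat.Coprime.pow_left k (Nat.coprime_two_left.2 hb))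
      hk.dvd dvd_rfl
  obtain ⟨f, hf⟩ := Involutions.DihedralSylow.exists_embedding T hFp eT
  obtain ⟨hF4, hsq⟩ := Involutions.DihedralEmbedding.isKleinFour_of_aut hFp f hf
    (Involutions.DihedralSylow.two_dvd T eT hn) (by omega)
    (hg.of_dvd_nat (orderOf_map_dvd (MulAut.conjNormal (H := F)) g)) hne
  refine ⟨?_, F, inferInstance, hF4, hC⟩
  have hFc : F ≤ centralizer (F : Set Q) := fun x hx => mem_centralizer_iff.2 fun y hy => by
    have h2 : ∀ w : F, w⁻¹ = w := fun w => inv_eq_of_mul_eq_one_right (hsq w)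
    have h3 : (⟨y, hy⟩ * ⟨x, hx⟩ : F) = ⟨x, hx⟩ * ⟨y, hy⟩ :=
      ((h2 _).symm.trans (mul_inv_rev _ _)).trans (by rw [h2, h2])
    exact congrArg Subtype.val h3
  -- the action on the three involutions is by even permutations
  let res : MulAut F →* Equiv.Perm {x : F // x ≠ 1} :=
    MonoidHom.mk' (fun σ => Equiv.Perm.subtypePerm σ.toEquiv (p := fun x : F => x ≠ 1) fun x => (MulEquiv.map_eq_one_iff σ).not)
      fun σ τ => Equiv.ext fun x => rfl
  set φ := res.comp (MulAut.conjNormal (H := F)) with hφ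
  have hker : φ.ker = centralizer (F : Set Q) := by
    rw [← Perm.NearField.ker_conjNormal]
    ext x
    simp only [hφ, MonoidHom.mem_ker, MonoidHom.comp_apply]
    refine ⟨fun h => MulEquiv.ext fun y => ?_, fun h => by rw [h, map_one]⟩
    rcases eq_or_ne y 1 with rfl | hy
    · rw [map_one]
      rfl
    · exact congrArg Subtype.val (DFunLike.congr_fun h ⟨y, hy⟩)
  have hsign : φ.range ≤ alternatingGroup {x : F // x ≠ 1} := by
    rintro _ ⟨x, rfl⟩
    rw [Equiv.Perm.mem_alternatingGroup]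
    by_contra hx
    refine hidx (Equiv.Perm.sign.comp φ).ker ?_
    rw [index_ker]
    have hu : (Equiv.Perm.sign.comp φ).range = ⊤ := eq_top_iff.2 fun u _ => by
      rcases Int.units_eq_one_or u with rfl | rfl
      · exact one_mem _
      · exact ⟨x, (Int.units_eq_one_or _).resolve_left hx⟩
    rw [hu, card_top, Nat.card_eq_fintype_card]
    rfl
  have h3 : Nat.card {x : F // x ≠ 1} = 3 := by
    have h := Fintype.card_subtype_compl (fun x : F => x = 1)
    rw [Fintype.card_subtype_eq, ← Nat.card_eq_fintype_card, ← Nat.card_eq_fintype_card, hF4] at h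
    exact h
  have hdvd : Nat.card φ.range ∣ 3 := by
    refine (Subgroup.card_dvd_of_le hsign).trans (dvd_of_eq ?_)
    have : Nontrivial {x : F // x ≠ 1} := Finite.one_lt_card_iff_nontrivial.1 (by omega)
    rw [nat_card_alternatingGroup, h3]
    rfl
  have h4 : φ.ker = F := hker.trans (le_antisymm hC hFc)
  have hcard := φ.ker.card_mul_index
  rw [index_ker, h4, hF4] at hcard
  rcases (Nat.dvd_prime Nat.prime_three).1 hdvd with h | h
  · exact absurd (IsPGroup.of_card (n := 2) (by rw [← hcard, h]; norm_num)) hnp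
  · rw [← hcard, h]

/-- The double cover of that group of order twelve is `SL(2, 3)`. -/
theorem sl23_of_cover {G : Type u} [Group G] [Finite G] {Q : Type v} [Group Q] [Finite Q]
    (P : Sylow 2 G) {m : ℕ} (e : (P : Subgroup G) ≃* QuaternionGroup (2 ^ m)) (π : G →* Q)
    (hπ : Function.Surjective π) (hk : Nat.card π.ker = 2) (hQ : Nat.card Q = 12) (F : Subgroup Q)
    [F.Normal] (hF : Nat.card F = 4) (hC : centralizer (F : Set Q) ≤ F) :
    Nat.card G = 24 ∧ Nonempty (G ≃* Perm.NearField.SL23') := by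
  have : Fact (Nat.Prime 2) := ⟨Nat.prime_two⟩
  have : Fact (Nat.Prime 3) := ⟨Nat.prime_three⟩
  have hG : Nat.card G = 24 := by
    rw [← π.ker.card_mul_index, hk, index_ker, MonoidHom.range_eq_top.2 hπ, card_top, hQ]
  refine ⟨hG, ?_⟩
  set N := F.comap π with hN
  have hFi : F.index = 3 := by
    have := F.card_mul_index
    rw [hF, hQ] at this
    omega
  have hN8 : Nat.card N = 8 := by
    have := N.card_mul_index
    rw [hN, index_comap_of_surjective _ hπ, hFi, hG, ← hN] at this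
    omega
  obtain ⟨P', hP'⟩ := (IsPGroup.of_card (n := 3) (by rw [hN8]; norm_num) : IsPGroup 2 N).exists_le_sylow
  have hP8 : Nat.card (P' : Subgroup G) = 8 := by
    obtain ⟨k, hk'⟩ := P'.isPGroup'.exists_card_eq
    have h1 := Subgroup.card_le_of_le hP'
    have h2 := Subgroup.card_subgroup_dvd_card (P' : Subgroup G)
    rw [hN8, hk'] at h1
    rw [hG, hk'] at h2
    have h3 : k < 4 := by
      by_contra h
      have := (pow_dvd_pow 2 (show 4 ≤ k by omega)).trans h2
      norm_num at this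
    interval_cases k <;> simp_all
  have hNP : N = (P' : Subgroup G) := Subgroup.eq_of_le_of_card_ge hP' (by rw [hN8, hP8])
  have e' : N ≃* QuaternionGroup (2 ^ m) := ((MulEquiv.subgroupCongr hNP).trans (P'.equiv P)).trans e
  have hm : 2 ^ m = 2 := by
    have h := Nat.card_congr e'.toEquiv
    rw [hN8, Nat.card_eq_fintype_card, QuaternionGroup.card] at h
    omega
  rw [hm] at e'
  obtain ⟨g, hg⟩ := exists_prime_orderOf_dvd_card' (G := G) 3 (by rw [hG]; norm_num)
  refine Perm.NearField.sl23_of_q8 N e' hG g hg fun h => ?_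
  have hgC : π g ∈ centralizer (F : Set Q) := mem_centralizer_iff.2 fun y hy => by
    obtain ⟨x, rfl⟩ := hπ y
    have h1 := congrArg (fun σ : MulAut N => π ((σ ⟨x, hy⟩ : N) : G)) h
    simp only [MulAut.conjNormal_apply, MulAut.one_apply, map_mul, map_inv] at h1
    exact (mul_inv_eq_iff_eq_mul.1 h1).symm
  have ho4 : orderOf (π g) ∣ 4 := hF ▸ (by
    have := orderOf_dvd_natCard (⟨π g, hC hgC⟩ : F)
    rwa [Subgroup.orderOf_mk] at this)
  have h1 : π g = 1 := orderOf_eq_one_iff.1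
    (Nat.eq_one_of_dvd_coprimes (by norm_num : Nat.Coprime 3 4) (hg ▸ orderOf_map_dvd π g) ho4)
  have h2 := orderOf_dvd_natCard (⟨g, MonoidHom.mem_ker.2 h1⟩ : π.ker)
  rw [Subgroup.orderOf_mk, hg, hk] at h2
  norm_num at h2

/-- The order of `SL(2, q)` for odd `q` is at least `24`, and at least `120` beyond `q = 3`. -/
theorem sl_card_bounds (F : Type) [Field F] [Fintype F] (hodd : Odd (Fintype.card F)) :
    24 ≤ Nat.card (Matrix.SpecialLinearGroup (Fin 2) F) ∧
      2 ∣ Nat.card (Matrix.SpecialLinearGroup (Fin 2) F) ∧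
      (3 < Fintype.card F → 120 ≤ Nat.card (Matrix.SpecialLinearGroup (Fin 2) F)) ∧
      (Fintype.card F ≤ 3 → Nat.card (Matrix.SpecialLinearGroup (Fin 2) F) = 24) := by
  have h1 := Fintype.one_lt_card (α := F)
  obtain ⟨k, hk⟩ := hodd
  rw [Classical.GL2.natCard_SL_two, hk, show 2 * k + 1 - 1 = 2 * k by omega]
  have hk1 : 1 ≤ k := by omega
  refine ⟨?_, ⟨(2 * k + 1) * (k * (2 * k + 1 + 1)), by ring⟩, fun h => ?_, fun h => ?_⟩
  · exact (Nat.mul_le_mul (show 3 ≤ 2 * k + 1 by omega)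
      (Nat.mul_le_mul (show 2 ≤ 2 * k by omega) (show 4 ≤ 2 * k + 1 + 1 by omega))).trans' (by norm_num)
  · exact (Nat.mul_le_mul (show 5 ≤ 2 * k + 1 by omega)
      (Nat.mul_le_mul (show 4 ≤ 2 * k by omega) (show 6 ≤ 2 * k + 1 + 1 by omega))).trans' (by norm_num)
  · obtain rfl : k = 1 := by omega
    rfl

/-- The preimage of a perfect subgroup of even order is a perfect double cover, if its only
involution is the kernel. -/
theorem double_of_preimage {G : Type u} [Group G] {z : G} (hz : orderOf z = 2) (hzc : z ∈ center G)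
    [(zpowers z).Normal] [Finite G] (L : Subgroup (G ⧸ zpowers z)) (hLL : ⁅L, L⁆ = L)
    (hev : 2 ∣ Nat.card L)
    (huniq : ∀ y ∈ L.comap (QuotientGroup.mk' (zpowers z)), orderOf y = 2 → y = z) :
    IsDouble ((QuotientGroup.mk' (zpowers z)).subgroupComap L) := by
  have : Fact (Nat.Prime 2) := ⟨Nat.prime_two⟩
  set M := L.comap (QuotientGroup.mk' (zpowers z)) with hMdef
  set ξ : M →* L := (QuotientGroup.mk' (zpowers z)).subgroupComap L with hξdef
  have hξs : Function.Surjective ξ :=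
    MonoidHom.subgroupComap_surjective_of_surjective _ L (QuotientGroup.mk'_surjective _)
  have hzM : z ∈ M := by
    show QuotientGroup.mk' (zpowers z) z ∈ L
    rw [QuotientGroup.mk'_apply, (QuotientGroup.eq_one_iff z).2 (mem_zpowers z)]
    exact one_mem _
  have hker : ξ.ker = (zpowers z).subgroupOf M := by
    ext x
    rw [MonoidHom.mem_ker, mem_subgroupOf, ← QuotientGroup.eq_one_iff]
    exact Subtype.ext_iff
  have hDM : ⁅M, M⁆.map (QuotientGroup.mk' (zpowers z)) = L := by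
    rw [Subgroup.map_commutator, hMdef,
      Subgroup.map_comap_eq_self_of_surjective (QuotientGroup.mk'_surjective _), hLL]
  have hle : ⁅M, M⁆ ≤ M := Subgroup.commutator_le.2 fun a ha b hb =>
    mul_mem (mul_mem (mul_mem ha hb) (inv_mem ha)) (inv_mem hb)
  have hzD : z ∈ ⁅M, M⁆ := by
    have h2 : 2 ∣ Nat.card ↥⁅M, M⁆ := by
      refine Dvd.dvd.trans ?_ (Subgroup.card_map_dvd ⁅M, M⁆ (QuotientGroup.mk' (zpowers z)))
      rwa [hDM]
    obtain ⟨y, hy⟩ := exists_prime_orderOf_dvd_card' 2 h2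
    rw [← Subgroup.orderOf_coe] at hy
    exact huniq _ (hle y.2) hy ▸ y.2
  have hMM : ⁅M, M⁆ = M := by
    refine le_antisymm hle fun x hx => ?_
    obtain ⟨d, hd, he⟩ : QuotientGroup.mk' (zpowers z) x ∈ ⁅M, M⁆.map (QuotientGroup.mk' (zpowers z)) :=
      hDM.symm ▸ hx
    rw [QuotientGroup.mk'_apply, QuotientGroup.mk'_apply, QuotientGroup.eq] at he
    rw [show x = d * (d⁻¹ * x) by group]
    exact mul_mem hd ((zpowers_le.2 hzD : zpowers z ≤ _) he)
  refine ⟨Subgroup.map_injective M.subtype_injective (by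
    rw [_root_.commutator_def, Subgroup.map_commutator, ← MonoidHom.range_eq_map,
      Subgroup.range_subtype, hMM]), hξs, ?_, ?_⟩
  · rw [hker]
    exact fun x hx => mem_center_iff.2 fun y => Subtype.ext
      (mem_center_iff.1 ((zpowers_le.2 hzc : zpowers z ≤ _) (mem_subgroupOf.1 hx)) y)
  · rw [hker, Nat.card_congr (Subgroup.subgroupOfEquivOfLe (zpowers_le.2 hzM)).toEquiv,
      Nat.card_zpowers, hz]

/-- The statement S1216, from Gorenstein–Walter. -/
theorem q_group_sl_two (hGW : PerfectGW.{u}) {H : Type u} [Group H] [Finite H] (S : Sylow 2 H)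
    (hS : Cfsg.IsQuasiDihedral (S : Subgroup H) ∨ Cfsg.IsWreathed (S : Subgroup H))
    (hO : Cfsg.oddCore H = ⊥)
    (hQ : (∃ K : Subgroup H, K.Normal ∧ (∃ a : ℕ, K.index = 2 ^ a) ∧
        (∀ M : Subgroup ↥K, M.index ≠ 2) ∧
        (∀ P : Sylow 2 ↥K, ∃ m : ℕ, 1 ≤ m ∧
          Nonempty ((P : Subgroup ↥K) ≃* QuaternionGroup (2 ^ m)))) ∧
      (∀ Z₀ : Subgroup H, Z₀ ≤ ((Subgroup.center (S : Subgroup H)).map (S : Subgroup H).subtype) →
        Cfsg.IsWeaklyClosed Z₀ (S : Subgroup H))) :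
    ∃ L₀ : Subgroup H, L₀.Normal ∧ (∃ (F : Type) (_ : Field F) (_ : Fintype F),
        Odd (Fintype.card F) ∧ Nonempty (L₀ ≃* Matrix.SpecialLinearGroup (Fin 2) F)) ∧
      ∀ L₁ : Subgroup H, L₁.Normal → (∃ (F : Type) (_ : Field F) (_ : Fintype F),
        Odd (Fintype.card F) ∧ Nonempty (L₁ ≃* Matrix.SpecialLinearGroup (Fin 2) F)) → L₁ = L₀ := by
  have : Fact (Nat.Prime 2) := ⟨Nat.prime_two⟩
  obtain ⟨⟨K, hKn, ⟨a, ha⟩, hKidx, hKq⟩, -⟩ := hQ
  obtain ⟨P⟩ := (inferInstance : Nonempty (Sylow 2 K))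
  obtain ⟨m, hm, ⟨eP⟩⟩ := hKq P
  have : NeZero (2 ^ m) := ⟨by positivity⟩
  have h1K : Cfsg.PRankLE 2 1 K :=
    prankLE_of_sylow P (prankLE_of_injective (f := eP.toMonoidHom) eP.injective (prankLE_quaternion _))
  have h2K : Even (Nat.card K) := even_iff_two_dvd.2 (by
    refine Dvd.dvd.trans ?_ (Subgroup.card_subgroup_dvd_card (P : Subgroup K))
    rw [Nat.card_congr eP.toEquiv, Nat.card_eq_fintype_card, QuaternionGroup.card]
    exact Dvd.dvd.mul_right (by norm_num) _)
  have hOK : Cfsg.oddCore K = ⊥ := by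
    rw [← Subgroup.map_eq_bot_iff_of_injective _ K.subtype_injective, eq_bot_iff, ← hO]
    exact Cores.map_pPrimeCore_subtype_le 2 K
  obtain ⟨zK, hzK, hzKc, huniqK⟩ := exists_center_involution h1K h2K hOK
  set z : H := (zK : H) with hzdef
  have hz : orderOf z = 2 := by rw [hzdef, Subgroup.orderOf_coe, hzK]
  have hzinK : z ∈ K := zK.2
  have huniq : ∀ y ∈ K, orderOf y = 2 → y = z := fun y hy ho =>
    congrArg Subtype.val (huniqK ⟨y, hy⟩ (by rw [Subgroup.orderOf_mk, ho]))
  have hzc : z ∈ center H := mem_center_iff.2 fun g => by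
    have h := huniq _ (hKn.conj_mem z hzinK g) (((MulAut.conj g).orderOf_eq z).trans hz)
    exact mul_inv_eq_iff_eq_mul.1 h
  have hzn : (zpowers z).Normal := ⟨fun c hc g => by
    rw [mem_center_iff.1 ((zpowers_le.2 hzc : zpowers z ≤ _) hc) g, mul_assoc, mul_inv_cancel,
      mul_one]
    exact hc⟩
  have hzKn : (zpowers zK).Normal := ⟨fun c hc g => by
    rw [mem_center_iff.1 ((zpowers_le.2 hzKc : zpowers zK ≤ _) hc) g, mul_assoc, mul_inv_cancel,
      mul_one]
    exact hc⟩
  set π := QuotientGroup.mk' (zpowers z) with hπ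
  have hπs : Function.Surjective π := QuotientGroup.mk'_surjective _
  set Kb := K.map π with hKb
  have hKbn : Kb.Normal := hKn.map π hπs
  have hcomap : Kb.comap π = K := Subgroup.comap_map_eq_self (by
    rw [hπ, QuotientGroup.ker_mk']
    exact zpowers_le.2 hzinK)
  set πK : K →* Kb := π.subgroupMap K with hπK
  have hπKs : Function.Surjective πK := π.subgroupMap_surjective K
  have hπKk : πK.ker = zpowers zK := by
    ext x
    rw [MonoidHom.mem_ker, Subtype.ext_iff]
    show ((x : H) : H ⧸ zpowers z) = 1 ↔ _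
    rw [QuotientGroup.eq_one_iff, show zpowers z = (zpowers zK).map K.subtype from
      (MonoidHom.map_zpowers K.subtype zK).symm]
    exact Subgroup.mem_map_iff_mem (K.subtype_injective)
  have hkcard : Nat.card πK.ker = 2 := by rw [hπKk, Nat.card_zpowers, hzK]
  -- the quotient has dihedral Sylow subgroups and no core
  obtain ⟨T₀, ⟨eT₀⟩⟩ := sylow_quotient_dihedral P hm eP hzK hzKc huniqK
  let eK : K ⧸ zpowers zK ≃* Kb := (QuotientGroup.quotientMulEquivOfEq hπKk.symm).trans
    (QuotientGroup.quotientKerEquivOfSurjective πK hπKs)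
  set T : Sylow 2 Kb := T₀.mapSurjective (f := eK.toMonoidHom) eK.surjective with hT
  let eT : (T : Subgroup Kb) ≃* DihedralGroup (2 ^ m) :=
    (eK.subgroupMap (T₀ : Subgroup (K ⧸ zpowers zK))).symm.trans eT₀
  have h2m : 2 ≤ 2 ^ m := le_self_pow one_le_two (by omega) |>.trans' le_rfl
  have hOb : Cfsg.oddCore Kb = ⊥ := by
    rw [← Subgroup.map_eq_bot_iff_of_injective _ Kb.subtype_injective, eq_bot_iff,
      ← oddCore_quotient_eq_bot hO hz hzc]
    exact Cores.map_pPrimeCore_subtype_le 2 Kb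
  have hKbidx : ∀ M : Subgroup Kb, M.index ≠ 2 := fun M hM =>
    hKidx (M.comap πK) (by rw [index_comap_of_surjective _ hπKs, hM])
  -- every normal special linear subgroup lies in `K` and contains `z`
  have hcand : ∀ L₁ : Subgroup H, ∀ (F : Type) [Field F] [Fintype F], Odd (Fintype.card F) →
      (L₁ ≃* Matrix.SpecialLinearGroup (Fin 2) F) → L₁ ≤ K ∧ z ∈ L₁ := by
    intro L₁ F _ _ hF e₁
    have hp : IsPGroup 2 (H ⧸ K) := IsPGroup.of_card (n := a) (by rw [← ha]; rfl)
    have hle : L₁ ≤ K := fun x hx => by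
      have h := sl_to_two_group hF hp
        ((QuotientGroup.mk' K).comp (L₁.subtype.comp e₁.symm.toMonoidHom)) (e₁ ⟨x, hx⟩)
      simpa using h
    refine ⟨hle, ?_⟩
    obtain ⟨y, hy⟩ := exists_prime_orderOf_dvd_card' (G := L₁) 2
      (by rw [Nat.card_congr e₁.toEquiv]; exact (sl_card_bounds F hF).2.1)
    rw [← Subgroup.orderOf_coe] at hy
    exact huniq _ (hle y.2) hy ▸ y.2
  by_cases hs : Group.IsSolvable Kb
  · obtain ⟨h12, F₄, hF₄n, hF₄, hC⟩ := twelve_of_solvable T h2m eT hOb hKbidx hs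
    obtain ⟨h24, ⟨e24⟩⟩ := sl23_of_cover P eP πK hπKs hkcard h12 F₄ hF₄ hC
    refine ⟨K, hKn, ⟨ZMod 3, inferInstance, inferInstance, by rw [ZMod.card]; decide, ⟨e24⟩⟩, ?_⟩
    rintro L₁ - ⟨F, iF, iT, hF, ⟨e₁⟩⟩
    refine Subgroup.eq_of_le_of_card_ge (hcand L₁ F hF e₁).1 ?_
    rw [h24, Nat.card_congr e₁.toEquiv]
    exact (sl_card_bounds F hF).1
  obtain ⟨L, hLn, hLC, hLL, hLsyl, hLiso⟩ := full_gw hGW hOb T h2m eT hs
  have hLsimple : IsSimpleGroup L := by
    rcases hLiso with ⟨F, iF, iT, hodd, h3, ⟨f⟩⟩ | ⟨⟨f⟩⟩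
    · have := TimesPSLTwo.psl_simple (F := F) h3
      exact f.isSimpleGroup
    · have := alternatingGroup.isSimpleGroup (α := Fin 7) (by simp)
      exact f.isSimpleGroup
  set LH := L.map Kb.subtype with hLH
  have hLHK : LH ≤ Kb := Subgroup.map_subtype_le _
  have hLHne : LH ≠ ⊥ := by
    rw [hLH, Ne, Subgroup.map_eq_bot_iff_of_injective _ Kb.subtype_injective,
      ← Ne, ← Subgroup.nontrivial_iff_ne_bot]
    exact hLsimple.toNontrivial
  -- a subgroup of `Kb` normal there contains `LH` or is trivial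
  have hsep : ∀ N : Subgroup (H ⧸ zpowers z), N ≤ Kb → (∀ x ∈ Kb, ∀ y ∈ N, x * y * x⁻¹ ∈ N) →
      LH ≤ N ∨ N = ⊥ := by
    intro N hNK hconj
    set N' := N.subgroupOf Kb with hN'
    have hN'n : N'.Normal := ⟨fun y hy x => hconj x x.2 y hy⟩
    rcases IsSimpleGroup.eq_bot_or_eq_top_of_normal (N'.subgroupOf L) inferInstance with h | h
    · right
      rw [subgroupOf_eq_bot] at h
      have hle : N' ≤ centralizer (L : Set Kb) := fun y hy => mem_centralizer_iff.2 fun l hl =>
        (Subgroup.commute_of_normal_of_disjoint N' L hN'n hLn h y l hy hl).eq.symm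
      rw [hLC, le_bot_iff, hN', subgroupOf_eq_bot, disjoint_iff, inf_eq_left.2 hNK] at hle
      exact hle
    · left
      rw [subgroupOf_eq_top] at h
      rintro _ ⟨l, hl, rfl⟩
      exact h hl
  have hLHn : LH.Normal := by
    refine ⟨fun y hy g => ?_⟩
    set N := LH.map (MulAut.conj g).toMonoidHom with hN
    have hNK : N ≤ Kb := by
      rintro _ ⟨w, hw, rfl⟩
      exact hKbn.conj_mem w (hLHK hw) g
    have hconj : ∀ x ∈ Kb, ∀ w ∈ N, x * w * x⁻¹ ∈ N := by
      rintro x hx _ ⟨_, ⟨l, hl, rfl⟩, rfl⟩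
      refine ⟨g⁻¹ * x * g * l * (g⁻¹ * x * g)⁻¹, ⟨_, hLn.conj_mem l hl
        ⟨g⁻¹ * x * g, by simpa using hKbn.conj_mem x hx g⁻¹⟩, rfl⟩, ?_⟩
      simp only [MulEquiv.coe_toMonoidHom, MulAut.conj_apply, Subgroup.coe_subtype]
      group
    have hcard : Nat.card N = Nat.card LH := Subgroup.card_map_of_injective (MulAut.conj g).injective
    rcases hsep N hNK hconj with h | h
    · rw [Subgroup.eq_of_le_of_card_ge h hcard.le]
      exact ⟨y, hy, rfl⟩
    · exact absurd ((Subgroup.map_eq_bot_iff_of_injective _ (MulAut.conj g).injective).1 h) hLHne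
  have hCK : centralizer (LH : Set (H ⧸ zpowers z)) ⊓ Kb = ⊥ := by
    rw [eq_bot_iff]
    rintro x ⟨hxC, hxK⟩
    have : (⟨x, hxK⟩ : Kb) ∈ centralizer (L : Set Kb) := mem_centralizer_iff.2 fun l hl =>
      Subtype.ext (mem_centralizer_iff.1 hxC l ⟨l, hl, rfl⟩)
    rw [hLC, mem_bot] at this
    exact mem_bot.2 (congrArg Subtype.val this)
  let eLH : L ≃* LH := L.equivMapOfInjective Kb.subtype Kb.subtype_injective
  rcases hLiso with ⟨F, iF, iT, hodd, h3, ⟨f⟩⟩ | ⟨⟨f⟩⟩
  swap
  · exfalso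
    have hC2 : IsPGroup 2 (centralizer (LH : Set (H ⧸ zpowers z))) := by
      have h := Subgroup.relIndex_dvd_index_of_normal Kb (centralizer (LH : Set (H ⧸ zpowers z)))
      rw [← Subgroup.inf_relIndex_right, inf_comm, hCK, Subgroup.relIndex_bot_left,
        show Kb.index = 2 ^ a by rw [← ha, ← hcomap, index_comap_of_surjective _ hπs]] at h
      obtain ⟨k, -, hk⟩ := (Nat.dvd_prime_pow Nat.prime_two).1 h
      exact IsPGroup.of_card hk
    rcases alt_seven_dichotomy LH (eLH.symm.trans f) hC2 (S.mapSurjective hπs) with h | ⟨g, hg⟩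
    · have hKbtop : Kb = ⊤ := top_le_iff.1 (h ▸ hLHK)
      have hKtop : K = ⊤ := by rw [← hcomap, hKbtop, comap_top]
      obtain ⟨x, y, hx, hy, hxy⟩ := qw_two_involutions hS
      rw [← Subgroup.orderOf_coe] at hx hy
      exact hxy (Subtype.ext ((huniq _ (hKtop ▸ mem_top _) hx).trans
        (huniq _ (hKtop ▸ mem_top _) hy).symm))
    · obtain ⟨x, y, hxy⟩ := qw_two_gen hS
      exact not_surjective_elem8 hxy (g.comp (π.subgroupMap (S : Subgroup H)))
        (hg.comp (π.subgroupMap_surjective _))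
  set M := LH.comap π with hM
  have hMK : M ≤ K := hcomap ▸ Subgroup.comap_mono hLHK
  obtain ⟨PL⟩ := (inferInstance : Nonempty (Sylow 2 L))
  obtain ⟨k, hk, ⟨ePL⟩⟩ := hLsyl PL
  have : NeZero k := ⟨by omega⟩
  let PH : Sylow 2 LH := PL.mapSurjective (f := eLH.toMonoidHom) eLH.surjective
  let ePH : (PH : Subgroup LH) ≃* DihedralGroup k :=
    (eLH.subgroupMap (PL : Subgroup L)).symm.trans ePL
  have hev : 2 ∣ Nat.card LH := by
    refine Dvd.dvd.trans ?_ (Subgroup.card_subgroup_dvd_card (PH : Subgroup LH))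
    rw [Nat.card_congr ePH.toEquiv, DihedralGroup.nat_card]
    exact dvd_mul_right 2 k
  have hξ := double_of_preimage hz hzc LH
    (by rw [hLH, ← Subgroup.map_commutator, hLL]) hev fun y hy => huniq y (hMK hy)
  let f' : LH ≃* Matrix.ProjectiveSpecialLinearGroup (Fin 2) F := eLH.symm.trans f
  have hξ2 : IsDouble (f'.symm.toMonoidHom.comp
      (QuotientGroup.mk' (center (Matrix.SpecialLinearGroup (Fin 2) F)))) := by
    have h := sl_double F hodd h3
    have hk' : (f'.symm.toMonoidHom.comp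
        (QuotientGroup.mk' (center (Matrix.SpecialLinearGroup (Fin 2) F)))).ker = _ :=
      MonoidHom.ker_mulEquiv_comp
        (QuotientGroup.mk' (center (Matrix.SpecialLinearGroup (Fin 2) F))) f'.symm
    exact ⟨h.perfect, f'.symm.surjective.comp h.surj, hk'.le.trans h.central, by rw [hk']; exact h.card⟩
  obtain ⟨d⟩ := double_unique hξ hξ2 PH ePH
  refine ⟨M, hLHn.comap π, ⟨F, iF, iT, hodd, ⟨d⟩⟩, ?_⟩
  rintro L₁ hL₁n ⟨F₁, iF₁, iT₁, hodd₁, ⟨e₁⟩⟩
  obtain ⟨hL₁K, hzL₁⟩ := hcand L₁ F₁ hodd₁ e₁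
  have hL₁big := (sl_card_bounds F₁ hodd₁)
  set N₁ := L₁.map π with hN₁
  have hN₁n : N₁.Normal := hL₁n.map π hπs
  have hcomap₁ : N₁.comap π = L₁ := Subgroup.comap_map_eq_self (by
    rw [hπ, QuotientGroup.ker_mk']
    exact zpowers_le.2 hzL₁)
  have hML₁ : M ≤ L₁ := by
    rcases hsep N₁ (Subgroup.map_mono hL₁K) (fun x _ y hy => hN₁n.conj_mem y hy x) with h | h
    · exact hcomap₁ ▸ Subgroup.comap_mono h
    · exfalso
      rw [h, MonoidHom.comap_bot, hπ, QuotientGroup.ker_mk'] at hcomap₁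
      have := hL₁big.1
      rw [← Nat.card_congr e₁.toEquiv, ← hcomap₁, Nat.card_zpowers, hz] at this
      omega
  refine le_antisymm ?_ hML₁
  have hMcard : 120 ≤ Nat.card M := by
    rw [Nat.card_congr d.toEquiv]
    exact (sl_card_bounds F hodd).2.2.1 h3
  rcases Nat.lt_or_ge 3 (Fintype.card F₁) with hq | hq
  swap
  · exfalso
    have := Subgroup.card_le_of_le hML₁
    rw [Nat.card_congr e₁.toEquiv, hL₁big.2.2.2 hq] at this
    omega
  have hMn : (M.subgroupOf L₁).Normal := (hLHn.comap π).comap L₁.subtype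
  set M₁ := (M.subgroupOf L₁).map e₁.toMonoidHom with hM₁
  have hM₁n : M₁.Normal := hMn.map _ e₁.surjective
  have hd₁ := sl_double F₁ hodd₁ hq
  have := TimesPSLTwo.psl_simple (F := F₁) hq
  rcases IsSimpleGroup.eq_bot_or_eq_top_of_normal
      (M₁.map (QuotientGroup.mk' (center (Matrix.SpecialLinearGroup (Fin 2) F₁))))
      (hM₁n.map _ hd₁.surj) with h | h
  · exfalso
    rw [Subgroup.map_eq_bot_iff] at h
    have hle := Subgroup.card_le_of_le h
    rw [hd₁.card, hM₁, Subgroup.card_map_of_injective (f := e₁.toMonoidHom) e₁.injective,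
      Nat.card_congr (Subgroup.subgroupOfEquivOfLe hML₁).toEquiv] at hle
    omega
  · have htop := eq_top_of_cover _ hd₁.perfect hd₁.central h
    intro x hx
    obtain ⟨w, hw, hwe⟩ : e₁ ⟨x, hx⟩ ∈ M₁ := htop ▸ mem_top _
    rw [show w = ⟨x, hx⟩ from e₁.injective hwe] at hw
    exact hw

end Cfsg.Agent.GW.Cons
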