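import Cfsg.Agent.S1213
import Cfsg.Agent.S1215
import Cfsg.Agent.Lib.GW.ConsQGroup
import Cfsg.Agent.Lib.GW.ConsCentMod
import Cfsg.Agent.Lib.Fusion.SylowTwoRankTwo

/-!
The derived group of an involution centraliser modulo its core, from Gorenstein–Walter.
-/

set_option autoImplicit false

namespace Cfsg.Agent.GW.Cons

open Subgroup

universe u v

/-- A Sylow subgroup maps isomorphically along a surjection with kernel of odd order. -/
theorem sylow_map_equiv_of_odd_ker {K : Type u} [Group K] [Finite K] {Q : Type v} [Group Q]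
    [Finite Q] {f : K →* Q} (hf : Function.Surjective f) (hker : Odd (Nat.card f.ker))
    (P : Sylow 2 Q) : ∃ R : Sylow 2 K, Nonempty ((R : Subgroup K) ≃* (P : Subgroup Q)) := by
  have : Fact (Nat.Prime 2) := ⟨Nat.prime_two⟩
  obtain ⟨R⟩ := (inferInstance : Nonempty (Sylow 2 K))
  refine ⟨R, ?_⟩
  have hinj : Function.Injective (f.comp (R : Subgroup K).subtype) := by
    rw [← MonoidHom.ker_eq_bot_iff, eq_bot_iff]
    intro x hx
    obtain ⟨k, hk⟩ := R.isPGroup'.exists_card_eq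
    have hxb : (x : K) ∈ (R : Subgroup K) ⊓ f.ker := ⟨x.2, hx⟩
    rw [(Subgroup.disjoint_of_coprime_natCard (by
      rw [hk]; exact Nat.Coprime.pow_left k (Nat.coprime_two_left.2 hker))).eq_bot, mem_bot] at hxb
    exact mem_bot.2 (Subtype.ext hxb)
  exact ⟨((MonoidHom.ofInjective hinj).trans (MulEquiv.subgroupCongr (by
    rw [MonoidHom.range_comp, Subgroup.range_subtype]; rfl))).trans
    ((R.mapSurjective hf).equiv P)⟩

/-- The conclusion of `S1240`. -/
theorem centralizer_mod_core (hGW : PerfectGW.{u}) {G : Type u} [Group G] [Finite G] (S : Sylow 2 G)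
    (hS : Cfsg.IsQuasiDihedral (S : Subgroup G) ∨ Cfsg.IsWreathed (S : Subgroup G))
    (hG : ∀ H : Subgroup G, H.index ≠ 2)
    (_hone : ∀ a b : G, orderOf a = 2 → orderOf b = 2 → IsConj a b) (t : G) (ht : orderOf t = 2) :
    ∃ (F : Type) (_ : Field F) (_ : Fintype F), Odd (Fintype.card F) ∧
      Nonempty (↥(commutator (↥(Subgroup.centralizer ({t} : Set G)) ⧸
        Cfsg.oddCore ↥(Subgroup.centralizer ({t} : Set G)))) ≃*
          Matrix.SpecialLinearGroup (Fin 2) F) := by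
  have : Fact (Nat.Prime 2) := ⟨Nat.prime_two⟩
  set C := centralizer ({t} : Set G) with hC
  obtain ⟨R, hRS, ⟨K, hKn, hKidx, hK2, hKq⟩, hwc⟩ := S1213.result S hS hG t ht
  have hR : Cfsg.IsQuasiDihedral (R : Subgroup C) ∨ Cfsg.IsWreathed (R : Subgroup C) := by
    have hcard : Nat.card ((R : Subgroup C).map C.subtype) = Nat.card (S : Subgroup G) := by
      rw [Subgroup.card_map_of_injective C.subtype_injective]; exact hRS
    obtain ⟨T, hT⟩ := (R.isPGroup'.map C.subtype).exists_le_sylow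
    have hTeq : (R : Subgroup C).map C.subtype = (T : Subgroup G) :=
      Subgroup.eq_of_le_of_card_ge hT (le_of_eq ((Nat.card_congr (T.equiv S).toEquiv).trans hcard.symm))
    refine Fusion.SylowTwoRankTwo.qd_or_wreathed_congr ?_ hS
    exact ((T.equiv S).symm.trans (MulEquiv.subgroupCongr hTeq.symm)).trans
      ((R : Subgroup C).equivMapOfInjective C.subtype C.subtype_injective).symm
  set O := Cfsg.oddCore C with hO
  set π := QuotientGroup.mk' O with hπ
  have hπs : Function.Surjective π := QuotientGroup.mk'_surjective O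
  obtain ⟨eR⟩ := sylow_odd_quotient_equiv O Cores.oddCore_odd R
  set R' := R.mapSurjective hπs with hR'
  have hR'q : Cfsg.IsQuasiDihedral (R' : Subgroup (C ⧸ O)) ∨
      Cfsg.IsWreathed (R' : Subgroup (C ⧸ O)) := Fusion.SylowTwoRankTwo.qd_or_wreathed_congr eR hR
  -- the centre of the Sylow subgroup is central
  have hZ : ∀ c ∈ center (R' : Subgroup (C ⧸ O)), (c : C ⧸ O) ∈ center (C ⧸ O) := by
    rintro ⟨c, hc⟩ hcz
    obtain ⟨r, hr, rfl⟩ := hc
    have hrz : (⟨r, hr⟩ : (R : Subgroup C)) ∈ center (R : Subgroup C) := by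
      refine mem_center_iff.2 fun y => ?_
      have h := congrArg Subtype.val (mem_center_iff.1 hcz ⟨π y, ⟨y, y.2, rfl⟩⟩)
      have hinj : ∀ a b : (R : Subgroup C), π a = π b → a = b := by
        intro a b hab
        refine Subtype.ext ?_
        have hm : (a : C)⁻¹ * b ∈ (R : Subgroup C) ⊓ O :=
          ⟨(R : Subgroup C).mul_mem ((R : Subgroup C).inv_mem a.2) b.2, QuotientGroup.eq.1 hab⟩
        obtain ⟨k, hk⟩ := R.isPGroup'.exists_card_eq
        rw [(Subgroup.disjoint_of_coprime_natCard (by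
          rw [hk]
          exact Nat.Coprime.pow_left k (Nat.coprime_two_left.2 Cores.oddCore_odd))).eq_bot,
          mem_bot, inv_mul_eq_one] at hm
        exact hm
      exact hinj _ _ (by simpa using h)
    refine mem_center_iff.2 fun g => ?_
    obtain ⟨h, rfl⟩ := hπs g
    obtain ⟨o, ho, c, hc, rfl⟩ := S1215.result R hR ⟨⟨K, hKn, hKidx, hK2, hKq⟩, hwc⟩ h
    have hco : π o = 1 := (QuotientGroup.eq_one_iff o).2 ho
    rw [map_mul, hco, one_mul, ← map_mul, ← map_mul,
      mem_centralizer_iff.1 hc r ⟨⟨r, hr⟩, hrz, rfl⟩]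
  -- the subgroup of two power index
  have : (K.map π).Normal := hKn.map π hπs
  let f : K →* K.map π := π.subgroupMap K
  have hfs : Function.Surjective f := π.subgroupMap_surjective K
  have hfk : Odd (Nat.card f.ker) := by
    refine Cores.oddCore_odd.of_dvd_nat (card_dvd_of_injective
      ((K.subtype.comp f.ker.subtype).codRestrict O fun x => (QuotientGroup.eq_one_iff _).1
        (congrArg Subtype.val x.2)) fun a b hab => ?_)
    exact Subtype.ext (Subtype.ext (congrArg (fun z : O => (z : C)) hab))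
  have hQ : (∃ K' : Subgroup (C ⧸ O), K'.Normal ∧ (∃ a : ℕ, K'.index = 2 ^ a) ∧
      (∀ M : Subgroup K', M.index ≠ 2) ∧
      (∀ P : Sylow 2 K', ∃ m : ℕ, 1 ≤ m ∧
        Nonempty ((P : Subgroup K') ≃* QuaternionGroup (2 ^ m)))) ∧
      (∀ Z₀ : Subgroup (C ⧸ O),
        Z₀ ≤ (center (R' : Subgroup (C ⧸ O))).map (R' : Subgroup (C ⧸ O)).subtype →
        Cfsg.IsWeaklyClosed Z₀ (R' : Subgroup (C ⧸ O))) := by
    refine ⟨⟨K.map π, inferInstance, ?_, fun M hM => hK2 (M.comap f) ?_, fun P => ?_⟩,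
      fun Z₀ hZ₀ => ⟨hZ₀.trans (map_subtype_le _), fun g _ => ?_⟩⟩
    · obtain ⟨a, ha⟩ := hKidx
      obtain ⟨b, -, hb⟩ := (Nat.dvd_prime_pow Nat.prime_two).1 (ha ▸ K.index_map_dvd hπs)
      exact ⟨b, hb⟩
    · rw [Subgroup.index_comap_of_surjective _ hfs, hM]
    · obtain ⟨P₀, ⟨eP⟩⟩ := sylow_map_equiv_of_odd_ker hfs hfk P
      obtain ⟨m, hm, ⟨em⟩⟩ := hKq P₀
      exact ⟨m, hm, ⟨eP.symm.trans em⟩⟩
    · have hfix : ∀ z ∈ Z₀, g * z * g⁻¹ = z := by
        intro z hz
        obtain ⟨c, hc, rfl⟩ := hZ₀ hz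
        show g * (c : C ⧸ O) * g⁻¹ = c
        rw [mem_center_iff.1 (hZ c hc) g, mul_inv_cancel_right]
      ext x
      refine ⟨?_, fun hx => ⟨x, hx, hfix x hx⟩⟩
      rintro ⟨z, hz, rfl⟩
      show g * z * g⁻¹ ∈ Z₀
      rw [hfix z hz]; exact hz
  have hcore : Cfsg.oddCore (C ⧸ O) = ⊥ := Cores.pPrimeCore_quotient_self 2
  obtain ⟨L, hL, ⟨F, _, _, hodd, ⟨e⟩⟩, -⟩ := q_group_sl_two hGW R' hR'q hcore hQ
  refine ⟨F, inferInstance, inferInstance, hodd, ⟨?_⟩⟩
  exact (MulEquiv.subgroupCongr (CentMod.commutator_eq hodd hcore R' hR'q hZ L e)).trans e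

end Cfsg.Agent.GW.Cons
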