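import Cfsg.Agent.Lib.GW.ConsFull

/-!
Groups with quaternion Sylow 2-subgroups: the quotient by core and central involution.
-/

set_option autoImplicit false

namespace Cfsg.Agent.GW.Cons

open Subgroup

universe u v

theorem prankLE_quaternion (n : ℕ) [NeZero n] : Cfsg.PRankLE 2 1 (QuaternionGroup n) := by
  intro A _ hsq
  rw [pow_one]
  have hmem : ∀ x ∈ A, x = 1 ∨ x = QuaternionGroup.a (n : ZMod (2 * n)) := by
    intro x hx
    have h := hsq x hx
    rcases x with i | i
    · rw [pow_two, QuaternionGroup.a_mul_a, QuaternionGroup.one_def, QuaternionGroup.a.injEq] at h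
      have hv : (((2 * i.val : ℕ)) : ZMod (2 * n)) = 0 := by
        rw [Nat.cast_mul, ZMod.natCast_rightInverse i, ← h]
        push_cast
        ring
      rw [ZMod.natCast_eq_zero_iff] at hv
      obtain ⟨k, hk⟩ := hv
      have hlt : i.val < 2 * n := ZMod.val_lt i
      have hk2 : k < 2 := by
        by_contra h2
        have : n * 2 ≤ n * k := Nat.mul_le_mul_left n (by omega)
        rw [mul_assoc] at hk
        omega
      interval_cases k
      · left
        rw [← ZMod.natCast_rightInverse i, show i.val = 0 by omega, Nat.cast_zero,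
          QuaternionGroup.one_def]
      · right
        rw [← ZMod.natCast_rightInverse i, show i.val = n by omega]
    · exfalso
      have h4 := orderOf_dvd_of_pow_eq_one h
      rw [QuaternionGroup.orderOf_xa] at h4
      norm_num at h4
  classical
  let T : Finset (QuaternionGroup n) := {1, QuaternionGroup.a (n : ZMod (2 * n))}
  have hT : ∀ x : A, (x : QuaternionGroup n) ∈ T := fun x => by
    simpa [T] using hmem x x.2
  refine (Nat.card_le_card_of_injective (fun x : A => (⟨x, hT x⟩ : T)) fun a b e =>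
    Subtype.ext (Subtype.mk.inj e)).trans ?_
  rw [Nat.card_eq_fintype_card, Fintype.card_coe]
  exact Finset.card_le_two

variable {G : Type u} [Group G] [Finite G]

/-- The rank of the group is that of a Sylow subgroup. -/
theorem prankLE_of_sylow (S : Sylow 2 G) (h : Cfsg.PRankLE 2 1 (S : Subgroup G)) :
    Cfsg.PRankLE 2 1 G := by
  have : Fact (Nat.Prime 2) := ⟨Nat.prime_two⟩
  intro A hA hsq
  have hAp : IsPGroup 2 A := fun a => ⟨1, Subtype.ext (by simpa using hsq a.1 a.2)⟩
  obtain ⟨R, hR⟩ := hAp.exists_le_sylow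
  have h' : Cfsg.PRankLE 2 1 (R : Subgroup G) :=
    prankLE_of_injective (f := (R.equiv S).toMonoidHom) (R.equiv S).injective h
  have hcard := h' (A.subgroupOf R) ?_ ?_
  · rwa [Nat.card_congr (Subgroup.subgroupOfEquivOfLe hR).toEquiv] at hcard
  · infer_instance
  · exact fun a ha => Subtype.ext (hsq a.1 (mem_subgroupOf.1 ha))

/-- A Sylow 2-subgroup maps isomorphically modulo a normal subgroup of odd order. -/
theorem sylow_odd_quotient_equiv (N : Subgroup G) [N.Normal] (hN : Odd (Nat.card N))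
    (S : Sylow 2 G) : Nonempty ((S : Subgroup G) ≃*
      ((S.mapSurjective (QuotientGroup.mk'_surjective N) : Sylow 2 (G ⧸ N)) : Subgroup (G ⧸ N))) := by
  have : Fact (Nat.Prime 2) := ⟨Nat.prime_two⟩
  have hinj : Function.Injective ((QuotientGroup.mk' N).comp (S : Subgroup G).subtype) := by
    rw [← MonoidHom.ker_eq_bot_iff, eq_bot_iff]
    intro x hx
    rw [MonoidHom.mem_ker, MonoidHom.comp_apply, QuotientGroup.mk'_apply,
      QuotientGroup.eq_one_iff] at hx
    have hxbot : (x : G) ∈ (S : Subgroup G) ⊓ N := ⟨x.2, hx⟩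
    obtain ⟨k, hk⟩ := S.isPGroup'.exists_card_eq
    rw [(Subgroup.disjoint_of_coprime_natCard (by
      rw [hk]; exact Nat.Coprime.pow_left k (Nat.coprime_two_left.2 hN))).eq_bot, mem_bot] at hxbot
    exact mem_bot.2 (Subtype.ext hxbot)
  exact ⟨(MonoidHom.ofInjective hinj).trans (MulEquiv.subgroupCongr (by
    rw [MonoidHom.range_comp, Subgroup.range_subtype]; rfl))⟩

/-- The quotient by the core and the central involution has dihedral Sylow 2-subgroups. -/
theorem central_quotient_setup (S : Sylow 2 G) {m : ℕ} (hm : 1 ≤ m)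
    (e : (S : Subgroup G) ≃* QuaternionGroup (2 ^ m)) :
    Cfsg.PRankLE 2 1 G ∧ ∃ (z : G ⧸ Cfsg.oddCore G) (_ : (zpowers z).Normal),
      orderOf z = 2 ∧ z ∈ center (G ⧸ Cfsg.oddCore G) ∧
      (∀ y : G ⧸ Cfsg.oddCore G, orderOf y = 2 → y = z) ∧
      Cfsg.oddCore ((G ⧸ Cfsg.oddCore G) ⧸ zpowers z) = ⊥ ∧
      ∃ T : Sylow 2 ((G ⧸ Cfsg.oddCore G) ⧸ zpowers z),
        Nonempty ((T : Subgroup ((G ⧸ Cfsg.oddCore G) ⧸ zpowers z)) ≃* DihedralGroup (2 ^ m)) := by
  have : Fact (Nat.Prime 2) := ⟨Nat.prime_two⟩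
  have : NeZero (2 ^ m) := ⟨by positivity⟩
  have h1 : Cfsg.PRankLE 2 1 G :=
    prankLE_of_sylow S (prankLE_of_injective (f := e.toMonoidHom) e.injective (prankLE_quaternion _))
  refine ⟨h1, ?_⟩
  have hO : Cfsg.oddCore (G ⧸ Cfsg.oddCore G) = ⊥ := Cores.pPrimeCore_quotient_self 2
  obtain ⟨e'⟩ := sylow_odd_quotient_equiv (Cfsg.oddCore G) Cores.oddCore_odd S
  have h2 : Even (Nat.card (G ⧸ Cfsg.oddCore G)) := by
    refine even_iff_two_dvd.2 (Dvd.dvd.trans ?_ (Subgroup.card_subgroup_dvd_card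
      ((S.mapSurjective (QuotientGroup.mk'_surjective (Cfsg.oddCore G)) :
        Sylow 2 (G ⧸ Cfsg.oddCore G)) : Subgroup (G ⧸ Cfsg.oddCore G))))
    rw [← Nat.card_congr (e.symm.trans e').toEquiv, Nat.card_eq_fintype_card, QuaternionGroup.card]
    exact Dvd.dvd.mul_right (by norm_num) _
  obtain ⟨z, hz, hzc, huniq⟩ :=
    exists_center_involution (prankLE_odd_quotient _ Cores.oddCore_odd h1) h2 hO
  have hn : (zpowers z).Normal := ⟨fun c hc g => by
    rw [mem_center_iff.1 ((zpowers_le.2 hzc : zpowers z ≤ _) hc) g, mul_assoc, mul_inv_cancel, mul_one]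
    exact hc⟩
  exact ⟨z, hn, hz, hzc, huniq, oddCore_quotient_eq_bot hO hz hzc,
    sylow_quotient_dihedral _ hm (e'.symm.trans e) hz hzc huniq⟩

/-- A Sylow subgroup of a quotient lifts over a given subgroup of prime power order. -/
theorem lift_sylow {p : ℕ} [Fact p.Prime] {Q : Type v} [Group Q] [Finite Q] {π : G →* Q}
    (hπ : Function.Surjective π) (T : Sylow p Q) {Q0 : Subgroup G} (hQ0 : IsPGroup p Q0)
    (hle : Q0.map π ≤ (T : Subgroup Q)) :
    ∃ R : Sylow p G, Q0 ≤ (R : Subgroup G) ∧ (R : Subgroup G).map π = (T : Subgroup Q) := by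
  set M := (T : Subgroup Q).comap π with hM
  have hQM : Q0 ≤ M := Subgroup.map_le_iff_le_comap.1 hle
  obtain ⟨R0, hR0⟩ := (hQ0.of_equiv (Subgroup.subgroupOfEquivOfLe hQM).symm).exists_le_sylow
  obtain ⟨R, hR⟩ := (R0.isPGroup'.map M.subtype).exists_le_sylow
  refine ⟨R, fun x hx => hR ⟨⟨x, hQM hx⟩, hR0 hx, rfl⟩, ?_⟩
  -- the Sylow subgroup of the preimage covers `T`
  have hs : Function.Surjective (π.subgroupComap (T : Subgroup Q)) :=
    MonoidHom.subgroupComap_surjective_of_surjective π _ hπ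
  have htop : ((R0.mapSurjective hs : Sylow p (T : Subgroup Q)) : Subgroup (T : Subgroup Q)) = ⊤ := by
    refine top_le_iff.1 (le_of_eq ?_)
    exact (R0.mapSurjective hs).is_maximal' (T.isPGroup'.to_subgroup ⊤) le_top
  refine le_antisymm ?_ fun t ht => ?_
  · refine le_of_eq (T.is_maximal' (R.isPGroup'.map π) ?_)
    intro t ht
    obtain ⟨x, hx, he⟩ : (⟨t, ht⟩ : (T : Subgroup Q)) ∈ (R0 : Subgroup M).map (π.subgroupComap _) :=
      htop.symm.le (mem_top _)
    exact ⟨x, hR ⟨x, hx, rfl⟩, congrArg Subtype.val he⟩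
  · obtain ⟨x, hx, he⟩ : (⟨t, ht⟩ : (T : Subgroup Q)) ∈ (R0 : Subgroup M).map (π.subgroupComap _) :=
      htop.symm.le (mem_top _)
    exact ⟨x, hR ⟨x, hx, rfl⟩, congrArg Subtype.val he⟩

/-- If every four-group lies in one Sylow subgroup only, the group has a normal 2-complement. -/
theorem complement_of_unique (T : Sylow 2 G) {m : ℕ} (hm : 3 ≤ m)
    (e : (T : Subgroup G) ≃* DihedralGroup m)
    (h : ∀ U : Subgroup G, U ≤ (T : Subgroup G) → IsKleinFour U → ∀ T' : Sylow 2 G,
      U ≤ (T' : Subgroup G) → T' = T) : Cfsg.HasNormalPComplement 2 G := by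
  have : Fact (Nat.Prime 2) := ⟨Nat.prime_two⟩
  refine Transfer.Frobenius.hasNormalPComplement_iff_condition.2
    (Transfer.Frobenius.Condition.of_sylow T fun Q hQT g hg ho => ?_)
  obtain ⟨f, hf⟩ := Involutions.DihedralSylow.exists_embedding T (T.2.to_le hQT) e
  have hodd : Odd (orderOf g) := Nat.coprime_two_right.1 ho
  set σ := Q.normalizerMonoidHom ⟨g, hg⟩
  have hoσ : Odd (orderOf σ) := by
    refine Odd.of_dvd_nat ?_ (orderOf_map_dvd Q.normalizerMonoidHom ⟨g, hg⟩)
    rwa [Subgroup.orderOf_mk]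
  suffices hσ : σ = 1 by
    refine Subgroup.mem_centralizer_iff.2 fun q hq => ?_
    have h2 : g * q * g⁻¹ = q := congrArg (fun σ : MulAut Q => ((σ ⟨q, hq⟩ : Q) : G)) hσ
    exact (mul_inv_eq_iff_eq_mul.1 h2).symm
  by_contra hne
  obtain ⟨hc, hsq⟩ := Involutions.DihedralEmbedding.isKleinFour_of_aut (T.2.to_le hQT) f hf
    (Involutions.DihedralSylow.two_dvd T e (by omega)) (by omega) hoσ hne
  have hK : IsKleinFour Q := (Involutions.TwoGroups.isKleinFour_iff _).2
    ⟨hc, fun x hx => congrArg Subtype.val (hsq ⟨x, hx⟩)⟩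
  -- so `g` normalises `T`, and acts trivially on it
  have hgT : g • T = T := h Q hQT hK (g • T) fun q hq => by
    have hq' : g⁻¹ * q * g ∈ Q := (Subgroup.mem_normalizer_iff''.1 hg q).1 hq
    refine ⟨g⁻¹ * q * g, hQT hq', ?_⟩
    show g * (g⁻¹ * q * g) * g⁻¹ = q
    group
  have hgN : g ∈ Subgroup.normalizer ((T : Subgroup G) : Set G) := Sylow.smul_eq_iff_mem_normalizer.1 hgT
  have hoτ : Odd (orderOf ((T : Subgroup G).normalizerMonoidHom ⟨g, hgN⟩)) := by
    refine Odd.of_dvd_nat ?_ (orderOf_map_dvd (T : Subgroup G).normalizerMonoidHom ⟨g, hgN⟩)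
    rwa [Subgroup.orderOf_mk]
  have hrr : e.symm (DihedralGroup.r 1) * e.symm (DihedralGroup.r 1) ≠ 1 := by
    rw [← map_mul, Ne, MulEquiv.map_eq_one_iff, DihedralGroup.r_mul_r, DihedralGroup.one_def,
      DihedralGroup.r.injEq]
    intro hz
    have : ((2 : ℕ) : ZMod m) = 0 := by
      rw [← hz]
      push_cast
      ring
    have := Nat.le_of_dvd two_pos ((ZMod.natCast_eq_zero_iff 2 m).1 this)
    omega
  have hτ := Involutions.DihedralEmbedding.aut_eq_one T.2 e.toMonoidHom e.injective hoτ hrr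
  apply hne
  refine MulEquiv.ext fun q => Subtype.ext ?_
  exact congrArg (fun σ : MulAut (T : Subgroup G) => ((σ ⟨q, hQT q.2⟩ : (T : Subgroup G)) : G)) hτ

/-- A core-free group with a normal 2-complement is a 2-group. -/
theorem solvable_of_complement (hO : Cfsg.oddCore G = ⊥) (h : Cfsg.HasNormalPComplement 2 G) :
    Group.IsSolvable G := by
  have : Fact (Nat.Prime 2) := ⟨Nat.prime_two⟩
  obtain ⟨P, N, hN, hNP⟩ := h
  have hNodd : Odd (Nat.card N) := by
    have h1 : (P : Subgroup G).index = Nat.card N := hNP.index_eq_card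
    rw [← h1, ← Nat.not_even_iff_odd, even_iff_two_dvd]
    exact P.not_dvd_index
  have hNbot : N = ⊥ := le_bot_iff.1 (hO ▸ Cores.le_oddCore hNodd)
  rw [hNbot, Subgroup.isComplement'_bot_left] at hNP
  have hG : IsPGroup 2 G := by
    have := P.isPGroup'
    rw [hNP] at this
    exact this.of_equiv Subgroup.topEquiv
  have := hG.isNilpotent
  infer_instance

end Cfsg.Agent.GW.Cons
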