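import Cfsg.Agent.Lib.GW.ConsDGroupPSL
import Cfsg.Agent.Lib.GW.ConsQuaternion
import Cfsg.Agent.Lib.Forms.DicksonShapes
import Cfsg.Agent.Lib.Involutions.ThompsonTransfer
import Cfsg.Agent.Lib.Involutions.Isolated
import Cfsg.Agent.S0205

/-!
Groups with dihedral or semidihedral Sylow 2-subgroups in which the centraliser of an involution is a
D-group.
-/

set_option autoImplicit false
set_option linter.unusedSectionVars false

namespace Cfsg.Agent.GW.ConsDGroup

open Subgroup

universe u v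

variable {G : Type u} [Group G] [Finite G]

theorem quotient_nonsolvable (N : Subgroup G) [N.Normal] (hN : Group.IsSolvable N)
    (hns : ¬ Group.IsSolvable G) : ¬ Group.IsSolvable (G ⧸ N) := fun h => hns
  (Group.isSolvable_of_ker_le_range N.subtype (QuotientGroup.mk' N) (by simp))

/-- A nonsolvable group has no cyclic Sylow 2-subgroup. -/
theorem not_cyclic_sylow (hns : ¬ Group.IsSolvable G) (T : Sylow 2 G) :
    ¬ IsCyclic (T : Subgroup G) := by
  have : Fact (Nat.Prime 2) := ⟨Nat.prime_two⟩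
  intro hc
  obtain ⟨L, hLn, hLL, hLne⟩ := Cons.exists_perfect_normal hns
  have hP : Group.IsPerfect L := ⟨Subgroup.map_injective L.subtype_injective (by
    rw [_root_.commutator_def, Subgroup.map_commutator, ← MonoidHom.range_eq_map, Subgroup.range_subtype,
      hLL])⟩
  have hsol : ¬ Group.IsSolvable L := fun h => by
    have : Nontrivial L := (Subgroup.nontrivial_iff_ne_bot L).2 hLne
    exact absurd hP.commutator_eq_top (ne_of_lt (Group.IsSolvable.commutator_lt_top_of_nontrivial L))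
  have heven : Even (Nat.card L) := Nat.not_odd_iff_even.1 fun h => hsol (S0205.result h)
  obtain ⟨P⟩ := (inferInstance : Nonempty (Sylow 2 L))
  obtain ⟨R, hR⟩ := (P.isPGroup'.map L.subtype).exists_le_sylow
  have hRc : IsCyclic (R : Subgroup G) := (R.equiv T).isCyclic.2 hc
  have := Subgroup.isCyclic_of_le hR
  exact Cons.not_cyclic_of_perfect hP heven P
    ((Subgroup.equivMapOfInjective (P : Subgroup L) _ L.subtype_injective).isCyclic.2 this)

/-- Lifting a centraliser modulo a normal subgroup of odd order. -/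
theorem exists_lift (N : Subgroup G) [N.Normal] (hN : Odd (Nat.card N)) {v : G} (hv : orderOf v = 2)
    (c : G ⧸ N) (hc : Commute c (v : G ⧸ N)) :
    ∃ g : G, (g : G ⧸ N) = c ∧ Commute g v := by
  obtain ⟨g, rfl⟩ := QuotientGroup.mk_surjective c
  have hw : orderOf (g * v * g⁻¹) = 2 := by rw [← MulAut.conj_apply, MulEquiv.orderOf_eq, hv]
  have hmem : g * v * g⁻¹ * v ∈ N := by
    rw [← QuotientGroup.eq_one_iff, QuotientGroup.mk_mul, QuotientGroup.mk_mul, QuotientGroup.mk_mul,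
      QuotientGroup.mk_inv, hc.eq, mul_inv_cancel_right, ← QuotientGroup.mk_mul,
      Involutions.Basic.inv_sq_one hv, QuotientGroup.mk_one]
  have hodd : Odd (orderOf (g * v * g⁻¹ * v)) := by
    refine hN.of_dvd_nat ?_
    rw [← Subgroup.orderOf_mk (H := N) _ hmem]
    exact orderOf_dvd_natCard _
  obtain ⟨k, hk, -, -, hkv⟩ := Involutions.Isolated.exists_transporter hv hw hodd
  have hkN : k ∈ N := (zpowers_le.2 hmem) hk
  refine ⟨k⁻¹ * g, ?_, ?_⟩
  · rw [QuotientGroup.mk_mul, QuotientGroup.mk_inv, (QuotientGroup.eq_one_iff k).2 hkN, inv_one, one_mul]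
  · show k⁻¹ * g * v = v * (k⁻¹ * g)
    calc k⁻¹ * g * v = k⁻¹ * (g * v * g⁻¹) * g := by group
      _ = _ := by rw [← hkv]; group

theorem DCent.equiv {K : Type u} [Group K] {L : Type v} [Group L] (e : K ≃* L) {x : K}
    (h : DCent x) : DCent (e x) := by
  obtain ⟨B, hx, hc, hD⟩ := h
  refine ⟨B.map e.toMonoidHom, ⟨x, hx, rfl⟩, ?_, fun c hcx hcc => ?_⟩
  · rintro _ ⟨a, ha, rfl⟩ _ ⟨b, hb, rfl⟩
    rw [← map_mul, ← map_mul, hc a ha b hb]
  · refine ⟨e.symm c, hD _ ?_ fun h => hcc ?_, e.apply_symm_apply c⟩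
    · have := hcx.map e.symm.toMonoidHom
      simpa using this
    · have := congrArg e h
      simpa using this

theorem DCent.quotient (N : Subgroup G) [N.Normal] (hN : Odd (Nat.card N)) {v : G}
    (hv : orderOf v = 2) (h : DCent v) : DCent (v : G ⧸ N) := by
  obtain ⟨B, hx, hc, hD⟩ := h
  refine ⟨B.map (QuotientGroup.mk' N), ⟨v, hx, rfl⟩, ?_, fun c hcx hcc => ?_⟩
  · rintro _ ⟨a, ha, rfl⟩ _ ⟨b, hb, rfl⟩
    rw [← map_mul, ← map_mul, hc a ha b hb]
  · obtain ⟨g, rfl, hg⟩ := exists_lift N hN hv c hcx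
    exact ⟨g, hD g hg fun h => hcc (by rw [← QuotientGroup.mk_mul, h, QuotientGroup.mk_one]), rfl⟩

/-- `nonsolvable_dihedral` with the bound on the field kept. -/
theorem dihedral_structure (hGW : Cons.PerfectGW.{u}) (hO : Cfsg.oddCore G = ⊥) (T : Sylow 2 G) {m : ℕ}
    (hm : 2 ≤ m) (eT : (T : Subgroup G) ≃* DihedralGroup m) (hns : ¬ Group.IsSolvable G) :
    (∃ (F : Type) (_ : Field F) (_ : Fintype F), Odd (Fintype.card F) ∧ 3 < Fintype.card F ∧
      ∃ K : Subgroup (MulAut (Matrix.ProjectiveSpecialLinearGroup (Fin 2) F)),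
        (MulAut.conj : Matrix.ProjectiveSpecialLinearGroup (Fin 2) F →*
          MulAut (Matrix.ProjectiveSpecialLinearGroup (Fin 2) F)).range ≤ K ∧ Nonempty (G ≃* ↥K)) ∨
    Nonempty (G ≃* alternatingGroup (Fin 7)) := by
  obtain ⟨L, hLn, hC, -, -, hiso⟩ := Cons.full_gw hGW hO T hm eT hns
  rcases hiso with ⟨F, iF, iT, hodd, h3, ⟨f⟩⟩ | ⟨⟨f⟩⟩
  · left
    set φ := (MulAut.congr f).toMonoidHom.comp (MulAut.conjNormal (H := L)) with hφ
    refine ⟨F, iF, iT, hodd, h3, φ.range, ?_,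
      ⟨MonoidHom.ofInjective ((MulAut.congr f).injective.comp (Cons.conjNormal_injective hC))⟩⟩
    rintro _ ⟨y, rfl⟩
    obtain ⟨l, rfl⟩ := f.surjective y
    refine ⟨(l : G), MulEquiv.ext fun x => ?_⟩
    obtain ⟨x, rfl⟩ := f.surjective x
    have h : MulAut.conjNormal (l : G) x = l * x * l⁻¹ := Subtype.ext (by simp [MulAut.conjNormal_apply])
    simp [hφ, MulAut.congr, h, MulAut.conj_apply]
  · right
    let ι := (MulEquiv.ofBijective _ (S2119.result 7 (by norm_num) (by norm_num))).symm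
    set φ := ι.toMonoidHom.comp ((MulAut.congr f).toMonoidHom.comp (MulAut.conjNormal (H := L))) with hφ
    have hφi : Function.Injective φ := ι.injective.comp ((MulAut.congr f).injective.comp (Cons.conjNormal_injective hC))
    have hle : alternatingGroup (Fin 7) ≤ φ.range := by
      intro σ hσ
      obtain ⟨l, hl⟩ := f.surjective ⟨σ, hσ⟩
      refine ⟨(l : G), ?_⟩
      rw [hφ, MonoidHom.comp_apply, MulEquiv.coe_toMonoidHom, MulEquiv.symm_apply_eq]
      refine MulEquiv.ext fun x => ?_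
      obtain ⟨x, rfl⟩ := f.surjective x
      have h : MulAut.conjNormal (l : G) x = l * x * l⁻¹ := Subtype.ext (by simp [MulAut.conjNormal_apply])
      refine Subtype.ext ?_
      simp [MulAut.congr, h, MulEquiv.ofBijective, hl]
      rfl
    have hA : (alternatingGroup (Fin 7)).index = 2 := alternatingGroup.index_eq_two
    have hdvd := Subgroup.index_dvd_of_le hle
    rw [hA, Nat.dvd_prime Nat.prime_two] at hdvd
    rcases hdvd with h | h
    · exfalso
      rw [Subgroup.index_eq_one] at h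
      exact Cons.perm_seven_not_dihedral T hm eT ((MonoidHom.ofInjective hφi).trans
        ((MulEquiv.subgroupCongr h).trans Subgroup.topEquiv))
    · have heq : alternatingGroup (Fin 7) = φ.range := Subgroup.eq_of_le_of_card_ge hle (by
        have h1 := φ.range.card_mul_index
        have h2 := (alternatingGroup (Fin 7)).card_mul_index
        rw [h] at h1
        rw [hA] at h2
        omega)
      exact ⟨(MonoidHom.ofInjective hφi).trans (MulEquiv.subgroupCongr heq.symm)⟩

open Equiv Equiv.Perm in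
/-- In the alternating group of degree seven no involution centraliser is a D-group. -/
theorem alt_seven_not_dCent (t : alternatingGroup (Fin 7)) (ht : orderOf t = 2) : ¬ DCent t := by
  rintro ⟨B, -, hBc, hD⟩
  set σ : Equiv.Perm (Fin 7) := (t : Equiv.Perm (Fin 7)) with hσ
  have hσo : orderOf σ = 2 := by rw [hσ, Subgroup.orderOf_coe, ht]
  have hσσ : σ * σ = 1 := Involutions.Basic.inv_sq_one hσo
  obtain ⟨x₀, hx₀⟩ : ∃ x : Equiv.Perm (Fin 7), x = Cons.threeSwaps (true, true, false) := ⟨_, rfl⟩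
  have hfacts : x₀ * x₀ = 1 ∧ x₀.support.card = 4 := by rw [hx₀]; decide +kernel
  have hcard : σ.support.card = 4 := by
    have hc := Cons.cycleType_involution hσσ
    have hs := Equiv.Perm.sum_cycleType σ
    rw [hc, Multiset.sum_replicate, smul_eq_mul] at hs
    have h1 : sign σ = 1 := mem_alternatingGroup.1 t.2
    rw [sign_of_cycleType, hc, Multiset.sum_replicate, Multiset.card_replicate, smul_eq_mul] at h1
    have h7 : σ.support.card ≤ 7 := (Finset.card_le_univ _).trans (by simp)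
    have h0 : σ.support.card ≠ 0 := fun h =>
      Involutions.Basic.ne_one hσo (by rwa [Finset.card_eq_zero, support_eq_empty_iff] at h)
    rcases Nat.even_or_odd (σ.support.card / 2 * 2 + σ.support.card / 2) with he | he
    · obtain ⟨l, hl⟩ := he
      omega
    · rw [he.neg_one_pow] at h1
      exact absurd h1 (by decide)
  obtain ⟨π, hπ⟩ := isConj_iff.1 (isConj_iff_cycleType_eq.2 (show x₀.cycleType = σ.cycleType by
    rw [Cons.cycleType_involution hfacts.1, Cons.cycleType_involution hσσ, hcard, hfacts.2]))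
  obtain ⟨p, hp⟩ : ∃ p : Equiv.Perm (Fin 7), p = swap 4 5 * swap 5 6 := ⟨_, rfl⟩
  obtain ⟨q, hq⟩ : ∃ q : Equiv.Perm (Fin 7), q = swap 0 2 * swap 2 1 * swap 1 3 * swap 4 5 := ⟨_, rfl⟩
  have hw : p * x₀ = x₀ * p ∧ q * x₀ = x₀ * q ∧ p * p ≠ 1 ∧ q * q ≠ 1 ∧ sign p = 1 ∧ sign q = 1 ∧
      p * q ≠ q * p := by rw [hp, hq, hx₀]; decide +kernel
  obtain ⟨w1, w2, w3, w4, w5, w6, w7⟩ := hw
  set γ : MulAut (Equiv.Perm (Fin 7)) := MulAut.conj π
  have hA : ∀ r : Equiv.Perm (Fin 7), sign r = 1 → γ r ∈ alternatingGroup (Fin 7) := fun r hr => by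
    rw [mem_alternatingGroup, MulAut.conj_apply, map_mul, map_mul, map_inv, hr, mul_one, mul_inv_cancel]
  have hγ : γ x₀ = σ := hπ
  have hmem : ∀ r : Equiv.Perm (Fin 7), (hr : sign r = 1) → r * x₀ = x₀ * r → r * r ≠ 1 →
      (⟨γ r, hA r hr⟩ : alternatingGroup (Fin 7)) ∈ B := fun r hr hc hne => by
    refine hD _ (Subtype.ext ?_) fun h => hne (γ.injective ?_)
    · show γ r * σ = σ * γ r
      rw [← hγ, ← map_mul, ← map_mul, hc]
    · rw [map_mul, map_one]; exact congrArg Subtype.val h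
  have h := congrArg Subtype.val (hBc _ (hmem p w5 w1 w3) _ (hmem q w6 w2 w4))
  exact w7 (γ.injective (by rw [map_mul, map_mul]; exact h))

/-- Dihedral Sylow 2-subgroups: the quotient by the core is `PSL₂` or `PGL₂`. -/
theorem quotient_of_dihedral (hGW : Cons.PerfectGW.{u}) (T : Sylow 2 G) {m : ℕ} (hm : 2 ≤ m)
    (eT : (T : Subgroup G) ≃* DihedralGroup m) (v : G) (hv : orderOf v = 2) (hD : DCent v)
    (hns : ¬ Group.IsSolvable G) :
    ∃ (N : Subgroup G) (_ : N.Normal), Odd (Nat.card N) ∧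
      ∃ (F : Type) (_ : Field F) (_ : Fintype F), 3 < Fintype.card F ∧
        (Nonempty (G ⧸ N ≃* Matrix.ProjectiveSpecialLinearGroup (Fin 2) F) ∨
          Nonempty (G ⧸ N ≃* Matrix.ProjGenLinGroup (Fin 2) F)) := by
  have : Fact (Nat.Prime 2) := ⟨Nat.prime_two⟩
  set O := Cfsg.oddCore G with hO
  have hOo : Odd (Nat.card O) := Cores.oddCore_odd
  have hOn : O.Normal := inferInstanceAs (Cfsg.pPrimeCore 2 G).Normal
  refine ⟨O, hOn, hOo, ?_⟩
  obtain ⟨eO⟩ := Cons.sylow_odd_quotient_equiv O hOo T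
  set T₁ := T.mapSurjective (QuotientGroup.mk'_surjective O) with hT₁
  let eT₁ := eO.symm.trans eT
  have hns₁ := quotient_nonsolvable O (S0205.result hOo) hns
  have hD₁ := hD.quotient O hOo hv
  have hv₁ : orderOf (v : G ⧸ O) = 2 := by
    refine orderOf_eq_prime (by rw [← QuotientGroup.mk_pow, ← hv, pow_orderOf_eq_one, QuotientGroup.mk_one])
      fun h => ?_
    rw [QuotientGroup.eq_one_iff] at h
    have h2 := orderOf_dvd_natCard (⟨v, h⟩ : O)
    rw [Subgroup.orderOf_mk, hv] at h2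
    exact Nat.not_even_iff_odd.2 hOo (even_iff_two_dvd.2 h2)
  rcases dihedral_structure hGW (Cores.pPrimeCore_quotient_self 2) T₁ hm eT₁ hns₁ with
    ⟨F, iF, iT, hodd, hq, K, hI, ⟨e⟩⟩ | ⟨⟨e⟩⟩
  · refine ⟨F, iF, iT, hq, ?_⟩
    have hle := le_range hodd hq hI (T₁.mapSurjective (f := e.toMonoidHom) e.surjective) hm
      ((((T₁ : Subgroup (G ⧸ O)).equivMapOfInjective e.toMonoidHom e.injective).symm).trans eT₁)
      (e (v : G ⧸ O)) (by rw [MulEquiv.orderOf_eq, hv₁]) (hD₁.equiv e)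
    rcases psl_or_pgl hq hI hle with ⟨⟨f⟩⟩ | ⟨⟨f⟩⟩
    · exact Or.inl ⟨e.trans f⟩
    · exact Or.inr ⟨e.trans f⟩
  · exact absurd (hD₁.equiv e) (alt_seven_not_dCent _ (by rw [MulEquiv.orderOf_eq, hv₁]))

/-- The hypotheses on a semidihedral Sylow 2-subgroup. -/
structure Semi (T : Sylow 2 G) (v a : G) (k : ℕ) : Prop where
  three_le : 3 ≤ k
  orderOf_a : orderOf a = 2 ^ k
  a_mem : a ∈ (T : Subgroup G)
  v_mem : v ∈ (T : Subgroup G)
  orderOf_v : orderOf v = 2
  notMem : v ∉ zpowers a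
  cases : ∀ t ∈ (T : Subgroup G), t ∈ zpowers a ∨ t * v ∈ zpowers a
  rel : v * a * v = a⁻¹ * a ^ 2 ^ (k - 1)

variable {T : Sylow 2 G} {v a : G} {k : ℕ}

theorem Semi.z_sq (h : Semi T v a k) : a ^ 2 ^ (k - 1) * a ^ 2 ^ (k - 1) = 1 := by
  have := h.three_le
  rw [← pow_add, ← two_mul, ← pow_succ', show k - 1 + 1 = k by omega, ← h.orderOf_a, pow_orderOf_eq_one]

theorem Semi.z_ne_one (h : Semi T v a k) : a ^ 2 ^ (k - 1) ≠ 1 := by
  intro e
  have := h.three_le
  have h1 := orderOf_dvd_of_pow_eq_one e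
  rw [h.orderOf_a, Nat.pow_dvd_pow_iff_le_right (by norm_num)] at h1
  omega

theorem Semi.commute_z (h : Semi T v a k) : Commute (a ^ 2 ^ (k - 1)) v := by
  have hv := Involutions.Basic.inv_sq_one h.orderOf_v
  have h2 : Even (2 ^ (k - 1)) := (Nat.even_pow).2 ⟨even_two, by have := h.three_le; omega⟩
  have h1 : v * a ^ 2 ^ (k - 1) * v = a ^ 2 ^ (k - 1) := by
    have hc : Commute a⁻¹ (a ^ 2 ^ (k - 1)) := (Commute.refl a).inv_left.pow_right _
    calc v * a ^ 2 ^ (k - 1) * v = (v * a * v) ^ 2 ^ (k - 1) := by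
          conv_rhs => rw [show v * a * v = v * a * v⁻¹ by rw [Involutions.Basic.inv_eq h.orderOf_v], conj_pow,
            Involutions.Basic.inv_eq h.orderOf_v]
      _ = (a⁻¹) ^ 2 ^ (k - 1) * (a ^ 2 ^ (k - 1)) ^ 2 ^ (k - 1) := by rw [h.rel, hc.mul_pow]
      _ = _ := by
        obtain ⟨j, hj⟩ := h2
        have hz : (a ^ 2 ^ (k - 1)) ^ 2 ^ (k - 1) = 1 := by
          rw [hj, pow_add, ← (Commute.refl (a ^ (j + j))).mul_pow, ← hj, h.z_sq, one_pow]
        rw [hz, mul_one, inv_pow, inv_eq_of_mul_eq_one_right h.z_sq]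
  show a ^ 2 ^ (k - 1) * v = v * a ^ 2 ^ (k - 1)
  conv_lhs => rw [← h1]
  rw [mul_assoc _ v v, hv, mul_one]

theorem Semi.v_zpow (h : Semi T v a k) (l : ℤ) :
    v * a ^ l * v = a ^ (-l) * (a ^ 2 ^ (k - 1)) ^ l := by
  have hvi := Involutions.Basic.inv_eq h.orderOf_v
  calc v * a ^ l * v = (v * a * v⁻¹) ^ l := by rw [conj_zpow, hvi]
    _ = _ := by
      rw [hvi, h.rel, ((Commute.refl a).inv_left.pow_right _).mul_zpow, inv_zpow, zpow_neg]

/-- An element of the Sylow subgroup squaring to one lies in the cyclic part or is conjugate to `v`. -/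
theorem Semi.involution_cases (h : Semi T v a k) {t : G} (ht : t ∈ (T : Subgroup G)) (ht2 : t * t = 1) :
    (t = 1 ∨ t = a ^ 2 ^ (k - 1)) ∨ IsConj v t := by
  have hvv := Involutions.Basic.inv_sq_one h.orderOf_v
  set z := a ^ 2 ^ (k - 1) with hz
  have hk := h.three_le
  rcases h.cases t ht with htC | htC
  · left
    obtain ⟨i, rfl⟩ := mem_zpowers_iff.1 htC
    have h1 : (orderOf a : ℤ) ∣ i + i := orderOf_dvd_iff_zpow_eq_one.2 (by rw [zpow_add, ht2])
    rw [h.orderOf_a, show k = k - 1 + 1 by omega, pow_succ', Nat.cast_mul, Nat.cast_ofNat, ← two_mul,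
      mul_dvd_mul_iff_left (by norm_num)] at h1
    obtain ⟨j, rfl⟩ := h1
    rw [zpow_mul, zpow_natCast, ← hz]
    rcases Int.even_or_odd j with ⟨l, rfl⟩ | ⟨l, rfl⟩
    · left; rw [zpow_add, ← (Commute.refl z).mul_zpow, h.z_sq, one_zpow]
    · right
      rw [zpow_add, zpow_one, two_mul, zpow_add, ← (Commute.refl z).mul_zpow, h.z_sq, one_zpow, one_mul]
  · right
    obtain ⟨i, hi⟩ := mem_zpowers_iff.1 htC
    have ht' : t = a ^ i * v := by rw [hi, mul_assoc, hvv, mul_one]
    have hzi : z ^ i = 1 := by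
      have h1 : t * t = a ^ i * (v * a ^ i * v) := by rw [ht']; group
      rw [ht2, h.v_zpow, ← mul_assoc, ← zpow_add, add_neg_cancel, zpow_zero, one_mul] at h1
      exact h1.symm
    have hev : Even i := by
      rcases Int.even_or_odd i with hev | ⟨l, rfl⟩
      · exact hev
      · rw [zpow_add, zpow_one, two_mul, zpow_add, ← (Commute.refl z).mul_zpow, h.z_sq, one_zpow,
          one_mul] at hzi
        exact absurd hzi h.z_ne_one
    obtain ⟨j, rfl⟩ := hev
    set w := a ^ (2 : ℤ) * z with hw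
    have hcz : Commute (a ^ (2 : ℤ)) z := ((Commute.refl a).pow_right _).zpow_left 2
    have hzw : z ∈ zpowers w := by
      refine ⟨((2 * 2 ^ (k - 3) : ℕ) : ℤ), ?_⟩
      show w ^ _ = z
      rw [zpow_natCast, hw, hcz.mul_pow, pow_mul z, pow_two, h.z_sq, one_pow, mul_one, hz,
        ← zpow_natCast, ← zpow_mul, ← zpow_natCast a]
      congr 1
      rw [show k - 1 = k - 3 + 2 by omega]
      push_cast
      ring
    have ha2 : a ^ (j + j) ∈ zpowers w := by
      have h2 : a ^ (2 : ℤ) ∈ zpowers w := by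
        have h3 := mul_mem (mem_zpowers w) hzw
        rwa [hw, mul_assoc, h.z_sq, mul_one] at h3
      rw [← two_mul, zpow_mul]
      exact zpow_mem h2 j
    obtain ⟨l, hl⟩ := mem_zpowers_iff.1 ha2
    refine isConj_iff.2 ⟨a ^ l, ?_⟩
    have hzl : z ^ (-l) = z ^ l := by
      rw [zpow_neg, ← inv_zpow, inv_eq_of_mul_eq_one_right h.z_sq]
    calc a ^ l * v * (a ^ l)⁻¹ = a ^ l * (v * a ^ (-l) * v) * v := by
          rw [zpow_neg, mul_assoc (a ^ l) (v * (a ^ l)⁻¹ * v) v, mul_assoc (v * (a ^ l)⁻¹), hvv]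
          group
      _ = (a ^ (2 : ℤ)) ^ l * z ^ l * v := by
          rw [h.v_zpow, neg_neg, hzl, ← mul_assoc, ← zpow_add, ← two_mul, zpow_mul]
      _ = t := by rw [← hcz.mul_zpow, ← hw, hl, ht']

/-- The core-free case. -/
theorem semi_false_core (hGW : Cons.PerfectGW.{u}) (hO : Cfsg.oddCore G = ⊥) (h : Semi T v a k)
    (K : Subgroup G) (hK : K.index = 2) (hvK : v ∉ K)
    (hC : ∀ c : G, Commute c v → c * c = 1 ∨ a ^ 2 ^ (k - 1) * c * (a ^ 2 ^ (k - 1))⁻¹ = c⁻¹)
    (hns : ¬ Group.IsSolvable G) : False := by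
  have : Fact (Nat.Prime 2) := ⟨Nat.prime_two⟩
  set z := a ^ 2 ^ (k - 1) with hz
  have hk := h.three_le
  have hKn : K.Normal := Subgroup.normal_of_index_eq_two hK
  have hzK : z ∈ K := by
    rw [hz, show k - 1 = k - 2 + 1 by omega, pow_succ, pow_mul, pow_two]
    exact Subgroup.mul_self_mem_of_index_two hK _
  -- involutions of `K`
  have hconj : ∀ x ∈ K, ∀ g : G, g⁻¹ * x * g ∈ (T : Subgroup G) → x * x = 1 →
      x = 1 ∨ x = g * z * g⁻¹ := by
    intro x hx g hg hx2
    have hy : g⁻¹ * x * g ∈ K := by simpa using hKn.conj_mem x hx g⁻¹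
    have hyy : g⁻¹ * x * g * (g⁻¹ * x * g) = 1 := by
      calc g⁻¹ * x * g * (g⁻¹ * x * g) = g⁻¹ * (x * x) * g := by group
        _ = 1 := by rw [hx2]; group
    rcases h.involution_cases hg hyy with (e | e) | e
    · left
      calc x = g * (g⁻¹ * x * g) * g⁻¹ := by group
        _ = 1 := by rw [e]; group
    · right
      rw [hz, ← e]; group
    · obtain ⟨c, hc⟩ := isConj_iff.1 e
      refine absurd ?_ hvK
      have := hKn.conj_mem _ hy c⁻¹
      rw [← hc] at this
      simpa [mul_assoc] using this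
  have h1 : Cfsg.PRankLE 2 1 K := by
    intro A hA hsq
    have hp : IsPGroup 2 (A.map K.subtype) := by
      rintro ⟨_, x, hx, rfl⟩
      exact ⟨1, Subtype.ext (by simpa using congrArg Subtype.val (hsq x hx))⟩
    obtain ⟨R, hR⟩ := hp.exists_le_sylow
    obtain ⟨g, hg⟩ := MulAction.exists_smul_eq G T R
    have hall : ∀ x ∈ A, (x : G) = 1 ∨ (x : G) = g * z * g⁻¹ := fun x hx => by
      refine hconj x x.2 g ?_ ?_
      · have := hR ⟨x, hx, rfl⟩
        rw [← hg, Sylow.coe_subgroup_smul, Subgroup.mem_pointwise_smul_iff_inv_smul_mem] at this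
        simpa [MulAut.smul_def, mul_assoc] using this
      · simpa [pow_two] using congrArg Subtype.val (hsq x hx)
    classical
    have hinj : Function.Injective fun x : A => decide (((x : K) : G) = 1) := by
      intro x y hxy
      simp only [decide_eq_decide] at hxy
      refine Subtype.ext (Subtype.ext ?_)
      rcases hall x x.2 with e | e <;> rcases hall y y.2 with e' | e'
      · rw [e, e']
      · rw [e, hxy.1 e]
      · rw [hxy.2 e', e']
      · rw [e, e']
    simpa using Nat.card_le_card_of_injective _ hinj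
  have hz2 : orderOf z = 2 := orderOf_eq_prime (by rw [pow_two]; exact h.z_sq) h.z_ne_one
  have h2 : Even (Nat.card K) := even_iff_two_dvd.2 (by
    rw [← hz2, ← Subgroup.orderOf_mk (H := K) z hzK]
    exact orderOf_dvd_natCard _)
  have hOK : Cfsg.oddCore K = ⊥ := by
    rw [← Subgroup.map_eq_bot_iff_of_injective _ K.subtype_injective, eq_bot_iff, ← hO]
    exact Cores.map_pPrimeCore_subtype_le 2 K
  obtain ⟨z₁, -, hz₁c, huniq⟩ := Cons.exists_center_involution h1 h2 hOK
  have hzz₁ : (⟨z, hzK⟩ : K) = z₁ := huniq _ (by rw [Subgroup.orderOf_mk, hz2])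
  have hzcen : z ∈ center G := by
    refine Subgroup.mem_center_iff.2 fun g => ?_
    have hKc : ∀ y ∈ K, y * z = z * y := fun y hy =>
      congrArg Subtype.val (Subgroup.mem_center_iff.1 (hzz₁ ▸ hz₁c) ⟨y, hy⟩)
    by_cases hg : g ∈ K
    · exact hKc g hg
    · have hgv : g * v ∈ K := (Subgroup.mul_mem_iff_of_index_two hK).2 (iff_of_false hg hvK)
      have e : g = g * v * v := by rw [mul_assoc, Involutions.Basic.inv_sq_one h.orderOf_v, mul_one]
      rw [e, mul_assoc (g * v), ← h.commute_z.eq, ← mul_assoc, hKc _ hgv, mul_assoc]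
  have hKv : ∀ c ∈ K, Commute c v → c = 1 ∨ c = z := by
    intro c hc hcv
    have hcc : c * c = 1 := by
      rcases hC c hcv with h' | h'
      · exact h'
      · rw [← Subgroup.mem_center_iff.1 hzcen c, mul_inv_cancel_right] at h'
        calc c * c = c * c⁻¹ := by rw [← h']
          _ = 1 := mul_inv_cancel c
    by_cases hc1 : c = 1
    · exact Or.inl hc1
    · right
      have := huniq ⟨c, hc⟩ (by rw [Subgroup.orderOf_mk]; exact orderOf_eq_prime (by rw [pow_two, hcc]) hc1)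
      exact congrArg Subtype.val (this.trans hzz₁.symm)
  have hZn : (zpowers z).Normal := ⟨fun c hc g => by
    rw [mem_center_iff.1 ((zpowers_le.2 hzcen : zpowers z ≤ _) hc) g, mul_assoc, mul_inv_cancel, mul_one]
    exact hc⟩
  have hzC : zpowers z ≤ zpowers a := zpowers_le.2 (pow_mem (mem_zpowers a) _)
  set π := QuotientGroup.mk' (zpowers z) with hπ
  have hπs : Function.Surjective π := QuotientGroup.mk'_surjective _
  have hker : ∀ x, π x = 1 → x = 1 ∨ x = z := fun x hx => by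
    obtain ⟨i, rfl⟩ := mem_zpowers_iff.1 ((QuotientGroup.eq_one_iff x).1 hx)
    rcases Int.even_or_odd i with ⟨l, rfl⟩ | ⟨l, rfl⟩
    · left; rw [zpow_add, ← (Commute.refl z).mul_zpow, h.z_sq, one_zpow]
    · right
      rw [zpow_add, zpow_one, two_mul, zpow_add, ← (Commute.refl z).mul_zpow, h.z_sq, one_zpow, one_mul]
  set T₁ := T.mapSurjective hπs with hT₁
  -- the quotient has dihedral Sylow 2-subgroups
  set Z : Subgroup (T₁ : Subgroup (G ⧸ zpowers z)) :=
    ((zpowers a).map π).subgroupOf (T₁ : Subgroup (G ⧸ zpowers z)) with hZ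
  have hpre : ∀ t : G, π t ∈ (zpowers a).map π → t ∈ zpowers a := by
    rintro t ⟨c, hc, hct⟩
    have h1 : c⁻¹ * t ∈ zpowers z :=
      (QuotientGroup.eq_one_iff _).1 (show π (c⁻¹ * t) = 1 by rw [map_mul, map_inv, hct, inv_mul_cancel])
    simpa using mul_mem hc (hzC h1)
  have hTa : π a ∈ (T₁ : Subgroup (G ⧸ zpowers z)) := ⟨a, h.a_mem, rfl⟩
  have hTv : π v ∈ (T₁ : Subgroup (G ⧸ zpowers z)) := ⟨v, h.v_mem, rfl⟩
  have hZi : Z.index = 2 := by
    rw [Subgroup.index_eq_two_iff]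
    refine ⟨⟨π v, hTv⟩, fun b => ?_⟩
    obtain ⟨t, ht, hb⟩ := b.2
    simp only [hZ, Subgroup.mem_subgroupOf, Subgroup.coe_mul, ← hb, ← map_mul, xor_iff_iff_not]
    constructor
    · intro h1 h2
      have h3 := mul_mem (inv_mem (hpre _ h2)) (hpre _ h1)
      rw [inv_mul_cancel_left] at h3
      exact h.notMem h3
    · intro h2
      exact ⟨_, (h.cases t ht).resolve_left fun h1 => h2 ⟨t, h1, rfl⟩, rfl⟩
  have hZc : IsCyclic Z := by
    have : IsCyclic ((zpowers a).map π) :=
      isCyclic_of_surjective (π.subgroupMap (zpowers a)) (π.subgroupMap_surjective _)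
    have hle : (zpowers a).map π ≤ (T₁ : Subgroup (G ⧸ zpowers z)) := by
      rw [MonoidHom.map_zpowers]; exact zpowers_le.2 hTa
    exact (Subgroup.subgroupOfEquivOfLe hle).isCyclic.2 this
  obtain ⟨c, hcZ, hco, ⟨eT₁⟩⟩ := Forms.DicksonShapes.dihedral_of Z hZi hZc fun y hy => by
    obtain ⟨t, ht, hty⟩ := y.2
    refine Subtype.ext ?_
    rw [Subgroup.coe_mul, Subgroup.coe_one, ← hty, ← map_mul]
    have htC := (h.cases t ht).resolve_left fun h1 =>
      hy (Subgroup.mem_subgroupOf.2 ⟨t, h1, hty⟩)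
    obtain ⟨i, hi⟩ := mem_zpowers_iff.1 htC
    have hvv := Involutions.Basic.inv_sq_one h.orderOf_v
    have e : t = a ^ i * v := by rw [hi, mul_assoc, hvv, mul_one]
    have e2 : t * t = z ^ i := by
      calc t * t = a ^ i * (v * a ^ i * v) := by rw [e]; group
        _ = _ := by rw [h.v_zpow, ← mul_assoc, ← zpow_add, add_neg_cancel, zpow_zero, one_mul]
    exact (QuotientGroup.eq_one_iff _).2 (e2 ▸ zpow_mem (mem_zpowers z) i)
  have hm : 2 ≤ orderOf c := by
    rw [hco]
    refine Finite.one_lt_card_iff_nontrivial.2 ⟨⟨⟨π a, hTa⟩, ⟨a, mem_zpowers a, rfl⟩⟩, 1, fun e => ?_⟩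
    rcases hker a (congrArg (fun y : Z => ((y : (T₁ : Subgroup (G ⧸ zpowers z))) : G ⧸ zpowers z)) e)
      with e' | e'
    · have := h.orderOf_a
      rw [e', orderOf_one] at this
      exact absurd this (Nat.one_lt_two_pow (by omega)).ne
    · have := h.orderOf_a
      rw [e', hz2] at this
      have := Nat.pow_le_pow_right (show 1 ≤ 2 by norm_num) hk
      omega
  have hO₁ : Cfsg.oddCore (G ⧸ zpowers z) = ⊥ := Cons.oddCore_quotient_eq_bot hO hz2 hzcen
  have hns₁ := quotient_nonsolvable (zpowers z) inferInstance hns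
  set K₁ := K.map π with hK₁
  have hK₁m : ∀ g, π g ∈ K₁ → g ∈ K := by
    rintro g ⟨y, hy, hyg⟩
    rcases hker (y⁻¹ * g) (by rw [map_mul, map_inv, hyg, inv_mul_cancel]) with e | e
    · rwa [← inv_mul_eq_one.1 e]
    · rw [eq_mul_of_inv_mul_eq e]; exact mul_mem hy hzK
  have hK₁i : K₁.index = 2 := by
    rw [Subgroup.index_eq_two_iff]
    refine ⟨π v, fun b => ?_⟩
    obtain ⟨g, rfl⟩ := hπs b
    rw [← map_mul, xor_iff_iff_not]
    constructor
    · intro h1 h2
      exact hvK (((Subgroup.mul_mem_iff_of_index_two hK).1 (hK₁m _ h1)).1 (hK₁m _ h2))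
    · intro h2
      exact ⟨_, (Subgroup.mul_mem_iff_of_index_two hK).2 (iff_of_false (fun h => h2 ⟨g, h, rfl⟩) hvK), rfl⟩
  rcases dihedral_structure hGW hO₁ T₁ hm eT₁ hns₁ with
    ⟨F, iF, iT, hodd, hq, L, hI, ⟨e⟩⟩ | ⟨⟨e⟩⟩
  · let w : L := e (π v)
    have hw : orderOf (w : MulAut (Matrix.ProjectiveSpecialLinearGroup (Fin 2) F)) = 2 := by
      rw [Subgroup.orderOf_coe, MulEquiv.orderOf_eq]
      refine orderOf_eq_prime ?_ fun e' => hvK (hK₁m v (e' ▸ one_mem _))
      rw [← map_pow, ← h.orderOf_v, pow_orderOf_eq_one, map_one]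
    obtain ⟨⟨f, hf, hfix⟩, -⟩ := fixed_facts hodd hq hI
      (T₁.mapSurjective (f := e.toMonoidHom) e.surjective) hm
      ((((T₁ : Subgroup (G ⧸ zpowers z)).equivMapOfInjective e.toMonoidHom e.injective).symm).trans eT₁)
      w.2 hw
    -- the inner automorphisms come from `K`
    let ι : Matrix.ProjectiveSpecialLinearGroup (Fin 2) F →* L :=
      (MulAut.conj).codRestrict L fun y => hI ⟨y, rfl⟩
    set R := K₁.comap (e.symm.toMonoidHom.comp ι) with hR
    have hRtop : R = ⊤ := by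
      rw [eq_top_iff, ← TimesPSLTwo.psl_perfect hq, _root_.commutator_def, Subgroup.commutator_le]
      intro x _ y _
      simp only [hR, Subgroup.mem_comap, commutatorElement_def, map_mul, map_inv,
        Subgroup.mul_mem_iff_of_index_two hK₁i, inv_mem_iff]
      tauto
    have hg : ∀ i, ∃ g ∈ K, π g = e.symm (ι (f i)) := fun i => (hRtop ▸ Subgroup.mem_top (f i) : f i ∈ R)
    choose g hgK hg using hg
    have hgv : ∀ i, g i * v * (g i)⁻¹ = v ∨ g i * v * (g i)⁻¹ = v * z := by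
      intro i
      have h1 : ι (f i) * w = w * ι (f i) := Subtype.ext (by
        have h2 := conj_apply_eq (w : MulAut (Matrix.ProjectiveSpecialLinearGroup (Fin 2) F)) (f i)
        rw [hfix i] at h2
        exact (mul_inv_eq_iff_eq_mul.1 h2).symm)
      have h2 : π (g i * v * (g i)⁻¹) = π v := by
        rw [map_mul, map_mul, map_inv, hg, mul_inv_eq_iff_eq_mul]
        apply e.injective
        rw [map_mul, map_mul, e.apply_symm_apply]
        exact h1
      rcases hker (v⁻¹ * (g i * v * (g i)⁻¹)) (by rw [map_mul, map_inv, h2, inv_mul_cancel]) with e' | e'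
      · exact Or.inl (inv_mul_eq_one.1 e').symm
      · exact Or.inr (eq_mul_of_inv_mul_eq e')
    obtain ⟨i, j, hij, he⟩ : ∃ i j, i ≠ j ∧ g i * v * (g i)⁻¹ = g j * v * (g j)⁻¹ := by
      rcases hgv 0 with e0 | e0 <;> rcases hgv 1 with e1 | e1 <;> rcases hgv 2 with e2 | e2
      all_goals first
        | exact ⟨0, 1, by decide, e0.trans e1.symm⟩
        | exact ⟨0, 2, by decide, e0.trans e2.symm⟩
        | exact ⟨1, 2, by decide, e1.trans e2.symm⟩
    refine hij (hf (conj_injective hq (congrArg Subtype.val (e.symm.injective (?_ :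
      e.symm (ι (f i)) = e.symm (ι (f j)))))))
    rw [← hg, ← hg]
    have hc : Commute ((g j)⁻¹ * g i) v := by
      show (g j)⁻¹ * g i * v = v * ((g j)⁻¹ * g i)
      calc (g j)⁻¹ * g i * v = (g j)⁻¹ * (g i * v * (g i)⁻¹) * g i := by group
        _ = _ := by rw [he]; group
    have h3 : π ((g j)⁻¹ * g i) = 1 := by
      rcases hKv _ (mul_mem (inv_mem (hgK j)) (hgK i)) hc with e' | e' <;> rw [e']
      · exact map_one π
      · exact (QuotientGroup.eq_one_iff _).2 (mem_zpowers z)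
    rw [map_mul, map_inv] at h3
    exact (inv_mul_eq_one.1 h3).symm
  · exact Cons.alt_index_ne_two (K₁.map e.toMonoidHom) (by rw [Subgroup.index_map_of_bijective e.bijective, hK₁i])

/-- Semidihedral Sylow 2-subgroups do not occur. -/
theorem semi_false (hGW : Cons.PerfectGW.{u}) (h : Semi T v a k)
    (hzv : ¬ IsConj (a ^ 2 ^ (k - 1)) v)
    (hcard : Nat.card (T : Subgroup G) = 2 ^ (k + 1))
    (hC : ∀ c : G, Commute c v → c * c = 1 ∨ a ^ 2 ^ (k - 1) * c * (a ^ 2 ^ (k - 1))⁻¹ = c⁻¹)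
    (hns : ¬ Group.IsSolvable G) : False := by
  have : Fact (Nat.Prime 2) := ⟨Nat.prime_two⟩
  have hk := h.three_le
  have hidx : (zpowers a).index % 4 = 2 := by
    have h1 := (zpowers a).card_mul_index
    rw [Nat.card_zpowers, h.orderOf_a, ← (T : Subgroup G).card_mul_index, hcard, pow_succ, mul_assoc] at h1
    rw [Nat.eq_of_mul_eq_mul_left (by positivity) h1]
    have := T.not_dvd_index
    omega
  obtain ⟨K, hK, hvK⟩ := Involutions.ThompsonTransfer.exists_index_two_of_no_conj (zpowers a) hidx v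
    h.orderOf_v fun g hg => by
      have hy : orderOf (g * v * g⁻¹) = 2 := by rw [← MulAut.conj_apply, MulEquiv.orderOf_eq, h.orderOf_v]
      obtain ⟨i, hi⟩ := mem_zpowers_iff.1 hg
      have h2 := Involutions.Basic.inv_sq_one hy
      rw [← hi, ← zpow_add, ← orderOf_dvd_iff_zpow_eq_one, h.orderOf_a, show k = k - 1 + 1 by omega,
        pow_succ', Nat.cast_mul, Nat.cast_ofNat, ← two_mul, mul_dvd_mul_iff_left (by norm_num)] at h2
      obtain ⟨j, rfl⟩ := h2
      rw [zpow_mul, zpow_natCast] at hi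
      rcases Int.even_or_odd j with ⟨l, rfl⟩ | ⟨l, rfl⟩
      · rw [zpow_add, ← (Commute.refl (a ^ 2 ^ (k - 1))).mul_zpow, h.z_sq, one_zpow] at hi
        exact Involutions.Basic.ne_one hy hi.symm
      · rw [zpow_add, zpow_one, two_mul, zpow_add, ← (Commute.refl (a ^ 2 ^ (k - 1))).mul_zpow, h.z_sq,
          one_zpow, one_mul] at hi
        exact hzv (isConj_iff.2 ⟨g⁻¹, by rw [hi]; group⟩)
  set O := Cfsg.oddCore G with hO
  have hOo : Odd (Nat.card O) := Cores.oddCore_odd
  have hOn : O.Normal := inferInstanceAs (Cfsg.pPrimeCore 2 G).Normal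
  set π := QuotientGroup.mk' O with hπ
  set T₁ := T.mapSurjective (QuotientGroup.mk'_surjective O) with hT₁
  have hinj : ∀ x ∈ (T : Subgroup G), π x = 1 → x = 1 := by
    intro x hxT hx
    obtain ⟨j, hj⟩ := T.isPGroup'.exists_card_eq
    have hd := Subgroup.disjoint_of_coprime_natCard (H := (T : Subgroup G)) (K := O) (by
      rw [hj]; exact Nat.Coprime.pow_left j (Nat.coprime_two_left.2 hOo))
    exact Subgroup.mem_bot.1 (hd.eq_bot ▸ ⟨hxT, (QuotientGroup.eq_one_iff x).1 hx⟩)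
  have hord : ∀ x ∈ (T : Subgroup G), orderOf (π x) = orderOf x := fun x hxT =>
    Nat.dvd_antisymm (orderOf_map_dvd π x) (orderOf_dvd_of_pow_eq_one
      (hinj _ (pow_mem hxT _) (by rw [map_pow, pow_orderOf_eq_one])))
  have hpre : ∀ x ∈ (T : Subgroup G), π x ∈ zpowers (π a) → x ∈ zpowers a := by
    intro x hx hxa
    obtain ⟨i, hi⟩ := mem_zpowers_iff.1 hxa
    have := hinj (x⁻¹ * a ^ i) (mul_mem (inv_mem hx) (zpow_mem h.a_mem i))
      (by rw [map_mul, map_inv, map_zpow, hi, inv_mul_cancel])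
    rw [inv_mul_eq_one.1 this]
    exact zpow_mem (mem_zpowers a) i
  have hS : Semi T₁ (π v) (π a) k :=
    ⟨hk, by rw [hord a h.a_mem, h.orderOf_a], ⟨a, h.a_mem, rfl⟩, ⟨v, h.v_mem, rfl⟩,
      by rw [hord v h.v_mem, h.orderOf_v], fun hmem => h.notMem (hpre v h.v_mem hmem),
      by
        rintro _ ⟨t, ht, rfl⟩
        rcases h.cases t ht with h' | h'
        · left; rw [← MonoidHom.map_zpowers]; exact ⟨t, h', rfl⟩
        · right; rw [← map_mul, ← MonoidHom.map_zpowers]; exact ⟨_, h', rfl⟩,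
      by rw [← map_mul, ← map_mul, h.rel, map_mul, map_inv, map_pow]⟩
  have hOK : O ≤ K := by
    intro x hx
    have ho : Odd (orderOf x) := hOo.of_dvd_nat (by
      rw [← Subgroup.orderOf_mk (H := O) x hx]; exact orderOf_dvd_natCard _)
    obtain ⟨l, hl⟩ := ho
    have h1 := pow_orderOf_eq_one x
    rw [hl, pow_succ, pow_mul, pow_two] at h1
    have h2 : (x * x) ^ l ∈ K := pow_mem (Subgroup.mul_self_mem_of_index_two hK x) l
    rw [eq_inv_of_mul_eq_one_right h1]
    exact inv_mem h2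
  refine semi_false_core hGW (Cores.pPrimeCore_quotient_self 2) hS (K.map π) ?_ ?_ ?_
    (quotient_nonsolvable O (S0205.result hOo) hns)
  · rw [Subgroup.index_map_eq _ (QuotientGroup.mk'_surjective O) (by rwa [QuotientGroup.ker_mk']), hK]
  · rintro ⟨y, hy, hyv⟩
    have h1 : y⁻¹ * v ∈ O :=
      (QuotientGroup.eq_one_iff _).1 (show π (y⁻¹ * v) = 1 by rw [map_mul, map_inv, hyv, inv_mul_cancel])
    exact hvK (by simpa using mul_mem hy (hOK h1))
  · intro c hc
    obtain ⟨g, rfl, hg⟩ := exists_lift O hOo h.orderOf_v c hc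
    rcases hC g hg with h' | h'
    · left; rw [← QuotientGroup.mk_mul, h', QuotientGroup.mk_one]
    · right
      rw [← map_pow, ← map_inv]
      exact congrArg π h'

end Cfsg.Agent.GW.ConsDGroup
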