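import Cfsg.Agent.Lib.GW.ConsPermFix
import Cfsg.Agent.Lib.Forms.DicksonPGL.TorusStruct
import Cfsg.Agent.Lib.Forms.DicksonList

/-!
Two commuting diagonal involutions of `PSL(2, q)`: their fixed subgroups generate.
-/

set_option autoImplicit false
set_option linter.unusedSectionVars false

namespace Cfsg.Agent.GW.Cons

open Matrix Cfsg.Agent.Forms
open scoped MatrixGroups

universe u

/-- No two distinct commuting involutions in a subgroup. -/
def NoFourIn {G : Type u} [Group G] (H : Subgroup G) : Prop :=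
  ∀ x ∈ H, ∀ y ∈ H, orderOf x = 2 → orderOf y = 2 → x ≠ y → Commute x y → False

theorem noFour_dihedral {m : ℕ} (hm : 2 ≤ m) (h2 : 2 ∣ m) {G : Type u} [Group G] {N H : Subgroup G}
    (e : N ≃* DihedralGroup m) (hNH : N ≤ H) (h : NoFourIn H) : False := by
  have hm0 : m ≠ 0 := by omega
  set u := e.symm (DihedralGroup.r (Involutions.DihedralEmbedding.half m))
  set v := e.symm (DihedralGroup.sr 0)
  have hu : orderOf (u : G) = 2 := by
    rw [Subgroup.orderOf_coe, MulEquiv.orderOf_eq]
    exact orderOf_eq_prime (by rw [pow_two]; exact (Involutions.DihedralEmbedding.r_sq h2 hm0).2 (Or.inr rfl))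
      (Involutions.DihedralSylow.r_ne_one (Involutions.DihedralEmbedding.half_ne_zero h2 hm0))
  have hv : orderOf (v : G) = 2 := by
    rw [Subgroup.orderOf_coe, MulEquiv.orderOf_eq, DihedralGroup.orderOf_sr]
  refine h u (hNH u.2) v (hNH v.2) hu hv (fun heq => ?_) ?_
  · have := e.symm.injective (Subtype.ext heq)
    simp at this
  · refine (Commute.map ?_ (N.subtype.comp e.symm.toMonoidHom) :)
    show DihedralGroup.r _ * DihedralGroup.sr 0 = DihedralGroup.sr 0 * DihedralGroup.r _
    rw [DihedralGroup.r_mul_sr, DihedralGroup.sr_mul_r, zero_add, zero_sub, DihedralGroup.sr.injEq]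
    exact neg_eq_of_add_eq_zero_left (Involutions.DihedralEmbedding.half_add_half h2)

theorem mem_zpowers_of_pow {K : Type u} [Group K] [Finite K] [IsCyclic K] {c x : K}
    (h : x ^ orderOf c = 1) : x ∈ Subgroup.zpowers c := by
  classical
  have := Fintype.ofFinite K
  by_contra hx
  have hle := IsCyclic.card_pow_eq_one_le (α := K) (orderOf_pos c)
  have hsub : insert x ((Subgroup.zpowers c : Set K).toFinset) ⊆
      Finset.univ.filter fun a : K => a ^ orderOf c = 1 := by
    intro a ha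
    rw [Finset.mem_insert, Set.mem_toFinset, SetLike.mem_coe] at ha
    refine Finset.mem_filter.2 ⟨Finset.mem_univ _, ?_⟩
    rcases ha with rfl | ha
    · exact h
    · exact orderOf_dvd_iff_pow_eq_one.1 (orderOf_dvd_of_mem_zpowers ha)
  have h1 := Finset.card_le_card hsub
  rw [Finset.card_insert_of_notMem (by rwa [Set.mem_toFinset, SetLike.mem_coe]), Set.toFinset_card,
    ← Nat.card_eq_fintype_card, SetLike.coe_sort_coe, Nat.card_zpowers] at h1
  omega

/-- In a dihedral group two elements of the same odd order generate the same subgroup. -/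
theorem mem_zpowers_of_dihedral {k : ℕ} [NeZero k] {c x : DihedralGroup k} (hc : Odd (orderOf c))
    (hx : orderOf x = orderOf c) : x ∈ Subgroup.zpowers c := by
  have hrot : ∀ z : DihedralGroup k, Odd (orderOf z) →
      z ∈ Subgroup.zpowers (DihedralGroup.r (1 : ZMod k)) := by
    rintro (i | i) hz
    · exact ⟨(i.val : ℤ), by simp⟩
    · rw [DihedralGroup.orderOf_sr] at hz
      exact absurd hz (by decide)
  set R := Subgroup.zpowers (DihedralGroup.r (1 : ZMod k))
  have hxR := hrot x (hx ▸ hc)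
  have h := mem_zpowers_of_pow (c := (⟨c, hrot c hc⟩ : R)) (x := ⟨x, hxR⟩) (Subtype.ext (by
    rw [SubmonoidClass.coe_pow, Subgroup.orderOf_mk, ← hx, pow_orderOf_eq_one, Subgroup.coe_one]))
  obtain ⟨i, hi⟩ := h
  exact ⟨i, congrArg Subtype.val hi⟩

/-- `A₄` and `A₅` have no subgroup of index two. -/
theorem alt_index_ne_two {n : ℕ} (D : Subgroup (alternatingGroup (Fin n))) : D.index ≠ 2 := by
  intro h
  have hle : alternatingGroup (Fin n) ≤ D.map (alternatingGroup (Fin n)).subtype := by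
    refine Equiv.Perm.closure_three_cycles_eq_alternating.ge.trans ((Subgroup.closure_le _).2 ?_)
    intro t ht
    have htA := Equiv.Perm.IsThreeCycle.mem_alternatingGroup ht
    refine ⟨⟨t, htA⟩, ?_, rfl⟩
    have h3 : (⟨t, htA⟩ : alternatingGroup (Fin n)) ^ 3 = 1 :=
      Subtype.ext (orderOf_dvd_iff_pow_eq_one.1 (Equiv.Perm.IsThreeCycle.orderOf ht).dvd)
    have hsq := Subgroup.sq_mem_of_index_two h ((⟨t, htA⟩ : alternatingGroup (Fin n)) ^ 2)
    rwa [← pow_mul, show (2 * 2 : ℕ) = 3 + 1 from rfl, pow_succ, h3, one_mul] at hsq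
  have htop : D = ⊤ := eq_top_iff.2 fun a _ => by
    obtain ⟨b, hb, hba⟩ := hle a.2
    rwa [← show b = a from Subtype.ext hba]
  rw [htop, Subgroup.index_top] at h
  omega

variable {F : Type u} [Field F] [Fintype F]

local notation "PP" => Matrix.ProjGenLinGroup (Fin 2) F
local notation "PG" => Matrix.ProjectiveSpecialLinearGroup (Fin 2) F
local notation "mk'" => Matrix.ProjGenLinGroup.mk (n := Fin 2) (R := F)
local notation "M2" => Matrix (Fin 2) (Fin 2) F
local notation "toP" => Matrix.ProjectiveSpecialLinearGroup.toPGL (n := Fin 2) (R := F)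

/-- Matrices equal up to a scalar give equal projective elements. -/
theorem mk_eq_of_smul {x y : GL (Fin 2) F} {r : F} (hr : r ≠ 0) (h : (y : M2) = r • (x : M2)) :
    mk' x = mk' y := by
  rw [Matrix.ProjGenLinGroup.mk_eq_mk_iff]
  refine ⟨Units.mk0 r hr, Units.ext ?_⟩
  rw [h]
  show (x : M2) * Matrix.scalar (Fin 2) r = _
  rw [Matrix.scalar_apply, ← Matrix.smul_one_eq_diagonal, mul_smul_comm, mul_one]

theorem smul_of_mk_eq {x y : GL (Fin 2) F} (h : mk' x = mk' y) :
    ∃ r : F, r ≠ 0 ∧ (y : M2) = r • (x : M2) := by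
  rw [Matrix.ProjGenLinGroup.mk_eq_mk_iff] at h
  obtain ⟨u, hu⟩ := h
  refine ⟨u, u.ne_zero, ?_⟩
  rw [← hu]
  show (x : M2) * Matrix.scalar (Fin 2) (u : F) = _
  rw [Matrix.scalar_apply, ← Matrix.smul_one_eq_diagonal, mul_smul_comm, mul_one]

/-- The torus of a diagonal involution. -/
theorem exists_axis (h2 : (2 : F) ≠ 0) (hq : 3 < Fintype.card F) {g : GL (Fin 2) F}
    (hd : ¬ IsSquare (g : M2).det) (ht : (g : M2).trace = 0) :
    ∃ (X : SL(2, F)) (a b : F), b ≠ 0 ∧ (X : M2) = a • (1 : M2) + b • (g : M2) ∧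
      DicksonPGL.Semisimple X ∧ (X : M2).trace = 2 * a := by
  classical
  set A := -(g : M2).det with hA
  obtain ⟨t, ht0, ht1⟩ : ∃ t : F, t ≠ 0 ∧ A * t * t ≠ 1 := by
    by_contra hne
    push Not at hne
    have hA1 : A = 1 := by simpa using hne 1 one_ne_zero
    have hsub : (Finset.univ : Finset F) ⊆ {0, 1, -1} := by
      intro t _
      simp only [Finset.mem_insert, Finset.mem_singleton]
      by_cases h0 : t = 0
      · exact Or.inl h0
      · have h1 := hne t h0
        rw [hA1, one_mul] at h1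
        exact Or.inr (mul_self_eq_one_iff.1 h1)
    have h3 := Finset.card_le_card hsub
    rw [Finset.card_univ] at h3
    exact absurd (h3.trans Finset.card_le_three) (by omega)
  have hne : 1 - A * t * t ≠ 0 := sub_ne_zero.2 (Ne.symm ht1)
  set a := (1 + A * t * t) / (1 - A * t * t) with hadef
  set b := 2 * t / (1 - A * t * t) with hbdef
  have hb : b ≠ 0 := div_ne_zero (mul_ne_zero h2 ht0) hne
  have hab : a * a - A * (b * b) = 1 := by
    rw [hadef, hbdef, div_mul_div_comm, div_mul_div_comm, mul_div_assoc', ← sub_div,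
      div_eq_one_iff_eq (mul_ne_zero hne hne)]
    ring
  have hscal : ∀ c : F, (g : M2) ≠ c • (1 : M2) := fun c hc => hd ⟨c, by
    rw [hc, Matrix.det_smul, Fintype.card_fin, Matrix.det_one]; ring⟩
  have hdet : (a • (1 : M2) + b • (g : M2)).det = 1 := by
    rw [← hab, hA]
    rw [Matrix.trace_fin_two] at ht
    simp [Matrix.det_fin_two]
    linear_combination a * b * ht
  have htr : (a • (1 : M2) + b • (g : M2)).trace = 2 * a := by
    rw [Matrix.trace_add, Matrix.trace_smul, Matrix.trace_smul, ht, Matrix.trace_one, Fintype.card_fin]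
    simp [mul_comm]
  refine ⟨⟨_, hdet⟩, a, b, hb, rfl, ⟨fun c hc => hscal (b⁻¹ * (c - a)) ?_, fun hdisc => ?_⟩, htr⟩
  · change a • (1 : M2) + b • (g : M2) = _ at hc
    rw [← smul_smul, sub_smul, ← hc, add_sub_cancel_left, smul_smul, inv_mul_cancel₀ hb, one_smul]
  · change (a • (1 : M2) + b • (g : M2)).trace * _ = (4 : F) at hdisc
    rw [htr] at hdisc
    have h4 : (2 : F) * 2 * (A * (b * b)) = 0 := by
      linear_combination hdisc - 4 * hab
    rcases mul_eq_zero.1 h4 with h | h
    · exact mul_ne_zero h2 h2 h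
    · rcases mul_eq_zero.1 h with h | h
      · exact hd ⟨0, by rw [hA, neg_eq_zero] at h; rw [h, mul_zero]⟩
      · exact mul_ne_zero hb hb h

theorem torusN_commute {X : SL(2, F)} {g : GL (Fin 2) F} {a b : F} (hb : b ≠ 0)
    (hX : (X : M2) = a • (1 : M2) + b • (g : M2)) (htr : (X : M2).trace = 2 * a) :
    DicksonPGL.torusN X ≤ Subgroup.centralizer {mk' g} := by
  rintro _ ⟨h, hh, rfl⟩
  rw [Subgroup.mem_centralizer_singleton_iff, ← map_mul, ← map_mul]
  rcases DicksonPGL.nx_cases hh with h1 | h1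
  · have h1' := DicksonPGL.mem_cen.1 h1
    refine mk_eq_of_smul one_ne_zero ?_
    rw [one_smul, Units.val_mul, Units.val_mul]
    rw [hX, mul_add, add_mul, mul_smul_comm, mul_smul_comm, smul_mul_assoc, smul_mul_assoc, mul_one, one_mul,
      add_right_inj] at h1'
    exact (smul_right_injective M2 hb h1').symm
  · refine mk_eq_of_smul (neg_ne_zero.2 one_ne_zero) ?_
    rw [neg_one_smul, Units.val_mul, Units.val_mul]
    rw [hX] at htr
    rw [hX, htr, mul_add, sub_mul, add_mul, mul_smul_comm, mul_smul_comm, smul_mul_assoc, smul_mul_assoc,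
      smul_mul_assoc, mul_one, one_mul] at h1
    have h3 : b • ((h : M2) * g + (g : M2) * h) = 0 := by
      have h4 := sub_eq_zero.2 h1
      rw [smul_add, ← h4, two_mul, add_smul]
      abel
    exact eq_neg_of_add_eq_zero_right ((smul_eq_zero.1 h3).resolve_left hb)

/-- One of the two dihedral fixed subgroups. -/
theorem side (h2 : (2 : F) ≠ 0) (hodd : Odd (Fintype.card F)) (hq : 3 < Fintype.card F)
    {g : GL (Fin 2) F} (hd : ¬ IsSquare (g : M2).det) (ht : (g : M2).trace = 0)
    (hN : NoFourIn (DicksonPGL.L F ⊓ Subgroup.centralizer {mk' g})) :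
    ∃ (m : ℕ) (D : Subgroup PP) (c y : PP),
      3 ≤ m ∧ Odd m ∧ (2 * m + 1 = Fintype.card F ∨ 2 * m = Fintype.card F + 1) ∧
      D ≤ DicksonPGL.L F ⊓ Subgroup.centralizer {mk' g} ∧ Nat.card D = 2 * m ∧
      c ∈ D ∧ y ∈ D ∧ orderOf c = m ∧ y * c * y⁻¹ = c⁻¹ ∧
      (∃ (z : GL (Fin 2) F) (a' b' : F), mk' z = c ∧ (z : M2) = a' • (1 : M2) + b' • (g : M2)) := by
  obtain ⟨X, a, b, hb, hX, hss, htr⟩ := exists_axis h2 hq hd ht
  have hgcd : Nat.gcd 2 (Fintype.card F - 1) = 2 := by
    obtain ⟨t, ht'⟩ := hodd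
    exact Nat.gcd_eq_left (Nat.dvd_of_mod_eq_zero (by omega))
  obtain ⟨hcyc, -, hcard⟩ := DicksonPGL.torus_facts hss
  have hT := DicksonPGL.gcd_mul_torus_inf_L hss
  rw [hgcd] at hT
  obtain ⟨hDc, ⟨eD⟩, c, hc, y, hy, hco, hyc⟩ := DicksonPGL.torusN_dihedral hss (le_refl (DicksonPGL.L F))
  set m := Nat.card (DicksonPGL.torus X ⊓ DicksonPGL.L F : Subgroup PP)
  have hm : 2 * m + 1 = Fintype.card F ∨ 2 * m = Fintype.card F + 1 := by
    rcases hcard with h | h <;> omega
  have hDle : (DicksonPGL.torusN X ⊓ DicksonPGL.L F : Subgroup PP) ≤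
      DicksonPGL.L F ⊓ Subgroup.centralizer {mk' g} :=
    le_inf inf_le_right (inf_le_left.trans (torusN_commute hb hX htr))
  have hmodd : Odd m := by
    by_contra h
    rw [Nat.not_odd_iff_even, even_iff_two_dvd] at h
    exact noFour_dihedral (by omega) h eD hDle hN
  have hm3 : 3 ≤ m := by
    obtain ⟨t, ht'⟩ := hmodd
    omega
  refine ⟨m, _, c, y, hm3, hmodd, hm, hDle, hDc, hc, hy, hco, hyc, ?_⟩
  -- an element of odd order of the normaliser of the torus lies in the torus
  obtain ⟨z, hz, rfl⟩ := hc.1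
  rcases DicksonPGL.nx_cases hz with h1 | h1
  · obtain ⟨a', b', hab'⟩ := DicksonPGL.commutant hss (DicksonPGL.mem_cen.1 h1)
    refine ⟨z, a' + b' * a, b' * b, rfl, ?_⟩
    rw [hab', hX, smul_add, smul_smul, smul_smul, add_smul, add_assoc]
  · exfalso
    have hsq := DicksonPGL.mul_self_scalar hss h1
    have := orderOf_dvd_of_pow_eq_one (show (mk' z) ^ 2 = 1 by rw [pow_two]; exact hsq)
    rw [hco] at this
    exact absurd (Nat.le_of_dvd two_pos this) (by omega)

/-- A torus element of `h` of order at least three does not commute with `g`. -/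
theorem not_commute (h2 : (2 : F) ≠ 0) {g h z : GL (Fin 2) F} (hdh : ¬ IsSquare (h : M2).det)
    (hth : (h : M2).trace = 0) (hanti : (g : M2) * h = -((h : M2) * g)) {a b : F}
    (hz : (z : M2) = a • (1 : M2) + b • (h : M2)) (hord : 3 ≤ orderOf (mk' z)) :
    mk' z ∉ Subgroup.centralizer {mk' g} := by
  intro hmem
  rw [Subgroup.mem_centralizer_singleton_iff, ← map_mul, ← map_mul] at hmem
  obtain ⟨r, -, hr⟩ := smul_of_mk_eq hmem
  rw [Units.val_mul, Units.val_mul, hz, mul_add, add_mul, mul_smul_comm, mul_smul_comm, mul_one,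
    smul_mul_assoc, smul_mul_assoc, one_mul, hanti] at hr
  have hcalc : (((r - 1) * a) • (1 : M2) + ((r + 1) * b) • (h : M2)) * (g : M2) = 0 := by
    rw [add_mul, smul_mul_assoc, smul_mul_assoc, one_mul]
    have h4 := sub_eq_zero.2 hr.symm
    rw [← h4, smul_add, smul_smul, smul_smul]
    module
  have hzero : ((r - 1) * a) • (1 : M2) + ((r + 1) * b) • (h : M2) = 0 := by
    have h5 := congrArg (· * ((g⁻¹ : GL (Fin 2) F) : M2)) hcalc
    simpa [mul_assoc] using h5
  have hb0 : (r + 1) * b = 0 := by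
    by_contra hne
    have h6 : (h : M2) = (-(((r + 1) * b)⁻¹ * ((r - 1) * a))) • (1 : M2) := by
      rw [neg_smul, ← smul_smul, eq_neg_of_add_eq_zero_left hzero, smul_neg, neg_neg, smul_smul,
        inv_mul_cancel₀ hne, one_smul]
    exact hdh ⟨-(((r + 1) * b)⁻¹ * ((r - 1) * a)), by
      rw [h6, Matrix.det_smul, Fintype.card_fin, Matrix.det_one, mul_one, pow_two]⟩
  have ha0 : (r - 1) * a = 0 := by
    rw [hb0, zero_smul, add_zero, smul_eq_zero] at hzero
    exact hzero.resolve_right one_ne_zero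
  have hsq : ∃ e : F, (z : M2) * z = e • (1 : M2) := by
    rcases eq_or_ne b 0 with rfl | hb
    · exact ⟨a * a, by rw [hz, zero_smul, add_zero, smul_mul_smul_comm, mul_one]⟩
    · have hr1 : r = -1 := eq_neg_of_add_eq_zero_left ((mul_eq_zero.1 hb0).resolve_right hb)
      have ha : a = 0 := (mul_eq_zero.1 ha0).resolve_left fun e => h2 (by
        rw [hr1] at e; linear_combination -e)
      exact ⟨b * b * -(h : M2).det, by
        rw [hz, ha, zero_smul, zero_add, smul_mul_smul_comm, cayley_aux hth, smul_smul]⟩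
  obtain ⟨e, he⟩ := hsq
  have hone : mk' z * mk' z = 1 := by
    rw [← map_mul, DicksonPGL.mk_eq_one_smul]
    exact ⟨e, by rw [Units.val_mul, he]⟩
  have := orderOf_dvd_of_pow_eq_one (show (mk' z) ^ 2 = 1 by rw [pow_two]; exact hone)
  exact absurd (Nat.le_of_dvd two_pos this) (by omega)
where
  cayley_aux {h : GL (Fin 2) F} (hth : (h : M2).trace = 0) :
      (h : M2) * h = (-(h : M2).det) • (1 : M2) := by
    rw [Matrix.trace_fin_two] at hth
    ext i j
    fin_cases i <;> fin_cases j <;> simp [Matrix.mul_apply, Fin.sum_univ_two, Matrix.det_fin_two]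
    · linear_combination ((h : M2) 0 0) * hth
    · linear_combination ((h : M2) 0 1) * hth
    · linear_combination ((h : M2) 1 0) * hth
    · linear_combination ((h : M2) 1 1) * hth

/-- Distinct commuting diagonal involutions anticommute. -/
theorem anticommute (h2 : (2 : F) ≠ 0) (hq : 3 < Fintype.card F) {g h : GL (Fin 2) F}
    (hdg : ¬ IsSquare (g : M2).det) (htg : (g : M2).trace = 0) (hth : (h : M2).trace = 0)
    (hne : mk' g ≠ mk' h) (hc : Commute (mk' g) (mk' h)) : (g : M2) * h = -((h : M2) * g) := by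
  have hc' : mk' (h * g) = mk' (g * h) := by rw [map_mul, map_mul]; exact hc.eq.symm
  obtain ⟨r, -, hr⟩ := smul_of_mk_eq hc'
  rw [Units.val_mul, Units.val_mul] at hr
  have hr2 : r * r = 1 := by
    have h1 := congrArg Matrix.det hr
    rw [Matrix.det_smul, Fintype.card_fin, Matrix.det_mul, Matrix.det_mul, mul_comm (h : M2).det] at h1
    have h0 : (g : M2).det * (h : M2).det ≠ 0 :=
      mul_ne_zero ((Matrix.isUnit_iff_isUnit_det _).1 g.isUnit).ne_zero
        ((Matrix.isUnit_iff_isUnit_det _).1 h.isUnit).ne_zero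
    exact mul_right_cancel₀ h0 (by rw [one_mul, ← pow_two]; exact h1.symm)
  rcases mul_self_eq_one_iff.1 hr2 with rfl | rfl
  · exfalso
    rw [one_smul] at hr
    obtain ⟨X, a, b, hb, hX, hss, -⟩ := exists_axis h2 hq hdg htg
    obtain ⟨u, v, huv⟩ := DicksonPGL.commutant hss (h := (h : M2)) (by
      rw [hX, mul_add, add_mul, mul_smul_comm, mul_smul_comm, smul_mul_assoc, smul_mul_assoc, mul_one,
        one_mul, hr])
    have hlin : (h : M2) = (u + v * a) • (1 : M2) + (v * b) • (g : M2) := by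
      rw [huv, hX, smul_add, smul_smul, smul_smul, add_smul, add_assoc]
    have hu : u + v * a = 0 := by
      have h1 := congrArg Matrix.trace hlin
      rw [hth, Matrix.trace_add, Matrix.trace_smul, Matrix.trace_smul, htg, Matrix.trace_one,
        Fintype.card_fin, smul_zero, add_zero, smul_eq_mul, Nat.cast_ofNat] at h1
      exact (mul_eq_zero.1 h1.symm).resolve_right h2
    rw [hu, zero_smul, zero_add] at hlin
    have hvb : v * b ≠ 0 := fun e => Units.ne_zero h (by rw [hlin, e, zero_smul])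
    exact hne (mk_eq_of_smul hvb hlin)
  · rw [hr, neg_one_smul]

/-- The fixed subgroups of two commuting diagonal involutions generate `PSL(2, q)`. -/
theorem generate (hodd : Odd (Fintype.card F)) (hq : 3 < Fintype.card F) {g h : GL (Fin 2) F}
    (hdg : ¬ IsSquare (g : M2).det) (htg : (g : M2).trace = 0)
    (hdh : ¬ IsSquare (h : M2).det) (hth : (h : M2).trace = 0)
    (hne : mk' g ≠ mk' h) (hc : Commute (mk' g) (mk' h))
    (hNg : NoFourIn (DicksonPGL.L F ⊓ Subgroup.centralizer {mk' g}))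
    (hNh : NoFourIn (DicksonPGL.L F ⊓ Subgroup.centralizer {mk' h})) :
    (DicksonPGL.L F ⊓ Subgroup.centralizer {mk' g}) ⊔ (DicksonPGL.L F ⊓ Subgroup.centralizer {mk' h}) =
      DicksonPGL.L F := by
  have h2 : (2 : F) ≠ 0 := Classical.SylowSL2.two_ne_zero_of_odd hodd
  have hgh := anticommute h2 hq hdg htg hth hne hc
  obtain ⟨m, D, c, y, hm3, hmodd, hm, hDle, hDc, hcD, hyD, hco, hyc, -⟩ := side h2 hodd hq hdg htg hNg
  obtain ⟨m', D', c', y', hm3', hmodd', hm', hD'le, -, hc'D, -, hco', -, z, a', b', hz, hzval⟩ :=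
    side h2 hodd hq hdh hth hNh
  have hmm : m' = m := by
    obtain ⟨i, hi⟩ := hmodd
    obtain ⟨i', hi'⟩ := hmodd'
    omega
  rw [hmm] at hco'
  have hc'g : c' ∉ Subgroup.centralizer {mk' g} := by
    rw [← hz]
    exact not_commute h2 hdh hth hgh hzval (by rw [hz, hco']; omega)
  set Cg := DicksonPGL.L F ⊓ Subgroup.centralizer {mk' g} with hCg
  set Ch := DicksonPGL.L F ⊓ Subgroup.centralizer {mk' h} with hCh
  set H := Cg ⊔ Ch with hH
  have hHL : H ≤ DicksonPGL.L F := sup_le inf_le_left inf_le_left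
  by_contra hHne
  have hcardlt : Nat.card H < Nat.card (DicksonPGL.L F) := by
    by_contra hge
    exact hHne (Subgroup.eq_of_le_of_card_ge hHL (not_lt.1 hge))
  -- the copy inside PSL
  set H0 := H.comap toP with hH0
  let ε : H0 ≃* H := (H0.equivMapOfInjective toP Matrix.ProjectiveSpecialLinearGroup.toPGL_injective).trans
    (MulEquiv.subgroupCongr (Subgroup.map_comap_eq_self hHL))
  have hH0lt : Nat.card H0 < Nat.card PG := by
    rw [Nat.card_congr ε.toEquiv, ← DicksonPGL.natCard_L]; exact hcardlt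
  set c₀ : H := ⟨c, le_sup_left (b := Ch) (hDle hcD)⟩
  set y₀ : H := ⟨y, le_sup_left (b := Ch) (hDle hyD)⟩
  set c₁ : H := ⟨c', le_sup_right (a := Cg) (hD'le hc'D)⟩
  have hc₀ : orderOf c₀ = m := by rw [Subgroup.orderOf_mk, hco]
  have hc₁ : orderOf c₁ = m := by rw [Subgroup.orderOf_mk, hco']
  have hyc₀ : y₀ * c₀ * y₀⁻¹ = c₀⁻¹ := Subtype.ext hyc
  have hnotmem : c₁ ∉ Subgroup.zpowers c₀ := by
    rintro ⟨i, hi⟩
    refine hc'g ?_
    rw [← show c ^ i = c' from congrArg Subtype.val hi]
    exact Subgroup.zpow_mem _ (hDle hcD).2 i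
  set D₀ := D.subgroupOf H
  have hD₀ : Nat.card D₀ = 2 * m := by
    rw [Nat.card_congr (Subgroup.subgroupOfEquivOfLe (hDle.trans le_sup_left)).toEquiv, hDc]
  have hmH : 2 * m ∣ Nat.card H := hD₀ ▸ Subgroup.card_subgroup_dvd_card D₀
  obtain ⟨p, hchar⟩ := CharP.exists F
  have : Fact p.Prime := ⟨CharP.char_is_prime F p⟩
  have hpq : p ∣ Fintype.card F := Classical.GL2.dvd_card p
  have hpm : (2 * m).Coprime (Fintype.card F) := by
    rw [Nat.coprime_iff_gcd_eq_one]
    have hg2 := Nat.gcd_dvd_left (2 * m) (Fintype.card F)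
    have hgq := Nat.gcd_dvd_right (2 * m) (Fintype.card F)
    rcases hm with h | h
    · have h1 := Nat.dvd_sub hgq hg2
      rw [show Fintype.card F - 2 * m = 1 by omega] at h1
      exact Nat.dvd_one.1 h1
    · have h1 := Nat.dvd_sub hg2 hgq
      rw [show 2 * m - Fintype.card F = 1 by omega] at h1
      exact Nat.dvd_one.1 h1
  have hnofix : ∀ {n : ℕ}, 4 ≤ n → n ≠ 6 → ∀ (K : Subgroup (Equiv.Perm (Fin n))),
      alternatingGroup (Fin n) ≤ K → (ψ : H0 ≃* K) →
      (∀ σ : Equiv.Perm (Fin n), σ * (ψ (ε.symm c₀) : K) = ((ψ (ε.symm c₀) : K) : Equiv.Perm (Fin n)) * σ →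
        σ ∈ Subgroup.zpowers ((ψ (ε.symm c₀) : K) : Equiv.Perm (Fin n))) → False := by
    intro n h4 h6 K hK ψ hcent
    have hnorm : mk' g ∈ Subgroup.normalizer (H : Set PP) := by
      refine normalizer_sup _ _ ?_ ?_
      · exact normalizes_fixed (Commute.refl _)
      · exact normalizes_fixed hc
    set γ := H.normalizerMonoidHom ⟨mk' g, hnorm⟩
    have hγ : ∀ x : H, (x : PP) ∈ Subgroup.centralizer {mk' g} → γ x = x := fun x hx => by
      refine Subtype.ext ?_
      show mk' g * (x : PP) * (mk' g)⁻¹ = x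
      rw [← Subgroup.mem_centralizer_singleton_iff.1 hx, mul_inv_cancel_right]
    set θ : H ≃* K := ε.symm.trans ψ
    have hfix := perm_fix h4 h6 hK (MulAut.congr θ γ) (θ c₀) (θ y₀)
      (by rw [MulEquiv.orderOf_eq, hc₀]; exact hmodd) hcent
      (by rw [← map_inv, ← map_inv, ← map_mul, ← map_mul, hyc₀])
      (by simp [MulAut.congr, hγ c₀ (hDle hcD).2]) (by simp [MulAut.congr, hγ y₀ (hDle hyD).2])
    have hγ1 : γ = 1 := (MulAut.congr θ).injective (by rw [hfix, map_one])
    have h1 : mk' g * c' * (mk' g)⁻¹ = c' :=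
      congrArg (fun σ : MulAut H => ((σ c₁ : H) : PP)) hγ1
    exact hc'g (Subgroup.mem_centralizer_singleton_iff.2 (mul_inv_eq_iff_eq_mul.1 h1).symm)
  rcases DicksonList.classify p H0 with ⟨x, -, -, ⟨hcy, -⟩ | hedih⟩ | ⟨x, -, hfix⟩ | ⟨⟨e⟩⟩ | ⟨⟨e⟩⟩ |
      ⟨⟨e⟩⟩ | ⟨K, iK, iT, k, hk, he⟩
  · -- cyclic
    have : IsCyclic H := isCyclic_of_surjective ε ε.surjective
    exact hnotmem (mem_zpowers_of_pow (by rw [hc₀, ← hc₁, pow_orderOf_eq_one]))
  · -- dihedral
    obtain ⟨e⟩ := hedih
    have : NeZero (orderOf x) := ⟨(orderOf_pos x).ne'⟩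
    set φ := ε.symm.trans e
    have hmem := mem_zpowers_of_dihedral (c := φ c₀) (x := φ c₁)
      (by rw [MulEquiv.orderOf_eq, hc₀]; exact hmodd)
      (by rw [MulEquiv.orderOf_eq, MulEquiv.orderOf_eq, hc₀, hc₁])
    obtain ⟨i, hi⟩ := hmem
    exact hnotmem ⟨i, φ.injective (by rw [map_zpow]; exact hi)⟩
  · -- a common fixed point
    set ι : H →* PG := H0.subtype.comp ε.symm.toMonoidHom
    have hι : Function.Injective ι := H0.subtype_injective.comp ε.symm.injective
    have hcyc := (DicksonAction.twoPt (F := F) p).cyc x (D₀.map ι) (by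
      rintro _ ⟨d, -, rfl⟩
      exact hfix _ (ε.symm d).2) (by
      rintro _ ⟨d, hd, rfl⟩ hord
      rw [orderOf_injective ι hι] at hord
      have h1 : p ∣ 2 * m := by
        rw [← hord, ← hD₀]
        exact D₀.orderOf_dvd_natCard hd
      exact (Fact.out : p.Prime).ne_one (Nat.eq_one_of_dvd_coprimes hpm h1 hpq))
    have hab : IsMulCommutative (D₀.map ι) := IsCyclic.isMulCommutative
    have hcomm : ι y₀ * ι c₀ = ι c₀ * ι y₀ := congrArg Subtype.val (hab.is_comm.comm
      (⟨_, Subgroup.mem_map_of_mem ι (show y₀ ∈ D₀ from hyD)⟩ : D₀.map ι)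
      ⟨_, Subgroup.mem_map_of_mem ι (show c₀ ∈ D₀ from hcD)⟩)
    have h1 : c₀ = c₀⁻¹ := by
      rw [← hyc₀]
      refine hι ?_
      rw [map_mul, map_mul, map_inv, hcomm, mul_inv_cancel_right]
    have h2' := orderOf_dvd_of_pow_eq_one (n := 2) (show c₀ ^ 2 = 1 by
      rw [pow_two]; nth_rw 2 [h1]; exact mul_inv_cancel c₀)
    rw [hc₀] at h2'
    exact absurd (Nat.le_of_dvd two_pos h2') (by omega)
  · -- A₄
    have h12 : Nat.card (alternatingGroup (Fin 4)) = 12 := by
      rw [nat_card_alternatingGroup, Nat.card_eq_fintype_card, Fintype.card_fin]; decide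
    rw [Nat.card_congr (ε.symm.trans e).toEquiv, h12] at hmH
    have hm3' : m = 3 := by
      have := Nat.le_of_dvd (by norm_num) hmH
      have : m ≤ 12 := by omega
      obtain ⟨i, hi⟩ := hmodd
      interval_cases m <;> omega
    refine alt_index_ne_two (D₀.map (ε.symm.trans e).toMonoidHom) ?_
    have h1 := (D₀.map (ε.symm.trans e).toMonoidHom).card_mul_index
    rw [Subgroup.card_map_of_injective (K := D₀) (ε.symm.trans e).injective, hD₀, h12, hm3'] at h1
    omega
  · -- S₄
    have h24 : Nat.card (Equiv.Perm (Fin 4)) = 24 := by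
      rw [Nat.card_perm, Nat.card_eq_fintype_card, Fintype.card_fin]; rfl
    rw [Nat.card_congr (ε.symm.trans e).toEquiv, h24] at hmH
    have hm3' : m = 3 := by
      have := Nat.le_of_dvd (by norm_num) hmH
      have : m ≤ 12 := by omega
      obtain ⟨i, hi⟩ := hmodd
      interval_cases m <;> omega
    refine hnofix (n := 4) le_rfl (by norm_num) ⊤ le_top (e.trans Subgroup.topEquiv.symm) fun σ hσ => ?_
    refine mem_zpowers_four ?_ hσ
    rw [Subgroup.orderOf_coe, MulEquiv.orderOf_eq, MulEquiv.orderOf_eq, hc₀, hm3']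
  · -- A₅
    have h60 : Nat.card (alternatingGroup (Fin 5)) = 60 := by
      rw [nat_card_alternatingGroup, Nat.card_eq_fintype_card, Fintype.card_fin]; decide
    have hH60 : Nat.card H = 60 := by rw [Nat.card_congr (ε.symm.trans e).toEquiv, h60]
    rw [hH60] at hmH
    have hmle := Nat.le_of_dvd (by norm_num) hmH
    obtain ⟨i, hi⟩ := id hmodd
    have : m ≤ 30 := by omega
    have hcases : m = 3 ∨ m = 5 ∨ m = 15 := by interval_cases m <;> omega
    rcases hcases with hm3' | hm5 | hm15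
    · -- then the field has five or seven elements
      have hL : 2 * Nat.card (DicksonPGL.L F) =
          Fintype.card F * ((Fintype.card F - 1) * (Fintype.card F + 1)) := by
        rw [DicksonPGL.natCard_L, ← DicksonCor.gcd_mul_natCard]
        obtain ⟨t, ht'⟩ := hodd
        rw [Nat.gcd_eq_left (Nat.dvd_of_mod_eq_zero (show (Fintype.card F - 1) % 2 = 0 by omega))]
      have hdvd : 60 ∣ Nat.card (DicksonPGL.L F) := hH60 ▸ Subgroup.card_dvd_of_le hHL
      rcases hm with h | h
      · rw [show Fintype.card F = 7 by omega] at hL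
        obtain ⟨j, hj⟩ := hdvd
        omega
      · rw [show Fintype.card F = 5 by omega] at hL
        omega
    · refine hnofix (n := 5) (by norm_num) (by norm_num) (alternatingGroup (Fin 5)) le_rfl e fun σ hσ => ?_
      refine mem_zpowers_five ?_ hσ
      rw [Subgroup.orderOf_coe, MulEquiv.orderOf_eq, MulEquiv.orderOf_eq, hc₀, hm5]
    · refine alt_index_ne_two (D₀.map (ε.symm.trans e).toMonoidHom) ?_
      have h1 := (D₀.map (ε.symm.trans e).toMonoidHom).card_mul_index
      rw [Subgroup.card_map_of_injective (K := D₀) (ε.symm.trans e).injective, hD₀, h60, hm15] at h1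
      omega
  · -- subfields
    have hPSLK := DicksonCor.gcd_mul_natCard (F := K)
    have hPG := DicksonCor.gcd_mul_natCard (F := F)
    set r := Fintype.card K with hr
    have hr2 : 1 < r := Fintype.one_lt_card
    have hk0 : k ≠ 0 := by rintro rfl; simp at hk; omega
    have hrodd : Odd r := (Nat.odd_pow_iff hk0).1 (hk ▸ hodd)
    have hgr : Nat.gcd 2 (r - 1) = 2 := by
      obtain ⟨t, ht'⟩ := hrodd
      exact Nat.gcd_eq_left (Nat.dvd_of_mod_eq_zero (by omega))
    have hgq : Nat.gcd 2 (Fintype.card F - 1) = 2 := by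
      obtain ⟨t, ht'⟩ := hodd
      exact Nat.gcd_eq_left (Nat.dvd_of_mod_eq_zero (by omega))
    rw [hgr] at hPSLK
    rw [hgq] at hPG
    have hHc : 2 * Nat.card H0 = r * ((r - 1) * (r + 1)) ∨ Nat.card H0 = r * ((r - 1) * (r + 1)) := by
      rcases he with ⟨⟨e⟩⟩ | ⟨⟨e⟩⟩
      · exact Or.inl (by rw [Nat.card_congr e.toEquiv]; exact hPSLK)
      · exact Or.inr (by rw [Nat.card_congr e.toEquiv, DicksonPGL.natCard_PP])
    rcases Nat.lt_or_ge k 2 with hk1 | hk2
    · obtain rfl : k = 1 := by omega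
      rw [pow_one] at hk
      rw [← hk] at hPG
      omega
    · have hdvd : 2 * m ∣ r * ((r - 1) * (r + 1)) := by
        rw [← Nat.card_congr ε.toEquiv] at hmH
        rcases hHc with h | h
        · exact h ▸ Dvd.dvd.mul_left hmH 2
        · exact h ▸ hmH
      have hcop : m.Coprime r := Nat.Coprime.coprime_mul_left
        (hpm.coprime_dvd_right (hk ▸ dvd_pow_self r hk0))
      have hm1 : m ∣ (r - 1) * (r + 1) := hcop.dvd_of_dvd_mul_left ((dvd_mul_left m 2).trans hdvd)
      have h8 : 8 ∣ (r - 1) * (r + 1) := by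
        obtain ⟨t, ht'⟩ := hrodd
        obtain ⟨s, hs⟩ := Nat.even_mul_succ_self t
        exact ⟨s, by rw [ht', show 2 * t + 1 - 1 = 2 * t by omega]; linear_combination 4 * hs⟩
      have h8m : 8 * m ∣ (r - 1) * (r + 1) := by
        refine Nat.Coprime.mul_dvd_of_dvd_of_dvd ?_ h8 hm1
        rw [show (8 : ℕ) = 2 ^ 3 by norm_num]
        exact Nat.Coprime.pow_left 3 (Nat.coprime_two_left.2 hmodd)
      have hpos : 0 < (r - 1) * (r + 1) := Nat.mul_pos (by omega) (by omega)
      have hle := Nat.le_of_dvd hpos h8m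
      have hr2q : r * r ≤ Fintype.card F := by
        rw [← hk, ← pow_two]
        exact Nat.pow_le_pow_right (by omega) hk2
      have hexp : (r - 1) * (r + 1) + 1 = r * r := by
        obtain ⟨t, ht'⟩ : ∃ t, r = t + 1 := ⟨r - 1, by omega⟩
        rw [ht', Nat.add_sub_cancel]
        ring
      omega
where
  normalizer_sup {G : Type u} [Group G] (A B : Subgroup G) {x : G}
      (hA : x ∈ Subgroup.normalizer (A : Set G)) (hB : x ∈ Subgroup.normalizer (B : Set G)) :
      x ∈ Subgroup.normalizer ((A ⊔ B : Subgroup G) : Set G) := by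
    have key : ∀ x : G, x ∈ Subgroup.normalizer (A : Set G) → x ∈ Subgroup.normalizer (B : Set G) →
        ∀ d ∈ A ⊔ B, x * d * x⁻¹ ∈ A ⊔ B := by
      intro x hA hB d hd
      have hle : (A ⊔ B).map (MulAut.conj x).toMonoidHom ≤ A ⊔ B := by
        rw [Subgroup.map_sup]
        exact sup_le_sup (by rintro _ ⟨a, ha, rfl⟩; exact (Subgroup.mem_normalizer_iff.1 hA a).1 ha)
          (by rintro _ ⟨a, ha, rfl⟩; exact (Subgroup.mem_normalizer_iff.1 hB a).1 ha)
      exact hle ⟨d, hd, rfl⟩
    refine Subgroup.mem_normalizer_iff.2 fun d => ⟨key x hA hB d, fun hd => ?_⟩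
    have := key x⁻¹ (inv_mem hA) (inv_mem hB) _ hd
    rwa [show x⁻¹ * (x * d * x⁻¹) * x⁻¹⁻¹ = d by group] at this
  normalizes_fixed {x w : PP} (hc : Commute x w) :
      x ∈ Subgroup.normalizer ((DicksonPGL.L F ⊓ Subgroup.centralizer {w} : Subgroup PP) : Set PP) := by
    refine Subgroup.mem_normalizer_iff.2 fun d => ?_
    rw [Subgroup.mem_inf, Subgroup.mem_inf, DicksonPGL.mem_L_iff_conj,
      Subgroup.mem_centralizer_singleton_iff, Subgroup.mem_centralizer_singleton_iff]
    refine and_congr_right fun _ => ⟨fun hd => ?_, fun hd => ?_⟩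
    · exact ((hc.mul_left (show Commute d w from hd)).mul_left hc.inv_left).eq
    · have h1 := ((hc.inv_left.mul_left (show Commute (x * d * x⁻¹) w from hd)).mul_left hc).eq
      rwa [show x⁻¹ * (x * d * x⁻¹) * x = d by group] at h1

end Cfsg.Agent.GW.Cons
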