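import Cfsg.Agent.Lib.GW.ConsPSLInvolution
import Cfsg.Agent.Lib.GW.ConsPSLGenerate

/-!
Four-groups acting on simple groups with dihedral Sylow 2-subgroups, from Gorenstein–Walter.
-/

set_option autoImplicit false

namespace Cfsg.Agent.GW.Cons

open Cfsg.Agent.Forms Cfsg.Agent.AutPSL.Basic
open scoped MatrixGroups

universe u v

theorem noFour_congr {A : Type u} [Group A] {B : Type v} [Group B] (e : A ≃* B) {α : MulAut A}
    (h : NoFour α) : NoFour (MulAut.congr e α) := by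
  intro x y hx hy hne hc hfx hfy
  refine h (e.symm x) (e.symm y) (by rw [MulEquiv.orderOf_eq, hx]) (by rw [MulEquiv.orderOf_eq, hy])
    (e.symm.injective.ne hne) (hc.map e.symm.toMonoidHom) ?_ ?_
  · exact e.injective (by simpa [MulAut.congr] using hfx)
  · exact e.injective (by simpa [MulAut.congr] using hfy)

/-- An element of order at most two of a group with dihedral Sylow 2-subgroups centralises a four-group. -/
theorem dihedral_four {L : Type u} [Group L] [Finite L] (P : Sylow 2 L) {n : ℕ} (hn : 2 ≤ n)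
    (e : (P : Subgroup L) ≃* DihedralGroup n) {x : L} (hx : x * x = 1) :
    ∃ u v : L, orderOf u = 2 ∧ orderOf v = 2 ∧ u ≠ v ∧ Commute u v ∧ Commute x u ∧ Commute x v := by
  have : Fact (Nat.Prime 2) := ⟨Nat.prime_two⟩
  have h2 := Involutions.DihedralSylow.two_dvd P e hn
  have hn0 : n ≠ 0 := by omega
  obtain ⟨g, hg⟩ := Involutions.DihedralSylow.exists_conj_mem P x (by
    rcases eq_or_ne x 1 with rfl | h1
    · exact ⟨0, by simp⟩
    · exact ⟨1, by rw [pow_one]; exact orderOf_eq_prime (by rw [pow_two, hx]) h1⟩)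
  set t := g * x * g⁻¹ with ht
  have htt : t * t = 1 := by
    rw [ht, show g * x * g⁻¹ * (g * x * g⁻¹) = g * (x * x) * g⁻¹ by group, hx]; group
  obtain ⟨i, hi⟩ : ∃ i, t ∈ Involutions.DihedralSylow.four P e h2 i := by
    rcases Involutions.DihedralSylow.exists_mem_four P e h2 hn0 hg htt with h | h | ⟨i, h⟩
    · exact ⟨0, (Involutions.DihedralSylow.mem_four P e h2 0).2 (Or.inl h)⟩
    · exact ⟨0, (Involutions.DihedralSylow.mem_four P e h2 0).2 (Or.inr (Or.inl h))⟩
    · exact ⟨i, (Involutions.DihedralSylow.mem_four P e h2 i).2 (Or.inr (Or.inr (Or.inl h)))⟩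
  set U := Involutions.DihedralSylow.four P e h2 i
  have hU : IsKleinFour U := Involutions.DihedralSylow.four_isKleinFour P e h2 hn0 i
  set u := Involutions.DihedralSylow.z P e
  set v := Involutions.DihedralSylow.refl P e i
  have huU : u ∈ U := (Involutions.DihedralSylow.mem_four P e h2 i).2 (Or.inr (Or.inl rfl))
  have hvU : v ∈ U := (Involutions.DihedralSylow.mem_four P e h2 i).2 (Or.inr (Or.inr (Or.inl rfl)))
  have hcomm : ∀ a ∈ U, ∀ b ∈ U, Commute a b := fun a ha b hb => congrArg Subtype.val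
    (mul_comm_of_exponent_two hU.exponent_two (⟨a, ha⟩ : U) ⟨b, hb⟩)
  have hu : orderOf u = 2 := Involutions.DihedralSylow.orderOf_z P e h2 hn0
  have hv : orderOf v = 2 := by
    rw [show v = ((e.symm (DihedralGroup.sr i) : (P : Subgroup L)) : L) from rfl, Subgroup.orderOf_coe,
      MulEquiv.orderOf_eq, DihedralGroup.orderOf_sr]
  have hne : u ≠ v := fun h => by
    have := e.symm.injective (Subtype.ext h)
    simp at this
  set γ := MulAut.conj g⁻¹
  have hγt : γ t = x := by rw [MulAut.conj_apply, ht]; group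
  refine ⟨γ u, γ v, by rw [MulEquiv.orderOf_eq, hu], by rw [MulEquiv.orderOf_eq, hv], γ.injective.ne hne,
    (hcomm u huU v hvU).map γ.toMonoidHom, ?_, ?_⟩
  · rw [← hγt]; exact (hcomm t hi u huU).map γ.toMonoidHom
  · rw [← hγt]; exact (hcomm t hi v hvU).map γ.toMonoidHom

/-- The projective action of `gAut`. -/
theorem toPGL_gAut {F : Type u} [Field F] (g : GL (Fin 2) F)
    (x : Matrix.ProjectiveSpecialLinearGroup (Fin 2) F) :
    Matrix.ProjectiveSpecialLinearGroup.toPGL (gAut g x) = Matrix.ProjGenLinGroup.mk g *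
      Matrix.ProjectiveSpecialLinearGroup.toPGL x * (Matrix.ProjGenLinGroup.mk g)⁻¹ := by
  induction x using QuotientGroup.induction_on with
  | _ x =>
    show Matrix.ProjGenLinGroup.mk (Matrix.SpecialLinearGroup.toGL (conjSL g x)) =
      Matrix.ProjGenLinGroup.mk g * Matrix.ProjGenLinGroup.mk (Matrix.SpecialLinearGroup.toGL x) *
        (Matrix.ProjGenLinGroup.mk g)⁻¹
    rw [← map_inv, ← map_mul, ← map_mul]
    exact congrArg _ (Units.ext rfl)

theorem gAut_fix_iff {F : Type u} [Field F] (g : GL (Fin 2) F)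
    (x : Matrix.ProjectiveSpecialLinearGroup (Fin 2) F) :
    gAut g x = x ↔ Matrix.ProjectiveSpecialLinearGroup.toPGL x ∈
      Subgroup.centralizer {Matrix.ProjGenLinGroup.mk g} := by
  rw [Subgroup.mem_centralizer_singleton_iff, ← Matrix.ProjectiveSpecialLinearGroup.toPGL_injective.eq_iff,
    toPGL_gAut, mul_inv_eq_iff_eq_mul, eq_comm]

/-- A cyclic Sylow 2-subgroup leaves no room for a four-group. -/
theorem noFour_of_cyclic {C : Type u} [Group C] [Finite C] (h : ∀ R : Sylow 2 C, IsCyclic R) {x y : C}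
    (hx : orderOf x = 2) (hy : orderOf y = 2) (hne : x ≠ y) (hc : Commute x y) : False := by
  have hU := (Involutions.TwoGroups.four_group hx hy hc hne).1
  obtain ⟨R, hR⟩ := (IsPGroup.of_card (p := 2) (n := 2) hU.card_four).exists_le_sylow
  have := h R
  have hUc : IsCyclic (Subgroup.closure ({x, y} : Set C)) := Subgroup.isCyclic_of_le hR
  exact IsKleinFour.not_isCyclic hUc

/-- The statement S1916, from Gorenstein–Walter. -/
theorem four_group_product_centralizes (hGW : PerfectGW.{u}) {G : Type u} [Group G] [Finite G]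
    (L : Subgroup G) (hL : IsSimpleGroup L) (hLn : ¬ IsMulCommutative L)
    (hD : ∀ P : Sylow 2 L, ∃ n : ℕ, Nonempty (↥(P : Subgroup L) ≃* DihedralGroup n))
    (a b : G) (ha : orderOf a = 2) (hb : orderOf b = 2) (hc : a * b = b * a)
    (haL : a ∈ Subgroup.normalizer (L : Set G)) (hbL : b ∈ Subgroup.normalizer (L : Set G))
    (hCa : ∀ R : Sylow 2 ↥(L ⊓ Subgroup.centralizer ({a} : Set G)), IsCyclic R)
    (hCb : ∀ R : Sylow 2 ↥(L ⊓ Subgroup.centralizer ({b} : Set G)), IsCyclic R)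
    (hgen : ¬ L ≤ Subgroup.closure ({a, b} : Set G) ⊔ (L ⊓ Subgroup.centralizer ({a} : Set G)) ⊔
      (L ⊓ Subgroup.centralizer ({b} : Set G))) :
    a * b ∈ Subgroup.centralizer (L : Set G) := by
  have : Fact (Nat.Prime 2) := ⟨Nat.prime_two⟩
  have hperf : Group.IsPerfect L := ⟨(hL.eq_bot_or_eq_top_of_normal _ inferInstance).resolve_left
    fun hbot => hLn ⟨⟨fun x y => commutatorElement_eq_one_iff_mul_comm.1 (Subgroup.mem_bot.1 (hbot ▸
      Subgroup.commutator_mem_commutator (Subgroup.mem_top x) (Subgroup.mem_top y)))⟩⟩⟩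
  obtain ⟨P⟩ := (inferInstance : Nonempty (Sylow 2 L))
  obtain ⟨n, ⟨eP⟩⟩ := hD P
  have hPc : Nat.card (P : Subgroup L) = 2 * n := by rw [Nat.card_congr eP.toEquiv, DihedralGroup.nat_card]
  have hn0 : n ≠ 0 := fun h => by
    rw [h, mul_zero] at hPc
    exact Nat.card_pos.ne' hPc
  have heven : Even (Nat.card L) := even_iff_two_dvd.2
    (Dvd.dvd.trans ⟨n, hPc⟩ (Subgroup.card_subgroup_dvd_card _))
  have hn : 2 ≤ n := by
    by_contra h
    exact not_cyclic_of_perfect hperf heven P (isCyclic_of_prime_card (p := 2) (by omega))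
  have hO : Cfsg.oddCore L = ⊥ := (hL.eq_bot_or_eq_top_of_normal _
    (show (Cfsg.oddCore L).Normal from inferInstanceAs (Cfsg.pPrimeCore 2 L).Normal)).resolve_right
    fun h => Nat.not_even_iff_odd.2 (Cores.oddCore_odd (G := L)) (by rw [h, Subgroup.card_top]; exact heven)
  let eO : L ≃* L ⧸ Cfsg.oddCore L :=
    ((QuotientGroup.quotientMulEquivOfEq hO).trans QuotientGroup.quotientBot).symm
  set ψ := L.normalizerMonoidHom with hψ
  set α := ψ ⟨a, haL⟩
  set β := ψ ⟨b, hbL⟩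
  have hsq : ∀ {c : G} (hcL : c ∈ Subgroup.normalizer (L : Set G)), orderOf c = 2 →
      ψ ⟨c, hcL⟩ * ψ ⟨c, hcL⟩ = 1 := by
    intro c hcL hc2
    rw [← map_mul, show (⟨c, hcL⟩ : Subgroup.normalizer (L : Set G)) * ⟨c, hcL⟩ = 1 from
      Subtype.ext (Involutions.Basic.inv_sq_one hc2), map_one]
  have hcomm : Commute α β := by
    show ψ _ * ψ _ = ψ _ * ψ _
    rw [← map_mul, ← map_mul]
    exact congrArg ψ (Subtype.ext hc)
  have hfix : ∀ {c : G} (hcL : c ∈ Subgroup.normalizer (L : Set G)) (x : L),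
      ψ ⟨c, hcL⟩ x = x ↔ (x : G) ∈ Subgroup.centralizer ({c} : Set G) := by
    intro c hcL x
    rw [Subgroup.mem_centralizer_singleton_iff, Subtype.ext_iff]
    show c * (x : G) * c⁻¹ = x ↔ _
    rw [mul_inv_eq_iff_eq_mul, eq_comm]
  have hno : ∀ {c : G} (hcL : c ∈ Subgroup.normalizer (L : Set G)),
      (∀ R : Sylow 2 ↥(L ⊓ Subgroup.centralizer ({c} : Set G)), IsCyclic R) → NoFour (ψ ⟨c, hcL⟩) := by
    intro c hcL hR x y hx hy hne hxy hfx hfy
    refine noFour_of_cyclic hR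
      (x := ⟨x, Subgroup.mem_inf.2 ⟨x.2, (hfix hcL x).1 hfx⟩⟩)
      (y := ⟨y, Subgroup.mem_inf.2 ⟨y.2, (hfix hcL y).1 hfy⟩⟩)
      ?_ ?_ ?_ ?_
    · rw [Subgroup.orderOf_mk, Subgroup.orderOf_coe, hx]
    · rw [Subgroup.orderOf_mk, Subgroup.orderOf_coe, hy]
    · exact fun h => hne (Subtype.ext (Subtype.mk.inj h))
    · exact Subtype.ext (show (x : G) * y = y * x from congrArg Subtype.val hxy.eq)
  have hout : ∀ {γ : MulAut L}, γ * γ = 1 → NoFour γ → ∀ x : L, γ ≠ MulAut.conj x := by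
    intro γ hγ hN x hx
    have hxx : x * x = 1 := by
      have hcen : x * x ∈ Subgroup.center L := by
        have h1 : MulAut.conj (x * x) = 1 := by rw [map_mul, ← hx, hγ]
        refine Subgroup.mem_center_iff.2 fun y => ?_
        have h2 := congrArg (fun f : MulAut L => f y) h1
        simp only [MulAut.conj_apply, MulAut.one_apply] at h2
        exact (mul_inv_eq_iff_eq_mul.1 h2).symm
      rw [(hL.eq_bot_or_eq_top_of_normal (Subgroup.center L) inferInstance).resolve_right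
        (fun h => hLn ⟨⟨fun p q => (Subgroup.mem_center_iff.1 (h ▸ Subgroup.mem_top q) p)⟩⟩)] at hcen
      exact Subgroup.mem_bot.1 hcen
    obtain ⟨p, q, hp, hq, hpq, hcpq, hxp, hxq⟩ := dihedral_four P hn eP hxx
    refine hN p q hp hq hpq hcpq ?_ ?_ <;> rw [hx, MulAut.conj_apply, mul_inv_eq_iff_eq_mul]
    · exact hxp
    · exact hxq
  suffices hαβ : α = β by
    have h1 : ψ (⟨a, haL⟩ * ⟨b, hbL⟩) = 1 := by
      rw [map_mul, show ψ ⟨b, hbL⟩ = ψ ⟨a, haL⟩ from hαβ.symm, hsq haL ha]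
    refine Subgroup.mem_centralizer_iff.2 fun x hx => ?_
    have h2 := congrArg (fun f : MulAut L => ((f ⟨x, hx⟩ : L) : G)) h1
    change a * b * x * (a * b)⁻¹ = x at h2
    exact (mul_inv_eq_iff_eq_mul.1 h2).symm
  rcases hGW P n hn ⟨eP⟩ with ⟨F, iF, iT, hodd, h3, ⟨f⟩⟩ | hf
  swap
  · exfalso
    obtain ⟨f⟩ := hf
    set e := eO.trans f
    obtain ⟨σ, hσ⟩ := (S2119.result 7 (by norm_num) (by norm_num)).2 (MulAut.congr e α)
    have hσσ : σ * σ = 1 := (S2119.result 7 (by norm_num) (by norm_num)).1 (by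
      rw [map_mul, hσ, ← map_mul, hsq haL ha, map_one, map_one])
    obtain ⟨p, q, hpA, hqA, hp, hq, hpq, hcpq, hσp, hσq⟩ := alt_seven_four hσσ
    refine noFour_congr e (hno haL hCa) ⟨p, hpA⟩ ⟨q, hqA⟩ (by rw [Subgroup.orderOf_mk, hp])
      (by rw [Subgroup.orderOf_mk, hq]) (fun h => hpq (Subtype.mk.inj h)) (Subtype.ext hcpq.eq) ?_ ?_
    · rw [← hσ]
      exact Subtype.ext (by rw [MulAut.conjNormal_apply]; exact mul_inv_eq_iff_eq_mul.2 hσp.eq)
    · rw [← hσ]
      exact Subtype.ext (by rw [MulAut.conjNormal_apply]; exact mul_inv_eq_iff_eq_mul.2 hσq.eq)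
  set e := eO.trans f
  set c := MulAut.congr e
  have h2 : (2 : F) ≠ 0 := Classical.SylowSL2.two_ne_zero_of_odd hodd
  have hform : ∀ {γ : MulAut L}, γ * γ = 1 → NoFour γ →
      ∃ g : GL (Fin 2) F, c γ = gAut g ∧ ¬ IsSquare (g : Matrix (Fin 2) (Fin 2) F).det ∧
        (g : Matrix (Fin 2) (Fin 2) F).trace = 0 := fun {γ} hγ hN =>
    outer_form h2 (c γ) (by rw [← map_mul, hγ, map_one]) (noFour_congr e hN) fun x hx => by
      refine hout hγ hN (e.symm x) (MulEquiv.ext fun y => e.injective ?_)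
      have h := congrArg (fun f : MulAut _ => f (e y)) hx
      simp only [MulAut.conj_apply] at h ⊢
      rw [map_mul, map_mul, map_inv, e.apply_symm_apply]
      simpa [c, MulAut.congr] using h
  obtain ⟨g, hg, hdg, htg⟩ := hform (hsq haL ha) (hno haL hCa)
  obtain ⟨h, hh, hdh, hth⟩ := hform (hsq hbL hb) (hno hbL hCb)
  by_contra hne
  refine hgen ?_
  have hmk : Matrix.ProjGenLinGroup.mk g ≠ Matrix.ProjGenLinGroup.mk h := fun hm => hne <| by
    obtain ⟨r, -, hr⟩ := smul_of_mk_eq hm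
    exact c.injective (hg.trans ((NormEq.Outer.gAut_eq_iff.2 ⟨r, hr⟩).trans hh.symm))
  have hmc : Commute (Matrix.ProjGenLinGroup.mk g) (Matrix.ProjGenLinGroup.mk h) := by
    have h1 : (gAut (g * h) : MulAut (Matrix.ProjectiveSpecialLinearGroup (Fin 2) F)) = gAut (h * g) := by
      rw [map_mul, map_mul, ← hg, ← hh]
      exact (hcomm.map c.toMonoidHom).eq
    obtain ⟨r, hr⟩ := NormEq.Outer.gAut_eq_iff.1 h1
    have hr0 : r ≠ 0 := fun e0 => Units.ne_zero (h * g) (by rw [hr, e0, zero_smul])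
    show _ * _ = _ * _
    rw [← map_mul, ← map_mul]
    exact mk_eq_of_smul hr0 hr
  let Φ : L →* Matrix.ProjGenLinGroup (Fin 2) F :=
    Matrix.ProjectiveSpecialLinearGroup.toPGL.comp e.toMonoidHom
  have hΦ : Function.Injective Φ :=
    Matrix.ProjectiveSpecialLinearGroup.toPGL_injective.comp e.injective
  have hΦr : Φ.range = DicksonPGL.L F := by
    rw [MonoidHom.range_comp, MonoidHom.range_eq_top.2 e.surjective]
    exact (MonoidHom.range_eq_map _).symm
  have hmap : ∀ {γ : MulAut L} {k : GL (Fin 2) F}, c γ = gAut k → ∀ x : L,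
      γ x = x ↔ Φ x ∈ Subgroup.centralizer {Matrix.ProjGenLinGroup.mk k} := by
    intro γ k hk x
    rw [show Φ x = Matrix.ProjectiveSpecialLinearGroup.toPGL (e x) from rfl, ← gAut_fix_iff, ← hk]
    simp [c, MulAut.congr]
  have hside : ∀ {d : G} (hdL : d ∈ Subgroup.normalizer (L : Set G)) {k : GL (Fin 2) F},
      c (ψ ⟨d, hdL⟩) = gAut k → ((L ⊓ Subgroup.centralizer ({d} : Set G)).subgroupOf L).map Φ =
        DicksonPGL.L F ⊓ Subgroup.centralizer {Matrix.ProjGenLinGroup.mk k} := by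
    intro d hdL k hk
    refine le_antisymm ?_ ?_
    · rintro _ ⟨x, hx, rfl⟩
      exact ⟨hΦr ▸ ⟨x, rfl⟩, (hmap hk x).1 ((hfix hdL x).2 (Subgroup.mem_subgroupOf.1 hx).2)⟩
    · rintro y ⟨hyL, hyC⟩
      obtain ⟨x, rfl⟩ : y ∈ Φ.range := hΦr.symm ▸ hyL
      exact ⟨x, Subgroup.mem_subgroupOf.2 ⟨x.2, (hfix hdL x).1 ((hmap hk x).2 hyC)⟩, rfl⟩
  have hnoIn : ∀ {γ : MulAut L} {k : GL (Fin 2) F}, c γ = gAut k → NoFour γ →
      NoFourIn (DicksonPGL.L F ⊓ Subgroup.centralizer {Matrix.ProjGenLinGroup.mk k}) := by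
    intro γ k hk hN p hp q hq hop hoq hpq hcpq
    obtain ⟨x, rfl⟩ : p ∈ Φ.range := hΦr.symm ▸ hp.1
    obtain ⟨y, rfl⟩ : q ∈ Φ.range := hΦr.symm ▸ hq.1
    refine hN x y (by rw [← orderOf_injective Φ hΦ, hop]) (by rw [← orderOf_injective Φ hΦ, hoq])
      (fun h => hpq (by rw [h])) (hΦ ?_) ((hmap hk x).2 hp.2) ((hmap hk y).2 hq.2)
    rw [map_mul, map_mul]
    exact hcpq.eq
  have htop := generate hodd h3 hdg htg hdh hth hmk hmc (hnoIn hg (hno haL hCa)) (hnoIn hh (hno hbL hCb))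
  rw [← hside haL hg, ← hside hbL hh, ← Subgroup.map_sup, ← hΦr, MonoidHom.range_eq_map] at htop
  have heq := Subgroup.map_injective hΦ htop
  have hL' := congrArg (Subgroup.map L.subtype) heq
  rw [Subgroup.map_sup, Subgroup.subgroupOf_map_subtype, Subgroup.subgroupOf_map_subtype,
    ← MonoidHom.range_eq_map, Subgroup.range_subtype] at hL'
  refine hL'.ge.trans (sup_le_sup ?_ inf_le_left)
  exact inf_le_left.trans le_sup_right

end Cfsg.Agent.GW.Cons
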