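import Cfsg.Prelude.Def_EvenType
import Cfsg.Prelude.Def_Amalgam
import Cfsg.Agent.Lib.Cores.Basic
import Cfsg.Agent.S0016
import Mathlib.NumberTheory.Basic

/-!
Groups generated by their p-elements with cyclic Sylow p-subgroups.
-/

set_option autoImplicit false

namespace Cfsg.Agent.GW.Cons

open Subgroup
open scoped Pointwise

universe u

variable {G : Type u} [Group G] [Finite G] {p : ℕ} [Fact p.Prime]

/-- A p-group of rank one is cyclic or, for `p = 2`, quaternion. -/
theorem cyclic_or_quaternion_of_rank {P : Type u} [Group P] [Finite P] (hP : IsPGroup p P)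
    (h1 : Cfsg.PRankLE p 1 P) :
    IsCyclic P ∨ (p = 2 ∧ ∃ n : ℕ, Nonempty (P ≃* QuaternionGroup (2 ^ n))) := by
  by_cases hbot : ∀ H : Subgroup P, Nat.card H ≠ p
  · exact S0016.result p hP fun H _ hH _ => absurd hH (hbot H)
  push Not at hbot
  obtain ⟨H₀, hH₀⟩ := hbot
  have hp := (Fact.out : p.Prime)
  have : Nontrivial P := by
    have h := Subgroup.card_subgroup_dvd_card H₀
    rw [hH₀] at h
    by_contra hn
    rw [not_nontrivial_iff_subsingleton] at hn
    rw [Nat.card_of_subsingleton (1 : P), Nat.dvd_one] at h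
    exact hp.ne_one h
  have := hP.center_nontrivial
  have hpc : p ∣ Nat.card (center P) := by
    obtain ⟨k, hk⟩ := (hP.to_subgroup (center P)).exists_card_eq
    have h : 1 < Nat.card (center P) := Finite.one_lt_card
    rw [hk] at h ⊢
    exact dvd_pow_self p (by rintro rfl; simp at h)
  obtain ⟨z, hz⟩ := exists_prime_orderOf_dvd_card' p hpc
  rw [← Subgroup.orderOf_coe] at hz
  have key : ∀ L : Subgroup P, Nat.card L = p → L = zpowers (z : P) := by
    intro L hL
    obtain ⟨y, hy⟩ := exists_prime_orderOf_dvd_card' (G := L) p (by rw [hL])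
    rw [← Subgroup.orderOf_coe] at hy
    set W := closure ({(z : P), (y : P)} : Set P) with hW
    have hcomm : Commute (z : P) (y : P) := (mem_center_iff.1 z.2 y).symm
    have hc : ∀ a ∈ ({(z : P), (y : P)} : Set P), ∀ b ∈ ({(z : P), (y : P)} : Set P), a * b = b * a := by
      rintro a (rfl | rfl) b (rfl | rfl)
      exacts [rfl, hcomm.eq, hcomm.eq.symm, rfl]
    have : IsMulCommutative W := Subgroup.isMulCommutative_closure hc
    have hpow : ∀ a ∈ W, a ^ p = 1 := by
      intro a ha
      induction ha using closure_induction with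
      | mem a ha =>
        rcases ha with rfl | rfl
        · rw [← hz, pow_orderOf_eq_one]
        · rw [← hy, pow_orderOf_eq_one]
      | one => simp
      | mul a b ha hb iha ihb =>
        have hab : Commute a b :=
          congrArg Subtype.val (IsMulCommutative.is_comm.comm (⟨a, ha⟩ : W) ⟨b, hb⟩)
        rw [hab.mul_pow, iha, ihb, one_mul]
      | inv a _ ih => rw [inv_pow, ih, inv_one]
    have hWle := h1 W this hpow
    rw [pow_one] at hWle
    have hzW : zpowers (z : P) = W := Subgroup.eq_of_le_of_card_ge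
      (zpowers_le.2 (subset_closure (by simp))) (by rw [Nat.card_zpowers, hz]; exact hWle)
    have hyz : (y : P) ∈ zpowers (z : P) := hzW ▸ subset_closure (by simp)
    have hL' : zpowers (y : P) = L := Subgroup.eq_of_le_of_card_ge (zpowers_le.2 y.2)
      (by rw [Nat.card_zpowers, hy, hL])
    rw [← hL']
    exact Subgroup.eq_of_le_of_card_ge (zpowers_le.2 hyz) (by rw [Nat.card_zpowers, Nat.card_zpowers, hy, hz])
  exact S0016.result p hP fun H K hH hK => by rw [key H hH, key K hK]

omit [Finite G] [Fact p.Prime] in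
/-- If conjugation induces `s ↦ s ^ a` with `a ≡ 1 (mod p)`, a p-power of it is trivial. -/
theorem commute_of_mod {s h : G} {k : ℕ} (hs : s ^ p ^ k = 1) {a : ℤ} (ha : h * s * h⁻¹ = s ^ a)
    (hdvd : (p : ℤ) ∣ a - 1) : h ^ p ^ k * s = s * h ^ p ^ k := by
  have hm : ∀ m : ℕ, h ^ m * s * (h ^ m)⁻¹ = s ^ (a ^ m) := by
    intro m
    induction m with
    | zero => simp
    | succ m ih =>
      calc h ^ (m + 1) * s * (h ^ (m + 1))⁻¹ = h * (h ^ m * s * (h ^ m)⁻¹) * h⁻¹ := by
            rw [pow_succ']; group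
        _ = (h * s * h⁻¹) ^ (a ^ m) := by rw [ih, conj_zpow]
        _ = s ^ (a ^ (m + 1)) := by rw [ha, ← zpow_mul, pow_succ']
  obtain ⟨c, hc⟩ := (pow_dvd_pow (p : ℤ) (Nat.le_succ k)).trans
    (dvd_sub_pow_of_dvd_sub hdvd k)
  rw [one_pow] at hc
  have h1 := hm (p ^ k)
  rw [show a ^ (p ^ k) = ((p : ℤ) ^ k) * c + 1 by rw [← hc]; ring, zpow_add, zpow_mul, zpow_one,
    show s ^ ((p : ℤ) ^ k) = 1 by rw [← Nat.cast_pow, zpow_natCast, hs], one_zpow, one_mul] at h1
  exact mul_inv_eq_iff_eq_mul.1 h1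

/-- An element normalising an abelian Sylow subgroup centralises it if a p-power of it does. -/
theorem mem_centralizer_of_pow (P : Sylow p G) [IsMulCommutative (P : Subgroup G)] {h : G}
    (hh : h ∈ normalizer ((P : Subgroup G) : Set G)) {k : ℕ}
    (hk : h ^ p ^ k ∈ centralizer ((P : Subgroup G) : Set G)) :
    h ∈ centralizer ((P : Subgroup G) : Set G) := by
  set N := normalizer ((P : Subgroup G) : Set G)
  have : ((centralizer ((P : Subgroup G) : Set G)).subgroupOf N).Normal := by
    rw [← Subgroup.normalizerMonoidHom_ker]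
    infer_instance
  set d := ((centralizer ((P : Subgroup G) : Set G)).subgroupOf N).index with hd
  have hpd : ¬ p ∣ d := by
    intro hpd
    refine (P.subtype Subgroup.le_normalizer).not_dvd_index (hpd.trans (Subgroup.index_dvd_of_le ?_))
    intro x hx
    exact Subgroup.le_centralizer ((P : Subgroup G)) hx
  have hhd : h ^ d ∈ centralizer ((P : Subgroup G) : Set G) :=
    Subgroup.pow_index_mem ((centralizer ((P : Subgroup G) : Set G)).subgroupOf N) ⟨h, hh⟩
  obtain ⟨x, y, hxy⟩ : IsCoprime ((p ^ k : ℕ) : ℤ) (d : ℤ) :=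
    Nat.isCoprime_iff_coprime.2 (((Nat.Prime.coprime_iff_not_dvd Fact.out).2 hpd).pow_left k)
  have : h = (h ^ p ^ k) ^ x * (h ^ d) ^ y := by
    rw [← zpow_natCast h (p ^ k), ← zpow_natCast h d, ← zpow_mul, ← zpow_mul, ← zpow_add,
      mul_comm _ x, mul_comm _ y, hxy, zpow_one]
  rw [this]
  exact mul_mem (zpow_mem hk x) (zpow_mem hhd y)

/-- A normaliser element trivial on a nontrivial section of a cyclic Sylow subgroup centralises it. -/
theorem centralizes_of_section (P : Sylow p G) [IsCyclic (P : Subgroup G)] {h : G}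
    (hh : h ∈ normalizer ((P : Subgroup G) : Set G))
    (hsec : (∃ P0 : Subgroup G, P0 < (P : Subgroup G) ∧ ∀ s ∈ (P : Subgroup G), h * s * h⁻¹ * s⁻¹ ∈ P0) ∨
      ∃ y ∈ (P : Subgroup G), y ≠ 1 ∧ h * y = y * h) :
    h ∈ centralizer ((P : Subgroup G) : Set G) := by
  have : IsMulCommutative (P : Subgroup G) := IsCyclic.isMulCommutative
  obtain ⟨⟨s, hsP⟩, hgen⟩ := IsCyclic.exists_generator (α := (P : Subgroup G))
  have hgen' : ∀ x ∈ (P : Subgroup G), x ∈ zpowers s := fun x hx => by
    obtain ⟨i, hi⟩ := hgen ⟨x, hx⟩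
    exact ⟨i, congrArg Subtype.val hi⟩
  obtain ⟨k, hk⟩ := P.isPGroup' ⟨s, hsP⟩
  have hsk : s ^ p ^ k = 1 := congrArg Subtype.val hk
  obtain ⟨a, ha⟩ := hgen' _ ((Subgroup.mem_normalizer_iff.1 hh s).1 hsP)
  refine mem_centralizer_of_pow P hh (k := k) ?_
  have hdvd : (p : ℤ) ∣ a - 1 := by
    by_contra hnd
    obtain ⟨u', v, huv⟩ : IsCoprime (a - 1) ((p ^ k : ℕ) : ℤ) := by
      rw [Nat.cast_pow]
      exact ((Nat.prime_iff_prime_int.1 Fact.out).coprime_iff_not_dvd.2 hnd).symm.pow_right
    have hone : ∀ x ∈ (P : Subgroup G), x = (x ^ (a - 1)) ^ u' := by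
      intro x hx
      obtain ⟨i, hi⟩ := hgen' x hx
      have hxk : x ^ ((p ^ k : ℕ) : ℤ) = 1 := by
        rw [← hi]
        show (s ^ i) ^ ((p ^ k : ℕ) : ℤ) = 1
        rw [← zpow_mul, mul_comm, zpow_mul, zpow_natCast, hsk, one_zpow]
      conv_lhs => rw [← zpow_one x, ← huv, zpow_add, mul_comm v, zpow_mul x (_ : ℤ) v, hxk, one_zpow,
        mul_one, mul_comm, zpow_mul]
    rcases hsec with ⟨P0, hP0, hsec⟩ | ⟨y, hy, hy1, hcy⟩
    · refine hP0.not_ge fun x hx => ?_
      obtain ⟨i, rfl⟩ := hgen' x hx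
      refine zpow_mem ?_ i
      rw [hone s hsP]
      refine zpow_mem ?_ u'
      have h1 := hsec s hsP
      rwa [← show s ^ a = h * s * h⁻¹ from ha, ← zpow_sub_one] at h1
    · refine hy1 ?_
      rw [hone y hy]
      obtain ⟨i, rfl⟩ := hgen' y hy
      have h1 : (s ^ a) ^ i = s ^ i := by
        rw [show s ^ a = h * s * h⁻¹ from ha, conj_zpow]
        exact mul_inv_eq_iff_eq_mul.2 hcy
      have : (s ^ i) ^ (a - 1) = 1 := by
        rw [zpow_sub_one, ← zpow_mul, mul_comm, zpow_mul, h1, mul_inv_cancel]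
      show ((s ^ i) ^ (a - 1)) ^ u' = 1
      rw [this, one_zpow]
  refine mem_centralizer_iff.2 fun x hx => ?_
  obtain ⟨i, rfl⟩ := hgen' x hx
  exact (Commute.zpow_left (commute_of_mod hsk (show h * s * h⁻¹ = s ^ a from ha.symm) hdvd).symm i)

/-- A normal subgroup without nontrivial `p'`-core and with Sylow normaliser centralising is a p-group. -/
theorem eq_sylow_of_centralized (N : Subgroup G) [N.Normal] (hO : Cfsg.pPrimeCore p G = ⊥)
    (R : Sylow p N) (h : normalizer ((R : Subgroup N) : Set N) ≤ centralizer ((R : Subgroup N) : Set N)) :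
    (R : Subgroup N) = ⊤ := by
  have hcomp := MonoidHom.ker_transferSylow_isComplement' R h
  set K := (MonoidHom.transferSylow R h).ker with hK
  have hKcop : (Nat.card K).Coprime p := by
    rw [← hcomp.index_eq_card]
    exact ((Nat.Prime.coprime_iff_not_dvd Fact.out).2 R.not_dvd_index).symm
  have hKbot : K = ⊥ := by
    rw [← Subgroup.map_eq_bot_iff_of_injective _ N.subtype_injective, eq_bot_iff, ← hO]
    exact (Subgroup.map_mono (Cores.le_pPrimeCore hKcop)).trans (Cores.map_pPrimeCore_subtype_le p N)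
  rw [hKbot, Subgroup.isComplement'_bot_left] at hcomp
  exact hcomp

/-- A normal subgroup containing a Sylow p-subgroup contains all p-elements. -/
theorem eq_top_of_sylow_le (hgen : Cfsg.pElementClosure p (⊤ : Subgroup G) = ⊤) (P : Sylow p G)
    (N : Subgroup G) [N.Normal] (hPN : (P : Subgroup G) ≤ N) : N = ⊤ := by
  rw [eq_top_iff, ← hgen, Cfsg.pElementClosure, Subgroup.closure_le]
  rintro x ⟨-, k, hk⟩
  have hx : IsPGroup p (zpowers x) := IsPGroup.of_card (by rw [Nat.card_zpowers, hk])
  obtain ⟨R, hR⟩ := hx.exists_le_sylow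
  obtain ⟨g, hg⟩ := MulAction.exists_smul_eq G P R
  have hxR := hR (mem_zpowers x)
  rw [← hg] at hxR
  obtain ⟨y, hy, he⟩ := hxR
  rw [← he]
  exact (inferInstance : N.Normal).conj_mem y (hPN hy) g

/-- The p'-core-free case. -/
theorem cyclic_sylow_corefree (hgen : Cfsg.pElementClosure p (⊤ : Subgroup G) = ⊤)
    (hO : Cfsg.pPrimeCore p G = ⊥) (P : Sylow p G) [IsCyclic (P : Subgroup G)] :
    (P : Subgroup G) = ⊤ ∨ (IsSimpleGroup G ∧ ¬ IsMulCommutative G) := by
  rcases eq_or_ne (P : Subgroup G) ⊤ with hP | hP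
  · exact Or.inl hP
  right
  have : IsMulCommutative (P : Subgroup G) := IsCyclic.isMulCommutative
  have hnt : Nontrivial G := by
    by_contra hn
    rw [not_nontrivial_iff_subsingleton] at hn
    exact hP (Subsingleton.elim _ _)
  have key : ∀ N : Subgroup G, N.Normal → N = ⊥ ∨ N = ⊤ := by
    intro N hN
    by_cases hPN : (P : Subgroup G) ≤ N
    · exact Or.inr (eq_top_of_sylow_le hgen P N hPN)
    left
    by_contra hNbot
    have hpN : p ∣ Nat.card N := by
      by_contra hpN
      exact hNbot (le_bot_iff.1 (hO ▸ Cores.le_pPrimeCore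
        ((Nat.Prime.coprime_iff_not_dvd Fact.out).2 hpN).symm))
    set P0 := (P : Subgroup G) ⊓ N with hP0
    have hP0lt : P0 < (P : Subgroup G) :=
      lt_of_le_of_ne inf_le_left fun h => hPN (inf_eq_left.1 h)
    -- a Sylow subgroup of `N`
    obtain ⟨R0⟩ := (inferInstance : Nonempty (Sylow p N))
    obtain ⟨T, hT⟩ := (R0.isPGroup'.map N.subtype).exists_le_sylow
    obtain ⟨g, hg⟩ := MulAction.exists_smul_eq G T P
    set R : Sylow p N := (MulAut.conjNormal g : MulAut N) • R0 with hR
    have hRle : ∀ x : N, x ∈ (R : Subgroup N) → (x : G) ∈ P0 := by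
      rintro x ⟨y, hy, rfl⟩
      refine ⟨?_, SetLike.coe_mem _⟩
      have h1 : g * (y : G) * g⁻¹ ∈ ((g • T : Sylow p G) : Subgroup G) :=
        ⟨(y : G), hT ⟨y, hy, rfl⟩, rfl⟩
      rw [hg] at h1
      exact h1
    have hReq : (R : Subgroup N) = P0.subgroupOf N :=
      (R.is_maximal' (P.isPGroup'.comap_of_injective _ N.subtype_injective |>.to_le
        (show P0.subgroupOf N ≤ (P : Subgroup G).comap N.subtype from fun x hx => hx.1))
        fun x hx => hRle x hx).symm
    have hRmap : (R : Subgroup N).map N.subtype = P0 := by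
      rw [hReq, Subgroup.subgroupOf_map_subtype, hP0, inf_assoc, inf_idem]
    have hP0ne : P0 ≠ ⊥ := by
      rw [← hRmap, Ne, Subgroup.map_eq_bot_iff_of_injective _ N.subtype_injective]
      exact R.ne_bot_of_dvd_card hpN
    -- elements of `N` normalising `P0` centralise it
    have hNC : normalizer ((R : Subgroup N) : Set N) ≤ centralizer ((R : Subgroup N) : Set N) := by
      intro n hn
      have hn' : (n : G) ∈ normalizer (P0 : Set G) := by
        rw [← hRmap]
        exact Subgroup.le_normalizer_map N.subtype ⟨n, hn, rfl⟩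
      have hnPN : (n : G) ∈ (P : Subgroup G) ⊔ N := Subgroup.mem_sup_right n.2
      set M := centralizer (P0 : Set G) ⊓ ((P : Subgroup G) ⊔ N) with hM
      have hPM : (P : Subgroup G) ≤ M :=
        le_inf ((Subgroup.le_centralizer _).trans (Subgroup.centralizer_le hP0lt.le)) le_sup_left
      have hPM' : ((((n : G) • P : Sylow p G)) : Subgroup G) ≤ M := by
        rintro _ ⟨s, hs, rfl⟩
        show (n : G) * s * (n : G)⁻¹ ∈ M
        refine ⟨mem_centralizer_iff.2 fun q hq => ?_, ?_⟩
        · have hq' : (n : G)⁻¹ * q * (n : G) ∈ P0 := (Subgroup.mem_normalizer_iff''.1 hn' q).1 hq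
          have h1 := mem_centralizer_iff.1 (hPM hs).1 _ hq'
          calc q * ((n : G) * s * (n : G)⁻¹) = n * (((n : G)⁻¹ * q * n) * s) * (n : G)⁻¹ := by group
            _ = n * (s * ((n : G)⁻¹ * q * n)) * (n : G)⁻¹ := by rw [h1]
            _ = _ := by group
        · exact mul_mem (mul_mem hnPN (Subgroup.mem_sup_left hs)) (Subgroup.inv_mem _ hnPN)
      obtain ⟨⟨x, hxM⟩, hx⟩ := MulAction.exists_smul_eq M (P.subtype hPM) (((n : G) • P).subtype hPM')
      rw [Sylow.smul_subtype] at hx
      have hxP : x • P = (n : G) • P := Sylow.subtype_injective hx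
      set h := x⁻¹ * (n : G) with hh
      have hhP : h ∈ normalizer ((P : Subgroup G) : Set G) := by
        refine Sylow.smul_eq_iff_mem_normalizer.1 ?_
        rw [hh, mul_smul, ← hxP, inv_smul_smul]
      have hhPN : h ∈ (P : Subgroup G) ⊔ N := mul_mem (inv_mem hxM.2) hnPN
      have hhC := centralizes_of_section P hhP (Or.inl ⟨P0, hP0lt, fun s hs => by
        refine ⟨mul_mem ((Subgroup.mem_normalizer_iff.1 hhP s).1 hs) (Subgroup.inv_mem _ hs), ?_⟩
        obtain ⟨q, hq, m, hm, hqm⟩ := Subgroup.mem_sup_of_normal_right.1 hhPN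
        have hcomm : q * s = s * q :=
          congrArg Subtype.val (IsMulCommutative.is_comm.comm (⟨q, hq⟩ : (P : Subgroup G)) ⟨s, hs⟩)
        rw [← hqm, show q * m * s * (q * m)⁻¹ * s⁻¹ = (q * (m * (s * m⁻¹ * s⁻¹)) * q⁻¹) *
          (q * s * q⁻¹ * s⁻¹) by group, hcomm, show s * q * q⁻¹ * s⁻¹ = 1 by group, mul_one]
        exact hN.conj_mem _ (mul_mem hm (hN.conj_mem _ (inv_mem hm) s)) q⟩)
      have hnC : (n : G) ∈ centralizer (P0 : Set G) := by
        rw [show (n : G) = x * h by rw [hh]; group]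
        exact mul_mem hxM.1 (Subgroup.centralizer_le hP0lt.le hhC)
      exact mem_centralizer_iff.2 fun r hr =>
        Subtype.ext (mem_centralizer_iff.1 hnC r (hRle r hr))
    have hRtop := eq_sylow_of_centralized N hO R hNC
    have hNP0 : N = P0 := by
      rw [← hRmap, hRtop, ← MonoidHom.range_eq_map, Subgroup.range_subtype]
    -- so `P0` is central and the normaliser of `P` centralises `P`
    have hC : centralizer (P0 : Set G) = ⊤ := by
      have : (centralizer (P0 : Set G)).Normal := by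
        rw [← hNP0]; infer_instance
      exact eq_top_of_sylow_le hgen P _
        ((Subgroup.le_centralizer _).trans (Subgroup.centralizer_le hP0lt.le))
    obtain ⟨y, hy, hy1⟩ := (Subgroup.bot_or_exists_ne_one P0).resolve_left hP0ne
    have hburn : normalizer ((P : Subgroup G) : Set G) ≤ centralizer ((P : Subgroup G) : Set G) :=
      fun h hh => centralizes_of_section P hh (Or.inr ⟨y, hy.1, hy1,
        (mem_centralizer_iff.1 (hC ▸ mem_top h : h ∈ centralizer (P0 : Set G)) y hy).symm⟩)
    have hcomp := MonoidHom.ker_transferSylow_isComplement' P hburn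
    set K := (MonoidHom.transferSylow P hburn).ker
    have hKcop : (Nat.card K).Coprime p := by
      rw [← hcomp.index_eq_card]
      exact ((Nat.Prime.coprime_iff_not_dvd Fact.out).2 P.not_dvd_index).symm
    rw [show K = ⊥ from le_bot_iff.1 (hO ▸ Cores.le_pPrimeCore hKcop),
      Subgroup.isComplement'_bot_left] at hcomp
    exact hP hcomp
  have : IsSimpleGroup G := ⟨key⟩
  refine ⟨this, fun hc => hP ?_⟩
  have : (P : Subgroup G).Normal := ⟨fun x hx g => by
    rwa [hc.is_comm.comm g x, mul_assoc, mul_inv_cancel, mul_one]⟩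
  exact eq_top_of_sylow_le hgen P _ le_rfl

omit [Finite G] in
/-- Surjective images of groups generated by p-elements are generated by p-elements. -/
theorem gen_map {H : Type*} [Group H] (hgen : Cfsg.pElementClosure p (⊤ : Subgroup G) = ⊤)
    (f : G →* H) (hf : Function.Surjective f) : Cfsg.pElementClosure p (⊤ : Subgroup H) = ⊤ := by
  rw [eq_top_iff]
  conv_lhs => rw [← Subgroup.map_top_of_surjective f hf, ← hgen]
  unfold Cfsg.pElementClosure
  rw [MonoidHom.map_closure, Subgroup.closure_le]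
  rintro _ ⟨x, ⟨-, k, hk⟩, rfl⟩
  obtain ⟨j, -, hj⟩ := (Nat.dvd_prime_pow Fact.out).1 ((orderOf_map_dvd f x).trans hk.dvd)
  exact subset_closure ⟨mem_top _, j, hj⟩

/-- A group generated by p-elements with cyclic Sylow p-subgroup. -/
theorem cyclic_sylow (hgen : Cfsg.pElementClosure p (⊤ : Subgroup G) = ⊤) (S : Sylow p G)
    [IsCyclic (S : Subgroup G)] :
    (S : Subgroup G) ⊔ Cfsg.pPrimeCore p G = ⊤ ∨ (commutator G = ⊤ ∧
      IsSimpleGroup (G ⧸ Cfsg.pPrimeCore p G) ∧ ¬ IsMulCommutative (G ⧸ Cfsg.pPrimeCore p G)) := by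
  set O := Cfsg.pPrimeCore p G with hOdef
  set π := QuotientGroup.mk' O with hπ
  have hπs : Function.Surjective π := QuotientGroup.mk'_surjective O
  set P := S.mapSurjective hπs with hP
  have hgen' := gen_map hgen π hπs
  have hPc : IsCyclic (P : Subgroup (G ⧸ O)) := by
    show IsCyclic ((S : Subgroup G).map π)
    exact isCyclic_of_surjective (π.subgroupMap S) (π.subgroupMap_surjective _)
  rcases cyclic_sylow_corefree hgen' (Cores.pPrimeCore_quotient_self p) P with h | ⟨hs, hnc⟩
  · left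
    show (S : Subgroup G) ⊔ O = ⊤
    rw [← QuotientGroup.ker_mk' O, ← Subgroup.comap_map_eq,
      show (S : Subgroup G).map (QuotientGroup.mk' O) = ⊤ from h, Subgroup.comap_top]
  right
  refine ⟨?_, hs, hnc⟩
  have hperf : commutator (G ⧸ O) = ⊤ :=
    (hs.eq_bot_or_eq_top_of_normal _ inferInstance).resolve_left fun hb => hnc
      ⟨⟨fun a b => commutatorElement_eq_one_iff_mul_comm.1 ((mem_bot).1 (hb ▸
        Subgroup.commutator_mem_commutator (mem_top a) (mem_top b)))⟩⟩
  refine eq_top_of_sylow_le hgen S _ fun s hs' => ?_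
  -- `G = G' O`, so `G / G'` has order prime to `p`
  have hAO : commutator G ⊔ O = ⊤ := by
    rw [← QuotientGroup.ker_mk' O, ← Subgroup.comap_map_eq, _root_.commutator_def,
      Subgroup.map_commutator, Subgroup.map_top_of_surjective _ hπs, ← _root_.commutator_def, hperf,
      Subgroup.comap_top]
  have hidx : ((commutator G).index).Coprime p := by
    have h1 : (commutator G).index = (commutator G).relIndex O := by
      rw [← Subgroup.relIndex_top_right, ← hAO, Subgroup.relIndex_sup_left]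
    rw [h1]
    exact Nat.Coprime.coprime_dvd_left (Subgroup.relIndex_dvd_card _ _)
      (Cores.pPrimeCore_card_coprime p)
  obtain ⟨k, hk⟩ := S.isPGroup' ⟨s, hs'⟩
  have h1 : orderOf (QuotientGroup.mk' (commutator G) s) ∣ p ^ k :=
    (orderOf_map_dvd _ s).trans (orderOf_dvd_of_pow_eq_one (congrArg Subtype.val hk))
  rw [← QuotientGroup.eq_one_iff, ← orderOf_eq_one_iff]
  exact Nat.eq_one_of_dvd_coprimes (hidx.symm.pow_left k) h1
    ((_root_.orderOf_dvd_natCard _).trans (Subgroup.index_eq_card _).symm.dvd)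

theorem pSolvable_of_sup_eq_top (S : Sylow p G)
    (h : (S : Subgroup G) ⊔ Cfsg.pPrimeCore p G = ⊤) : Cfsg.IsPSolvable p G := by
  refine ⟨2, ![⊥, Cfsg.pPrimeCore p G, ⊤], rfl, rfl, ?_, ?_, ?_⟩
  · refine Fin.monotone_iff_le_succ.2 fun i => ?_
    fin_cases i <;> simp
  · intro i
    fin_cases i
    · exact (inferInstance : (⊥ : Subgroup G).Normal)
    · exact (inferInstance : (Cfsg.pPrimeCore p G).Normal)
    · exact (inferInstance : (⊤ : Subgroup G).Normal)
  · intro i
    fin_cases i
    · right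
      show ((⊥ : Subgroup G).relIndex (Cfsg.pPrimeCore p G)).Coprime p
      rw [Subgroup.relIndex_bot_left]
      exact Cores.pPrimeCore_card_coprime p
    · left
      show ∃ m, (Cfsg.pPrimeCore p G).relIndex ⊤ = p ^ m
      rw [← h, Subgroup.relIndex_sup_right]
      obtain ⟨m, -, hm⟩ := (Nat.dvd_prime_pow Fact.out).1
        ((Subgroup.relIndex_dvd_card (Cfsg.pPrimeCore p G) (S : Subgroup G)).trans
          (IsPGroup.iff_card.1 S.isPGroup').choose_spec.dvd)
      exact ⟨m, hm⟩

end Cfsg.Agent.GW.Cons
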