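import Cfsg.Agent.Lib.GW.ConsQuaternion
import Cfsg.Agent.Lib.GW.ConsCyclicSylow
import Cfsg.Agent.Solvable.Fitting
import Cfsg.Agent.S0251
import Cfsg.Agent.S1012
import Cfsg.Agent.S2119
import Cfsg.Prelude.Def_PLocal

/-!
Groups of p-rank one generated by their p-elements, from Gorenstein–Walter.
-/

set_option autoImplicit false

namespace Cfsg.Agent.GW.Cons

open Subgroup

universe u

theorem perm_three : ∀ σ : Equiv.Perm (Fin 3), σ ^ 2 = 1 ∨ σ ^ 3 = 1 := by decide

variable {G : Type u} [Group G] [Finite G]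

/-- A solvable group generated by 2-elements with dihedral Sylow subgroups and trivial core. -/
theorem solvable_dihedral (hO : Cfsg.oddCore G = ⊥) (hgen : Cfsg.pElementClosure 2 (⊤ : Subgroup G) = ⊤)
    [Group.IsSolvable G] (T : Sylow 2 G) {m : ℕ} (hm : 2 ≤ m)
    (eT : (T : Subgroup G) ≃* DihedralGroup m) (hT : (T : Subgroup G) ≠ ⊤) :
    Nonempty (G ≃* Equiv.Perm (Fin 4)) := by
  have : Fact (Nat.Prime 2) := ⟨Nat.prime_two⟩
  set F := Cfsg.pCore 2 G with hF
  have hFp : IsPGroup 2 F := Cores.pCore_isPGroup 2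
  obtain ⟨f, hf⟩ := Involutions.DihedralSylow.exists_embedding T hFp eT
  have h2m := Involutions.DihedralSylow.two_dvd T eT hm
  have hCF : centralizer (F : Set G) ≤ F := Solvable.Fitting.centralizer_pCore_le 2 hO
  set α : G →* MulAut F := MulAut.conjNormal with hα
  have hker : α.ker = centralizer (F : Set G) := by
    ext g
    rw [MonoidHom.mem_ker, mem_centralizer_iff]
    constructor
    · intro h x hx
      have h1 := congrArg (fun σ : MulAut F => ((σ ⟨x, hx⟩ : F) : G)) h
      simp only [hα, MulAut.conjNormal_apply, MulAut.one_apply] at h1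
      exact (mul_inv_eq_iff_eq_mul.1 h1).symm
    · intro h
      refine MulEquiv.ext fun x => Subtype.ext ?_
      rw [hα, MulAut.conjNormal_apply, ← h x x.2, mul_inv_cancel_right]
      rfl
  have hodd : ∀ g : G, g ∈ F → Odd (orderOf g) → g = 1 := by
    intro g hg ho
    obtain ⟨k, hk⟩ := hFp ⟨g, hg⟩
    rw [← orderOf_eq_one_iff]
    exact Nat.eq_one_of_dvd_coprimes (Nat.coprime_two_right.2 ho |>.pow_right k) dvd_rfl
      (orderOf_dvd_of_pow_eq_one (congrArg Subtype.val hk))
  -- some element of odd order acts nontrivially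
  obtain ⟨g, hgo, hgne⟩ : ∃ g : G, Odd (orderOf g) ∧ α g ≠ 1 := by
    by_contra hne
    push Not at hne
    refine hT ?_
    have hG : IsPGroup 2 G := fun x => by
      obtain ⟨k, hk⟩ := Transfer.NormalPComplement.exists_pow_coprime (p := 2) (orderOf_pos x).ne'
      refine ⟨k, hodd _ (hCF ?_) (Nat.coprime_two_right.1 hk)⟩
      rw [← hker, MonoidHom.mem_ker]
      exact hne _ (Nat.coprime_two_right.1 hk)
    exact (T.is_maximal' (hG.to_subgroup ⊤) le_top).symm
  have hoσ : Odd (orderOf (α g)) := Odd.of_dvd_nat hgo (orderOf_map_dvd α g)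
  obtain ⟨hF4, hFsq⟩ :=
    Involutions.DihedralEmbedding.isKleinFour_of_aut hFp f hf h2m (by omega) hoσ hgne
  have hFcomm : IsMulCommutative F := ⟨⟨fun a b => by
    have h1 : ∀ c : F, c⁻¹ = c := fun c => inv_eq_of_mul_eq_one_right (hFsq c)
    rw [← h1 (a * b), mul_inv_rev, h1, h1]⟩⟩
  have hkerF : α.ker = F := by
    rw [hker]
    exact le_antisymm hCF (Subgroup.le_centralizer F)
  set θ := (Involutions.ThreePoint.autPerm F).comp α with hθ
  have hθker : θ.ker = F := by
    refine Eq.trans ?_ hkerF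
    ext x
    exact Involutions.ThreePoint.autPerm_eq_one
  have h3 : Nat.card {a : F // a ≠ 1} = 3 := by
    rw [Involutions.ThreePoint.card_nontrivial, hF4]
  let eα : {a : F // a ≠ 1} ≃ Fin 3 := (Finite.equivFin _).trans (finCongr h3)
  have hperm : Nat.card (Equiv.Perm {a : F // a ≠ 1}) = 6 := by
    rw [Nat.card_congr eα.permCongrHom.toEquiv, Nat.card_eq_fintype_card]; rfl
  have hdvd : F.index ∣ 6 := by
    rw [← hθker, Subgroup.index_ker, ← hperm]
    exact Subgroup.card_subgroup_dvd_card _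
  have hcard := F.card_mul_index
  rw [hF4] at hcard
  -- the index is six
  have hidx : F.index = 6 := by
    have hle := Nat.le_of_dvd (by norm_num) hdvd
    have hnot : ∀ (T' : Sylow 2 G) (N : Subgroup G), N.Normal → (T' : Subgroup G) ≤ N → N = ⊤ :=
      fun T' N hN h => eq_top_of_sylow_le hgen T' N h
    have hFT : F ≤ (T : Subgroup G) := Cores.pCore_le_sylow T
    interval_cases hi : F.index
    all_goals try omega
    · -- index one
      exact absurd (top_le_iff.1 ((Subgroup.index_eq_one.1 hi).ge.trans hFT)) hT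
    · -- index two
      refine absurd ?_ hT
      have hG : IsPGroup 2 G := IsPGroup.of_card (n := 3) (by omega)
      exact (T.is_maximal' (hG.to_subgroup ⊤) le_top).symm
    · -- index three
      exfalso
      obtain ⟨j, hj⟩ := T.isPGroup'.exists_card_eq
      have hj12 : 2 ^ j ∣ 12 := by
        rw [← hj, show 12 = Nat.card G by omega]
        exact Subgroup.card_subgroup_dvd_card _
      have hj2 : j ≤ 2 := by
        by_contra hj3
        have h8 := (pow_dvd_pow 2 (show 3 ≤ j by omega)).trans hj12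
        norm_num at h8
      have hTF : F = (T : Subgroup G) := Subgroup.eq_of_le_of_card_ge hFT (by
        rw [hj, hF4]
        exact (Nat.pow_le_pow_right two_pos hj2).trans (by norm_num))
      have := hnot T F inferInstance hTF.ge
      rw [this, Subgroup.index_top] at hi
      omega
  refine S1012.result (by rw [← hcard, hidx]) fun x hx => ?_
  -- no element of order six
  rcases perm_three (eα.permCongrHom (θ x)) with h | h
  · rw [← map_pow, MulEquiv.map_eq_one_iff, ← map_pow, ← MonoidHom.mem_ker, hθker] at h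
    have h3x : orderOf (x ^ 2) = 3 := by rw [orderOf_pow, hx]; norm_num
    have := hodd _ h (by rw [h3x]; decide)
    rw [this, orderOf_one] at h3x
    norm_num at h3x
  · rw [← map_pow, MulEquiv.map_eq_one_iff, ← map_pow, ← MonoidHom.mem_ker, hθker] at h
    have h2x : orderOf (x ^ 3) = 2 := by rw [orderOf_pow, hx]; norm_num
    have h3x : orderOf (x ^ 2) = 3 := by rw [orderOf_pow, hx]; norm_num
    have hσ : α (x ^ 2) = 1 :=
      Involutions.DihedralEmbedding.eq_one_of_fixed hFp f hf h2m (by omega)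
        (Odd.of_dvd_nat (by rw [h3x]; decide) (orderOf_map_dvd α (x ^ 2))) (t := ⟨x ^ 3, h⟩)
        (fun h1 => by rw [show x ^ 3 = 1 from congrArg Subtype.val h1, orderOf_one] at h2x; omega)
        (Subtype.ext (by
          rw [hα, MulAut.conjNormal_apply]
          group))
    rw [← MonoidHom.mem_ker, hkerF] at hσ
    have := hodd _ hσ (by rw [h3x]; decide)
    rw [this, orderOf_one] at h3x
    norm_num at h3x

/-- The automorphisms of `PSL(2,3)`. -/
theorem aut_psl_three : Nonempty (MulAut (Matrix.ProjectiveSpecialLinearGroup (Fin 2) (ZMod 3)) ≃*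
    Equiv.Perm (Fin 4)) := by
  obtain ⟨e⟩ := S0251.result (F := ZMod 3) (ZMod.card 3)
  exact ⟨(MulAut.congr e).trans (MulEquiv.ofBijective _ (S2119.result 4 le_rfl (by norm_num))).symm⟩

/-- The partner of a point under three disjoint transpositions. -/
def partner : Fin 7 → Fin 7 := ![1, 0, 3, 2, 5, 4, 6]

/-- Products of some of three disjoint transpositions. -/
def threeSwaps (x : Bool × Bool × Bool) : Equiv.Perm (Fin 7) :=
  (if x.1 then Equiv.swap 0 1 else 1) * (if x.2.1 then Equiv.swap 2 3 else 1) *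
    (if x.2.2 then Equiv.swap 4 5 else 1)

theorem partner_partner : ∀ i, partner (partner i) = i := by decide

theorem threeSwaps_apply : ∀ x i, threeSwaps x i = i ∨ threeSwaps x i = partner i := by decide

theorem threeSwaps_eval : ∀ x y, threeSwaps x 0 = threeSwaps y 0 → threeSwaps x 2 = threeSwaps y 2 →
    threeSwaps x 4 = threeSwaps y 4 → x = y := by decide

theorem pairs_sq {σ : Equiv.Perm (Fin 7)} (h : ∀ i, σ i = i ∨ σ i = partner i) : σ * σ = 1 := by
  refine Equiv.ext fun i => ?_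
  show σ (σ i) = i
  rcases h i with h1 | h1
  · rw [h1, h1]
  · rw [h1]
    rcases h (partner i) with h2 | h2
    · have := σ.injective (h2.trans h1.symm)
      rw [this] at h1 h2 ⊢
      exact h2
    · rw [h2, partner_partner]

/-- The symmetric group of degree seven has no dihedral Sylow 2-subgroup. -/
theorem perm_seven_not_dihedral (T : Sylow 2 G) {m : ℕ} (hm : 2 ≤ m)
    (eT : (T : Subgroup G) ≃* DihedralGroup m) (e : G ≃* Equiv.Perm (Fin 7)) : False := by
  have : Fact (Nat.Prime 2) := ⟨Nat.prime_two⟩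
  let E : Subgroup (Equiv.Perm (Fin 7)) :=
    { carrier := {σ | ∀ i, σ i = i ∨ σ i = partner i}
      one_mem' := fun i => Or.inl rfl
      mul_mem' := fun {a b} ha hb i => by
        show a (b i) = i ∨ a (b i) = partner i
        rcases hb i with h | h <;> rw [h]
        · exact ha i
        · rcases ha (partner i) with h2 | h2 <;> rw [h2]
          · exact Or.inr rfl
          · exact Or.inl (partner_partner i)
      inv_mem' := fun {a} ha => by rwa [inv_eq_of_mul_eq_one_right (pairs_sq ha)] }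
  have hsq : ∀ x : E.map e.symm.toMonoidHom, x * x = 1 := by
    rintro ⟨_, y, hy, rfl⟩
    refine Subtype.ext ?_
    show e.symm y * e.symm y = 1
    rw [← map_mul, pairs_sq hy, map_one]
  have hp : IsPGroup 2 (E.map e.symm.toMonoidHom) := fun x => ⟨1, by rw [pow_one, pow_two, hsq x]⟩
  obtain ⟨f, hf⟩ := Involutions.DihedralSylow.exists_embedding T hp eT
  have h := Involutions.DihedralEmbedding.card_le_four f hf
    (Involutions.DihedralSylow.two_dvd T eT hm) (by omega) hsq
  rw [Subgroup.card_map_of_injective (K := E) e.symm.injective] at h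
  have hE : Nat.card (Bool × Bool × Bool) ≤ Nat.card E :=
    Nat.card_le_card_of_injective (fun x => (⟨threeSwaps x, threeSwaps_apply x⟩ : E)) fun x y hxy => by
      have h1 := congrArg Subtype.val hxy
      exact threeSwaps_eval x y (congrArg (fun σ => σ 0) h1) (congrArg (fun σ => σ 2) h1)
        (congrArg (fun σ => σ 4) h1)
  rw [show Nat.card (Bool × Bool × Bool) = 8 by simp] at hE
  omega

/-- The conclusion on `G / N` for a nonsolvable quotient. -/
theorem nonsolvable_dihedral (hGW : PerfectGW.{u}) (hO : Cfsg.oddCore G = ⊥) (T : Sylow 2 G) {m : ℕ}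
    (hm : 2 ≤ m) (eT : (T : Subgroup G) ≃* DihedralGroup m) (hns : ¬ Group.IsSolvable G) :
    (∃ (F : Type) (_ : Field F) (_ : Fintype F), Odd (Fintype.card F) ∧
      ∃ K : Subgroup (MulAut (Matrix.ProjectiveSpecialLinearGroup (Fin 2) F)),
        (MulAut.conj : Matrix.ProjectiveSpecialLinearGroup (Fin 2) F →*
          MulAut (Matrix.ProjectiveSpecialLinearGroup (Fin 2) F)).range ≤ K ∧ Nonempty (G ≃* ↥K)) ∨
    Nonempty (G ≃* alternatingGroup (Fin 7)) := by
  obtain ⟨L, hLn, hC, -, -, hiso⟩ := full_gw hGW hO T hm eT hns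
  have hψ := conjNormal_injective hC
  rcases hiso with ⟨F, iF, iT, hodd, -, ⟨f⟩⟩ | ⟨⟨f⟩⟩
  · left
    set φ := (MulAut.congr f).toMonoidHom.comp (MulAut.conjNormal (H := L)) with hφ
    refine ⟨F, iF, iT, hodd, φ.range, ?_, ⟨MonoidHom.ofInjective ((MulAut.congr f).injective.comp hψ)⟩⟩
    rintro _ ⟨y, rfl⟩
    obtain ⟨l, rfl⟩ := f.surjective y
    refine ⟨(l : G), MulEquiv.ext fun x => ?_⟩
    obtain ⟨x, rfl⟩ := f.surjective x
    have h : MulAut.conjNormal (l : G) x = l * x * l⁻¹ := Subtype.ext (by simp [MulAut.conjNormal_apply])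
    simp [hφ, MulAut.congr, h, MulAut.conj_apply]
  · right
    let ι := (MulEquiv.ofBijective _ (S2119.result 7 (by norm_num) (by norm_num))).symm
    set φ := ι.toMonoidHom.comp ((MulAut.congr f).toMonoidHom.comp (MulAut.conjNormal (H := L))) with hφ
    have hφi : Function.Injective φ := ι.injective.comp ((MulAut.congr f).injective.comp hψ)
    have hle : alternatingGroup (Fin 7) ≤ φ.range := by
      intro σ hσ
      obtain ⟨l, hl⟩ := f.surjective ⟨σ, hσ⟩
      refine ⟨(l : G), ?_⟩
      rw [hφ, MonoidHom.comp_apply, MulEquiv.coe_toMonoidHom, MulEquiv.symm_apply_eq]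
      refine MulEquiv.ext fun x => ?_
      obtain ⟨x, rfl⟩ := f.surjective x
      have h : MulAut.conjNormal (l : G) x = l * x * l⁻¹ := Subtype.ext (by simp [MulAut.conjNormal_apply])
      refine Subtype.ext ?_
      simp [MulAut.congr, h, MulEquiv.ofBijective, hl]
      rfl
    have hA : (alternatingGroup (Fin 7)).index = 2 := alternatingGroup.index_eq_two
    have hdvd := Subgroup.index_dvd_of_le hle
    rw [hA, Nat.dvd_prime Nat.prime_two] at hdvd
    rcases hdvd with h | h
    · exfalso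
      rw [Subgroup.index_eq_one] at h
      exact perm_seven_not_dihedral T hm eT ((MonoidHom.ofInjective hφi).trans
        ((MulEquiv.subgroupCongr h).trans Subgroup.topEquiv))
    · have heq : alternatingGroup (Fin 7) = φ.range := Subgroup.eq_of_le_of_card_ge hle (by
        have h1 := φ.range.card_mul_index
        have h2 := (alternatingGroup (Fin 7)).card_mul_index
        rw [h] at h1
        rw [hA] at h2
        omega)
      exact ⟨(MonoidHom.ofInjective hφi).trans (MulEquiv.subgroupCongr heq.symm)⟩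

/-- The statement S2778, from Gorenstein–Walter. -/
theorem strongly_embedded_rank_one (hGW : PerfectGW.{u}) {p : ℕ} [Fact p.Prime]
    (hgen : Cfsg.pElementClosure p (⊤ : Subgroup G) = ⊤) (X : Subgroup G)
    (hX : Cfsg.IsStronglyPEmbedded p X) (S : Sylow p G) (hr : Cfsg.PRankLE p 1 ↥(S : Subgroup G)) :
    (p ≠ 2 ∧ IsCyclic ↥(S : Subgroup G) ∧ commutator G = ⊤ ∧ IsSimpleGroup (G ⧸ Cfsg.pPrimeCore p G) ∧
      ¬ IsMulCommutative (G ⧸ Cfsg.pPrimeCore p G)) ∨
    ((S : Subgroup G) ⊔ Cfsg.pPrimeCore p G = ⊤ ∧ (IsCyclic ↥(S : Subgroup G) ∨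
      ∃ n : ℕ, Nonempty (↥(S : Subgroup G) ≃* QuaternionGroup n)) ∧ Cfsg.IsPSolvable p G) ∨
    (p = 2 ∧ (∃ n : ℕ, 2 ≤ n ∧ Nonempty (↥(S : Subgroup G) ≃* QuaternionGroup n)) ∧
      ∃ (N : Subgroup G) (_ : N.Normal), N = Cfsg.omegaOne 2 (S : Subgroup G) ⊔ Cfsg.pPrimeCore 2 G ∧
      ((∃ (F : Type) (_ : Field F) (_ : Fintype F), Odd (Fintype.card F) ∧
        ∃ K : Subgroup (MulAut (Matrix.ProjectiveSpecialLinearGroup (Fin 2) F)),
          (MulAut.conj : Matrix.ProjectiveSpecialLinearGroup (Fin 2) F →*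
            MulAut (Matrix.ProjectiveSpecialLinearGroup (Fin 2) F)).range ≤ K ∧ Nonempty (G ⧸ N ≃* ↥K)) ∨
        Nonempty (G ⧸ N ≃* alternatingGroup (Fin 7)))) := by
  by_cases hc : IsCyclic (S : Subgroup G)
  · rcases cyclic_sylow hgen S with h | ⟨hP, hs, hn⟩
    · exact Or.inr (Or.inl ⟨h, Or.inl hc, pSolvable_of_sup_eq_top S h⟩)
    · rcases ne_or_eq p 2 with hp | rfl
      · exact Or.inl ⟨hp, hc, hP, hs, hn⟩
      · exact absurd hc (not_cyclic_of_perfect ⟨hP⟩ (even_iff_two_dvd.2 hX.1) S)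
  obtain ⟨rfl, m, ⟨e⟩⟩ := (cyclic_or_quaternion_of_rank S.isPGroup' hr).resolve_left hc
  have hm : 1 ≤ m := Nat.one_le_iff_ne_zero.2 fun h0 => hc (by
    subst h0
    exact (e.isCyclic).2 (by
      rw [pow_zero]
      exact isCyclic_of_orderOf_eq_card (QuaternionGroup.xa 0)
        (by simp [QuaternionGroup.orderOf_xa, Nat.card_eq_fintype_card, QuaternionGroup.card])))
  obtain ⟨-, z, hzn, hz, -, huniq, hO2, T, ⟨eT⟩⟩ := central_quotient_setup S hm e
  set π := (QuotientGroup.mk' (zpowers z)).comp (QuotientGroup.mk' (Cfsg.oddCore G)) with hπ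
  have hπs : Function.Surjective π :=
    (QuotientGroup.mk'_surjective _).comp (QuotientGroup.mk'_surjective _)
  -- the kernel
  have hmk : ∀ s ∈ (S : Subgroup G), QuotientGroup.mk' (Cfsg.oddCore G) s = 1 → s = 1 := by
    intro s hs h
    rw [QuotientGroup.mk'_apply, QuotientGroup.eq_one_iff] at h
    obtain ⟨k, hk⟩ := S.isPGroup' ⟨s, hs⟩
    rw [← orderOf_eq_one_iff]
    refine Nat.eq_one_of_dvd_coprimes
      ((Nat.coprime_two_right.2 (Cores.oddCore_odd (G := G))).pow_right k)
      ((Cfsg.oddCore G).orderOf_dvd_natCard h) (orderOf_dvd_of_pow_eq_one (congrArg Subtype.val hk))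
  have hinv : ∀ s ∈ (S : Subgroup G), s ^ 2 = 1 →
      s = 1 ∨ QuotientGroup.mk' (Cfsg.oddCore G) s = z := by
    intro s hs h2
    by_cases h1 : QuotientGroup.mk' (Cfsg.oddCore G) s = 1
    · exact Or.inl (hmk s hs h1)
    · exact Or.inr (huniq _ (orderOf_eq_prime (by rw [← map_pow, h2, map_one]) h1))
  obtain ⟨t, ht⟩ : ∃ t : (S : Subgroup G), orderOf t = 2 := exists_prime_orderOf_dvd_card' 2 (by
    have : NeZero (2 ^ m) := ⟨by positivity⟩
    rw [Nat.card_congr e.toEquiv, Nat.card_eq_fintype_card, QuaternionGroup.card]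
    exact Dvd.dvd.mul_right (by norm_num) _)
  rw [← Subgroup.orderOf_coe] at ht
  have htz : QuotientGroup.mk' (Cfsg.oddCore G) t = z :=
    (hinv t t.2 (orderOf_dvd_iff_pow_eq_one.1 ht.dvd)).resolve_left (fun h => by
      rw [h, orderOf_one] at ht; omega)
  have hker : π.ker = Cfsg.omegaOne 2 (S : Subgroup G) ⊔ Cfsg.pPrimeCore 2 G := by
    have h1 : π.ker = (zpowers z).comap (QuotientGroup.mk' (Cfsg.oddCore G)) := by
      rw [hπ, ← MonoidHom.comap_ker, QuotientGroup.ker_mk']
    rw [h1]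
    refine le_antisymm ?_ (sup_le ?_ fun x hx => ?_)
    · rw [← htz, ← MonoidHom.map_zpowers, Subgroup.comap_map_eq, QuotientGroup.ker_mk']
      exact sup_le_sup_right (zpowers_le.2 (subset_closure (show (t : G) ∈ {x : G | x ∈ (S : Subgroup G) ∧ x ^ 2 = 1} from
        ⟨t.2, orderOf_dvd_iff_pow_eq_one.1 ht.dvd⟩))) _
    · rw [Cfsg.omegaOne, Subgroup.closure_le]
      rintro x ⟨hx, hx2⟩
      rw [SetLike.mem_coe, mem_comap]
      rcases hinv x hx hx2 with rfl | h
      · rw [map_one]; exact one_mem _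
      · rw [h]; exact mem_zpowers z
    · rw [mem_comap, QuotientGroup.mk'_apply, (QuotientGroup.eq_one_iff x).2 hx]
      exact one_mem _
  let ε : G ⧸ π.ker ≃* _ := QuotientGroup.quotientKerEquivOfSurjective π hπs
  -- the Sylow subgroup and generation of the quotient
  set T0 := S.mapSurjective hπs with hT0
  have eT0 := (T0.equiv T).trans eT
  have hq2 : 2 ≤ 2 ^ m := Nat.le_self_pow (by omega) 2
  have hn2 : ∃ n : ℕ, 2 ≤ n ∧ Nonempty (↥(S : Subgroup G) ≃* QuaternionGroup n) := ⟨_, hq2, ⟨e⟩⟩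
  by_cases htop : (T0 : Subgroup ((G ⧸ Cfsg.oddCore G) ⧸ zpowers z)) = ⊤
  · refine Or.inr (Or.inl ?_)
    have hsup : (S : Subgroup G) ⊔ Cfsg.pPrimeCore 2 G = ⊤ := by
      rw [eq_top_iff]
      refine le_trans (le_of_eq ?_)
        (sup_le (le_sup_left : (S : Subgroup G) ≤ _) (hker.le.trans (sup_le ?_ le_sup_right)))
      · rw [← Subgroup.comap_map_eq, show (S : Subgroup G).map π = ⊤ from htop, Subgroup.comap_top]
      · rw [Cfsg.omegaOne, Subgroup.closure_le]
        exact fun x hx => Subgroup.mem_sup_left hx.1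
    exact ⟨hsup, Or.inr ⟨_, ⟨e⟩⟩, pSolvable_of_sup_eq_top S hsup⟩
  refine Or.inr (Or.inr ⟨rfl, hn2, π.ker, inferInstance, hker, ?_⟩)
  by_cases hsol : Group.IsSolvable ((G ⧸ Cfsg.oddCore G) ⧸ zpowers z)
  · left
    obtain ⟨e4⟩ := solvable_dihedral hO2 (gen_map hgen π hπs) T0 hq2 eT0 htop
    obtain ⟨a4⟩ := aut_psl_three
    refine ⟨ZMod 3, inferInstance, inferInstance, by rw [ZMod.card]; decide, ⊤, le_top, ⟨?_⟩⟩
    exact ε.trans ((e4.trans a4.symm).trans Subgroup.topEquiv.symm)
  · rcases nonsolvable_dihedral hGW hO2 T0 hq2 eT0 hsol with ⟨F, iF, iT, ho, K, hK, ⟨k⟩⟩ | ⟨⟨k⟩⟩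
    · exact Or.inl ⟨F, iF, iT, ho, K, hK, ⟨ε.trans k⟩⟩
    · exact Or.inr ⟨ε.trans k⟩

end Cfsg.Agent.GW.Cons
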