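import Cfsg.Agent.Lib.AutPSL.Out
import Cfsg.Agent.Lib.AutPSL.Diag
import Cfsg.Agent.Lib.AutPSL.LocalBalance
import Cfsg.Agent.Lib.Classical.GL2

/-!
Automorphisms of `PSL(2, q)` with a nontrivial field part of odd prime power order move both tori.
-/

set_option autoImplicit false

namespace Cfsg.Agent.GW.FieldPart

open Matrix Finset Cfsg.Agent.AutPSL.Basic Cfsg.Agent.AutPSL.Main Cfsg.Agent.AutPSL.Out

universe u

/-- Some odd prime other than `p` divides `x ^ p - 1` but not `x ^ 2 - 1`. -/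
theorem exists_prime_pow_sub_one {p : ℕ} (hp : p.Prime) (hp2 : p ≠ 2) {x : ℤ} (hx : Odd x)
    (h3 : 3 ≤ x.natAbs) :
    ∃ r : ℕ, r.Prime ∧ r ≠ 2 ∧ r ≠ p ∧ (r : ℤ) ∣ x ^ p - 1 ∧ ¬ (r : ℤ) ∣ x ^ 2 - 1 := by
  have : Fact p.Prime := ⟨hp⟩
  have hpo : Odd p := hp.odd_of_ne_two hp2
  set S : ℤ := ∑ i ∈ range p, x ^ i with hS
  have hmul : S * (x - 1) = x ^ p - 1 := geom_sum_mul x p
  by_contra hne
  push Not at hne
  have hcast : ∀ r : ℕ, (S : ZMod r) = ∑ i ∈ range p, (x : ZMod r) ^ i := fun r => by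
    rw [hS]; push_cast; rfl
  have hprime : ∀ r : ℕ, r.Prime → r ∣ S.natAbs → r = p := by
    intro r hr hrS
    have : Fact r.Prime := ⟨hr⟩
    have hrS' : (r : ℤ) ∣ S := Int.natCast_dvd.2 hrS
    have h0 : (S : ZMod r) = 0 := (ZMod.intCast_zmod_eq_zero_iff_dvd S r).2 hrS'
    by_contra hrp
    by_cases hr2 : r = 2
    · subst hr2
      have hx1 : (x : ZMod 2) = 1 := by
        obtain ⟨k, rfl⟩ := hx
        push_cast
        rw [show (2 : ZMod 2) = 0 from rfl, zero_mul, zero_add]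
      rw [hcast, hx1] at h0
      simp only [one_pow, sum_const, card_range, nsmul_eq_mul, mul_one] at h0
      rw [ZMod.natCast_eq_zero_iff_even] at h0
      exact Nat.not_even_iff_odd.2 hpo h0
    · have hd := hne r hr hr2 hrp (hmul ▸ hrS'.mul_right _)
      have h1 : ((x : ZMod r)) * x = 1 := by
        have := (ZMod.intCast_zmod_eq_zero_iff_dvd _ r).2 hd
        push_cast at this
        linear_combination this
      rcases mul_self_eq_one_iff.1 h1 with h | h
      · rw [hcast, h] at h0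
        simp only [one_pow, sum_const, card_range, nsmul_eq_mul, mul_one] at h0
        exact hrp ((Nat.prime_dvd_prime_iff_eq hr hp).1 ((ZMod.natCast_eq_zero_iff p r).1 h0))
      · rw [hcast, h, neg_one_geom_sum, if_neg (Nat.not_even_iff_odd.2 hpo)] at h0
        exact one_ne_zero h0
  have hxp : 3 * p ≤ x.natAbs ^ (p - 1) := by
    refine le_trans ?_ (Nat.pow_le_pow_left h3 _)
    have key : ∀ k : ℕ, 3 * (k + 3) ≤ 3 ^ (k + 2) := fun k => by
      induction k with
      | zero => norm_num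
      | succ k ih => rw [pow_succ]; omega
    have := key (p - 3)
    have h3p : 3 ≤ p := Nat.lt_of_le_of_ne hp.two_le (Ne.symm hp2)
    rwa [show p - 3 + 3 = p by omega, show p - 3 + 2 = p - 1 by omega] at this
  have hS0 : S ≠ 0 := fun h0 => by
    rw [h0, zero_mul, eq_comm, sub_eq_zero] at hmul
    have := congrArg Int.natAbs hmul
    rw [Int.natAbs_pow, Int.natAbs_one] at this
    have := Nat.le_self_pow hp.ne_zero x.natAbs
    omega
  have hpow : S.natAbs = p ^ S.natAbs.factorization p := by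
    refine Nat.eq_pow_of_factorization_eq_single (Int.natAbs_ne_zero.2 hS0) (Finsupp.ext fun r => ?_)
    rcases eq_or_ne r p with rfl | hr
    · rw [Finsupp.single_eq_same]
    · rw [Finsupp.single_eq_of_ne hr]
      by_contra h0
      have hmem := Nat.mem_primeFactors.1 (Nat.support_factorization _ ▸ Finsupp.mem_support_iff.2 h0)
      exact hr (hprime r hmem.1 hmem.2.1)
  have hle : S.natAbs ≤ p := by
    by_contra hlt
    have h2 : 2 ≤ S.natAbs.factorization p := by
      by_contra h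
      have := Nat.pow_le_pow_right hp.pos (show S.natAbs.factorization p ≤ 1 by omega)
      rw [← hpow, pow_one] at this
      omega
    have hpS : p ^ 2 ∣ S.natAbs := hpow ▸ pow_dvd_pow p h2
    have hpS1 : (p : ℤ) ∣ S :=
      Int.natCast_dvd.2 ((dvd_pow_self p two_ne_zero).trans hpS)
    have hx1 : (x : ZMod p) = 1 := by
      have := (ZMod.intCast_zmod_eq_zero_iff_dvd _ p).2 (hmul ▸ hpS1.mul_right _ : (p : ℤ) ∣ x ^ p - 1)
      push_cast at this
      rw [ZMod.pow_card, sub_eq_zero] at this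
      exact this
    obtain ⟨b, hb⟩ := (ZMod.intCast_zmod_eq_zero_iff_dvd (x - 1) p).1 (by push_cast; rw [hx1, sub_self])
    have h := odd_sq_dvd_geom_sum₂_sub (a := (1 : ℤ)) b hpo
    simp only [one_pow, mul_one, ← show x = 1 + (p : ℤ) * b by linarith, ← hS] at h
    have hp2' : ((p : ℤ)) ^ 2 ∣ (p : ℤ) := by
      have : ((p : ℤ)) ^ 2 ∣ S := by exact_mod_cast Int.natCast_dvd.2 hpS
      simpa using this.sub h
    have := Nat.le_of_dvd hp.pos (show p ^ 2 ∣ p by exact_mod_cast hp2')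
    nlinarith [hp.two_le]
  have h1 : (x ^ p - 1).natAbs ≤ p * (x.natAbs + 1) := by
    rw [← hmul, Int.natAbs_mul]
    exact Nat.mul_le_mul hle (by omega)
  have h2 : x.natAbs ^ p ≤ (x ^ p - 1).natAbs + 1 := by
    rw [← Int.natAbs_pow]
    omega
  have h4 : x.natAbs ^ p = x.natAbs * x.natAbs ^ (p - 1) := by
    rw [← pow_succ']; congr 1; have := hp.pos; omega
  have := Nat.mul_le_mul_left x.natAbs hxp
  nlinarith [hp.two_le]

variable {F : Type u} [Field F] [Fintype F]

local notation "PG" => Matrix.ProjectiveSpecialLinearGroup (Fin 2) F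
local notation "SL2" => Matrix.SpecialLinearGroup (Fin 2) F
local notation "M2" => Matrix (Fin 2) (Fin 2) F

/-- An element fixed by an automorphism whose field part has odd order `p` has order dividing
`q₀ ^ 2 - 1`, unless divisible by the characteristic. -/
theorem base_field {p : ℕ} (hp : Odd p) (h2 : (2 : F) ≠ 0) (σ : F ≃+* F) (hσ : orderOf σ = p) :
    ∃ q₀ : ℕ, Fintype.card F = q₀ ^ p ∧ ∀ (g : GL (Fin 2) F) (a : PG),
      (gAut g * fAut σ : MulAut PG) a = a → (orderOf a).Coprime q₀ →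
        orderOf a ∣ (q₀ - 1) * (q₀ + 1) := by
  classical
  have : Finite (F ≃+* F) := Finite.of_injective (fun e => (e : F → F)) DFunLike.coe_injective
  let G : Subgroup (RingAut F) := Subgroup.zpowers σ
  have : Fintype G := Fintype.ofFinite _
  let K := FixedPoints.subfield G F
  have : Fintype K := Fintype.ofFinite _
  refine ⟨Fintype.card K, ?_, fun g a ha hco => ?_⟩
  · have h1 := Module.natCard_eq_pow_finrank (K := K) (V := F)
    rw [FixedPoints.finrank_eq_card, ← Nat.card_eq_fintype_card (α := G), Nat.card_zpowers, hσ,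
      Nat.card_eq_fintype_card, Nat.card_eq_fintype_card] at h1
    exact h1
  obtain ⟨A, rfl⟩ := QuotientGroup.mk_surjective a
  rw [MulAut.mul_apply, fAut, gAut, MonoidHom.comp_apply, MonoidHom.comp_apply, descend_mk,
    descend_mk] at ha
  obtain ⟨c, hc⟩ := (mk_eq_mk_iff _ _).1 ha
  rw [conjSL_coe, fieldSL_coe] at hc
  have hc2 : c * c = 1 := by
    have h := congrArg Matrix.det hc
    rw [A.prop, det_smul, det_mul, det_mul, mul_comm (g : M2).det, mul_assoc, ← det_mul,
      Units.mul_inv, det_one, mul_one,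
      show (A : M2).map σ = σ.toRingHom.mapMatrix (A : M2) from rfl, ← RingHom.map_det, A.prop,
      map_one, mul_one, Fintype.card_fin, sq] at h
    exact h.symm
  set τ : F := (A : M2) 0 0 + (A : M2) 1 1 with hτ
  have hστ : σ τ = τ := by
    have h := congrArg Matrix.trace hc
    rw [trace_smul, trace_mul_comm, ← mul_assoc, Units.inv_mul, one_mul, trace_fin_two,
      trace_fin_two, Matrix.map_apply, Matrix.map_apply, ← map_add, ← hτ, smul_eq_mul] at h
    rcases mul_self_eq_one_iff.1 hc2 with rfl | rfl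
    · rw [one_mul] at h
      exact h.symm
    · rw [neg_mul, one_mul] at h
      have hk : ∀ k : ℕ, (σ ^ k) τ = (-1) ^ k * τ := fun k => by
        induction k with
        | zero => simp
        | succ k ih =>
          rw [pow_succ' σ]
          show σ ((σ ^ k) τ) = _
          rw [ih, map_mul, map_pow, map_neg, map_one, pow_succ, show σ τ = -τ by linear_combination h]
          ring
      have h0 := hk p
      rw [← hσ, pow_orderOf_eq_one, hσ, hp.neg_one_pow] at h0
      have : 2 * τ = 0 := by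
        rw [show (1 : F ≃+* F) τ = τ from rfl] at h0
        linear_combination h0
      rw [(mul_eq_zero.1 this).resolve_left h2, map_zero]
  have hτK : τ ∈ K := by
    rintro ⟨s, hs⟩
    obtain ⟨k, rfl⟩ := Subgroup.mem_zpowers_iff.1 hs
    change (σ ^ k) • τ = τ
    exact MulAction.mem_fixedBy_zpow (show τ ∈ MulAction.fixedBy F (σ : RingAut F) from hστ) k
  let τK : K := ⟨τ, hτK⟩
  let C : Matrix.SpecialLinearGroup (Fin 2) K := ⟨!![τK, -1; 1, 0], by simp [det_fin_two]⟩
  have hA2 := AutPSL.LocalBalance.sq_two_by_two A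
  have hC2 := AutPSL.LocalBalance.sq_two_by_two C
  have hC00 : (C : Matrix (Fin 2) (Fin 2) K) 0 0 + (C : Matrix (Fin 2) (Fin 2) K) 1 1 = τK := by
    simp [C]
  rw [hC00] at hC2
  rw [← hτ] at hA2
  have hlin : ∀ k : ℕ, ∃ u v : K, (A : M2) ^ k = (u : F) • (A : M2) + (v : F) • 1 ∧
      (C : Matrix (Fin 2) (Fin 2) K) ^ k = u • (C : Matrix (Fin 2) (Fin 2) K) + v • 1 := by
    intro k
    induction k with
    | zero => exact ⟨0, 1, by simp, by simp⟩
    | succ k ih =>
      obtain ⟨u, v, h1, h2⟩ := ih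
      refine ⟨u * τK + v, -u, ?_, ?_⟩
      · rw [pow_succ, h1, add_mul, smul_mul_assoc, smul_mul_assoc, one_mul, hA2, smul_sub, smul_smul,
          sub_add_eq_add_sub, ← add_smul, sub_eq_add_neg, ← neg_smul]
        norm_cast
      · rw [pow_succ, h2, add_mul, smul_mul_assoc, smul_mul_assoc, one_mul, hC2, smul_sub, smul_smul,
          sub_add_eq_add_sub, ← add_smul, sub_eq_add_neg, ← neg_smul]
  set N := Nat.card (Matrix.SpecialLinearGroup (Fin 2) K) with hN
  obtain ⟨u, v, hA, hC⟩ := hlin N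
  rw [← Matrix.SpecialLinearGroup.coe_pow, hN, pow_card_eq_one',
    Matrix.SpecialLinearGroup.coe_one] at hC
  have hu : u = 0 := by
    have := congrFun (congrFun hC 1) 0
    simpa [C] using this.symm
  have hv : v = 1 := by
    have := congrFun (congrFun hC 0) 0
    simpa [C, hu] using this.symm
  have hAN : A ^ N = 1 := Subtype.ext (by
    rw [Matrix.SpecialLinearGroup.coe_pow, hA, hu, hv]
    simp)
  have hdvd : orderOf (QuotientGroup.mk A : PG) ∣ N :=
    orderOf_dvd_of_pow_eq_one (by rw [← QuotientGroup.mk_pow, hAN, QuotientGroup.mk_one])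
  rw [hN, Classical.GL2.natCard_SL_two] at hdvd
  exact hco.dvd_of_dvd_mul_left hdvd

/-- An automorphism of `p`-power order, `p` odd, fixing elements of all odd prime orders `r ≠ p`
dividing `q - 1`, or all those dividing `q + 1`, has no field part. -/
theorem mem_range_of_fix {p k : ℕ} (hp : p.Prime) (hp2 : p ≠ 2) (hodd : Odd (Fintype.card F))
    (x : MulAut PG) (hx : x ^ p ^ k = 1) {m : ℕ}
    (hm : m = Fintype.card F - 1 ∨ m = Fintype.card F + 1)
    (hfix : ∀ r : ℕ, r.Prime → r ≠ 2 → r ≠ p → r ∣ m → ∃ a : PG, orderOf a = r ∧ x a = a) :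
    x ∈ (gAut (n := 2) (F := F)).range := by
  have : Fact p.Prime := ⟨hp⟩
  obtain ⟨ψ, -, hψ⟩ := exists_proj_two (F := F)
  rw [← hψ, MonoidHom.mem_ker]
  by_contra hne
  obtain ⟨j, -, hj⟩ := (Nat.dvd_prime_pow hp).1
    (orderOf_dvd_of_pow_eq_one (by rw [← map_pow, hx, map_one] : ψ x ^ p ^ k = 1))
  have hj0 : j ≠ 0 := fun h => hne (orderOf_eq_one_iff.1 (by rw [hj, h, pow_zero]))
  set y := x ^ p ^ (j - 1) with hy
  have hσ : orderOf (ψ y) = p := by
    rw [hy, map_pow, orderOf_pow_of_dvd (pow_ne_zero _ hp.ne_zero) (hj ▸ pow_dvd_pow p (Nat.sub_le j 1)),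
      hj, Nat.pow_div (Nat.sub_le j 1) hp.pos, show j - (j - 1) = 1 by omega, pow_one]
  obtain ⟨g, σ, hgσ⟩ := exists_decomp_two y
  have hψσ : ψ y = ψ (fAut σ) := by
    rw [hgσ, map_mul, show ψ (gAut g) = 1 from MonoidHom.mem_ker.1 (hψ ▸ ⟨g, rfl⟩), one_mul]
  have hσ' : orderOf σ = p := by
    refine orderOf_eq_prime ?_ fun h => ?_
    · have h1 : fAut (n := 2) (σ ^ p) ∈ ψ.ker := by
        rw [MonoidHom.mem_ker, map_pow, map_pow, ← hψσ, ← hσ, pow_orderOf_eq_one]
      rw [hψ] at h1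
      obtain ⟨g', hg'⟩ := h1
      exact (mul_field_eq_one le_rfl (g := g'⁻¹) (σ := σ ^ p)
        (by rw [map_inv, hg', inv_mul_cancel])).1
    · rw [hψσ, h, map_one, map_one, orderOf_one] at hσ
      exact hp.one_lt.ne hσ
  have h2 : (2 : F) ≠ 0 := fun h => by
    have h4 : addOrderOf (1 : F) = 2 :=
      addOrderOf_eq_prime (by rw [two_nsmul, one_add_one_eq_two, h]) one_ne_zero
    exact Nat.not_even_iff_odd.2 hodd (even_iff_two_dvd.2 (h4 ▸ addOrderOf_dvd_card))
  obtain ⟨q₀, hq, hdiv⟩ := base_field (hp.odd_of_ne_two hp2) h2 σ hσ'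
  have hq₀ : Odd q₀ := (Nat.odd_pow_iff hp.ne_zero).1 (hq ▸ hodd)
  have hq3 : 3 ≤ q₀ := by
    obtain ⟨l, hl⟩ := hq₀
    have := Fintype.one_lt_card (α := F)
    rcases Nat.eq_zero_or_pos l with rfl | hl0
    · rw [hl, Nat.mul_zero, zero_add, one_pow] at hq
      omega
    · omega
  have key : ∀ x₀ : ℤ, Odd x₀ → 3 ≤ x₀.natAbs → (x₀ ^ p - 1).natAbs = m → x₀.natAbs = q₀ → False := by
    intro x₀ ho h3 hmx hx0
    obtain ⟨r, hr, hr2, hrp, hrm, hrn⟩ := exists_prime_pow_sub_one hp hp2 ho h3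
    obtain ⟨a, ha, hxa⟩ := hfix r hr hr2 hrp (hmx ▸ Int.natCast_dvd.1 hrm)
    have hya : ∀ l : ℕ, (x ^ l) a = a := fun l => by
      induction l with
      | zero => rfl
      | succ l ih => rw [pow_succ, MulAut.mul_apply, hxa, ih]
    have hrq : ¬ r ∣ q₀ := fun h => hr.not_dvd_one (Int.natCast_dvd_natCast.1 (by
      have h1 : (r : ℤ) ∣ x₀ ^ p := (Int.natCast_dvd.2 (hx0.symm ▸ h)).pow hp.ne_zero
      simpa using h1.sub hrm))
    have h := hdiv g a (hgσ ▸ hya _) (ha.symm ▸ (Nat.Prime.coprime_iff_not_dvd hr).2 hrq)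
    rw [ha] at h
    refine hrn (Int.natCast_dvd.2 ?_)
    refine h.trans (dvd_of_eq ?_)
    have e : x₀ ^ 2 - 1 = ((q₀ ^ 2 - 1 ^ 2 : ℕ) : ℤ) := by
      rw [Nat.cast_sub (Nat.pow_le_pow_left (by omega) 2), ← hx0]
      push_cast
      rw [sq_abs]
    rw [e, Int.natAbs_natCast, Nat.sq_sub_sq, mul_comm]
  rcases hm with rfl | rfl
  · refine key q₀ (by exact_mod_cast hq₀) (by simpa using hq3) ?_ (by simp)
    rw [hq, ← Nat.cast_pow, ← Nat.cast_one (R := ℤ), ← Nat.cast_sub (Nat.one_le_pow _ _ (by omega)),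
      Int.natAbs_natCast]
  · refine key (-(q₀ : ℤ)) ((by exact_mod_cast hq₀ : Odd (q₀ : ℤ)).neg) (by simpa using hq3) ?_ (by simp)
    rw [(hp.odd_of_ne_two hp2).neg_pow, show -((q₀ : ℤ) ^ p) - 1 = -((q₀ : ℤ) ^ p + 1) by ring,
      Int.natAbs_neg, hq]
    norm_cast

/-- Such an automorphism is inner. -/
theorem exists_conj_of_fix {p k : ℕ} (hp : p.Prime) (hp2 : p ≠ 2) (hodd : Odd (Fintype.card F))
    (x : MulAut PG) (hx : x ^ p ^ k = 1) {m : ℕ}
    (hm : m = Fintype.card F - 1 ∨ m = Fintype.card F + 1)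
    (hfix : ∀ r : ℕ, r.Prime → r ≠ 2 → r ≠ p → r ∣ m → ∃ a : PG, orderOf a = r ∧ x a = a) :
    ∃ a : PG, MulAut.conj a = x := by
  obtain ⟨g, rfl⟩ := mem_range_of_fix hp hp2 hodd x hx hm hfix
  have h2 : (gAut (g * g) : MulAut PG) ∈ Cfsg.Inn PG :=
    (AutPSL.Diag.gAut_mem_inn_iff le_rfl _).2
      ⟨Matrix.GeneralLinearGroup.det g, by rw [Units.val_mul, det_mul, sq]; rfl⟩
  obtain ⟨l, hl⟩ := (hp.odd_of_ne_two hp2).pow (n := k)
  obtain ⟨b, hb⟩ := inv_mem (pow_mem h2 l)
  refine ⟨b, ?_⟩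
  rw [hb, map_mul, ← sq, ← pow_mul]
  rw [hl, pow_succ] at hx
  exact inv_eq_of_mul_eq_one_right hx

end Cfsg.Agent.GW.FieldPart
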