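import Cfsg.Agent.Lib.GW.ConsPSLInvolution
import Cfsg.Agent.Lib.GW.ConsPSLGenerate
import Cfsg.Agent.Lib.GW.ConsFourGroup
import Cfsg.Agent.Lib.GW.ConsRankOne
import Cfsg.Agent.Lib.GW.PSLFieldPart
import Cfsg.Agent.Lib.Forms.DicksonPGL.Types
import Cfsg.Agent.Lib.TimesPSLTwo.PSLFacts

/-!
Subgroups of `Aut PSL(2, q)` over `PSL(2, q)` with dihedral Sylow 2-subgroups in which the
centraliser of an involution is a D-group: they are `PSL(2, q)` or `PGL(2, q)`.
-/

set_option autoImplicit false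
set_option linter.unusedSectionVars false

namespace Cfsg.Agent.GW.ConsDGroup

open Matrix Cfsg.Agent.AutPSL.Basic Cfsg.Agent.AutPSL.Main Cfsg.Agent.AutPSL.Out Cfsg.Agent.Forms
open scoped MatrixGroups

universe u

/-- The centraliser of `v` is a D-group: outside an abelian subgroup containing `v` all its elements
square to one. -/
def DCent {K : Type u} [Group K] (v : K) : Prop :=
  ∃ B : Subgroup K, v ∈ B ∧ (∀ a ∈ B, ∀ b ∈ B, a * b = b * a) ∧
    ∀ c : K, Commute c v → c * c ≠ 1 → c ∈ B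

/-- A dihedral Sylow 2-subgroup leaves no room for an elementary group of order eight. -/
theorem no_eight {K : Type u} [Group K] [Finite K] (T : Sylow 2 K) {m : ℕ} (hm : 2 ≤ m)
    (eT : (T : Subgroup K) ≃* DihedralGroup m) {a b c : K} (ha : a * a = 1) (hb : b * b = 1)
    (hc : c * c = 1) (hab : Commute a b) (hac : Commute a c) (hbc : Commute b c) (ha1 : a ≠ 1)
    (hb1 : b ≠ 1) (hne : a ≠ b) (hc1 : c ≠ 1) (hca : c ≠ a) (hcb : c ≠ b) (hcab : c ≠ a * b) :
    False := by
  have hcm : ∀ x ∈ ({a, b, c} : Set K), ∀ y ∈ ({a, b, c} : Set K), x * y = y * x := by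
    rintro x (rfl | rfl | rfl) y (rfl | rfl | rfl)
    exacts [rfl, hab.eq, hac.eq, hab.eq.symm, rfl, hbc.eq, hac.eq.symm, hbc.eq.symm, rfl]
  set U := Subgroup.closure ({a, b, c} : Set K) with hU
  have : IsMulCommutative U := Subgroup.isMulCommutative_closure hcm
  have hsq : ∀ x ∈ U, x * x = 1 := by
    intro x hx
    induction hx using Subgroup.closure_induction with
    | mem x hx => rcases hx with rfl | rfl | rfl <;> assumption
    | one => simp
    | mul x y hx hy ihx ihy =>
      have hxy : Commute x y :=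
        congrArg Subtype.val (IsMulCommutative.is_comm.comm (⟨x, hx⟩ : U) ⟨y, hy⟩)
      rw [hxy.symm.mul_mul_mul_comm, ihx, ihy, one_mul]
    | inv x _ ih => rw [← _root_.mul_inv_rev, ih, inv_one]
  have hp : IsPGroup 2 U := fun x => ⟨1, Subtype.ext (by
    rw [pow_one, SubmonoidClass.coe_pow, pow_two, hsq x x.2]; rfl)⟩
  have : Fact (Nat.Prime 2) := ⟨Nat.prime_two⟩
  obtain ⟨f, hf⟩ := Involutions.DihedralSylow.exists_embedding T hp eT
  have h4 := Involutions.DihedralEmbedding.card_le_four f hf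
    (Involutions.DihedralSylow.two_dvd T eT hm) (by omega) fun x => Subtype.ext (hsq x x.2)
  have hab1 : a * b ≠ 1 := fun h => hne (by
    rw [eq_inv_of_mul_eq_one_right h, inv_eq_of_mul_eq_one_right ha])
  have haba : a * b ≠ a := fun h => hb1 (mul_eq_left.1 h)
  have habb : a * b ≠ b := fun h => ha1 (mul_eq_right.1 h)
  have hnd : List.Nodup [1, a, b, a * b, c] := by
    simp only [List.nodup_cons, List.mem_cons, List.not_mem_nil, or_false, not_or,
      List.nodup_nil, and_true, not_false_eq_true]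
    exact ⟨⟨ha1.symm, hb1.symm, hab1.symm, hc1.symm⟩, ⟨hne, haba.symm, hca.symm⟩,
      ⟨habb.symm, hcb.symm⟩, hcab.symm⟩
  let l : List U := [1, ⟨a, Subgroup.subset_closure (by simp)⟩, ⟨b, Subgroup.subset_closure (by simp)⟩,
    ⟨a * b, mul_mem (Subgroup.subset_closure (by simp)) (Subgroup.subset_closure (by simp))⟩,
    ⟨c, Subgroup.subset_closure (by simp)⟩]
  have := Fintype.ofFinite U
  have h5 := (List.Nodup.of_map Subtype.val (show (l.map Subtype.val).Nodup from hnd)).length_le_card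
  rw [← Nat.card_eq_fintype_card] at h5
  change 5 ≤ _ at h5
  omega

/-- A dihedral group is generated by elements squaring to one. -/
theorem mem_of_involutions {K : Type u} [Group K] {T : Subgroup K} {m : ℕ} (eT : T ≃* DihedralGroup m)
    {R : Subgroup K} (h : ∀ x ∈ T, x * x = 1 → x ∈ R) : T ≤ R := by
  intro t ht
  have hs : ∀ i : ZMod m, ((eT.symm (DihedralGroup.sr i) : T) : K) ∈ R := fun i =>
    h _ (eT.symm _).2 (by
      rw [← Subgroup.coe_mul, ← map_mul, DihedralGroup.sr_mul_self, map_one, Subgroup.coe_one])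
  rcases hd : eT ⟨t, ht⟩ with i | i
  · have e : (⟨t, ht⟩ : T) = eT.symm (.sr 0) * eT.symm (.sr i) := by
      rw [← map_mul, DihedralGroup.sr_mul_sr, sub_zero, ← hd, MulEquiv.symm_apply_apply]
    rw [show t = ((eT.symm (.sr 0) : T) : K) * (eT.symm (.sr i) : T) from congrArg Subtype.val e]
    exact mul_mem (hs 0) (hs i)
  · have e : (⟨t, ht⟩ : T) = eT.symm (.sr i) := by rw [← hd, MulEquiv.symm_apply_apply]
    rw [show t = ((eT.symm (.sr i) : T) : K) from congrArg Subtype.val e]
    exact hs i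

variable {F : Type u} [Field F] [Fintype F]

local notation "PG" => Matrix.ProjectiveSpecialLinearGroup (Fin 2) F
local notation "PP" => Matrix.ProjGenLinGroup (Fin 2) F
local notation "M2" => Matrix (Fin 2) (Fin 2) F
local notation "mk'" => Matrix.ProjGenLinGroup.mk (n := Fin 2) (R := F)
local notation "toP" => Matrix.ProjectiveSpecialLinearGroup.toPGL (n := Fin 2) (R := F)

theorem conj_injective (hq : 3 < Fintype.card F) :
    Function.Injective (MulAut.conj : PG →* MulAut PG) := by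
  rw [injective_iff_map_eq_one]
  intro a ha
  refine TimesPSLTwo.psl_center hq a fun y => ?_
  have h := congrArg (fun f : MulAut PG => f y) ha
  simp only [MulAut.conj_apply, MulAut.one_apply] at h
  exact mul_inv_eq_iff_eq_mul.1 h

theorem conj_apply_eq (x : MulAut PG) (a : PG) : x * MulAut.conj a * x⁻¹ = MulAut.conj (x a) := by
  refine MulEquiv.ext fun y => ?_
  simp [MulAut.mul_apply]

/-- An involution of a group with dihedral Sylow 2-subgroup over `PSL(2, q)` is given by a trace zero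
matrix, whose torus it fixes. -/
theorem involution_form (hodd : Odd (Fintype.card F)) (hq : 3 < Fintype.card F)
    {K : Subgroup (MulAut PG)} (hI : (MulAut.conj : PG →* MulAut PG).range ≤ K)
    (T : Sylow 2 K) {m : ℕ} (hm : 2 ≤ m) (eT : (T : Subgroup K) ≃* DihedralGroup m)
    {x : MulAut PG} (hx : x ∈ K) (hx2 : orderOf x = 2) :
    ∃ g : GL (Fin 2) F, x = gAut g ∧ (g : M2).trace = 0 ∧
      (x ∉ (MulAut.conj : PG →* MulAut PG).range → ¬ IsSquare (g : M2).det) ∧
      ∃ (X : SL(2, F)) (a b : F), b ≠ 0 ∧ (X : M2) = a • (1 : M2) + b • (g : M2) ∧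
        DicksonPGL.Semisimple X ∧ (X : M2).trace = 2 * a := by
  have h2 : (2 : F) ≠ 0 := Classical.SylowSL2.two_ne_zero_of_odd hodd
  by_cases hxI : x ∈ (MulAut.conj : PG →* MulAut PG).range
  · obtain ⟨t, rfl⟩ := hxI
    rw [orderOf_injective _ (conj_injective hq)] at hx2
    obtain ⟨A, rfl⟩ := KleinPSL.pi_surjective t
    have hA := (KleinPSL.orderOf_pi_eq_two h2).1 hx2
    have hAm : (A : M2) * A = -1 := by
      rw [← Matrix.SpecialLinearGroup.coe_mul, hA, Matrix.SpecialLinearGroup.coe_neg,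
        Matrix.SpecialLinearGroup.coe_one]
    have htr : (A : M2).trace = 0 := by
      have h := Cons.cayley_two (A : M2)
      rw [hAm, A.2, one_smul, eq_sub_iff_add_eq, neg_add_cancel, eq_comm, smul_eq_zero] at h
      refine h.resolve_right fun e => ?_
      have := A.2
      rw [e, Matrix.det_zero] at this
      exact zero_ne_one this
    refine ⟨Matrix.SpecialLinearGroup.toGL A, (Cons.gAut_toGL A).symm, htr, fun h => absurd ⟨_, rfl⟩ h,
      A, 0, 1, one_ne_zero, by rw [zero_smul, zero_add, one_smul]; rfl, ⟨fun c hc => ?_, ?_⟩,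
      by rw [htr, mul_zero]⟩
    · rw [hc, Matrix.trace_smul, Matrix.trace_one, Fintype.card_fin, smul_eq_mul, mul_eq_zero] at htr
      have := A.2
      rw [hc, htr.resolve_right (by exact_mod_cast h2), zero_smul, Matrix.det_zero] at this
      exact zero_ne_one this
    · rw [htr, mul_zero]
      intro h
      exact mul_ne_zero h2 h2 (by linear_combination -h)
  · have hxx : x * x = 1 := Involutions.Basic.inv_sq_one hx2
    have hN : Cons.NoFour x := by
      intro a b ha hb hne hab hfa hfb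
      have hcx : ∀ {c : PG}, x c = c → Commute x (MulAut.conj c) := fun {c} hc => by
        have h := conj_apply_eq x c
        rw [hc] at h
        exact mul_inv_eq_iff_eq_mul.1 h
      have hsq : ∀ {c : PG}, orderOf c = 2 → MulAut.conj c * MulAut.conj c = 1 := fun {c} hc => by
        rw [← map_mul, Involutions.Basic.inv_sq_one hc, map_one]
      refine no_eight T hm eT (a := ⟨MulAut.conj a, hI ⟨a, rfl⟩⟩) (b := ⟨MulAut.conj b, hI ⟨b, rfl⟩⟩)
        (c := ⟨x, hx⟩) (Subtype.ext (hsq ha)) (Subtype.ext (hsq hb)) (Subtype.ext hxx)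
        (Subtype.ext (hab.map (MulAut.conj : PG →* MulAut PG)).eq) (Subtype.ext (hcx hfa).symm.eq)
        (Subtype.ext (hcx hfb).symm.eq) ?_ ?_ ?_ ?_ ?_ ?_ ?_
      all_goals intro h; replace h := congrArg Subtype.val h
      · exact Involutions.Basic.ne_one ha (conj_injective hq (h.trans (map_one _).symm))
      · exact Involutions.Basic.ne_one hb (conj_injective hq (h.trans (map_one _).symm))
      · exact hne (conj_injective hq h)
      · exact Involutions.Basic.ne_one hx2 h
      · exact hxI ⟨a, h.symm⟩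
      · exact hxI ⟨b, h.symm⟩
      · exact hxI ⟨a * b, (map_mul _ _ _).trans h.symm⟩
    obtain ⟨g, rfl, hd, ht⟩ := Cons.outer_form h2 x hxx hN fun y hy => hxI ⟨y, hy.symm⟩
    exact ⟨g, rfl, ht, fun _ => hd, Cons.exists_axis h2 hq hd ht⟩

/-- The elements fixed by an involution: a torus normaliser. -/
theorem fixed_facts (hodd : Odd (Fintype.card F)) (hq : 3 < Fintype.card F)
    {K : Subgroup (MulAut PG)} (hI : (MulAut.conj : PG →* MulAut PG).range ≤ K)
    (T : Sylow 2 K) {m : ℕ} (hm : 2 ≤ m) (eT : (T : Subgroup K) ≃* DihedralGroup m)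
    {x : MulAut PG} (hx : x ∈ K) (hx2 : orderOf x = 2) :
    (∃ f : Fin 3 → PG, Function.Injective f ∧ ∀ i, x (f i) = f i) ∧
    ∃ n : ℕ, (n = Fintype.card F - 1 ∨ n = Fintype.card F + 1) ∧
      ∀ r : ℕ, r.Prime → r ≠ 2 → r ∣ n → ∃ a : PG, orderOf a = r ∧ x a = a := by
  obtain ⟨g, rfl, -, -, X, a, b, hb, hX, hss, htr⟩ := involution_form hodd hq hI T hm eT hx hx2
  obtain ⟨k, τ, hτ, -, hgcd, hcardN, -, c, hc, y, -, hck, -⟩ := DicksonPGL.torus_psl hss
  have hg2 : Nat.gcd 2 (Fintype.card F - 1) = 2 := by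
    obtain ⟨l, hl⟩ := hodd
    rw [hl]
    exact Nat.gcd_eq_left ⟨l, by omega⟩
  rw [hg2] at hgcd
  have hfix : ∀ z ∈ (DicksonPGL.torusN X).comap toP, (gAut g : MulAut PG) z = z := fun z hz =>
    (Cons.gAut_fix_iff g z).2 (Cons.torusN_commute hb hX htr hz)
  have hk2 : 2 ≤ k := by
    obtain ⟨l, hl⟩ := hodd
    omega
  refine ⟨?_, τ, hτ, fun r hr hr2 hrn => ?_⟩
  · have hcard : Nat.card ↥((DicksonPGL.torusN X).comap toP) = 2 * k := by
      rw [← hcardN, ← Subgroup.card_map_of_injective (f := toP)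
        Matrix.ProjectiveSpecialLinearGroup.toPGL_injective, Subgroup.map_comap_eq, inf_comm]
      congr 2
    obtain ⟨f⟩ : Nonempty (Fin 3 ↪ ↥((DicksonPGL.torusN X).comap toP)) :=
      ⟨(Fin.castLEEmb (show 3 ≤ 2 * k by omega)).trans
        (Finite.equivFinOfCardEq hcard).symm.toEmbedding⟩
    exact ⟨fun i => f i, Subtype.val_injective.comp f.injective, fun i => hfix _ (f i).2⟩
  · have hrk : r ∣ k := by
      rw [← hgcd] at hrn
      rcases hr.dvd_mul.1 hrn with h | h
      · exact absurd ((Nat.prime_dvd_prime_iff_eq hr Nat.prime_two).1 h) hr2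
      · exact h
    refine ⟨c ^ (k / r), ?_, hfix _ (pow_mem hc _)⟩
    subst hck
    exact orderOf_pow_orderOf_div (by omega) hrk

theorem companion {g : GL (Fin 2) F} (ht : (g : M2).trace = 0) (hd : ¬ IsSquare (g : M2).det) :
    ∃ h : GL (Fin 2) F, (g : M2) * h = (h : M2) * !![0, -(g : M2).det; 1, 0] := by
  set G := (g : M2) with hG
  have ht' : G 1 1 = -G 0 0 := by
    rw [Matrix.trace_fin_two] at ht
    linear_combination ht
  have key : ∀ e0 e1 : F, (e0 * (G 1 0 * e0 + G 1 1 * e1) - e1 * (G 0 0 * e0 + G 0 1 * e1)) ≠ 0 →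
      ∃ h : GL (Fin 2) F, G * h = (h : M2) * !![0, -G.det; 1, 0] := by
    intro e0 e1 hne
    refine ⟨Matrix.GeneralLinearGroup.mkOfDetNeZero
      !![e0, G 0 0 * e0 + G 0 1 * e1; e1, G 1 0 * e0 + G 1 1 * e1]
      (by rw [Matrix.det_fin_two_of]; exact fun h => hne (by linear_combination h)), ?_⟩
    show G * !![e0, G 0 0 * e0 + G 0 1 * e1; e1, G 1 0 * e0 + G 1 1 * e1] = _
    ext i j
    fin_cases i <;> fin_cases j <;>
      simp [Matrix.mul_apply, Fin.sum_univ_two, Matrix.det_fin_two, ht'] <;> ring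
  by_cases h10 : G 1 0 = 0
  · by_cases h01 : G 0 1 = 0
    · by_cases h00 : G 0 0 = 0
      · exact absurd ⟨0, by simp [Matrix.det_fin_two, h00, h01]⟩ hd
      · refine key 1 1 fun h => ?_
        rw [h10, h01, ht'] at h
        have h2 : (2 : F) ≠ 0 := fun h2 => hd (FiniteField.isSquare_of_char_two
          (by
            have := CharP.ringChar_of_prime_eq_zero Nat.prime_two (by exact_mod_cast h2 : ((2 : ℕ) : F) = 0)
            exact this) _)
        exact h00 ((mul_eq_zero.1 (by linear_combination -h : (2 : F) * G 0 0 = 0)).resolve_left h2)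
    · exact key 0 1 fun h => h01 (by linear_combination -h)
  · exact key 1 0 fun h => h10 (by linear_combination h)

/-- Outer diagonal involutions are conjugate under `PSL(2, q)`. -/
theorem conj_outer {g g' : GL (Fin 2) F} (ht : (g : M2).trace = 0) (hd : ¬ IsSquare (g : M2).det)
    (ht' : (g' : M2).trace = 0) (hd' : ¬ IsSquare (g' : M2).det) :
    ∃ s : PG, MulAut.conj s * gAut g * (MulAut.conj s)⁻¹ = gAut g' := by
  obtain ⟨r, hr⟩ := NormEq.Outer.isSquare_mul hd hd'
  have hd0 : (g : M2).det ≠ 0 := fun e => hd (e ▸ IsSquare.zero)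
  have hd0' : (g' : M2).det ≠ 0 := fun e => hd' (e ▸ IsSquare.zero)
  set s := r * ((g : M2).det)⁻¹ with hs
  have hs2 : s * s * (g : M2).det = (g' : M2).det := by
    rw [hs]
    field_simp
    linear_combination -hr
  have hs0 : s ≠ 0 := fun e => hd0' (by rw [← hs2, e, zero_mul, zero_mul])
  set g₁ := g * Matrix.GeneralLinearGroup.scalar (Fin 2) (Units.mk0 s hs0) with hg₁
  have hg₁v : (g₁ : M2) = s • (g : M2) := by
    rw [hg₁, Units.val_mul,
      show ((Matrix.GeneralLinearGroup.scalar (Fin 2) (Units.mk0 s hs0) : GL (Fin 2) F) : M2) =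
        s • (1 : M2) by simp [Matrix.smul_one_eq_diagonal], mul_smul_comm, mul_one]
  have heq : (gAut g : MulAut PG) = gAut g₁ := NormEq.Outer.gAut_eq_iff.2 ⟨s, hg₁v⟩
  have ht₁ : (g₁ : M2).trace = 0 := by rw [hg₁v, Matrix.trace_smul, ht, smul_zero]
  have hdet₁ : (g₁ : M2).det = (g' : M2).det := by
    rw [hg₁v, Matrix.det_smul, Fintype.card_fin, ← hs2, pow_two]
  obtain ⟨h, hh⟩ := companion ht₁ (hdet₁ ▸ hd')
  obtain ⟨h', hh'⟩ := companion ht' hd'
  rw [hdet₁] at hh
  have hconj : g' * (h' * h⁻¹) = h' * h⁻¹ * g₁ := by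
    refine Units.ext ?_
    have h1 : ((h⁻¹ : GL (Fin 2) F) : M2) * g₁ = !![0, -(g' : M2).det; 1, 0] * ((h⁻¹ : GL (Fin 2) F) : M2) := by
      calc ((h⁻¹ : GL (Fin 2) F) : M2) * g₁
          = ((h⁻¹ : GL (Fin 2) F) : M2) * ((g₁ : M2) * h) * ((h⁻¹ : GL (Fin 2) F) : M2) := by
            rw [mul_assoc, mul_assoc (g₁ : M2), Units.mul_inv, mul_one]
        _ = _ := by rw [hh, ← mul_assoc (((h⁻¹ : GL (Fin 2) F) : M2)), Units.inv_mul, one_mul]
    simp only [Units.val_mul]
    rw [mul_assoc (h' : M2) _ (g₁ : M2), h1, ← mul_assoc, ← mul_assoc, hh']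
  obtain ⟨k, hk, hkd⟩ : ∃ k : GL (Fin 2) F, g' * k = k * g₁ ∧ IsSquare (k : M2).det := by
    by_cases hsq : IsSquare ((h' * h⁻¹ : GL (Fin 2) F) : M2).det
    · exact ⟨_, hconj, hsq⟩
    · refine ⟨h' * h⁻¹ * g₁, by rw [← mul_assoc g', hconj], ?_⟩
      rw [Units.val_mul (h' * h⁻¹) g₁, Matrix.det_mul]
      exact NormEq.Outer.isSquare_mul hsq (hdet₁ ▸ hd')
  obtain ⟨c, hc⟩ := hkd
  have hc0 : c ≠ 0 := fun e => ((Matrix.isUnit_iff_isUnit_det _).1 k.isUnit).ne_zero (by rw [hc, e, mul_zero])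
  obtain ⟨t, ht2⟩ := (AutPSL.Diag.gAut_mem_inn_iff le_rfl k).2 ⟨Units.mk0 c hc0, by rw [pow_two]; exact hc.symm⟩
  refine ⟨t, ?_⟩
  rw [ht2, heq, mul_inv_eq_iff_eq_mul, ← map_mul, ← map_mul, hk]

/-- The whole group is inner-diagonal. -/
theorem le_range (hodd : Odd (Fintype.card F)) (hq : 3 < Fintype.card F)
    {K : Subgroup (MulAut PG)} (hI : (MulAut.conj : PG →* MulAut PG).range ≤ K)
    (T : Sylow 2 K) {m : ℕ} (hm : 2 ≤ m) (eT : (T : Subgroup K) ≃* DihedralGroup m)
    (v : K) (hv : orderOf v = 2) (hD : DCent v) :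
    K ≤ (gAut (n := 2) (F := F)).range := by
  have : Fact (Nat.Prime 2) := ⟨Nat.prime_two⟩
  have h2 : (2 : F) ≠ 0 := Classical.SylowSL2.two_ne_zero_of_odd hodd
  set R : Subgroup K := (gAut (n := 2) (F := F)).range.subgroupOf K with hR
  have hRn : R.Normal := by
    obtain ⟨ψ, -, hker⟩ := exists_proj_two (F := F)
    rw [hR, ← hker]
    infer_instance
  have hinvR : ∀ x : K, x * x = 1 → x ∈ R := by
    intro x hx
    by_cases hx1 : x = 1
    · rw [hx1]; exact one_mem _
    · have hox : orderOf (x : MulAut PG) = 2 := by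
        rw [Subgroup.orderOf_coe]; exact orderOf_eq_prime (by rw [pow_two, hx]) hx1
      obtain ⟨g, hg, -⟩ := involution_form hodd hq hI T hm eT x.2 hox
      exact Subgroup.mem_subgroupOf.2 ⟨g, hg.symm⟩
  have hTR : (T : Subgroup K) ≤ R := mem_of_involutions eT fun x _ h => hinvR x h
  have htwo : ∀ x : K, (∃ k, x ^ 2 ^ k = 1) → x ∈ R := by
    rintro x ⟨k, hk⟩
    have hp : IsPGroup 2 (Subgroup.zpowers x) := by
      obtain ⟨j, -, hj⟩ := (Nat.dvd_prime_pow Nat.prime_two).1 (orderOf_dvd_of_pow_eq_one hk)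
      exact IsPGroup.of_card (n := j) (by rw [Nat.card_zpowers, hj])
    obtain ⟨S, hS⟩ := hp.exists_le_sylow
    obtain ⟨g, hg⟩ := MulAction.exists_smul_eq K T S
    have hxS := hS (Subgroup.mem_zpowers x)
    rw [← hg, Sylow.coe_subgroup_smul, Subgroup.mem_pointwise_smul_iff_inv_smul_mem] at hxS
    have h1 := hRn.conj_mem _ (hTR hxS) g
    simpa [MulAut.smul_def, mul_assoc] using h1
  obtain ⟨B, hvB, hBc, hBD⟩ := hD
  have hvo : orderOf (v : MulAut PG) = 2 := by rw [Subgroup.orderOf_coe, hv]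
  obtain ⟨-, n, hn, hfix⟩ := fixed_facts hodd hq hI T hm eT v.2 hvo
  -- elements of `B` are inner-diagonal
  have hBR : ∀ N : ℕ, ∀ b ∈ B, orderOf b = N → b ∈ R := by
    intro N
    induction N using Nat.recOnPrimeCoprime with
    | zero => intro b _ hb; exact absurd hb (orderOf_pos b).ne'
    | prime_pow p k hp =>
      intro b hb hob
      rcases eq_or_ne p 2 with rfl | hp2
      · exact htwo b ⟨k, by rw [← hob, pow_orderOf_eq_one]⟩
      · refine Subgroup.mem_subgroupOf.2 (FieldPart.mem_range_of_fix (k := k) hp hp2 hodd (b : MulAut PG)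
          (by rw [← SubmonoidClass.coe_pow, ← hob, pow_orderOf_eq_one, Subgroup.coe_one]) hn
          fun r hr hr2 _ hrn => ?_)
        obtain ⟨a, ha, hva⟩ := hfix r hr hr2 hrn
        refine ⟨a, ha, ?_⟩
        let A : K := ⟨MulAut.conj a, hI ⟨a, rfl⟩⟩
        have hAv : Commute A v := by
          refine Subtype.ext ?_
          have h := conj_apply_eq (v : MulAut PG) a
          rw [hva] at h
          exact (mul_inv_eq_iff_eq_mul.1 h).symm
        have hA2 : A * A ≠ 1 := fun h => by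
          have h1 : a ^ 2 = 1 := conj_injective hq (by
            rw [map_pow, pow_two, map_one]; exact congrArg Subtype.val h)
          have := Nat.le_of_dvd two_pos (ha ▸ orderOf_dvd_of_pow_eq_one h1)
          have := hr.two_le
          omega
        have hbA : b * A = A * b := hBc b hb A (hBD A hAv hA2)
        refine conj_injective hq ?_
        rw [← conj_apply_eq, mul_inv_eq_iff_eq_mul]
        exact congrArg Subtype.val hbA
    | coprime a b ha hb hab iha ihb =>
      intro x hx hox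
      have hxa : orderOf (x ^ a) = b := by
        rw [orderOf_pow_of_dvd (by omega) (hox ▸ dvd_mul_right a b), hox, Nat.mul_div_cancel_left _ (by omega)]
      have hxb : orderOf (x ^ b) = a := by
        rw [orderOf_pow_of_dvd (by omega) (hox ▸ dvd_mul_left b a), hox, Nat.mul_div_cancel _ (by omega)]
      have h1 := ihb _ (pow_mem hx a) hxa
      have h2 := iha _ (pow_mem hx b) hxb
      have e : x = (x ^ a) ^ (Nat.gcdA a b) * (x ^ b) ^ (Nat.gcdB a b) := by
        rw [← zpow_natCast, ← zpow_natCast, ← _root_.zpow_mul, ← _root_.zpow_mul, ← _root_.zpow_add, ← Nat.gcd_eq_gcd_ab,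
          hab.gcd_eq_one, Nat.cast_one, zpow_one]
      rw [e]
      exact mul_mem (zpow_mem h1 _) (zpow_mem h2 _)
  have hCR : ∀ c : K, Commute c v → c ∈ R := fun c hc => by
    by_cases hcc : c * c = 1
    · exact hinvR c hcc
    · exact hBR _ c (hBD c hc hcc) rfl
  intro x hx
  obtain ⟨gv, hgv, htv, hdv, -⟩ := involution_form hodd hq hI T hm eT v.2 hvo
  have hox : orderOf (x * v * x⁻¹ : MulAut PG) = 2 := by
    rw [← MulAut.conj_apply, MulEquiv.orderOf_eq, hvo]
  -- `x` moves `v` within its class under the inner automorphisms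
  obtain ⟨s, hs⟩ : ∃ s : PG, MulAut.conj s * (v : MulAut PG) * (MulAut.conj s)⁻¹ = x * v * x⁻¹ := by
    by_cases hvI : (v : MulAut PG) ∈ (MulAut.conj : PG →* MulAut PG).range
    · obtain ⟨t, ht⟩ := hvI
      rw [← ht, orderOf_injective _ (conj_injective hq)] at hvo
      rw [← ht, conj_apply_eq, orderOf_injective _ (conj_injective hq)] at hox
      obtain ⟨A, rfl⟩ := KleinPSL.pi_surjective t
      obtain ⟨A', hA'⟩ := KleinPSL.pi_surjective (x (KleinPSL.pi F A))
      obtain ⟨p, hp⟩ := KleinSL2.exists_conj_j h2 ((KleinPSL.orderOf_pi_eq_two h2).1 hvo)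
      obtain ⟨p', hp'⟩ := KleinSL2.exists_conj_j h2
        ((KleinPSL.orderOf_pi_eq_two h2).1 (hA' ▸ hox))
      refine ⟨KleinPSL.pi F (p' * p⁻¹), ?_⟩
      rw [← ht, conj_apply_eq, conj_apply_eq, ← hA', MulAut.conj_apply, ← map_inv, ← map_mul, ← map_mul,
        ← hp, ← hp']
      congr 2
      group
    · obtain ⟨gw, hgw, htw, hdw, -⟩ :=
        involution_form hodd hq hI T hm eT (mul_mem (mul_mem hx v.2) (inv_mem hx)) hox
      have hwI : x * (v : MulAut PG) * x⁻¹ ∉ (MulAut.conj : PG →* MulAut PG).range := by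
        rintro ⟨t, ht⟩
        refine hvI ⟨x⁻¹ t, ?_⟩
        rw [← conj_apply_eq, ht]
        group
      rw [hgw, hgv]
      exact conj_outer htv (hdv hvI) htw (hdw hwI)
  have hsK : MulAut.conj s ∈ K := hI ⟨s, rfl⟩
  have hc := hCR ((⟨MulAut.conj s, hsK⟩ : K)⁻¹ * ⟨x, hx⟩) (by
    refine Subtype.ext ?_
    show (MulAut.conj s)⁻¹ * x * (v : MulAut PG) = v * ((MulAut.conj s)⁻¹ * x)
    calc (MulAut.conj s)⁻¹ * x * (v : MulAut PG)
        = (MulAut.conj s)⁻¹ * (x * v * x⁻¹) * x := by group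
      _ = _ := by rw [← hs]; group)
  have hsR : MulAut.conj s ∈ (gAut (n := 2) (F := F)).range := AutPSL.Diag.inn_le_range ⟨s, rfl⟩
  have := mul_mem hsR (Subgroup.mem_subgroupOf.1 hc)
  simpa using this

/-- Between the inner and the inner-diagonal automorphisms lie only `PSL` and `PGL`. -/
theorem psl_or_pgl (hq : 3 < Fintype.card F) {K : Subgroup (MulAut PG)}
    (hI : (MulAut.conj : PG →* MulAut PG).range ≤ K) (hle : K ≤ (gAut (n := 2) (F := F)).range) :
    Nonempty (K ≃* PG) ∨ Nonempty (K ≃* PP) := by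
  by_cases hK : K ≤ (MulAut.conj : PG →* MulAut PG).range
  · exact Or.inl ⟨(MulEquiv.subgroupCongr (le_antisymm hK hI)).trans
      (MonoidHom.ofInjective (conj_injective hq)).symm⟩
  · right
    rw [SetLike.not_le_iff_exists] at hK
    obtain ⟨y, hy, hyI⟩ := hK
    obtain ⟨g₀, rfl⟩ := hle hy
    have hinn : ∀ g : GL (Fin 2) F, IsSquare (g : M2).det → (gAut g : MulAut PG) ∈ K := by
      rintro g ⟨c, hc⟩
      have hc0 : c ≠ 0 := fun e =>
        ((Matrix.isUnit_iff_isUnit_det _).1 g.isUnit).ne_zero (by rw [hc, e, mul_zero])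
      exact hI ((AutPSL.Diag.gAut_mem_inn_iff le_rfl g).2
        ⟨Units.mk0 c hc0, by rw [pow_two]; exact hc.symm⟩)
    have hns : ¬ IsSquare (g₀ : M2).det := by
      rintro ⟨c, hc⟩
      have hc0 : c ≠ 0 := fun e =>
        ((Matrix.isUnit_iff_isUnit_det _).1 g₀.isUnit).ne_zero (by rw [hc, e, mul_zero])
      exact hyI ((AutPSL.Diag.gAut_mem_inn_iff le_rfl g₀).2
        ⟨Units.mk0 c hc0, by rw [pow_two]; exact hc.symm⟩)
    have hr : K = (gAut (n := 2) (F := F)).range := by
      refine le_antisymm hle ?_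
      rintro _ ⟨g, rfl⟩
      by_cases hg : IsSquare (g : M2).det
      · exact hinn g hg
      · have := mul_mem (hinn (g * g₀) ?_) (inv_mem hy)
        · rwa [map_mul, mul_inv_cancel_right] at this
        · rw [Units.val_mul, Matrix.det_mul]; exact NormEq.Outer.isSquare_mul hg hns
    have hk : (gAut (n := 2) (F := F)).ker = Subgroup.center (GL (Fin 2) F) :=
      Subgroup.ext fun g => MonoidHom.mem_ker.trans (gAut_eq_one_iff le_rfl g)
    exact ⟨((MulEquiv.subgroupCongr hr).trans
      (QuotientGroup.quotientKerEquivRange (gAut (n := 2) (F := F))).symm).trans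
      (QuotientGroup.quotientMulEquivOfEq hk)⟩

end Cfsg.Agent.GW.ConsDGroup
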