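import Cfsg.Prelude.Def_CaseTheorems
import Cfsg.Prelude.Def_SporadicB
import Cfsg.Agent.S0016
import Cfsg.Agent.S0225
import Cfsg.Agent.S3966
import Cfsg.Agent.GStructB.DihedralStem
import Cfsg.Agent.SimpleFacts.SLTwoMultiplier
import Cfsg.Agent.Lib.Cores.Basic
import Cfsg.Agent.Lib.Involutions.Basic

/-!
Groups of 2-rank one and central extensions of groups with dihedral Sylow 2-subgroups, prepared
for the consequences of the Gorenstein–Walter theorem.
-/

set_option autoImplicit false

namespace Cfsg.Agent.GW.Cons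

open Subgroup

universe u v

/-- The Gorenstein–Walter theorem for perfect groups, as a hypothesis. -/
def PerfectGW : Prop :=
  ∀ {X : Type u} [Group X] [Finite X] [Group.IsPerfect X] (S : Sylow 2 X) (n : ℕ), 2 ≤ n →
    Nonempty ((S : Subgroup X) ≃* DihedralGroup n) →
      (∃ (F : Type) (_ : Field F) (_ : Fintype F), Odd (Fintype.card F) ∧ 3 < Fintype.card F ∧
        Nonempty (X ⧸ Cfsg.oddCore X ≃* Matrix.ProjectiveSpecialLinearGroup (Fin 2) F)) ∨
      Nonempty (X ⧸ Cfsg.oddCore X ≃* alternatingGroup (Fin 7))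

variable {X : Type u} [Group X] [Finite X]

/-- In rank one two commuting involutions are equal. -/
theorem eq_of_commute (h1 : Cfsg.PRankLE 2 1 X) {a b : X} (ha : orderOf a = 2) (hb : orderOf b = 2)
    (h : Commute a b) : a = b := by
  by_contra hne
  have ha2 := Involutions.Basic.inv_sq_one ha
  have hb2 := Involutions.Basic.inv_sq_one hb
  have hc : ∀ x ∈ ({a, b} : Set X), ∀ y ∈ ({a, b} : Set X), x * y = y * x := by
    rintro x (rfl | rfl) y (rfl | rfl)
    exacts [rfl, h.eq, h.eq.symm, rfl]
  have : IsMulCommutative (closure ({a, b} : Set X)) := Subgroup.isMulCommutative_closure hc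
  have hsq : ∀ x ∈ closure ({a, b} : Set X), x ^ 2 = 1 := by
    intro x hx
    induction hx using closure_induction with
    | mem x hx => rcases hx with rfl | rfl <;> rwa [pow_two]
    | one => simp
    | mul x y hx hy ihx ihy =>
      have hxy : Commute x y :=
        congrArg Subtype.val (IsMulCommutative.is_comm.comm (⟨x, hx⟩ : closure ({a, b} : Set X)) ⟨y, hy⟩)
      rw [hxy.mul_pow, ihx, ihy, one_mul]
    | inv x _ ih => rw [inv_pow, ih, inv_one]
  have h2 := h1 _ this hsq
  let f : Fin 3 → closure ({a, b} : Set X) :=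
    ![1, ⟨a, subset_closure (by simp)⟩, ⟨b, subset_closure (by simp)⟩]
  have hf : Function.Injective f := by
    intro i j hij
    have h1a := Involutions.Basic.ne_one ha
    have h1b := Involutions.Basic.ne_one hb
    fin_cases i <;> fin_cases j <;> simp_all [f, Subtype.ext_iff, eq_comm]
  have h3 := Nat.card_le_card_of_injective f hf
  rw [Nat.card_fin] at h3
  omega

theorem prankLE_of_injective {Y : Type v} [Group Y] {f : Y →* X} (hf : Function.Injective f)
    (h1 : Cfsg.PRankLE 2 1 X) : Cfsg.PRankLE 2 1 Y := by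
  intro A hA hsq
  rw [← Subgroup.card_map_of_injective (K := A) hf]
  refine h1 _ (Subgroup.map_isMulCommutative A f) ?_
  rintro _ ⟨a, ha, rfl⟩
  rw [← map_pow, hsq a ha, map_one]

/-- A 2-group of rank one is cyclic or quaternion. -/
theorem cyclic_or_quaternion (h1 : Cfsg.PRankLE 2 1 X) (S : Sylow 2 X) :
    IsCyclic (S : Subgroup X) ∨
      ∃ n : ℕ, Nonempty ((S : Subgroup X) ≃* QuaternionGroup (2 ^ n)) := by
  have : Fact (Nat.Prime 2) := ⟨Nat.prime_two⟩
  have h1S := prankLE_of_injective (f := (S : Subgroup X).subtype) (Subtype.val_injective) h1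
  by_cases hbot : ∀ H : Subgroup (S : Subgroup X), Nat.card H ≠ 2
  · rcases S0016.result 2 S.isPGroup' fun H _ hH _ => absurd hH (hbot H) with h | ⟨-, h⟩
    exacts [Or.inl h, Or.inr h]
  · suffices huniq : ∀ H K : Subgroup (S : Subgroup X), Nat.card H = 2 → Nat.card K = 2 → H = K by
      rcases S0016.result 2 S.isPGroup' huniq with h | ⟨-, h⟩
      exacts [Or.inl h, Or.inr h]
    intro H K hH hK
    -- subgroups of order two are generated by the same involution
    obtain ⟨z, hz⟩ : ∃ z : (S : Subgroup X), orderOf z = 2 ∧ z ∈ center (S : Subgroup X) := by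
      have : Nontrivial (S : Subgroup X) := by
        by_contra hn
        rw [not_nontrivial_iff_subsingleton] at hn
        have := Subgroup.card_subgroup_dvd_card H
        rw [hH, Nat.card_of_subsingleton (1 : (S : Subgroup X))] at this
        norm_num at this
      have hnt := S.isPGroup'.center_nontrivial
      have h2 : 2 ∣ Nat.card (center (S : Subgroup X)) := by
        obtain ⟨k, hk⟩ := (S.isPGroup'.to_subgroup (center (S : Subgroup X))).exists_card_eq
        have : 1 < Nat.card (center (S : Subgroup X)) := Finite.one_lt_card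
        rw [hk] at this ⊢
        exact dvd_pow_self 2 (by rintro rfl; simp at this)
      obtain ⟨z, hz⟩ := exists_prime_orderOf_dvd_card' 2 h2
      exact ⟨z, by rw [Subgroup.orderOf_coe]; exact hz, z.2⟩
    have key : ∀ L : Subgroup (S : Subgroup X), Nat.card L = 2 → L = zpowers z := by
      intro L hL
      obtain ⟨y, hy⟩ := exists_prime_orderOf_dvd_card' (G := L) 2 (by rw [hL])
      rw [← Subgroup.orderOf_coe] at hy
      have hyz := eq_of_commute h1S hy hz.1 (Subgroup.mem_center_iff.1 hz.2 y)
      refine (eq_of_le_of_card_ge ((zpowers_le (g := z)).2 (hyz ▸ y.2)) ?_).symm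
      rw [hL, Nat.card_zpowers, hz.1]
    rw [key H hH, key K hK]

/-- The quotient by a normal subgroup of odd order keeps the rank one. -/
theorem prankLE_odd_quotient (N : Subgroup X) [N.Normal] (hN : Odd (Nat.card N))
    (h1 : Cfsg.PRankLE 2 1 X) : Cfsg.PRankLE 2 1 (X ⧸ N) := by
  have : Fact (Nat.Prime 2) := ⟨Nat.prime_two⟩
  intro A hA hsq
  have hAp : IsPGroup 2 A := fun a => ⟨1, by
    ext
    simpa using hsq a.1 a.2⟩
  obtain ⟨P, hP⟩ := hAp.exists_le_sylow
  obtain ⟨S⟩ := (inferInstance : Nonempty (Sylow 2 X))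
  obtain ⟨g, hg⟩ := MulAction.exists_smul_eq (X ⧸ N) P
    (S.mapSurjective (QuotientGroup.mk'_surjective N))
  -- the image of `S` is isomorphic to `S`
  have hinj : Function.Injective ((QuotientGroup.mk' N).comp (S : Subgroup X).subtype) := by
    rw [← MonoidHom.ker_eq_bot_iff, eq_bot_iff]
    intro x hx
    rw [MonoidHom.mem_ker, MonoidHom.comp_apply, QuotientGroup.mk'_apply,
      QuotientGroup.eq_one_iff] at hx
    have hxbot : (x : X) ∈ (S : Subgroup X) ⊓ N := ⟨x.2, hx⟩
    obtain ⟨k, hk⟩ := S.isPGroup'.exists_card_eq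
    rw [(Subgroup.disjoint_of_coprime_natCard (by
      rw [hk]; exact Nat.Coprime.pow_left k (Nat.coprime_two_left.2 hN))).eq_bot, mem_bot] at hxbot
    exact mem_bot.2 (Subtype.ext hxbot)
  have h1S := prankLE_of_injective (f := (S : Subgroup X).subtype) Subtype.val_injective h1
  let e := MonoidHom.ofInjective hinj
  have hrange : ((QuotientGroup.mk' N).comp (S : Subgroup X).subtype).range =
      (S : Subgroup X).map (QuotientGroup.mk' N) := by
    rw [MonoidHom.range_comp, Subgroup.range_subtype]
  have h1T : Cfsg.PRankLE 2 1 ((S : Subgroup X).map (QuotientGroup.mk' N)) := by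
    rw [← hrange]
    exact prankLE_of_injective (f := e.symm.toMonoidHom) e.symm.injective h1S
  have hle : A.map (MulAut.conj g).toMonoidHom ≤ (S : Subgroup X).map (QuotientGroup.mk' N) := by
    rintro _ ⟨a, ha, rfl⟩
    have : MulAut.conj g • (a : X ⧸ N) ∈ ((g • P : Sylow 2 (X ⧸ N)) : Subgroup (X ⧸ N)) :=
      Subgroup.smul_mem_pointwise_smul a (MulAut.conj g) (P : Subgroup (X ⧸ N)) (hP ha)
    rw [hg] at this
    exact this
  have hcard := h1T ((A.map (MulAut.conj g).toMonoidHom).subgroupOf _) ?_ ?_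
  · rwa [Nat.card_congr (Subgroup.subgroupOfEquivOfLe hle).toEquiv,
      Subgroup.card_map_of_injective (K := A) (MulAut.conj g).injective] at hcard
  · have := Subgroup.map_isMulCommutative A (MulAut.conj g).toMonoidHom
    infer_instance
  · intro a ha
    obtain ⟨b, hb, hbe⟩ := mem_subgroupOf.1 ha
    refine Subtype.ext ?_
    rw [SubmonoidClass.coe_pow, ← hbe, ← map_pow, hsq b hb, map_one]
    rfl

/-- In a group of rank one without normal subgroups of odd order an involution is central. -/
theorem exists_center_involution (h1 : Cfsg.PRankLE 2 1 X) (h2 : Even (Nat.card X))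
    (hO : Cfsg.oddCore X = ⊥) :
    ∃ z : X, orderOf z = 2 ∧ z ∈ center X ∧ ∀ y : X, orderOf y = 2 → y = z := by
  obtain ⟨z, hz, N, hN, hodd, hcom⟩ := S0225.result h2 fun E hE => by
    have h4 := hE.card_four
    have := h1 E ⟨⟨fun a b => mul_comm_of_exponent_two hE.exponent_two a b⟩⟩ fun a ha => by
      have h := Monoid.pow_exponent_eq_one (⟨a, ha⟩ : E)
      rw [hE.exponent_two] at h
      exact congrArg Subtype.val h
    omega
  have hNbot : N = ⊥ := le_bot_iff.1 (hO ▸ Cores.le_oddCore hodd)
  have hzc : z ∈ center X := mem_center_iff.2 fun g => by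
    have h := hcom g
    rw [hNbot, mem_bot, mul_inv_eq_one, mul_inv_eq_iff_eq_mul] at h
    exact h.symm
  exact ⟨z, hz, hzc, fun y hy => eq_of_commute h1 hy hz (mem_center_iff.1 hzc y)⟩

/-- A perfect group of even order has no cyclic Sylow 2-subgroup. -/
theorem not_cyclic_of_perfect (hP : Group.IsPerfect X) (h2 : Even (Nat.card X)) (S : Sylow 2 X) :
    ¬ IsCyclic (S : Subgroup X) := by
  have : Fact (Nat.Prime 2) := ⟨Nat.prime_two⟩
  intro hc
  have hmin : (Nat.card X).minFac = 2 := Nat.minFac_eq_two_iff _ |>.2 (even_iff_two_dvd.1 h2)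
  have hcomp := IsCyclic.isComplement' (P := S) hmin hc
  set f := MonoidHom.transferSylow S (IsCyclic.normalizer_le_centralizer hmin hc) with hf
  have hker : f.ker = ⊤ := by
    rw [eq_top_iff, ← hP.commutator_eq_top]
    rw [_root_.commutator_def, Subgroup.commutator_le]
    intro a _ b _
    rw [MonoidHom.mem_ker, map_commutatorElement, commutatorElement_eq_one_iff_mul_comm]
    have : IsMulCommutative (S : Subgroup X) := IsCyclic.isMulCommutative
    exact IsMulCommutative.is_comm.comm _ _
  rw [hker, Subgroup.isComplement'_top_left] at hcomp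
  have h := Subgroup.card_subgroup_dvd_card (S : Subgroup X)
  have h3 := S.dvd_card_of_dvd_card (even_iff_two_dvd.1 h2)
  rw [hcomp, Subgroup.card_bot] at h3
  norm_num at h3

/-- A perfect group of rank one and even order has quaternion Sylow 2-subgroups. -/
theorem quaternion_of_perfect (hP : Group.IsPerfect X) (h1 : Cfsg.PRankLE 2 1 X)
    (h2 : Even (Nat.card X)) (S : Sylow 2 X) :
    ∃ n : ℕ, 1 ≤ n ∧ Nonempty ((S : Subgroup X) ≃* QuaternionGroup (2 ^ n)) := by
  have : Fact (Nat.Prime 2) := ⟨Nat.prime_two⟩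
  have hnc := not_cyclic_of_perfect hP h2 S
  obtain h | ⟨n, e⟩ := cyclic_or_quaternion h1 S
  · exact absurd h hnc
  refine ⟨n, Nat.one_le_iff_ne_zero.2 ?_, e⟩
  rintro rfl
  exact hnc ((e.some.isCyclic).2 (by
    rw [pow_zero]
    exact isCyclic_of_orderOf_eq_card (QuaternionGroup.xa 0) (by simp [QuaternionGroup.orderOf_xa, Nat.card_eq_fintype_card, QuaternionGroup.card])))

/-- Modulo its involution a quaternion Sylow subgroup becomes dihedral. -/
theorem sylow_quotient_dihedral (S : Sylow 2 X) {m : ℕ} (hm : 1 ≤ m)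
    (e : (S : Subgroup X) ≃* QuaternionGroup (2 ^ m)) {z : X} (hz : orderOf z = 2)
    (hzc : z ∈ center X) (huniq : ∀ y : X, orderOf y = 2 → y = z) [(zpowers z).Normal] :
    ∃ T : Sylow 2 (X ⧸ zpowers z), Nonempty ((T : Subgroup (X ⧸ zpowers z)) ≃* DihedralGroup (2 ^ m)) := by
  have : Fact (Nat.Prime 2) := ⟨Nat.prime_two⟩
  have : NeZero (2 ^ m) := ⟨by positivity⟩
  refine ⟨S.mapSurjective (QuotientGroup.mk'_surjective _), ?_⟩
  obtain ⟨σ, hσ, hker⟩ := S3966.result (2 ^ m) ((Nat.even_pow' (by omega)).2 even_two)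
  set f : (S : Subgroup X) →* DihedralGroup (2 ^ m) := σ.comp e.toMonoidHom with hf
  set g : (S : Subgroup X) →* X ⧸ zpowers z := (QuotientGroup.mk' _).comp (S : Subgroup X).subtype
    with hg
  obtain ⟨y, hy⟩ := exists_prime_orderOf_dvd_card' (G := σ.ker) 2 (by rw [hker])
  have hy2 : orderOf ((e.symm (y : QuaternionGroup (2 ^ m)) : (S : Subgroup X)) : X) = 2 := by
    rw [Subgroup.orderOf_coe, MulEquiv.orderOf_eq, Subgroup.orderOf_coe, hy]
  have hyz : e ⟨z, huniq _ hy2 ▸ (e.symm (y : QuaternionGroup (2 ^ m))).2⟩ = y := by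
    rw [← MulEquiv.eq_symm_apply]
    exact Subtype.ext (huniq _ hy2).symm
  have hk : g.ker = f.ker := by
    ext x
    simp only [hg, hf, MonoidHom.mem_ker, MonoidHom.comp_apply, QuotientGroup.mk'_apply,
      QuotientGroup.eq_one_iff, Subgroup.coe_subtype, MulEquiv.coe_toMonoidHom]
    rw [← MonoidHom.mem_ker]
    constructor
    · rintro ⟨i, hi⟩
      have hx : x = ⟨z, huniq _ hy2 ▸ (e.symm (y : QuaternionGroup (2 ^ m))).2⟩ ^ i :=
        Subtype.ext (by simpa using hi.symm)
      rw [hx, map_zpow, hyz]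
      exact zpow_mem y.2 i
    · intro hx
      by_cases h1 : e x = 1
      · rw [MulEquiv.map_eq_one_iff] at h1
        rw [h1]
        exact one_mem _
      · have hmem : orderOf (⟨e x, hx⟩ : σ.ker) = 2 := by
          refine ((Nat.dvd_prime Nat.prime_two).1
            ((orderOf_dvd_natCard (⟨e x, hx⟩ : σ.ker)).trans hker.dvd)).resolve_left ?_
          rw [orderOf_eq_one_iff]
          exact fun h => h1 (congrArg Subtype.val h)
        rw [← Subgroup.orderOf_coe, MulEquiv.orderOf_eq, ← Subgroup.orderOf_coe] at hmem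
        rw [huniq _ hmem]
        exact mem_zpowers z
  have hfs : Function.Surjective f := hσ.1.comp e.surjective
  have hrange : g.range = (S : Subgroup X).map (QuotientGroup.mk' (zpowers z)) := by
    rw [hg, MonoidHom.range_comp, Subgroup.range_subtype]
  exact ⟨((MulEquiv.subgroupCongr hrange.symm).trans (QuotientGroup.quotientKerEquivRange g).symm).trans
    ((QuotientGroup.quotientMulEquivOfEq hk).trans (QuotientGroup.quotientKerEquivOfSurjective f hfs))⟩

/-- Dividing by a central involution keeps the odd core trivial. -/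
theorem oddCore_quotient_eq_bot (hO : Cfsg.oddCore X = ⊥) {z : X} (hz : orderOf z = 2)
    (hzc : z ∈ center X) [(zpowers z).Normal] : Cfsg.oddCore (X ⧸ zpowers z) = ⊥ := by
  rw [eq_bot_iff]
  intro w hw
  obtain ⟨x, rfl⟩ := QuotientGroup.mk_surjective w
  set N := Cfsg.oddCore (X ⧸ zpowers z)
  set m := Nat.card N with hm
  have hmodd : Odd m := Cores.oddCore_odd
  set P := N.comap (QuotientGroup.mk' (zpowers z)) with hP
  have : Fact (Nat.Prime 2) := ⟨Nat.prime_two⟩
  have hpow : ∀ y ∈ P, y ^ m ∈ zpowers z := by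
    intro y hy
    rw [← QuotientGroup.eq_one_iff, QuotientGroup.mk_pow]
    exact congrArg Subtype.val (pow_card_eq_one' (x := (⟨_, hy⟩ : N)))
  have hzpow : ∀ {c : X}, c ∈ zpowers z → c = 1 ∨ c = z := by
    rintro c ⟨i, rfl⟩
    show z ^ i = 1 ∨ z ^ i = z
    rw [← zpow_mod_orderOf, hz]
    rcases Int.emod_two_eq i with h | h <;> simp [h]
  have hP2 : Nat.card P = 2 * m := by
    rw [hP, Cores.card_comap_mk', Nat.card_zpowers, hz, ← hm]
  have hzP : z ∈ P := by
    show ((z : X) : X ⧸ zpowers z) ∈ N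
    rw [(QuotientGroup.eq_one_iff z).2 (mem_zpowers z)]
    exact one_mem _
  -- the complement of the central Sylow subgroup is the set of roots of unity of odd exponent
  obtain ⟨T⟩ := (inferInstance : Nonempty (Sylow 2 P))
  have hT2 : Nat.card (T : Subgroup P) = 2 := by
    rw [T.card_eq_multiplicity, hP2, Nat.factorization_mul two_ne_zero hmodd.pos.ne',
      Finsupp.add_apply, Nat.prime_two.factorization_self,
      Nat.factorization_eq_zero_of_not_dvd (by
        rw [← even_iff_two_dvd]; exact Nat.not_even_iff_odd.2 hmodd), pow_one]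
  have hTc : IsCyclic (T : Subgroup P) := isCyclic_of_prime_card hT2
  have hmin : (Nat.card P).minFac = 2 := (Nat.minFac_eq_two_iff _).2 (hP2 ▸ dvd_mul_right 2 m)
  set f := MonoidHom.transferSylow T (IsCyclic.normalizer_le_centralizer hmin hTc) with hf
  have hcomp : f.ker.IsComplement' T := IsCyclic.isComplement' hmin hTc
  have hkc : Nat.card f.ker = m := by
    have := hcomp.card_mul
    rw [hT2, hP2] at this
    omega
  have hkmem : ∀ y : P, y ∈ f.ker ↔ y ^ m = 1 := by
    intro y
    constructor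
    · intro hy
      have h := pow_card_eq_one' (x := (⟨y, hy⟩ : f.ker))
      rw [hkc] at h
      exact congrArg Subtype.val h
    · intro hy
      rw [MonoidHom.mem_ker, ← orderOf_eq_one_iff]
      refine Nat.eq_one_of_dvd_coprimes (Nat.coprime_two_left.2 hmodd) ?_
        (orderOf_dvd_of_pow_eq_one (by rw [← map_pow, hy, map_one]))
      exact (orderOf_dvd_natCard (f y)).trans hT2.dvd
  set K := f.ker.map P.subtype with hKdef
  have hKmem : ∀ y, y ∈ K ↔ y ∈ P ∧ y ^ m = 1 := by
    intro y
    constructor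
    · rintro ⟨k, hk, rfl⟩
      exact ⟨k.2, congrArg Subtype.val ((hkmem k).1 hk)⟩
    · rintro ⟨hy, hy1⟩
      exact ⟨⟨y, hy⟩, (hkmem _).2 (Subtype.ext hy1), rfl⟩
  have hKn : K.Normal := ⟨fun y hy g => by
    rw [hKmem] at hy ⊢
    exact ⟨((inferInstance : N.Normal).comap _).conj_mem y hy.1 g,
      by rw [conj_pow, hy.2, mul_one, mul_inv_cancel]⟩⟩
  have hKodd : Odd (Nat.card K) := by
    rw [hKdef, Subgroup.card_map_of_injective P.subtype_injective, hkc]
    exact hmodd
  have hKbot : K = ⊥ := le_bot_iff.1 (hO ▸ Cores.le_oddCore hKodd)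
  rw [mem_bot, QuotientGroup.eq_one_iff]
  rcases hzpow (hpow x hw) with h | h
  · have : x ∈ K := (hKmem x).2 ⟨hw, h⟩
    rw [hKbot, mem_bot] at this
    rw [this]
    exact one_mem _
  · have : x * z ∈ K := by
      refine (hKmem _).2 ⟨mul_mem hw hzP, ?_⟩
      rw [(show Commute x z from mem_center_iff.1 hzc x).mul_pow, h]
      obtain ⟨c, hc⟩ := hmodd
      rw [hc, pow_succ, pow_mul, pow_two, Involutions.Basic.inv_sq_one hz, one_pow, one_mul,
        Involutions.Basic.inv_sq_one hz]
    rw [hKbot, mem_bot] at this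
    rw [eq_inv_of_mul_eq_one_left this]
    exact inv_mem (mem_zpowers z)

end Cfsg.Agent.GW.Cons
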