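import Mathlib
import Cfsg.Agent.Lib.GW.ConsBase
import Cfsg.Agent.Lib.Involutions.ThompsonTransfer
import Cfsg.Agent.S0205

/-!
# Cyclic subgroups of index two in a Sylow 2-subgroup

In a group without solvable normal subgroups, an involution `w` of a Sylow 2-subgroup normalising a
cyclic subgroup `⟨x⟩` of index two, none of whose conjugates lies in `⟨x⟩`, inverts `x`.
-/

set_option autoImplicit false
set_option linter.style.haveILetI false
set_option linter.unusedSectionVars false

namespace Cfsg.Agent.GW.ZFact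

open Subgroup

universe u

variable {G : Type u} [Group G] [Finite G]

/-- No nontrivial solvable normal subgroup. -/
def RadicalFree (G : Type u) [Group G] : Prop :=
  ∀ N : Subgroup G, N.Normal → Group.IsSolvable N → N = ⊥

theorem isSolvable_of_cyclic_sylow (P : Sylow 2 G) (hP : IsCyclic (P : Subgroup G)) :
    Group.IsSolvable G := by
  haveI : Fact (Nat.Prime 2) := ⟨Nat.prime_two⟩
  rcases Nat.even_or_odd (Nat.card G) with he | ho
  swap
  · exact S0205.result ho
  have hmin : (Nat.card G).minFac = 2 :=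
    Nat.minFac_eq_two_iff _ |>.2 (even_iff_two_dvd.1 he)
  haveI := hP
  have hcompl := IsCyclic.isComplement' (P := P) hmin hP
  set φ := MonoidHom.transferSylow P (IsCyclic.normalizer_le_centralizer hmin hP) with hφ
  haveI : Group.IsSolvable φ.ker := by
    refine S0205.result (Nat.odd_iff.2 (Nat.two_dvd_ne_zero.1 fun h => ?_))
    have hidx : φ.ker.index = Nat.card (P : Subgroup G) := hcompl.symm.index_eq_card
    have h1 := φ.ker.card_mul_index
    obtain ⟨n, hn⟩ := IsPGroup.iff_card.1 P.2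
    have h2 : 2 ^ (n + 1) ∣ Nat.card G := by
      rw [← h1, hidx, hn, pow_succ']; exact mul_dvd_mul h dvd_rfl
    exact Nat.not_succ_le_self n (by
      have := (Nat.prime_two.pow_dvd_iff_le_factorization Nat.card_pos.ne').1 h2
      have h3 := P.card_eq_multiplicity
      rw [hn] at h3
      have := Nat.pow_right_injective le_rfl h3
      omega)
  haveI : IsMulCommutative (P : Subgroup G) := IsCyclic.isMulCommutative
  haveI : Group.IsSolvable (P : Subgroup G) :=
    Group.isSolvable_of_comm fun a b => IsMulCommutative.is_comm.comm a b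
  exact Group.isSolvable_of_ker_le_range φ.ker.subtype φ (by rw [Subgroup.range_subtype])

theorem RadicalFree.oddCore_eq_bot (hrad : RadicalFree G) : Cfsg.oddCore G = ⊥ :=
  hrad _ (Cores.pPrimeCore_normal 2) (S0205.result Cores.oddCore_odd)

/-- The involution inverts the cyclic subgroup of index two. -/
theorem inverts_of_sylow (hns : ¬ Group.IsSolvable G) (hrad : RadicalFree G) (T : Sylow 2 G)
    {x w : G} (hx : x ∈ T) (hw : w ∈ T) (hw2 : orderOf w = 2)
    (hgen : ∀ s ∈ T, ∃ i : ℤ, s = x ^ i ∨ s = x ^ i * w)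
    (hnorm : w * x * w⁻¹ ∈ zpowers x) (hfus : ∀ g : G, g * w * g⁻¹ ∉ zpowers x) :
    w * x * w⁻¹ = x⁻¹ := by
  classical
  haveI : Fact (Nat.Prime 2) := ⟨Nat.prime_two⟩
  have hw0 : w ∉ zpowers x := by simpa using hfus 1
  have hw2' : w * w = 1 := Involutions.Basic.inv_sq_one hw2
  have hxT : zpowers x ≤ T := zpowers_le.2 hx
  have hrel : (zpowers x).relIndex T = 2 := by
    refine (index_eq_two_iff (H := (zpowers x).subgroupOf T)).2 ⟨⟨w, hw⟩, fun b => ?_⟩
    obtain ⟨i, hi | hi⟩ := hgen b b.2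
    · refine Or.inr ⟨?_, fun h => hw0 ?_⟩
      · rw [mem_subgroupOf, hi]; exact zpow_mem (mem_zpowers x) i
      · rw [mem_subgroupOf] at h
        have := mul_mem (inv_mem (zpow_mem (mem_zpowers x) i)) h
        rw [Subgroup.coe_mul, hi, inv_mul_cancel_left] at this
        exact this
    · refine Or.inl ⟨?_, fun h => hw0 ?_⟩
      · rw [mem_subgroupOf, Subgroup.coe_mul, hi, mul_assoc, hw2', mul_one]
        exact zpow_mem (mem_zpowers x) i
      · rw [mem_subgroupOf, hi] at h
        have := mul_mem (inv_mem (zpow_mem (mem_zpowers x) i)) h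
        rwa [inv_mul_cancel_left] at this
  obtain ⟨K, hK, hwK⟩ := Involutions.ThompsonTransfer.exists_index_two_of_no_conj (zpowers x)
    (Involutions.ThompsonTransfer.index_mod_four hxT hrel
      (Nat.odd_iff.2 (Nat.two_dvd_ne_zero.1 T.not_dvd_index))) w hw2 hfus
  have hKn : K.Normal := normal_of_index_eq_two hK
  have hKns : ¬ Group.IsSolvable K := fun h => by
    have h1 := hrad K hKn h
    rw [h1, index_bot] at hK
    exact hns (by
      haveI : Fact (Nat.Prime 2) := ⟨Nat.prime_two⟩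
      haveI := isCyclic_of_prime_card hK
      exact Group.isSolvable_of_comm fun a b => IsCyclic.isMulCommutative.is_comm.comm a b)
  -- a Sylow 2-subgroup of `K`
  have hidx : ∀ y z : G, y ∉ K → z ∉ K → y * z ∈ K := fun y z hy hz =>
    (Subgroup.mul_mem_iff_of_index_two hK).2 (iff_of_false hy hz)
  have hKR : ∀ R : Subgroup K, IsPGroup 2 R → ∃ g : G, ∀ k ∈ R,
      g * (k : G) * g⁻¹ ∈ T ∧ g * (k : G) * g⁻¹ ∈ K := by
    intro R hR
    obtain ⟨Q, hQ⟩ := (hR.map K.subtype).exists_le_sylow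
    obtain ⟨g, hg⟩ := MulAction.exists_smul_eq G Q T
    refine ⟨g, fun k hk => ⟨?_, hKn.conj_mem _ k.2 g⟩⟩
    rw [← hg]
    exact Subgroup.smul_mem_pointwise_smul _ (MulAut.conj g) _ (hQ ⟨k, hk, rfl⟩)
  -- a cyclic Sylow subgroup of `K` is impossible
  have hcyc : ∀ y : G, (∀ s ∈ T, s ∈ K → s ∈ zpowers y) → False := by
    intro y hy
    obtain ⟨P⟩ := (inferInstance : Nonempty (Sylow 2 K))
    obtain ⟨g, hg⟩ := hKR P P.2
    refine hKns (isSolvable_of_cyclic_sylow P ?_)
    refine isCyclic_of_injective (MonoidHom.mk' (fun k : (P : Subgroup K) =>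
      (⟨g * ((k : K) : G) * g⁻¹, hy _ (hg k k.2).1 (hg k k.2).2⟩ : zpowers y)) fun a b =>
        Subtype.ext (by simp [mul_assoc])) fun a b h => ?_
    have h' := congrArg (fun z : zpowers y => (z : G)) h
    simpa using h'
  have hxK : x ∉ K := fun hxK => hcyc x fun s hs hsK => by
    obtain ⟨i, rfl | rfl⟩ := hgen s hs
    · exact zpow_mem (mem_zpowers x) i
    · exact absurd (by simpa using mul_mem (inv_mem (zpow_mem hxK i)) hsK) hwK
  -- the odd and even powers of `x`
  have hpow : ∀ i : ℤ, (x ^ i ∈ K ↔ Even i) := by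
    intro i
    have h2 : ∀ j : ℤ, x ^ (2 * j) ∈ K := fun j => by
      rw [zpow_mul]
      exact zpow_mem (by rw [zpow_two]; exact hidx x x hxK hxK) j
    rcases Int.even_or_odd i with ⟨j, rfl⟩ | ⟨j, rfl⟩
    · exact iff_of_true (by rw [← two_mul]; exact h2 j) ⟨j, rfl⟩
    · refine iff_of_false (fun h => hxK ?_) (Int.not_even_iff_odd.2 ⟨j, rfl⟩)
      rw [zpow_add, zpow_one] at h
      exact (K.mul_mem_cancel_left (h2 j)).1 h
  have hTK : ∀ s ∈ T, s ∈ K → ∃ i : ℤ, Even i ∧ s = x ^ i ∨ Odd i ∧ s = x ^ i * w := by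
    intro s hs hsK
    obtain ⟨i, rfl | rfl⟩ := hgen s hs
    · exact ⟨i, Or.inl ⟨(hpow i).1 hsK, rfl⟩⟩
    · refine ⟨i, Or.inr ⟨Int.not_even_iff_odd.1 fun h => hwK ?_, rfl⟩⟩
      exact (K.mul_mem_cancel_left ((hpow i).2 h)).1 hsK
  obtain ⟨r, hr⟩ := mem_zpowers_iff.1 hnorm
  have hconj : ∀ i : ℤ, w * x ^ i * w⁻¹ = x ^ (r * i) := fun i => by
    rw [← conj_zpow, ← hr, zpow_mul]
  obtain ⟨l, hl⟩ := IsPGroup.iff_orderOf.1 T.2 ⟨x, hx⟩
  rw [Subgroup.orderOf_mk] at hl
  -- the element `x * w`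
  have hy2 : ∀ i : ℤ, x ^ i * w * (x ^ i * w) = x ^ (i * (1 + r)) := fun i => by
    rw [show x ^ i * w * (x ^ i * w) = x ^ i * (w * x ^ i * w⁻¹) * (w * w) by group, hw2', mul_one,
      hconj, ← zpow_add]
    congr 1; ring
  rcases Nat.lt_or_ge l 1 with hl0 | hl0
  · obtain rfl : l = 0 := by omega
    rw [pow_zero, orderOf_eq_one_iff] at hl
    simp [hl]
  have hl2 : ((2 : ℤ) ^ l) = ((orderOf x : ℕ) : ℤ) := by rw [hl]; push_cast; rfl
  have hrodd : Odd r := by
    rw [← Int.not_even_iff_odd]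
    intro h
    have h1 : w * x * w⁻¹ ∈ K := by rw [← hr]; exact (hpow r).2 h
    exact hxK (by simpa [mul_assoc] using hKn.conj_mem _ h1 w⁻¹)
  obtain ⟨c, hc⟩ := hrodd
  -- `1 + r = 2 (c + 1)`
  rcases Int.even_or_odd (c + 1) with hce | hco
  swap
  · -- then `x * w` generates a Sylow subgroup of `K`
    exfalso
    have hsq : (x * w) ^ (2 : ℤ) = x ^ (2 * (c + 1)) := by
      have := hy2 1
      rw [zpow_one, one_mul] at this
      rw [zpow_two, this, hc]; congr 1; ring
    have hgenK : x ^ (2 : ℤ) ∈ zpowers (x * w) := by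
      obtain ⟨d, hd⟩ := hco
      have hcop : IsCoprime (c + 1) ((2 : ℤ) ^ l) := by
        refine IsCoprime.pow_right ⟨1, -d, ?_⟩
        rw [hd]; ring
      obtain ⟨a, b, hab⟩ := hcop
      refine mem_zpowers_iff.2 ⟨2 * a, ?_⟩
      rw [zpow_mul, hsq, ← zpow_mul, show 2 * (c + 1) * a = 2 - (2 : ℤ) ^ l * (2 * b) by
        linear_combination 2 * hab, zpow_sub, zpow_mul x ((2 : ℤ) ^ l), hl2, zpow_natCast,
        pow_orderOf_eq_one, one_zpow, inv_one, mul_one]
    refine hcyc (x * w) fun s hs hsK => ?_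
    obtain ⟨i, ⟨⟨j, rfl⟩, rfl⟩ | ⟨⟨j, rfl⟩, rfl⟩⟩ := hTK s hs hsK
    · rw [← two_mul, zpow_mul]; exact zpow_mem hgenK j
    · rw [zpow_add, zpow_one, zpow_mul, mul_assoc]
      exact mul_mem (zpow_mem hgenK j) (mem_zpowers _)
  obtain ⟨d, hd⟩ := hce
  -- `r` is an involution modulo the order of `x`
  have hxrr : x ^ (r * r) = x := by
    rw [← hconj r, hr, ← mul_assoc, ← mul_assoc, hw2', one_mul, mul_assoc, ← mul_inv_rev, hw2',
      inv_one, mul_one]
  have hdiv : (2 : ℤ) ^ l ∣ r * r - 1 := by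
    rw [hl2, orderOf_dvd_iff_zpow_eq_one, zpow_sub, hxrr, zpow_one, mul_inv_cancel]
  have hdiv2 : (2 : ℤ) ^ l ∣ 2 * (r + 1) := by
    have hcop : IsCoprime ((2 : ℤ) ^ l) c := by
      refine IsCoprime.pow_left ⟨d, -1, ?_⟩
      rw [show c = d + d - 1 by omega]; ring
    refine hcop.dvd_of_dvd_mul_right ?_
    rw [show 2 * (r + 1) * c = r * r - 1 by rw [hc]; ring]
    exact hdiv
  rw [hl2, orderOf_dvd_iff_zpow_eq_one] at hdiv2
  by_contra hne
  have hne' : x ^ (r + 1) ≠ 1 := fun h => hne (by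
    rw [← hr]; rw [zpow_add, zpow_one] at h; exact eq_inv_of_mul_eq_one_left h)
  -- `K` has a single involution up to conjugacy, so it is central
  have hunique : ∀ s ∈ T, s ∈ K → s * s = 1 → s ∈ zpowers x := by
    intro s hs hsK hss
    obtain ⟨i, ⟨-, rfl⟩ | ⟨⟨j, rfl⟩, rfl⟩⟩ := hTK s hs hsK
    · exact zpow_mem (mem_zpowers x) i
    · exfalso
      rw [hy2, show (2 * j + 1) * (1 + r) = 2 * (r + 1) * j + (r + 1) by ring, zpow_add, zpow_mul,
        hdiv2, one_zpow, one_mul] at hss
      exact hne' hss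
  have h1 : Cfsg.PRankLE 2 1 K := by
    intro A hA hA2
    have hAp : IsPGroup 2 A := fun a => ⟨1, Subtype.ext (by
      rw [pow_one, SubmonoidClass.coe_pow, OneMemClass.coe_one]; exact hA2 a a.2)⟩
    obtain ⟨g, hg⟩ := hKR A hAp
    have hmem : ∀ a : A, g * ((a : K) : G) * g⁻¹ ∈ zpowers x := fun a => by
      refine hunique _ (hg a a.2).1 (hg a a.2).2 ?_
      have h := congrArg (fun z : K => g * (z : G) * g⁻¹) (hA2 (a : K) a.2)
      simp only [SubmonoidClass.coe_pow, OneMemClass.coe_one, mul_one, mul_inv_cancel] at h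
      rw [← h, pow_two]; group
    let f : A →* zpowers x := MonoidHom.mk' (fun a => ⟨_, hmem a⟩) fun a b =>
      Subtype.ext (by simp [mul_assoc])
    have hf : Function.Injective f := fun a b h => by
      have h' := congrArg (fun z : zpowers x => (z : G)) h
      simpa [f] using h'
    haveI : IsCyclic A := isCyclic_of_injective f hf
    obtain ⟨a, ha⟩ := IsCyclic.exists_generator (α := A)
    rw [← orderOf_eq_card_of_forall_mem_zpowers ha, pow_one]
    exact Nat.le_of_dvd two_pos (orderOf_dvd_of_pow_eq_one (Subtype.ext (by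
      rw [SubmonoidClass.coe_pow, OneMemClass.coe_one]; exact hA2 a a.2)))
  have hKe : Even (Nat.card K) := Nat.not_odd_iff_even.1 fun h => hKns (S0205.result h)
  have hKO : Cfsg.oddCore K = ⊥ := by
    rw [← Subgroup.map_eq_bot_iff_of_injective _ K.subtype_injective, eq_bot_iff,
      ← hrad.oddCore_eq_bot]
    exact Cores.map_pPrimeCore_subtype_le 2 K
  obtain ⟨z, hz, hzc, -⟩ := Cons.exists_center_involution h1 hKe hKO
  have hcen : (center K).map K.subtype = ⊥ := by
    refine hrad _ inferInstance ?_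
    haveI : Group.IsSolvable (center K) := Group.isSolvable_of_comm fun a b => Subtype.ext ((mem_center_iff.1 b.2 a))
    exact Group.isSolvable_of_isSolvable_injective
      (f := ((center K).equivMapOfInjective K.subtype K.subtype_injective).symm.toMonoidHom)
      (MulEquiv.injective _)
  rw [Subgroup.map_eq_bot_iff_of_injective _ K.subtype_injective] at hcen
  rw [hcen, mem_bot] at hzc
  rw [hzc, orderOf_one] at hz
  exact absurd hz (by decide)

end Cfsg.Agent.GW.ZFact
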