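import Cfsg.Agent.S0254
import Cfsg.Agent.S2086
import Cfsg.Agent.S2116

/-!
# Perfect central extensions of `PSL₂(q)` by groups of odd order
-/

set_option autoImplicit false
set_option linter.style.haveILetI false

namespace Cfsg.Agent.GW.ComponentCentre

open Subgroup

universe u

/-- The kernel of a stem extension divides a cyclic Schur multiplier. -/
theorem card_ker_dvd {Q : Type} [Group Q] {n : ℕ} (h : Cfsg.HasCyclicSchurMultiplier Q n)
    {Γ : Type u} [Group Γ] [Finite Γ] (σ : Γ →* Q) (hs : Cfsg.IsStemExtension σ) :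
    Nat.card σ.ker ∣ n := by
  have : Small.{0} Γ := by
    obtain ⟨k, ⟨f⟩⟩ := Finite.exists_equiv_fin Γ
    exact small_map f
  set sh := (Shrink.mulEquiv.{0} (α := Γ)) with hsh
  have hker : ∀ g, g ∈ (σ.comp sh.toMonoidHom).ker ↔ sh g ∈ σ.ker := fun g => Iff.rfl
  have hs' : Cfsg.IsStemExtension (σ.comp sh.toMonoidHom) := by
    refine ⟨hs.1.comp sh.surjective, fun r hr => mem_center_iff.2 fun y => sh.injective ?_,
      fun r hr => ?_⟩
    · rw [map_mul, map_mul]
      exact mem_center_iff.1 (hs.2.1 ((hker r).1 hr)) (sh y)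
    · have h1 := Subgroup.mem_map_of_mem sh.symm.toMonoidHom (hs.2.2 ((hker r).1 hr))
      rw [_root_.commutator_def, Subgroup.map_commutator,
        Subgroup.map_top_of_surjective _ sh.symm.surjective, ← _root_.commutator_def] at h1
      simpa using h1
  obtain ⟨π, hπ⟩ := h.2 (Shrink.{0} Γ) (σ.comp sh.toMonoidHom) hs'
  have h1 : Nat.card (σ.comp sh.toMonoidHom).ker = Nat.card σ.ker :=
    Nat.card_congr (sh.toEquiv.subtypeEquiv fun g => hker g)
  rw [← h1]
  refine (Subgroup.card_dvd_of_surjective π hπ).trans ?_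
  rw [Nat.card_congr Multiplicative.toAdd, Nat.card_zmod]

/-- A perfect central extension of `PSL₂(q)` by a group of odd order is trivial, or `q = 9` and its
kernel has order three. -/
theorem central_kernel {F : Type} [Field F] [Fintype F] (hodd : Odd (Fintype.card F))
    (h3 : 3 < Fintype.card F) {E : Type u} [Group E] [Finite E] (hperf : commutator E = ⊤)
    (π : E →* Matrix.ProjectiveSpecialLinearGroup (Fin 2) F) (hπ : Function.Surjective π)
    (hc : π.ker ≤ center E) (hk : Odd (Nat.card π.ker)) :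
    π.ker = ⊥ ∨ (Fintype.card F = 9 ∧ Nat.card π.ker = 3) := by
  obtain ⟨r, hr⟩ := hodd
  have hstem : Cfsg.IsStemExtension π := ⟨hπ, hc, hperf ▸ le_top⟩
  by_cases h9 : Fintype.card F = 9
  · obtain ⟨e⟩ := S0254.result (F := F) h9
    have hker : (e.toMonoidHom.comp π).ker = π.ker := MonoidHom.ker_mulEquiv_comp π e
    have hstem' : Cfsg.IsStemExtension (e.toMonoidHom.comp π) :=
      ⟨e.surjective.comp hπ, hker.le.trans hc, hker.le.trans (hperf ▸ le_top)⟩
    have h6 := card_ker_dvd (S2116.result 6 (Or.inl rfl)) _ hstem'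
    rw [hker] at h6
    have h3' : Nat.card π.ker ∣ 3 :=
      Nat.Coprime.dvd_of_dvd_mul_left (Nat.coprime_two_right.2 hk) (by simpa using h6)
    rcases (Nat.dvd_prime Nat.prime_three).1 h3' with h | h
    · exact Or.inl (Subgroup.card_eq_one.1 h)
    · exact Or.inr ⟨h9, h⟩
  · have hg : Nat.gcd 2 (Fintype.card F - 1) = 2 := Nat.gcd_eq_left ⟨r, by omega⟩
    have h2 := card_ker_dvd (S2086.result (F := F) rfl 2 le_rfl (fun _ => h3)
      (by simp [h9]; omega)) π hstem
    rw [hg] at h2
    exact Or.inl (Subgroup.card_eq_one.1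
      (Nat.eq_one_of_dvd_coprimes (Nat.coprime_two_right.2 hk) dvd_rfl h2))

end Cfsg.Agent.GW.ComponentCentre
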