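import Cfsg.Agent.Lib.GW.OvergroupsPSL
import Cfsg.Agent.Lib.SelfCentNoncyclic.Psl
import Cfsg.Agent.Lib.ClassSizePSL.PSL
import Cfsg.Agent.Lib.Classical.SmallIso
import Cfsg.Agent.Lib.GL2.Counts

/-!
# Centralizer orders in `PSL₂(q)` for the counting argument
-/

set_option autoImplicit false
set_option linter.style.haveILetI false

namespace Cfsg.Agent.GW.KleinPSL

open Subgroup Matrix
open scoped MatrixGroups

variable {F : Type} [Field F] [Fintype F]

local notation "PG" => Matrix.ProjectiveSpecialLinearGroup (Fin 2) F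

/-- `|PSL₂(q)|` for odd `q`. -/
theorem two_mul_card (hodd : Odd (Fintype.card F)) :
    2 * (Nat.card PG : ℤ) = (Fintype.card F : ℤ) * ((Fintype.card F : ℤ) ^ 2 - 1) := by
  obtain ⟨k, hk⟩ := hodd
  have h := Classical.SmallIso.natCard_pslTwo F
  rw [show Nat.gcd 2 (Fintype.card F - 1) = 2 from Nat.gcd_eq_left ⟨k, by omega⟩,
    GL2.Counts.natCard_SL] at h
  have h1 : 1 ≤ Fintype.card F ^ 2 := Nat.one_le_pow _ _ Fintype.card_pos
  have := congrArg (fun n : ℕ => (n : ℤ)) h
  push_cast [h1] at this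
  linarith

/-- The centralizer of an involution and of the odd elements commuting with it. -/
theorem centralizers (hodd : Odd (Fintype.card F)) {t : PG} (ht : orderOf t = 2) :
    ∃ δ : ℤ, (δ = 1 ∨ δ = -1) ∧
      (Nat.card (centralizer ({t} : Set PG)) : ℤ) = Fintype.card F - δ ∧
      4 ∣ (Fintype.card F : ℤ) - δ ∧
      ∀ x : PG, x ≠ 1 → Odd (orderOf x) → Even (Nat.card (centralizer ({x} : Set PG))) →
        2 * (Nat.card (centralizer ({x} : Set PG)) : ℤ) = Fintype.card F - δ := by
  have h2 : (2 : F) ≠ 0 := GL2.Counts.two_ne_zero_of_odd hodd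
  have h2d : ¬ 2 ∣ Fintype.card F := by obtain ⟨k, hk⟩ := hodd; omega
  have key : ∀ x : PG, x ≠ 1 → Odd (orderOf x) →
      2 * Nat.card (centralizer ({x} : Set PG)) = Fintype.card F - 1 ∨
        2 * Nat.card (centralizer ({x} : Set PG)) = Fintype.card F + 1 ∨
        Nat.card (centralizer ({x} : Set PG)) = Fintype.card F := by
    intro x hx hxo
    obtain ⟨g, rfl⟩ : ∃ g, GL2.PSLProducts.toPSL g = x := QuotientGroup.mk_surjective x
    have hg : ¬ GL2.Classes.IsScalar (g : Matrix (Fin 2) (Fin 2) F) := fun h =>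
      hx ((GL2.PSLProducts.toPSL_eq_one_iff _).2 h)
    rcases ClassSizePSL.PSL.card_centralizer h2d g hg with ⟨htr, -⟩ | ⟨-, h⟩
    · exfalso
      rw [Matrix.trace_fin_two] at htr
      have := OvergroupsPSL.orderOf_pi_of_trace h2 htr
      rw [show GL2.PSLProducts.toPSL g = Forms.KleinPSL.pi F g from rfl, this] at hxo
      exact absurd hxo (by decide)
    · exact h
  rcases SelfCentNoncyclic.card_cent_invol_cases h2 ht with ⟨hq, hc⟩ | ⟨hq, hc⟩
  · refine ⟨1, Or.inl rfl, by omega, by omega, fun x hx hxo hev => ?_⟩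
    obtain ⟨k, hk⟩ := hev
    rcases key x hx hxo with h | h | h <;> omega
  · refine ⟨-1, Or.inr rfl, by omega, by omega, fun x hx hxo hev => ?_⟩
    obtain ⟨k, hk⟩ := hev
    rcases key x hx hxo with h | h | h <;> omega

end Cfsg.Agent.GW.KleinPSL
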