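import Mathlib
import Cfsg.Agent.Lib.Forms.SolubilizerPSL2.Tori
import Cfsg.Agent.Lib.Forms.SolubilizerPSL2.Inst
import Cfsg.Agent.Lib.PSLBinary.Dihedral
import Cfsg.Agent.S0205

/-!
# Tori of the component, for the conjugate count of the dihedral Sylow theorem

In a two-point group with the order of `PSL₂(q)`, `q` odd, with one class of involutions, this file
records what the count uses: centralizers of odd-order elements of `C(t)`, elements of order `p` for a
prime `p` dividing `|C(t)|`, their common fixed points, and a selection of such elements with few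
common fixed points.
-/

set_option autoImplicit false
set_option linter.unusedSectionVars false
set_option linter.style.haveILetI false

namespace Cfsg.Agent.GW.Count

open MulAction Subgroup
open Cfsg.Agent.Forms.DicksonBasic Cfsg.Agent.Forms.SolubilizerPSL2

variable {p₀ : ℕ} [hp₀ : Fact p₀.Prime] {E : Type*} {X : Type*} [Group E] [Finite E] [MulAction E X]
  {q : ℕ}

/-- The data of the component, in a two-point action. -/
structure Torus (p₀ : ℕ) [Fact p₀.Prime] (E : Type*) (X : Type*) [Group E] [MulAction E X] (q : ℕ)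
    (t : E) : Prop where
  data : Data p₀ E X q 2
  odd_char : p₀ ≠ 2
  invol : orderOf t = 2
  conj_invol : ∀ x : E, orderOf x = 2 → IsConj t x

variable {t : E} (hT : Torus p₀ E X q t)
include hT

/-- The pair of an element of order prime to the characteristic. -/
theorem Torus.exists_pair {f : E} (h1 : f ≠ 1) (h : orderOf f ≠ p₀) :
    ∃ a b : X, a ≠ b ∧ f • a = a ∧ f • b = b := by
  obtain ⟨a, b, hab, he⟩ := hT.data.two.exists_pair h1 h
  exact ⟨a, b, hab, (he.symm ▸ Or.inl rfl : a ∈ fixedBy X f), (he.symm ▸ Or.inr rfl : b ∈ fixedBy X f)⟩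

theorem Torus.t_ne_one : t ≠ 1 := fun h => by
  have := hT.invol; rw [h, orderOf_one] at this; omega

/-- The centralizer of `t` is the stabilizer of its pair. -/
theorem Torus.centralizer_eq {a b : X} (hab : a ≠ b) (ha : t • a = a) (hb : t • b = b) :
    centralizer ({t} : Set E) = pairStab a b := by
  refine le_antisymm (fun g hg => commute_fix hT.data.two hT.t_ne_one hab ha hb
    ((mem_centralizer_singleton_iff.1 hg : g * t = t * g).symm)) (fun g hg => ?_)
  rw [mem_centralizer_singleton_iff]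
  rcases hg with ⟨h1, h2⟩ | ⟨h1, h2⟩
  · exact ptw_comm hT.data.two hab (mem_ptw.2 ⟨h1, h2⟩) (mem_ptw.2 ⟨ha, hb⟩)
  · have hti : t⁻¹ = t := inv_eq_of_mul_eq_one_right
      (by rw [← sq, ← hT.invol, pow_orderOf_eq_one])
    have := swap_inverts hT.data.two hab h1 h2 ha hb
    rw [hti, mul_inv_eq_iff_eq_mul] at this
    exact this

theorem Torus.natCard_centralizer {a b : X} (hab : a ≠ b) (ha : t • a = a) (hb : t • b = b) :
    Nat.card (centralizer ({t} : Set E)) = 2 * Nat.card (ptw (G := E) a b) := by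
  rw [hT.centralizer_eq hab ha hb, natCard_pairStab hT.data hT.t_ne_one hab ha hb]

/-- `|C(t)|` is `q - 1` or `q + 1`. -/
theorem Torus.natCard_cent_cases :
    Nat.card (centralizer ({t} : Set E)) = q - 1 ∨ Nat.card (centralizer ({t} : Set E)) = q + 1 := by
  obtain ⟨a, b, hab, ha, hb⟩ := hT.exists_pair hT.t_ne_one (by rw [hT.invol]; exact hT.odd_char.symm)
  rw [hT.natCard_centralizer hab ha hb]
  by_cases hr : IsRat p₀ E a
  · exact Or.inl (natCard_ptw_rat hT.data hr ((rat_iff hT.data hT.t_ne_one hab ha hb).1 hr) hab)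
  · exact Or.inr (natCard_ptw_irrat hT.data hT.t_ne_one hab ha hb hr)

theorem Torus.q_odd : Odd q := by
  rcases Nat.even_or_odd q with ⟨k, hk⟩ | h
  · exfalso
    have h4 : 4 ∣ Nat.card (centralizer ({t} : Set E)) := by
      obtain ⟨a, b, hab, ha, hb⟩ := hT.exists_pair hT.t_ne_one
        (by rw [hT.invol]; exact hT.odd_char.symm)
      rw [hT.natCard_centralizer hab ha hb, show 4 = 2 * 2 from rfl]
      refine mul_dvd_mul_left 2 ?_
      rw [← hT.invol]
      exact Subgroup.orderOf_dvd_natCard _ (mem_ptw.2 ⟨ha, hb⟩)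
    have h2 := hT.data.two_le
    rcases hT.natCard_cent_cases with e | e <;> rw [e] at h4 <;> omega
  · exact h

theorem Torus.mem_ptw_of_commute {a b : X} (hab : a ≠ b) (ha : t • a = a) (hb : t • b = b)
    {x : E} (hx : Odd (orderOf x)) (hc : Commute x t) : x ∈ ptw (G := E) a b := by
  rcases commute_fix hT.data.two hT.t_ne_one hab ha hb hc.symm with h | ⟨h1, h2⟩
  · exact mem_ptw.2 h
  · exfalso
    have hsq := swap_sq hT.data.two hab h1 h2
    have : orderOf x ∣ 2 := orderOf_dvd_of_pow_eq_one (by rw [sq, hsq])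
    have h1' : x = 1 := by
      rcases (Nat.dvd_prime Nat.prime_two).1 this with e | e
      · exact orderOf_eq_one_iff.1 e
      · rw [e] at hx; exact absurd hx (by decide)
    exact hab (by rw [h1', one_smul] at h1; exact h1)

/-- The centralizer of an element fixing a pair, not of order two. -/
theorem Torus.centralizer_of_fix {a b : X} (hab : a ≠ b) {x : E} (hx1 : x ≠ 1)
    (hx2 : orderOf x ≠ 2) (ha : x • a = a) (hb : x • b = b) :
    centralizer ({x} : Set E) = ptw a b := by
  refine le_antisymm (fun g hg => ?_) (fun g hg => ?_)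
  · have hc : Commute x g := (mem_centralizer_singleton_iff.1 hg : g * x = x * g).symm
    rcases commute_fix hT.data.two hx1 hab ha hb hc with h | ⟨h1, h2⟩
    · exact mem_ptw.2 h
    · exfalso
      have := swap_inverts hT.data.two hab h1 h2 ha hb
      rw [← hc.eq, mul_inv_cancel_right] at this
      exact hx2 (orderOf_eq_prime (by rw [sq]; exact eq_inv_iff_mul_eq_one.1 this) hx1)
  · exact mem_centralizer_singleton_iff.2 (ptw_comm hT.data.two hab hg (mem_ptw.2 ⟨ha, hb⟩))

theorem orderOf_ne_two_of_odd {x : E} (hx : Odd (orderOf x)) : orderOf x ≠ 2 :=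
  fun e => by rw [e] at hx; exact absurd hx (by decide)

/-- An odd element of `C(t)` has a centralizer of half that order. -/
theorem Torus.natCard_cent_odd {x : E} (hx : Odd (orderOf x)) (hx1 : x ≠ 1) (hc : Commute x t) :
    2 * Nat.card (centralizer ({x} : Set E)) = Nat.card (centralizer ({t} : Set E)) := by
  obtain ⟨a, b, hab, ha, hb⟩ := hT.exists_pair hT.t_ne_one (by rw [hT.invol]; exact hT.odd_char.symm)
  have h := mem_ptw.1 (hT.mem_ptw_of_commute hab ha hb hx hc)
  rw [hT.centralizer_of_fix hab hx1 (orderOf_ne_two_of_odd hT hx) h.1 h.2,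
    hT.natCard_centralizer hab ha hb]

/-- Fusion in `C(t)` is inversion. -/
theorem Torus.eq_or_eq_inv {x y e : E} (hx : Odd (orderOf x)) (hxt : Commute x t) (hyt : Commute y t)
    (h : e * x * e⁻¹ = y) : y = x ∨ y = x⁻¹ := by
  by_cases hx1 : x = 1
  · subst hx1; rw [← h]; simp
  obtain ⟨a, b, hab, ha, hb⟩ := hT.exists_pair hT.t_ne_one (by rw [hT.invol]; exact hT.odd_char.symm)
  have h1 := mem_ptw.1 (hT.mem_ptw_of_commute hab ha hb hx hxt)
  have hy : Odd (orderOf y) := by
    rw [← h]; rwa [← MulAut.conj_apply, MulEquiv.orderOf_eq]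
  have h2 := mem_ptw.1 (hT.mem_ptw_of_commute hab ha hb hy hyt)
  have hy1 : y ≠ 1 := fun e' => hx1 (conj_eq_one_iff.1 (h.trans e'))
  have key : ∀ c : X, x • c = c → e • c = a ∨ e • c = b := fun c hc =>
    mem_of_fix hT.data.two hy1 hab h2.1 h2.2
      (by rw [← h, mul_smul, mul_smul, inv_smul_smul, hc])
  rcases key a h1.1 with e1 | e1 <;> rcases key b h1.2 with e2 | e2
  · exact absurd (smul_left_cancel e (e1.trans e2.symm)) hab
  · left
    rw [← h, mul_inv_eq_iff_eq_mul]
    exact ptw_comm hT.data.two hab (mem_ptw.2 ⟨e1, e2⟩) (mem_ptw.2 h1)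
  · right
    rw [← h]
    exact swap_inverts hT.data.two hab e1 e2 h1.1 h1.2
  · exact absurd (smul_left_cancel e (e1.trans e2.symm)) hab

/-- The centre is trivial. -/
theorem Torus.eq_one_of_central {w : E} (hw : ∀ y : E, Commute w y) : w = 1 := by
  by_contra hne
  have hcard := hT.data.card
  have h2 := hT.data.two_le
  by_cases hwp : orderOf w = p₀
  · obtain ⟨z, hz⟩ := hT.data.two.exists_fixed hne
    have htop : stabilizer E z = ⊤ := eq_top_iff.2 fun y _ => by
      refine hT.data.two.eq_of_fix hwp hz ?_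
      rw [← mul_smul, (hw y).eq, mul_smul, hz]
    have := hT.data.index z ⟨w, hwp, hz⟩
    rw [htop, index_top] at this
    omega
  · obtain ⟨a, b, hab, ha, hb⟩ := hT.exists_pair hne hwp
    have htop : pairStab (G := E) a b = ⊤ :=
      eq_top_iff.2 fun y _ => commute_fix hT.data.two hne hab ha hb (hw y)
    have h1 := natCard_pairStab hT.data hne hab ha hb
    rw [htop, card_top] at h1
    have hle : 2 * Nat.card (ptw (G := E) a b) ≤ q + 1 := by
      by_cases hr : IsRat p₀ E a
      · rw [natCard_ptw_rat hT.data hr ((rat_iff hT.data hne hab ha hb).1 hr) hab]; omega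
      · rw [natCard_ptw_irrat hT.data hne hab ha hb hr]
    have h4 : 2 * ((q - 1) * (q + 1)) ≤ q * ((q - 1) * (q + 1)) := Nat.mul_le_mul_right _ h2
    have h5 : q + 1 ≤ (q - 1) * (q + 1) := Nat.le_mul_of_pos_left _ (by omega)
    have h3 : 3 ≤ q := by rcases hT.q_odd with ⟨j, hj⟩; omega
    have h6 : 2 * (q + 1) ≤ (q - 1) * (q + 1) := Nat.mul_le_mul_right _ (by omega)
    omega

/-- An involution of `C(t)` other than `t` centralizes no odd element of `C(t)`. -/
theorem Torus.eq_one_of_commute_invol {u x : E} (hu : orderOf u = 2) (hut : u ≠ t)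
    (hc : Commute u t) (hx : Odd (orderOf x)) (hxt : Commute x t) (hxu : Commute x u) : x = 1 := by
  classical
  obtain ⟨a, b, hab, ha, hb⟩ := hT.exists_pair hT.t_ne_one (by rw [hT.invol]; exact hT.odd_char.symm)
  have hxp := mem_ptw.1 (hT.mem_ptw_of_commute hab ha hb hx hxt)
  rcases commute_fix hT.data.two hT.t_ne_one hab ha hb hc.symm with hfix | ⟨h1, h2⟩
  · exfalso
    haveI := isCyclic_ptw (G := E) hT.data.two hab
    letI := Fintype.ofFinite (ptw (G := E) a b)
    set U : ptw (G := E) a b := ⟨u, mem_ptw.2 hfix⟩ with hU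
    set T : ptw (G := E) a b := ⟨t, mem_ptw.2 ⟨ha, hb⟩⟩ with hT'
    have hUo : orderOf U = 2 := by rw [← Subgroup.orderOf_coe]; exact hu
    have hTo : orderOf T = 2 := by rw [← Subgroup.orderOf_coe]; exact hT.invol
    have h3 := IsCyclic.card_orderOf_eq_totient (α := ptw (G := E) a b)
      (hUo ▸ orderOf_dvd_card : 2 ∣ Fintype.card (ptw (G := E) a b))
    rw [Nat.totient_two] at h3
    exact hut (congrArg Subtype.val
      (Finset.card_le_one.1 h3.le U (by simp [hUo]) T (by simp [hTo])))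
  · by_contra hne
    have h := swap_inverts hT.data.two hab h1 h2 hxp.1 hxp.2
    rw [← hxu.eq, mul_inv_cancel_right] at h
    exact orderOf_ne_two_of_odd hT hx (orderOf_eq_prime
      (by rw [sq]; exact eq_inv_iff_mul_eq_one.1 h) hne)

variable {p : ℕ} (hp : p.Prime) (hp2 : p ≠ 2) (hpC : p ∣ Nat.card (centralizer ({t} : Set E)))
include hp hp2 hpC

/-- An element of order `p` fixes a pair, whose stabilizer has half the order of `C(t)`. -/
theorem Torus.pair_of_order {f : E} (hf : orderOf f = p) :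
    ∃ a b : X, a ≠ b ∧ f • a = a ∧ f • b = b ∧
      2 * Nat.card (ptw (G := E) a b) = Nat.card (centralizer ({t} : Set E)) := by
  have hf1 : f ≠ 1 := fun e => by rw [e, orderOf_one] at hf; exact hp.one_lt.ne hf
  have hdiv : (q - 1) ≠ 0 ∧ ¬ (p ∣ q - 1 ∧ p ∣ q + 1) := by
    refine ⟨by have := hT.data.two_le; omega, fun h => ?_⟩
    have h' := Nat.dvd_sub h.2 h.1
    rw [show q + 1 - (q - 1) = 2 by have := hT.data.two_le; omega] at h'
    exact hp2 ((Nat.prime_dvd_prime_iff_eq hp Nat.prime_two).1 h')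
  have hfp : orderOf f ≠ p₀ := by
    intro e
    have hq : p₀ ∣ q := by
      obtain ⟨z, hz⟩ := hT.data.two.exists_fixed hf1
      rw [← hT.data.natCard_pSub z ⟨f, e, hz⟩]
      exact e.symm.dvd.trans (Subgroup.orderOf_dvd_natCard _ ⟨hz, e ▸ pow_orderOf_eq_one f⟩)
    rw [← e, hf] at hq
    rcases hT.natCard_cent_cases with h | h <;> rw [h] at hpC
    · have h' := Nat.dvd_sub hq hpC
      rw [show q - (q - 1) = 1 by have := hT.data.two_le; omega] at h'
      exact hp.not_dvd_one h'
    · exact hp.not_dvd_one ((Nat.dvd_add_right hq).1 hpC)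
  obtain ⟨a, b, hab, ha, hb⟩ := hT.exists_pair hf1 hfp
  refine ⟨a, b, hab, ha, hb, ?_⟩
  have hpp : p ∣ 2 * Nat.card (ptw (G := E) a b) :=
    dvd_mul_of_dvd_right (hf ▸ Subgroup.orderOf_dvd_natCard _ (mem_ptw.2 ⟨ha, hb⟩)) 2
  by_cases hr : IsRat p₀ E a
  · have h := natCard_ptw_rat hT.data hr ((rat_iff hT.data hf1 hab ha hb).1 hr) hab
    rcases hT.natCard_cent_cases with e | e
    · omega
    · exact absurd ⟨h ▸ hpp, e ▸ hpC⟩ hdiv.2
  · have h := natCard_ptw_irrat hT.data hf1 hab ha hb hr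
    rcases hT.natCard_cent_cases with e | e
    · exact absurd ⟨e ▸ hpC, h ▸ hpp⟩ hdiv.2
    · omega

/-- An element of order `p` is conjugate into `C(t)`. -/
theorem Torus.exists_conj_commute {f : E} (hf : orderOf f = p) :
    ∃ e : E, Commute (e * f * e⁻¹) t := by
  haveI : Fact (Nat.Prime 2) := ⟨Nat.prime_two⟩
  obtain ⟨a, b, hab, ha, hb, hc⟩ := hT.pair_of_order hp hp2 hpC hf
  obtain ⟨a', b', hab', ha', hb'⟩ := hT.exists_pair hT.t_ne_one
    (by rw [hT.invol]; exact hT.odd_char.symm)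
  rw [hT.natCard_centralizer hab' ha' hb'] at hc
  have h2 : 2 ∣ Nat.card (ptw (G := E) a b) := by
    rw [Nat.eq_of_mul_eq_mul_left two_pos hc, ← hT.invol]
    exact Subgroup.orderOf_dvd_natCard _ (mem_ptw.2 ⟨ha', hb'⟩)
  obtain ⟨s, hs⟩ := exists_prime_orderOf_dvd_card' (G := ptw (G := E) a b) 2 h2
  rw [← Subgroup.orderOf_coe] at hs
  obtain ⟨e, he⟩ := isConj_iff.1 (hT.conj_invol _ hs)
  refine ⟨e⁻¹, ?_⟩
  have hsf : Commute (s : E) f := ptw_comm hT.data.two hab s.2 (mem_ptw.2 ⟨ha, hb⟩)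
  rw [← he] at hsf
  have := hsf.map (MulAut.conj e⁻¹)
  simp only [MulAut.conj_apply, inv_inv] at this
  rw [show e⁻¹ * (e * t * e⁻¹) * e = t by group] at this
  simpa using this.symm

/-- Commuting elements of order `p` generate the same subgroup. -/
theorem Torus.mem_zpowers_of_commute {f g : E} (hf : orderOf f = p) (hg : orderOf g = p)
    (hc : Commute f g) : g ∈ zpowers f := by
  classical
  obtain ⟨a, b, hab, ha, hb, -⟩ := hT.pair_of_order hp hp2 hpC hf
  have hf1 : f ≠ 1 := fun e => by rw [e, orderOf_one] at hf; exact hp.one_lt.ne hf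
  have hgC : g ∈ ptw (G := E) a b := by
    rw [← hT.centralizer_of_fix hab hf1 (hf ▸ hp2) ha hb]
    exact mem_centralizer_singleton_iff.2 hc.symm
  haveI := isCyclic_ptw (G := E) hT.data.two hab
  letI := Fintype.ofFinite (ptw (G := E) a b)
  have h := IsCyclic.card_pow_eq_one_le (α := ptw (G := E) a b) hp.pos
  by_contra hgf
  set f' : ptw (G := E) a b := ⟨f, mem_ptw.2 ⟨ha, hb⟩⟩ with hf'
  set g' : ptw (G := E) a b := ⟨g, hgC⟩ with hg'
  have hsub : insert g' ((Finset.range p).image fun i => f' ^ i) ⊆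
      (Finset.univ.filter fun x : ptw (G := E) a b => x ^ p = 1) := by
    intro x hx
    rw [Finset.mem_filter]
    refine ⟨Finset.mem_univ _, ?_⟩
    rcases Finset.mem_insert.1 hx with rfl | hx
    · exact Subtype.ext (by simp [← hg, pow_orderOf_eq_one, hg'])
    · obtain ⟨i, -, rfl⟩ := Finset.mem_image.1 hx
      refine Subtype.ext ?_
      simp only [SubgroupClass.coe_pow, OneMemClass.coe_one, hf', ← pow_mul]
      rw [mul_comm, pow_mul, ← hf, pow_orderOf_eq_one, one_pow]
  have hof : orderOf f' = p := by rw [← Subgroup.orderOf_coe]; exact hf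
  have hcard := (Finset.card_le_card hsub).trans h
  rw [Finset.card_insert_of_notMem, Finset.card_image_of_injOn, Finset.card_range] at hcard
  · omega
  · intro i hi j hj e
    exact pow_injOn_Iio_orderOf (by rw [hof]; simpa using hi) (by rw [hof]; simpa using hj) e
  · intro hm
    obtain ⟨i, -, e⟩ := Finset.mem_image.1 hm
    have e' : f ^ i = g := by simpa [hf', hg'] using congrArg Subtype.val e
    exact hgf (e' ▸ pow_mem (mem_zpowers f) i)

/-- The number of elements of order `p`. -/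
theorem Torus.ncard_order :
    {f : E | orderOf f = p}.ncard * Nat.card (centralizer ({t} : Set E)) =
      Nat.card E * (p - 1) := by
  classical
  haveI : Fact p.Prime := ⟨hp⟩
  obtain ⟨z, hz⟩ := exists_prime_orderOf_dvd_card' (G := centralizer ({t} : Set E)) p hpC
  rw [← Subgroup.orderOf_coe] at hz
  have hzt : Commute (z : E) t := (mem_centralizer_singleton_iff.1 z.2 : (z : E) * t = t * z)
  have hzo : Odd (orderOf (z : E)) := hz ▸ hp.odd_of_ne_two hp2
  set S : Set E := {f | orderOf f = p ∧ Commute f t} with hS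
  have hSeq : S = (zpowers (z : E) : Set E) \ {1} := by
    ext f
    refine ⟨fun hf => ⟨?_, fun e => ?_⟩, fun hf => ?_⟩
    · refine hT.mem_zpowers_of_commute hp hp2 hpC hz hf.1 ?_
      obtain ⟨a, b, hab, ha, hb⟩ := hT.exists_pair hT.t_ne_one
        (by rw [hT.invol]; exact hT.odd_char.symm)
      exact ptw_comm hT.data.two hab (hT.mem_ptw_of_commute hab ha hb hzo hzt)
        (hT.mem_ptw_of_commute hab ha hb (hf.1 ▸ hp.odd_of_ne_two hp2) hf.2)
    · rw [Set.mem_singleton_iff] at e
      have := hf.1; rw [e, orderOf_one] at this; exact hp.one_lt.ne this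
    · obtain ⟨hf1, hf2⟩ := hf
      obtain ⟨k, hk⟩ := mem_zpowers_iff.1 hf1
      refine ⟨orderOf_eq_prime ?_ hf2, hk ▸ hzt.zpow_left k⟩
      rw [← hk, ← zpow_natCast, ← zpow_mul, mul_comm, zpow_mul, zpow_natCast, ← hz,
        pow_orderOf_eq_one, one_zpow]
  have hset : {f : E | orderOf f = p} = {g | ∃ k, ∃ s ∈ S, g = k * s * k⁻¹} := by
    ext f
    refine ⟨fun hf => ?_, fun hf => ?_⟩
    · obtain ⟨e, he⟩ := hT.exists_conj_commute hp hp2 hpC hf
      refine ⟨e⁻¹, e * f * e⁻¹, ⟨?_, he⟩, by group⟩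
      rwa [← MulAut.conj_apply, MulEquiv.orderOf_eq]
    · obtain ⟨k, s, hs, rfl⟩ := hf
      show orderOf (k * s * k⁻¹) = p
      rw [← MulAut.conj_apply, MulEquiv.orderOf_eq]
      exact hs.1
  rw [hset, ncard_conjs S (centralizer ({t} : Set E))]
  · congr 1
    rw [hSeq, Set.ncard_sdiff_singleton_of_mem (one_mem (zpowers (z : E))),
      ← Nat.card_coe_set_eq, SetLike.coe_sort_coe, Nat.card_zpowers, hz]
  intro k s hs
  obtain ⟨a, b, hab, ha, hb⟩ := hT.exists_pair hT.t_ne_one
    (by rw [hT.invol]; exact hT.odd_char.symm)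
  have hso : Odd (orderOf s) := hs.1 ▸ hp.odd_of_ne_two hp2
  have hs1 : s ≠ 1 := fun e => by have := hs.1; rw [e, orderOf_one] at this; exact hp.one_lt.ne this
  have hsp := mem_ptw.1 (hT.mem_ptw_of_commute hab ha hb hso hs.2)
  have ho : orderOf (k * s * k⁻¹) = p := by
    rw [← MulAut.conj_apply, MulEquiv.orderOf_eq]
    exact hs.1
  constructor
  · intro hk
    have hkp := mem_ptw.1 (hT.mem_ptw_of_commute hab ha hb (ho ▸ hp.odd_of_ne_two hp2) hk.2)
    have hk1 : k * s * k⁻¹ ≠ 1 := fun e => hs1 (conj_eq_one_iff.1 e)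
    have key : ∀ c : X, s • c = c → k • c = a ∨ k • c = b := fun c hc =>
      mem_of_fix hT.data.two hk1 hab hkp.1 hkp.2 (by rw [mul_smul, mul_smul, inv_smul_smul, hc])
    rw [hT.centralizer_eq hab ha hb]
    rcases key a hsp.1 with e1 | e1 <;> rcases key b hsp.2 with e2 | e2
    · exact absurd (smul_left_cancel k (e1.trans e2.symm)) hab
    · exact Or.inl ⟨e1, e2⟩
    · exact Or.inr ⟨e1, e2⟩
    · exact absurd (smul_left_cancel k (e1.trans e2.symm)) hab
  · intro hk
    refine ⟨ho, ?_⟩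
    have hkt : Commute k t := (mem_centralizer_singleton_iff.1 hk : k * t = t * k)
    exact (hkt.mul_left hs.2).mul_left hkt.inv_left

/-- Elements of order `p` generating a group of odd order fix a common point. -/
theorem Torus.exists_common_fix {S : Set E} (hS : ∀ f ∈ S, orderOf f = p)
    (ho : Odd (Nat.card (closure S))) (hne : S.Nonempty) :
    ∃ z : X, ∀ f ∈ S, f • z = z := by
  have hsol : Group.IsSolvable (closure S) := Cfsg.Agent.S0205.result ho
  obtain ⟨f₀, hf₀⟩ := hne
  have hne' : closure S ≠ ⊥ := fun e => by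
    have := subset_closure (k := S) hf₀
    rw [e, SetLike.mem_coe, mem_bot] at this
    have h := hS f₀ hf₀; rw [this, orderOf_one] at h; exact hp.one_lt.ne h
  rcases solvable_cases hT.data.two hsol hne' with ⟨z, hz⟩ | ⟨a, b, hab, hle⟩ | ⟨-, V, hV, hle, -⟩
  · exact ⟨z, fun f hf => hz f (subset_closure hf)⟩
  · refine ⟨a, fun f hf => ?_⟩
    rcases hle (subset_closure hf) with h | ⟨h1, h2⟩
    · exact h.1
    · exfalso
      have h := swap_sq hT.data.two hab h1 h2
      have : p ∣ 2 := hS f hf ▸ orderOf_dvd_of_pow_eq_one (by rw [sq, h])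
      exact hp2 ((Nat.prime_dvd_prime_iff_eq hp Nat.prime_two).1 this)
  · exfalso
    have := (Subgroup.card_dvd_of_le hle)
    rw [hV.card_four] at this
    have := Nat.odd_iff.1 (ho.of_dvd_nat this)
    omega

/-- Two non-commuting elements of order `p` with a common fixed point. -/
theorem Torus.rat_of_share {f g : E} (hf : orderOf f = p) (hnc : ¬ Commute f g) {z : X}
    (hfz : f • z = z) (hgz : g • z = z) : IsRat p₀ E z ∧ p ∣ q - 1 := by
  have hr : IsRat p₀ E z := by
    by_contra h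
    haveI : IsCyclic (stabilizer E z) := hT.data.two.cyc z _ (fun k hk => hk)
      fun k hk e => h ⟨k, e, hk⟩
    letI := IsCyclic.commGroup (α := stabilizer E z)
    exact hnc (congrArg Subtype.val (mul_comm (⟨f, hfz⟩ : stabilizer E z) ⟨g, hgz⟩))
  refine ⟨hr, ?_⟩
  obtain ⟨a, b, hab, ha, hb, -⟩ := hT.pair_of_order hp hp2 hpC hf
  have hf1 : f ≠ 1 := fun e => by rw [e, orderOf_one] at hf; exact hp.one_lt.ne hf
  have hra : IsRat p₀ E a := by
    rcases mem_of_fix hT.data.two hf1 hab ha hb hfz with rfl | rfl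
    · exact hr
    · exact (rat_iff hT.data hf1 hab ha hb).2 hr
  rw [← natCard_ptw_rat hT.data hra ((rat_iff hT.data hf1 hab ha hb).1 hra) hab, ← hf]
  exact dvd_mul_of_dvd_right (Subgroup.orderOf_dvd_natCard _ (mem_ptw.2 ⟨ha, hb⟩)) 2

/-- Pairwise non-commuting elements of order `p` with a common fixed point: at most `q`. -/
theorem Torus.ncard_le_of_share {S : Set E} (hS : ∀ f ∈ S, orderOf f = p) {z : X}
    (hz : ∀ f ∈ S, f • z = z) (hnc : ∀ f ∈ S, ∀ g ∈ S, f ≠ g → ¬ Commute f g) : S.ncard ≤ q := by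
  classical
  have h2 := hT.data.two_le
  rcases S.subsingleton_or_nontrivial with hs | ⟨f₁, hf₁, f₂, hf₂, h12⟩
  · have := (Set.ncard_le_one (Set.toFinite _)).2 hs
    omega
  have hr := (hT.rat_of_share hp hp2 hpC (hS f₁ hf₁) (hnc f₁ hf₁ f₂ hf₂ h12) (hz f₁ hf₁)
    (hz f₂ hf₂)).1
  have key : ∀ f : S, ∃ b : X, b ≠ z ∧ IsRat p₀ E b ∧ (f : E) • b = b := fun f => by
    obtain ⟨a', b', hab', ha', hb', -⟩ := hT.pair_of_order hp hp2 hpC (hS f f.2)
    have hf1 : (f : E) ≠ 1 := fun e => by
      have := hS f f.2; rw [e, orderOf_one] at this; exact hp.one_lt.ne this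
    refine exists_rat_pair hT.data hf1 ?_ hr (hz f f.2)
    intro e
    have := hT.data.two.eq_of_fix e ha' hb'
    exact hab' this.symm
  choose b hb using key
  have hinj : Function.Injective b := fun f g e => by
    by_contra hne
    refine hnc f f.2 g g.2 (fun h => hne (Subtype.ext h)) ?_
    exact ptw_comm hT.data.two (hb f).1.symm (mem_ptw.2 ⟨hz f f.2, (hb f).2.2⟩)
      (mem_ptw.2 ⟨hz g g.2, e ▸ (hb g).2.2⟩)
  have hsub : Set.range b ⊆ {w : X | IsRat p₀ E w} \ {z} := by
    rintro _ ⟨f, rfl⟩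
    exact ⟨(hb f).2.1, (hb f).1⟩
  have h := Set.ncard_le_ncard hsub ((finite_rat hT.data).subset Set.sdiff_subset)
  rw [Set.ncard_sdiff_singleton_of_mem (show z ∈ {w : X | IsRat p₀ E w} from hr), ncard_rat hT.data,
    ← Nat.card_coe_set_eq, Nat.card_range_of_injective hinj, Nat.card_coe_set_eq] at h
  omega

/-- The elements of order `p` fixing a pair of rational points. -/
theorem Torus.ncard_order_ptw {a b : X} (ha : IsRat p₀ E a) (hb : IsRat p₀ E b) (hab : a ≠ b)
    (hp1 : p ∣ q - 1) : {f : E | orderOf f = p ∧ f • a = a ∧ f • b = b}.ncard = p - 1 := by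
  classical
  haveI : Fact p.Prime := ⟨hp⟩
  have h := natCard_ptw_rat hT.data ha hb hab
  have hd : p ∣ Nat.card (ptw (G := E) a b) :=
    (hp.dvd_mul.1 (h ▸ hp1)).resolve_left fun e =>
      hp2 ((Nat.prime_dvd_prime_iff_eq hp Nat.prime_two).1 e)
  obtain ⟨z, hz⟩ := exists_prime_orderOf_dvd_card' (G := ptw (G := E) a b) p hd
  rw [← Subgroup.orderOf_coe] at hz
  have : {f : E | orderOf f = p ∧ f • a = a ∧ f • b = b} = (zpowers (z : E) : Set E) \ {1} := by
    ext f
    refine ⟨fun hf => ⟨hT.mem_zpowers_of_commute hp hp2 hpC hz hf.1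
      (ptw_comm hT.data.two hab z.2 (mem_ptw.2 hf.2)), fun e => ?_⟩, fun hf => ?_⟩
    · rw [Set.mem_singleton_iff] at e
      have := hf.1; rw [e, orderOf_one] at this; exact hp.one_lt.ne this
    · obtain ⟨k, hk⟩ := mem_zpowers_iff.1 hf.1
      refine ⟨orderOf_eq_prime ?_ hf.2, mem_ptw.1 (hk ▸ zpow_mem z.2 k)⟩
      rw [← hk, ← zpow_natCast, ← zpow_mul, mul_comm, zpow_mul, zpow_natCast, ← hz,
        pow_orderOf_eq_one, one_zpow]
  rw [this, Set.ncard_sdiff_singleton_of_mem (one_mem (zpowers (z : E))),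
    ← Nat.card_coe_set_eq, SetLike.coe_sort_coe, Nat.card_zpowers, hz]

/-- Two elements share a fixed point. -/
def Share (X : Type*) {E : Type*} [Group E] [MulAction E X] (f g : E) : Prop :=
  ∃ z : X, f • z = z ∧ g • z = z

/-- `p² (p - 1)` elements of order `p`, few of which share a point. -/
theorem Torus.exists_select (hbig : p * p * (p - 1) ≤ {f : E | orderOf f = p}.ncard) :
    ∃ S : Set E, (∀ f ∈ S, orderOf f = p) ∧ S.ncard = p * p * (p - 1) ∧
      ∀ f ∈ S, {g ∈ S | ¬ Commute f g ∧ Share X f g}.ncard ≤ 2 * ((p - 1) * (p - 1)) := by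
  classical
  by_cases hp1 : p ∣ q - 1
  swap
  · obtain ⟨S, hS, hc⟩ := Set.exists_subset_card_eq hbig
    refine ⟨S, hS, hc, fun f hf => ?_⟩
    rw [show {g ∈ S | ¬ Commute f g ∧ Share X f g} = ∅ from Set.eq_empty_iff_forall_notMem.2
      fun g ⟨_, hnc, z, h1, h2⟩ => hp1 (hT.rat_of_share hp hp2 hpC (hS hf) hnc h1 h2).2]
    simp
  have h2p : 2 * p ≤ q + 1 := by
    obtain ⟨k, hk⟩ := hp1
    have hq := hT.q_odd
    have h2 := hT.data.two_le
    have hk2 : 2 ≤ k := by
      rcases k with _ | _ | k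
      · omega
      · exfalso
        rcases hq with ⟨j, hj⟩
        rcases hp.odd_of_ne_two hp2 with ⟨i, hi⟩
        omega
      · omega
    calc 2 * p ≤ p * k := by rw [mul_comm]; exact Nat.mul_le_mul_left p hk2
      _ ≤ q + 1 := by omega
  haveI := (finite_rat hT.data).to_subtype
  set W := (finite_rat hT.data).toFinset with hW
  have hWc : W.card = q + 1 := by
    rw [← Set.ncard_eq_toFinset_card _ (finite_rat hT.data), ncard_rat hT.data]
  obtain ⟨A, hAW, hAc⟩ := Finset.exists_subset_card_eq (show p ≤ W.card by omega)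
  obtain ⟨B, hBW, hBc⟩ := Finset.exists_subset_card_eq (show p ≤ (W \ A).card by
    rw [Finset.card_sdiff_of_subset hAW, hAc, hWc]; omega)
  have hrA : ∀ a ∈ A, IsRat p₀ E a := fun a ha => (finite_rat hT.data).mem_toFinset.1 (hAW ha)
  have hrB : ∀ b ∈ B, IsRat p₀ E b := fun b hb =>
    (finite_rat hT.data).mem_toFinset.1 (Finset.mem_sdiff.1 (hBW hb)).1
  have hdis : ∀ a ∈ A, ∀ b ∈ B, a ≠ b := fun a ha b hb e =>
    (Finset.mem_sdiff.1 (hBW hb)).2 (e ▸ ha)
  letI := Fintype.ofFinite E
  let T : X → X → Finset E := fun a b =>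
    Finset.univ.filter fun f => orderOf f = p ∧ f • a = a ∧ f • b = b
  have hTc : ∀ a ∈ A, ∀ b ∈ B, (T a b).card = p - 1 := fun a ha b hb => by
    rw [← hT.ncard_order_ptw hp hp2 hpC (hrA a ha) (hrB b hb) (hdis a ha b hb) hp1,
      ← Set.ncard_coe_finset]
    congr 1
    ext f; simp [T]
  have huniq : ∀ {f : E}, orderOf f = p → ∀ a ∈ A, ∀ b ∈ B, f • a = a → f • b = b →
      ∀ c : X, f • c = c → c = a ∨ c = b := fun {f} hf a ha b hb h1 h2 c hc =>
    mem_of_fix hT.data.two (fun e => by rw [e, orderOf_one] at hf; exact hp.one_lt.ne hf)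
      (hdis a ha b hb) h1 h2 hc
  refine ⟨↑((A ×ˢ B).biUnion fun ab => T ab.1 ab.2), ?_, ?_, ?_⟩
  · intro f hf
    simp only [Finset.coe_biUnion, Set.mem_iUnion, Finset.mem_coe] at hf
    obtain ⟨ab, -, hf⟩ := hf
    exact (Finset.mem_filter.1 hf).2.1
  · rw [Set.ncard_coe_finset, Finset.card_biUnion]
    · rw [Finset.sum_const_nat (m := p - 1), Finset.card_product, hAc, hBc]
      intro ab hab
      exact hTc _ (Finset.mem_product.1 hab).1 _ (Finset.mem_product.1 hab).2
    · intro ab hab ab' hab' hne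
      rw [Function.onFun, Finset.disjoint_left]
      intro f hf hf'
      obtain ⟨ha, hb⟩ := Finset.mem_product.1 hab
      obtain ⟨ha', hb'⟩ := Finset.mem_product.1 hab'
      obtain ⟨-, hfo, h1, h2⟩ := Finset.mem_filter.1 hf
      obtain ⟨-, -, h1', h2'⟩ := Finset.mem_filter.1 hf'
      refine hne (Prod.ext ?_ ?_)
      · exact ((huniq hfo _ ha _ hb h1 h2 _ h1').resolve_right (hdis _ ha' _ hb)).symm
      · exact ((huniq hfo _ ha _ hb h1 h2 _ h2').resolve_left (hdis _ ha _ hb').symm).symm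
  · intro f hf
    simp only [Finset.coe_biUnion, Set.mem_iUnion, Finset.mem_coe] at hf
    obtain ⟨⟨a, b⟩, hab, hf⟩ := hf
    obtain ⟨ha, hb⟩ := Finset.mem_product.1 hab
    obtain ⟨-, hfo, h1, h2⟩ := Finset.mem_filter.1 hf
    have hsub : {g ∈ (↑((A ×ˢ B).biUnion fun ab => T ab.1 ab.2) : Set E) |
        ¬ Commute f g ∧ Share X f g} ⊆
        ↑(((B.erase b).biUnion fun b' => T a b') ∪ ((A.erase a).biUnion fun a' => T a' b)) := by
      rintro g ⟨hg, hnc, z, hfz, hgz⟩
      simp only [Finset.coe_biUnion, Set.mem_iUnion, Finset.mem_coe] at hg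
      obtain ⟨⟨a', b'⟩, hab', hg⟩ := hg
      obtain ⟨ha', hb'⟩ := Finset.mem_product.1 hab'
      obtain ⟨-, hgo, h1', h2'⟩ := Finset.mem_filter.1 hg
      have hnot : ¬ (a = a' ∧ b = b') := fun ⟨e1, e2⟩ => hnc
        (ptw_comm hT.data.two (hdis a ha b hb) (mem_ptw.2 ⟨h1, h2⟩)
          (mem_ptw.2 ⟨e1 ▸ h1', e2 ▸ h2'⟩))
      rw [Finset.coe_union, Set.mem_union, Finset.mem_coe, Finset.mem_coe]
      rcases huniq hfo a ha b hb h1 h2 z hfz with rfl | rfl
      · obtain rfl := (huniq hgo a' ha' b' hb' h1' h2' _ hgz).resolve_right (hdis _ ha _ hb')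
        exact Or.inl (Finset.mem_biUnion.2
          ⟨b', Finset.mem_erase.2 ⟨fun e => hnot ⟨rfl, e.symm⟩, hb'⟩, hg⟩)
      · obtain rfl := (huniq hgo a' ha' b' hb' h1' h2' _ hgz).resolve_left (hdis _ ha' _ hb).symm
        exact Or.inr (Finset.mem_biUnion.2
          ⟨a', Finset.mem_erase.2 ⟨fun e => hnot ⟨e.symm, rfl⟩, ha'⟩, hg⟩)
    refine (Set.ncard_le_ncard hsub (Finset.finite_toSet _)).trans ?_
    rw [Set.ncard_coe_finset, two_mul]
    refine (Finset.card_union_le _ _).trans (Nat.add_le_add ?_ ?_)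
    · refine (Finset.card_biUnion_le_card_mul _ _ (p - 1) fun b' hb' => ?_).trans ?_
      · exact (hTc a ha b' (Finset.mem_of_mem_erase hb')).le
      · rw [Finset.card_erase_of_mem hb, hBc]
    · refine (Finset.card_biUnion_le_card_mul _ _ (p - 1) fun a' ha' => ?_).trans ?_
      · exact (hTc a' (Finset.mem_of_mem_erase ha') b hb).le
      · rw [Finset.card_erase_of_mem ha, hAc]

end Cfsg.Agent.GW.Count
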