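import Cfsg.Agent.Lib.GW.ConsBase
import Cfsg.Agent.Lib.Forms.DicksonShapes
import Cfsg.Agent.Lib.Involutions.DihedralSylow
import Cfsg.Agent.Lib.TimesPSLTwo.PSLFacts
import Cfsg.Agent.S0205

/-!
The Gorenstein–Walter theorem for arbitrary groups without core, from the perfect case.
-/

set_option autoImplicit false

namespace Cfsg.Agent.GW.Cons

open Subgroup

universe u

/-- A subgroup of a dihedral group is cyclic or dihedral. -/
theorem cyclic_or_dihedral {n : ℕ} [NeZero n] (H : Subgroup (DihedralGroup n)) :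
    IsCyclic H ∨ ∃ k : ℕ, 2 ≤ k ∧ Nonempty (H ≃* DihedralGroup k) := by
  set R : Subgroup (DihedralGroup n) := zpowers (DihedralGroup.r 1) with hR
  have hRmem : ∀ i : ZMod n, DihedralGroup.r i ∈ R := fun i => ⟨(i.val : ℤ), by simp⟩
  by_cases hle : H ≤ R
  · left
    exact isCyclic_of_injective (Subgroup.inclusion hle) (Subgroup.inclusion_injective hle)
  set Z : Subgroup H := R.subgroupOf H with hZ
  have hZc : IsCyclic Z := isCyclic_of_injective
    ((H.subtype.comp Z.subtype).codRestrict R fun z => z.2)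
    fun a b h => Subtype.ext (Subtype.ext (congrArg (fun w : R => (w : DihedralGroup n)) h))
  have hout : ∀ y : H, y ∉ Z → ∃ i, (y : DihedralGroup n) = DihedralGroup.sr i := by
    intro y hy
    rcases hval : (y : DihedralGroup n) with i | i
    · exact absurd (show (y : DihedralGroup n) ∈ R by rw [hval]; exact hRmem i) hy
    · exact ⟨i, rfl⟩
  obtain ⟨y₀, hy₀H, hy₀⟩ := SetLike.not_le_iff_exists.1 hle
  have hidx : Z.index = 2 := by
    refine Subgroup.index_eq_two_iff.2 ⟨⟨y₀, hy₀H⟩, fun b => ?_⟩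
    obtain ⟨i, hi⟩ := hout ⟨y₀, hy₀H⟩ hy₀
    change y₀ = _ at hi
    by_cases hb : b ∈ Z
    · refine Or.inr ⟨hb, fun h => hy₀ ?_⟩
      exact (Subgroup.mul_mem_cancel_left Z hb).1 h
    · refine Or.inl ⟨?_, hb⟩
      obtain ⟨j, hj⟩ := hout b hb
      show (b : DihedralGroup n) * y₀ ∈ R
      rw [hi, hj, DihedralGroup.sr_mul_sr]
      exact hRmem _
  obtain ⟨c, -, hc, he⟩ := Forms.DicksonShapes.dihedral_of Z hidx hZc fun y hy => by
    obtain ⟨i, hi⟩ := hout y hy
    exact Subtype.ext (by rw [Subgroup.coe_mul, hi, DihedralGroup.sr_mul_self]; rfl)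
  rcases Nat.lt_or_ge (orderOf c) 2 with h | h
  · left
    have hpos := orderOf_pos c
    have h1 : Nat.card Z = 1 := by omega
    have h2 := Z.card_mul_index
    rw [h1, hidx] at h2
    exact isCyclic_of_prime_card (p := 2) (hp := ⟨Nat.prime_two⟩) (by omega)
  · exact Or.inr ⟨orderOf c, h, he⟩

variable {G : Type u} [Group G] [Finite G]

/-- Sylow 2-subgroups of a subgroup of a group with dihedral Sylow 2-subgroups. -/
theorem sylow_sub_dihedral (T : Sylow 2 G) {n : ℕ} [NeZero n]
    (eT : (T : Subgroup G) ≃* DihedralGroup n) (L : Subgroup G) (P : Sylow 2 L) :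
    IsCyclic (P : Subgroup L) ∨
      ∃ k : ℕ, 2 ≤ k ∧ Nonempty ((P : Subgroup L) ≃* DihedralGroup k) := by
  have : Fact (Nat.Prime 2) := ⟨Nat.prime_two⟩
  obtain ⟨f, hf⟩ := Involutions.DihedralSylow.exists_embedding T
    (Q := (P : Subgroup L).map L.subtype) (P.isPGroup'.map _) eT
  let g := f.comp ((P : Subgroup L).equivMapOfInjective L.subtype L.subtype_injective).toMonoidHom
  have hg : Function.Injective g := hf.comp (MulEquiv.injective _)
  rcases cyclic_or_dihedral g.range with h | ⟨k, hk, ⟨e⟩⟩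
  · exact Or.inl (isCyclic_of_injective g.rangeRestrict fun a b he => hg (congrArg Subtype.val he))
  · exact Or.inr ⟨k, hk, ⟨(MonoidHom.ofInjective hg).trans e⟩⟩

/-- A nonsolvable group has a nontrivial perfect normal subgroup. -/
theorem exists_perfect_normal (hns : ¬ Group.IsSolvable G) :
    ∃ L : Subgroup G, L.Normal ∧ ⁅L, L⁆ = L ∧ L ≠ ⊥ := by
  obtain ⟨k, hk⟩ : ∃ k, derivedSeries G (k + 1) = derivedSeries G k := by
    by_contra hne
    push Not at hne
    have hdec : ∀ k, Nat.card (derivedSeries G k) + k ≤ Nat.card G := by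
      intro k
      induction k with
      | zero => simp
      | succ k ih =>
        have hle : derivedSeries G (k + 1) ≤ derivedSeries G k := derivedSeries_antitone G (Nat.le_succ k)
        have hlt : Nat.card (derivedSeries G (k + 1)) < Nat.card (derivedSeries G k) := by
          by_contra hge
          exact hne k (Subgroup.eq_of_le_of_card_ge hle (not_lt.1 hge))
        omega
    have := hdec (Nat.card G + 1)
    omega
  refine ⟨derivedSeries G k, derivedSeries_normal G k, hk, fun hb => hns ?_⟩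
  exact (Group.isSolvable_def G).2 ⟨k, hb⟩

/-- The theorem of Gorenstein and Walter for core-free nonsolvable groups, from the perfect case for
the subgroups of the group. -/
theorem full_gw_of (hGW : ∀ (L : Subgroup G) [Group.IsPerfect L] (S : Sylow 2 L) (k : ℕ), 2 ≤ k →
      Nonempty ((S : Subgroup L) ≃* DihedralGroup k) →
      (∃ (F : Type) (_ : Field F) (_ : Fintype F), Odd (Fintype.card F) ∧ 3 < Fintype.card F ∧
        Nonempty (L ⧸ Cfsg.oddCore L ≃* Matrix.ProjectiveSpecialLinearGroup (Fin 2) F)) ∨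
      Nonempty (L ⧸ Cfsg.oddCore L ≃* alternatingGroup (Fin 7)))
    (hO : Cfsg.oddCore G = ⊥) (T : Sylow 2 G) {n : ℕ}
    (hn : 2 ≤ n) (eT : (T : Subgroup G) ≃* DihedralGroup n) (hns : ¬ Group.IsSolvable G) :
    ∃ L : Subgroup G, L.Normal ∧ centralizer (L : Set G) = ⊥ ∧ ⁅L, L⁆ = L ∧
      (∀ P : Sylow 2 L, ∃ k : ℕ, 2 ≤ k ∧ Nonempty ((P : Subgroup L) ≃* DihedralGroup k)) ∧
      ((∃ (F : Type) (_ : Field F) (_ : Fintype F), Odd (Fintype.card F) ∧ 3 < Fintype.card F ∧
        Nonempty (L ≃* Matrix.ProjectiveSpecialLinearGroup (Fin 2) F)) ∨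
      Nonempty (L ≃* alternatingGroup (Fin 7))) := by
  have : Fact (Nat.Prime 2) := ⟨Nat.prime_two⟩
  have : NeZero n := ⟨by omega⟩
  obtain ⟨L, hLn, hLL, hLne⟩ := exists_perfect_normal hns
  have hP : Group.IsPerfect L := ⟨Subgroup.map_injective L.subtype_injective (by
    rw [_root_.commutator_def, Subgroup.map_commutator, ← MonoidHom.range_eq_map, Subgroup.range_subtype,
      hLL])⟩
  have hsol : ¬ Group.IsSolvable L := fun h => by
    have : Nontrivial L := (Subgroup.nontrivial_iff_ne_bot L).2 hLne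
    exact absurd hP.commutator_eq_top (ne_of_lt (Group.IsSolvable.commutator_lt_top_of_nontrivial L))
  have heven : Even (Nat.card L) := Nat.not_odd_iff_even.1 fun h => hsol (S0205.result h)
  have hsyl : ∀ P : Sylow 2 L, ∃ k : ℕ, 2 ≤ k ∧ Nonempty ((P : Subgroup L) ≃* DihedralGroup k) :=
    fun P => (sylow_sub_dihedral T eT L P).resolve_left (not_cyclic_of_perfect hP heven P)
  have hOL : Cfsg.oddCore L = ⊥ := by
    rw [← Subgroup.map_eq_bot_iff_of_injective _ L.subtype_injective, eq_bot_iff, ← hO]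
    exact Cores.map_pPrimeCore_subtype_le 2 L
  obtain ⟨P⟩ := (inferInstance : Nonempty (Sylow 2 L))
  obtain ⟨k, hk, ⟨eP⟩⟩ := hsyl P
  let eL : L ⧸ Cfsg.oddCore L ≃* L :=
    (QuotientGroup.quotientMulEquivOfEq hOL).trans QuotientGroup.quotientBot
  have hgw := hGW L P k hk ⟨eP⟩
  refine ⟨L, hLn, ?_, hLL, hsyl, ?_⟩
  swap
  · rcases hgw with ⟨F, iF, iT, hodd, h3, ⟨f⟩⟩ | hf
    · exact Or.inl ⟨F, iF, iT, hodd, h3, ⟨eL.symm.trans f⟩⟩
    · exact Or.inr (hf.map eL.symm.trans)
  have hcen : center L = ⊥ := by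
    rcases hgw with ⟨F, iF, iT, hodd, h3, ⟨f⟩⟩ | hf
    · rw [eq_bot_iff]
      intro c hc
      rw [mem_bot, ← MulEquiv.map_eq_one_iff (eL.symm.trans f)]
      refine TimesPSLTwo.psl_center h3 _ fun y => ?_
      obtain ⟨y, rfl⟩ := (eL.symm.trans f).surjective y
      rw [← map_mul, ← map_mul, mem_center_iff.1 hc y]
    · obtain ⟨f⟩ := hf
      rw [eq_bot_iff]
      intro c hc
      rw [mem_bot, ← MulEquiv.map_eq_one_iff (eL.symm.trans f), ← mem_bot,
        ← alternatingGroup.center_eq_bot (α := Fin 7) (by simp), mem_center_iff]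
      intro y
      obtain ⟨y, rfl⟩ := (eL.symm.trans f).surjective y
      rw [← map_mul, ← map_mul, mem_center_iff.1 hc y]
  set C := centralizer (L : Set G) with hC
  have hCn : C.Normal := inferInstance
  have hdisj : ∀ c ∈ C, c ∈ L → c = 1 := fun c hcC hcL => by
    have : (⟨c, hcL⟩ : L) ∈ center L :=
      mem_center_iff.2 fun y => Subtype.ext (mem_centralizer_iff.1 hcC y y.2)
    rw [hcen, mem_bot] at this
    exact congrArg Subtype.val this
  rcases Nat.even_or_odd (Nat.card C) with hCe | hCo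
  swap
  · exact le_bot_iff.1 (hO ▸ Cores.le_oddCore hCo)
  -- otherwise an elementary group of order eight appears
  obtain ⟨c, hc⟩ := exists_prime_orderOf_dvd_card' (G := C) 2 (even_iff_two_dvd.1 hCe)
  rw [← Subgroup.orderOf_coe] at hc
  have h2k : 2 ∣ k := Involutions.DihedralSylow.two_dvd P eP hk
  have hU := Involutions.DihedralSylow.four_isKleinFour P eP h2k (by omega) 0
  set U := (Involutions.DihedralSylow.four P eP h2k 0).map L.subtype with hUdef
  have hU4 : Nat.card U = 4 := by
    rw [hUdef, Subgroup.card_map_of_injective L.subtype_injective]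
    exact hU.card_four
  have hUsq : ∀ x : U, x * x = 1 := by
    rintro ⟨_, y, hy, rfl⟩
    exact Subtype.ext ((map_mul L.subtype y y).symm.trans
      (congrArg L.subtype ((Involutions.TwoGroups.isKleinFour_iff _).1 hU |>.2 y hy) |>.trans
        (map_one _)))
  have hcU : ∀ (x : zpowers (c : G)) (y : U), Commute ((zpowers (c : G)).subtype x) (U.subtype y) := by
    rintro ⟨_, i, rfl⟩ ⟨_, y, -, rfl⟩
    exact (Commute.zpow_left (mem_centralizer_iff.1 c.2 y y.2).symm i)
  set φ := MonoidHom.noncommCoprod _ _ hcU with hφ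
  have hφi : Function.Injective φ := by
    rw [injective_iff_map_eq_one]
    rintro ⟨⟨x, hx⟩, ⟨y, hy⟩⟩ h
    change x * y = 1 at h
    have hyL : y ∈ L := by
      obtain ⟨w, -, rfl⟩ := hy
      exact w.2
    have hxL : x ∈ L := eq_inv_of_mul_eq_one_left h ▸ inv_mem hyL
    obtain rfl := hdisj x ((zpowers_le.2 c.2 : zpowers (c : G) ≤ C) hx) hxL
    rw [one_mul] at h
    subst h
    rfl
  have hsq : ∀ x : φ.range, x * x = 1 := by
    rintro ⟨_, ⟨a, b⟩, rfl⟩
    refine Subtype.ext ?_
    show φ (a, b) * φ (a, b) = 1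
    have ha : a * a = 1 := by
      have h := pow_card_eq_one' (x := a)
      rw [Nat.card_zpowers, hc, pow_two] at h
      exact h
    rw [← map_mul, Prod.mk_mul_mk, ha, hUsq b]
    exact map_one φ
  have hp : IsPGroup 2 φ.range := fun x => ⟨1, by rw [pow_one, pow_two, hsq x]⟩
  obtain ⟨f, hf⟩ := Involutions.DihedralSylow.exists_embedding T hp eT
  have h4 := Involutions.DihedralEmbedding.card_le_four f hf
    (Involutions.DihedralSylow.two_dvd T eT hn) (by omega) hsq
  rw [← Nat.card_congr (MonoidHom.ofInjective hφi).toEquiv, Nat.card_prod, Nat.card_zpowers, hc,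
    hU4] at h4
  omega

/-- The theorem of Gorenstein and Walter for core-free nonsolvable groups. -/
theorem full_gw (hGW : PerfectGW.{u}) (hO : Cfsg.oddCore G = ⊥) (T : Sylow 2 G) {n : ℕ}
    (hn : 2 ≤ n) (eT : (T : Subgroup G) ≃* DihedralGroup n) (hns : ¬ Group.IsSolvable G) :
    ∃ L : Subgroup G, L.Normal ∧ centralizer (L : Set G) = ⊥ ∧ ⁅L, L⁆ = L ∧
      (∀ P : Sylow 2 L, ∃ k : ℕ, 2 ≤ k ∧ Nonempty ((P : Subgroup L) ≃* DihedralGroup k)) ∧
      ((∃ (F : Type) (_ : Field F) (_ : Fintype F), Odd (Fintype.card F) ∧ 3 < Fintype.card F ∧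
        Nonempty (L ≃* Matrix.ProjectiveSpecialLinearGroup (Fin 2) F)) ∨
      Nonempty (L ≃* alternatingGroup (Fin 7))) :=
  full_gw_of (fun _ _ S k => hGW S k) hO T hn eT hns

omit [Finite G] in
/-- A group with trivial centraliser of a normal subgroup acts faithfully on it. -/
theorem conjNormal_injective {L : Subgroup G} [L.Normal] (hC : centralizer (L : Set G) = ⊥) :
    Function.Injective (MulAut.conjNormal (H := L)) := by
  rw [injective_iff_map_eq_one]
  intro g hg
  rw [← mem_bot, ← hC, mem_centralizer_iff]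
  intro h hh
  have h1 := congrArg (fun f : MulAut L => ((f ⟨h, hh⟩ : L) : G)) hg
  simp only [MulAut.conjNormal_apply, MulAut.one_apply] at h1
  exact (mul_inv_eq_iff_eq_mul.1 h1).symm

end Cfsg.Agent.GW.Cons
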