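import Cfsg.Agent.Lib.GW.ConsTwoClassesShape
import Cfsg.Agent.Lib.GW.ConsFull
import Cfsg.Agent.Lib.GW.ConsRankOne
import Cfsg.Agent.Lib.PSLOrderSpectrum.Main
import Cfsg.Agent.Lib.CharP.GoldschmidtS4
import Cfsg.Agent.S0228

/-!
Exactly half as many classes of 2-elements as elements of a Sylow 2-subgroup, from Gorenstein–Walter.
-/

set_option autoImplicit false

namespace Cfsg.Agent.GW.Cons.TwoClasses

open Subgroup

universe u

variable {G : Type u} [Group G] [Finite G]

/-- A solvable group without core with dihedral Sylow 2-subgroups, not a 2-group. -/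
theorem solvable_case (hO : Cfsg.oddCore G = ⊥) [Group.IsSolvable G] (T : Sylow 2 G) {m : ℕ}
    (hm : 2 ≤ m) (eT : (T : Subgroup G) ≃* DihedralGroup m) (hT : (T : Subgroup G) ≠ ⊤) :
    Nonempty (G ≃* alternatingGroup (Fin 4)) ∨ Nonempty (G ≃* Equiv.Perm (Fin 4)) := by
  have : Fact (Nat.Prime 2) := ⟨Nat.prime_two⟩
  set F := Cfsg.pCore 2 G with hF
  have hFp : IsPGroup 2 F := Cores.pCore_isPGroup 2
  obtain ⟨f, hf⟩ := Involutions.DihedralSylow.exists_embedding T hFp eT
  have h2m := Involutions.DihedralSylow.two_dvd T eT hm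
  have hCF : centralizer (F : Set G) ≤ F := Solvable.Fitting.centralizer_pCore_le 2 hO
  set α : G →* MulAut F := MulAut.conjNormal with hα
  have hker : α.ker = centralizer (F : Set G) := by
    ext g
    rw [MonoidHom.mem_ker, mem_centralizer_iff]
    constructor
    · intro h x hx
      have h1 := congrArg (fun σ : MulAut F => ((σ ⟨x, hx⟩ : F) : G)) h
      simp only [hα, MulAut.conjNormal_apply, MulAut.one_apply] at h1
      exact (mul_inv_eq_iff_eq_mul.1 h1).symm
    · intro h
      refine MulEquiv.ext fun x => Subtype.ext ?_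
      rw [hα, MulAut.conjNormal_apply, ← h x x.2, mul_inv_cancel_right]
      rfl
  obtain ⟨g, hgo, hgne⟩ : ∃ g : G, Odd (orderOf g) ∧ α g ≠ 1 := by
    by_contra hne
    push Not at hne
    refine hT ?_
    have hG : IsPGroup 2 G := fun x => by
      obtain ⟨k, hk⟩ := Transfer.NormalPComplement.exists_pow_coprime (p := 2) (orderOf_pos x).ne'
      have hmem : x ^ 2 ^ k ∈ F := by
        refine hCF ?_
        rw [← hker, MonoidHom.mem_ker]
        exact hne _ (Nat.coprime_two_right.1 hk)
      obtain ⟨i, hi⟩ := hFp ⟨_, hmem⟩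
      refine ⟨k + i, ?_⟩
      have h1 := congrArg Subtype.val hi
      simp only [Subgroup.coe_pow, Subgroup.coe_one, ← pow_mul, ← pow_add] at h1
      exact h1
    exact (T.is_maximal' (hG.to_subgroup ⊤) le_top).symm
  have hoσ : Odd (orderOf (α g)) := Odd.of_dvd_nat hgo (orderOf_map_dvd α g)
  obtain ⟨hF4, hFsq⟩ :=
    Involutions.DihedralEmbedding.isKleinFour_of_aut hFp f hf h2m (by omega) hoσ hgne
  have hsqG : ∀ x ∈ F, x * x = 1 := fun x hx => congrArg Subtype.val (hFsq ⟨x, hx⟩)
  have hkerF : α.ker = F := by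
    rw [hker]
    refine le_antisymm hCF fun x hx => mem_centralizer_iff.2 fun y hy => ?_
    have h1 := hsqG _ (mul_mem hy hx)
    rw [← inv_eq_of_mul_eq_one_right h1, _root_.mul_inv_rev, inv_eq_of_mul_eq_one_right (hsqG x hx),
      inv_eq_of_mul_eq_one_right (hsqG y hy)]
  set θ := (Involutions.ThreePoint.autPerm F).comp α with hθ
  have hθker : θ.ker = F := by
    refine Eq.trans ?_ hkerF
    ext x
    exact Involutions.ThreePoint.autPerm_eq_one
  have h3 : Nat.card {a : F // a ≠ 1} = 3 := by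
    rw [Involutions.ThreePoint.card_nontrivial, hF4]
  let eα : {a : F // a ≠ 1} ≃ Fin 3 := (Finite.equivFin _).trans (finCongr h3)
  have hperm : Nat.card (Equiv.Perm {a : F // a ≠ 1}) = 6 := by
    rw [Nat.card_congr eα.permCongrHom.toEquiv, Nat.card_eq_fintype_card]; rfl
  have hdvd : F.index ∣ 6 := by
    rw [← hθker, Subgroup.index_ker, ← hperm]
    exact Subgroup.card_subgroup_dvd_card _
  have hcard := F.card_mul_index
  rw [hF4] at hcard
  have hle := Nat.le_of_dvd (by norm_num) hdvd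
  interval_cases hi : F.index
  all_goals try omega
  · exfalso
    refine hT ?_
    have hG : IsPGroup 2 G := IsPGroup.of_card (n := 2) (by omega)
    exact (T.is_maximal' (hG.to_subgroup ⊤) le_top).symm
  · exfalso
    refine hT ?_
    have hG : IsPGroup 2 G := IsPGroup.of_card (n := 3) (by omega)
    exact (T.is_maximal' (hG.to_subgroup ⊤) le_top).symm
  · refine Or.inl (S0228.result (by omega) fun z hz hzc => ?_)
    have hzF : z ∈ F := hCF (mem_centralizer_iff.2 fun y _ => mem_center_iff.1 hzc y)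
    refine hgne (Involutions.DihedralEmbedding.eq_one_of_fixed hFp f hf h2m (by omega) hoσ
      (t := ⟨z, hzF⟩) (fun h => Involutions.Basic.ne_one hz (congrArg Subtype.val h)) (Subtype.ext ?_))
    rw [hα, MulAut.conjNormal_apply, mem_center_iff.1 hzc g, mul_inv_cancel_right]
  · exact Or.inr (CharP.RecognizeS4.iso_four hsqG hCF hi hF4)

theorem psl_two_part {q N : ℕ} (hodd : Odd q) (hN : 2 * N = q * ((q - 1) * (q + 1))) (h8 : ¬ 8 ∣ N) :
    q % 8 = 3 ∨ q % 8 = 5 := by
  have hm := Nat.odd_iff.1 hodd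
  by_contra hne
  refine h8 ?_
  have h16 : 16 ∣ q * ((q - 1) * (q + 1)) := by
    refine Dvd.dvd.mul_left ?_ q
    rcases (show q % 8 = 1 ∨ q % 8 = 7 by omega) with h | h
    · rw [show (16 : ℕ) = 8 * 2 from rfl]
      exact Nat.mul_dvd_mul (by omega) (by omega)
    · rw [show (16 : ℕ) = 2 * 8 from rfl]
      exact Nat.mul_dvd_mul (by omega) (by omega)
  rw [← hN, show (16 : ℕ) = 2 * 8 from rfl] at h16
  exact (Nat.mul_dvd_mul_iff_left two_pos).1 h16

/-- Exactly half as many classes of 2-elements as elements of a Sylow 2-subgroup. -/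
theorem two_classes (hGW : PerfectGW.{u}) (P : Sylow 2 G) (hO : Cfsg.oddCore G = ⊥)
    (hk : 2 * Nat.card (Cfsg.Agent.S3895.K2 G) = Nat.card ↥(P : Subgroup G)) :
    Nonempty (G ⧸ center G ≃* ↥(alternatingGroup (Fin 4))) ∨
    Nonempty (G ⧸ center G ≃* Equiv.Perm (Fin 4)) ∨
    ∃ S : Subgroup (G ⧸ center G), S.Normal ∧ IsSimpleGroup ↥S ∧ ¬ IsMulCommutative ↥S ∧
      centralizer (S : Set (G ⧸ center G)) = ⊥ ∧
      ∃ (F : Type) (_ : Field F) (_ : Fintype F), 3 < Fintype.card F ∧
        (Fintype.card F % 8 = 3 ∨ Fintype.card F % 8 = 5) ∧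
        Nonempty (↥S ≃* Matrix.ProjectiveSpecialLinearGroup (Fin 2) F) := by
  have : Fact (Nat.Prime 2) := ⟨Nat.prime_two⟩
  obtain ⟨⟨m, hm, ⟨eT₀⟩⟩, ⟨x, hx, y, hy, hxy, hxc, g, hg⟩, A, hA, hZA, hA4⟩ := shape hO hk
  set π := QuotientGroup.mk' (center G) with hπ
  set T := P.mapSurjective (QuotientGroup.mk'_surjective (center G)) with hT
  let eT : (T : Subgroup (G ⧸ center G)) ≃* DihedralGroup m := eT₀
  have hZp : IsPGroup 2 (center G) := P.2.to_le (center_le_sylow hO)
  have hOq : Cfsg.oddCore (G ⧸ center G) = ⊥ :=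
    ZStar.CentralWeaklyClosed.oddCore_quotient_central hO (center G) le_rfl hZp
  have hTne : (T : Subgroup (G ⧸ center G)) ≠ ⊤ := by
    intro htop
    have hmem : g ∈ (P : Subgroup G).map π := by
      show g ∈ (T : Subgroup (G ⧸ center G))
      rw [htop]
      exact mem_top g
    rw [hxc g hmem, mul_inv_cancel_right] at hg
    exact hxy hg
  by_cases hsol : Group.IsSolvable (G ⧸ center G)
  · rcases solvable_case hOq T hm eT hTne with h | h
    · exact Or.inl h
    · exact Or.inr (Or.inl h)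
  obtain ⟨L, hLn, hC, hLL, hsylL, hiso⟩ := full_gw hGW hOq T hm eT hsol
  -- the two-part of `L` is four
  let Q : Sylow 2 L := IsPGroup.toSylow (T.2.comap_subtype (K := L))
    (Cores.sylow_subgroupOf_isSubnormal T hLn.isSubnormal)
  have hQle : Nat.card (Q : Subgroup L) ≤ 4 := by
    refine le_trans ?_ hA4
    rw [show Nat.card (Q : Subgroup L) = Nat.card ((Q : Subgroup L).map L.subtype) from
      (card_map_of_injective L.subtype_injective).symm]
    refine card_le_of_le ?_
    rintro _ ⟨l, hl, rfl⟩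
    obtain ⟨p, hp, hpl⟩ : (l : G ⧸ center G) ∈ (P : Subgroup G).map π := hl
    have hlG : (l : G ⧸ center G) ∈ (_root_.commutator G).map π := by
      rw [_root_.commutator_def, map_commutator, map_top_of_surjective π (QuotientGroup.mk'_surjective _)]
      exact commutator_mono le_top le_top (hLL.ge l.2)
    obtain ⟨d, hd, hdl⟩ := hlG
    have hw : p⁻¹ * d ∈ center G := QuotientGroup.eq.1 (hpl.trans hdl.symm)
    have hdP : d ∈ (P : Subgroup G) := by
      have := (P : Subgroup G).mul_mem hp (center_le_sylow hO hw)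
      rwa [mul_inv_cancel_left] at this
    exact ⟨d, hA ⟨hd, hdP⟩, hdl⟩
  obtain ⟨k, hk2, ⟨eQ⟩⟩ := hsylL Q
  have hQ4 : Nat.card (Q : Subgroup L) = 4 := by
    have h := Nat.card_congr eQ.toEquiv
    rw [DihedralGroup.nat_card] at h
    omega
  have h8 : ¬ 8 ∣ Nat.card L := by
    intro h
    rw [show (8 : ℕ) = 2 ^ 3 from rfl, Nat.prime_two.pow_dvd_iff_le_factorization Nat.card_pos.ne'] at h
    have h4 : (2 : ℕ) ^ (Nat.card L).factorization 2 = 2 ^ 2 := by
      rw [← Q.card_eq_multiplicity, hQ4]; norm_num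
    have := Nat.pow_right_injective le_rfl h4
    omega
  rcases hiso with ⟨F, iF, iT, hodd, h3, ⟨f⟩⟩ | ⟨⟨f⟩⟩
  · refine Or.inr (Or.inr ⟨L, hLn, ?_, ?_, hC, F, iF, iT, h3, ?_, ⟨f⟩⟩)
    · have := TimesPSLTwo.psl_simple (F := F) h3
      haveI : Nontrivial L := f.toEquiv.nontrivial
      exact IsSimpleGroup.isSimpleGroup_of_surjective f.symm.toMonoidHom f.symm.surjective
    · intro hc
      have h1 : ⁅L, L⁆ = ⊥ := commutator_eq_bot_iff_le_centralizer.2 fun a ha =>
        mem_centralizer_iff.2 fun b hb => congrArg Subtype.val (hc.is_comm.comm (⟨b, hb⟩ : L) ⟨a, ha⟩)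
      rw [hLL] at h1
      have h2 : Nat.card (Q : Subgroup L) ≤ Nat.card L := card_le_card_group _
      have h3' : Nat.card L = 1 := card_eq_one.2 h1
      omega
    · have hpsl := PSLOrderSpectrum.card_psl_two (F := F)
      rw [← Nat.card_congr f.toEquiv] at hpsl
      have hg2 : Nat.gcd 2 (Fintype.card F - 1) = 2 := Nat.gcd_eq_left (by
        have := Nat.odd_iff.1 hodd; omega)
      rw [hg2] at hpsl
      exact psl_two_part hodd hpsl h8
  · exfalso
    refine h8 ?_
    have h : 2 * Nat.card (alternatingGroup (Fin 7)) = Nat.factorial 7 := by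
      rw [two_mul_nat_card_alternatingGroup, Nat.card_perm, Nat.card_fin]
    rw [← Nat.card_congr f.toEquiv, show Nat.factorial 7 = 5040 from rfl] at h
    exact ⟨315, by omega⟩

end Cfsg.Agent.GW.Cons.TwoClasses
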