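import Cfsg.Agent.Lib.GW.ConsCover
import Mathlib.GroupTheory.IsPerfect

/-!
Perfect groups of 2-rank one, from the Gorenstein–Walter theorem for perfect groups.
-/

set_option autoImplicit false

namespace Cfsg.Agent.GW.Cons

open Subgroup

universe u

/-- The conclusion for a core-free group. -/
theorem perfect_rank_one_corefree (hGW : PerfectGW.{u}) {Y : Type u} [Group Y] [Finite Y]
    (hP : Group.IsPerfect Y) (h1 : Cfsg.PRankLE 2 1 Y) (h2 : Even (Nat.card Y))
    (hO : Cfsg.oddCore Y = ⊥) :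
    (∃ (F : Type) (_ : Field F) (_ : Fintype F), Odd (Fintype.card F) ∧ 3 < Fintype.card F ∧
        Nonempty (Y ≃* Matrix.SpecialLinearGroup (Fin 2) F)) ∨
      Cfsg.IsNonsplitDoubleCover Y ↥(alternatingGroup (Fin 7)) := by
  have : Fact (Nat.Prime 2) := ⟨Nat.prime_two⟩
  obtain ⟨z, hz, hzc, huniq⟩ := exists_center_involution h1 h2 hO
  have hzle : zpowers z ≤ center Y := zpowers_le.2 hzc
  have : (zpowers z).Normal := ⟨fun c hc g => by
    rw [mem_center_iff.1 (hzle hc) g, mul_assoc, mul_inv_cancel, mul_one]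
    exact hc⟩
  obtain ⟨S⟩ := (inferInstance : Nonempty (Sylow 2 Y))
  obtain ⟨m, hm, ⟨e⟩⟩ := quaternion_of_perfect hP h1 h2 S
  obtain ⟨T, ⟨eT⟩⟩ := sylow_quotient_dihedral S hm e hz hzc huniq
  have : NeZero (2 ^ m) := ⟨by positivity⟩
  have hξ : IsDouble (QuotientGroup.mk' (zpowers z)) := by
    refine ⟨hP.commutator_eq_top, QuotientGroup.mk'_surjective _, ?_, ?_⟩
    · rw [QuotientGroup.ker_mk']; exact hzle
    · rw [QuotientGroup.ker_mk', Nat.card_zpowers, hz]
  have : Group.IsPerfect (Y ⧸ zpowers z) := ⟨by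
    rw [_root_.commutator_def, ← Subgroup.map_top_of_surjective _ (QuotientGroup.mk'_surjective (zpowers z)),
      ← Subgroup.map_commutator, ← _root_.commutator_def, hP.commutator_eq_top]⟩
  let eO : (Y ⧸ zpowers z) ⧸ Cfsg.oddCore (Y ⧸ zpowers z) ≃* Y ⧸ zpowers z :=
    (QuotientGroup.quotientMulEquivOfEq (oddCore_quotient_eq_bot hO hz hzc)).trans
      QuotientGroup.quotientBot
  rcases hGW T (2 ^ m) (Nat.le_self_pow (by omega) 2) ⟨eT⟩ with ⟨F, iF, iT, hodd, h3, ⟨f⟩⟩ | hf
  · left
    refine ⟨F, iF, iT, hodd, h3, ?_⟩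
    set ι := (eO.symm.trans f).symm with hι
    have hξ2 : IsDouble (ι.toMonoidHom.comp
        (QuotientGroup.mk' (center (Matrix.SpecialLinearGroup (Fin 2) F)))) := by
      have h := sl_double F hodd h3
      have hk : (ι.toMonoidHom.comp
          (QuotientGroup.mk' (center (Matrix.SpecialLinearGroup (Fin 2) F)))).ker = _ :=
        MonoidHom.ker_mulEquiv_comp (QuotientGroup.mk' (center (Matrix.SpecialLinearGroup (Fin 2) F))) ι
      exact ⟨h.perfect, ι.surjective.comp h.surj, hk.le.trans h.central, by rw [hk]; exact h.card⟩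
    exact double_unique hξ hξ2 T eT
  · right
    obtain ⟨f⟩ := hf
    set ι := eO.symm.trans f with hι
    have hA : center (alternatingGroup (Fin 7)) = ⊥ := alternatingGroup.center_eq_bot (by simp)
    have hcen : center Y = zpowers z := by
      refine le_antisymm (fun c hc => ?_) hzle
      rw [← QuotientGroup.eq_one_iff, ← MulEquiv.map_eq_one_iff ι, ← mem_bot, ← hA, mem_center_iff]
      intro w
      obtain ⟨w, rfl⟩ := ι.surjective w
      obtain ⟨w, rfl⟩ := QuotientGroup.mk_surjective w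
      rw [← map_mul, ← map_mul, ← QuotientGroup.mk_mul, ← QuotientGroup.mk_mul, mem_center_iff.1 hc w]
    have hc2 : Nat.card (center Y) = 2 := by rw [hcen, Nat.card_zpowers, hz]
    refine ⟨hc2, ⟨(QuotientGroup.quotientMulEquivOfEq hcen).trans ι⟩, fun L hL => ?_⟩
    have hmap : L.map (QuotientGroup.mk' (zpowers z)) = ⊤ := by
      refine Subgroup.comap_injective (QuotientGroup.mk'_surjective (zpowers z)) ?_
      rw [Subgroup.comap_map_eq, QuotientGroup.ker_mk', Subgroup.comap_top, ← hcen, sup_comm]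
      exact hL.sup_eq_top
    have hLtop := eq_top_of_cover _ hξ.perfect hξ.central hmap
    rw [hLtop, Subgroup.isComplement'_top_right] at hL
    rw [hL, Subgroup.card_bot] at hc2
    norm_num at hc2

/-- Perfect groups of 2-rank one modulo the core. -/
theorem perfect_rank_one (hGW : PerfectGW.{u}) {X : Type u} [Group X] [Finite X]
    (hP : Group.IsPerfect X) (h1 : Cfsg.PRankLE 2 1 X) (h2 : Even (Nat.card X)) :
    (∃ (F : Type) (_ : Field F) (_ : Fintype F), Odd (Fintype.card F) ∧ 3 < Fintype.card F ∧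
        Nonempty (X ⧸ Cfsg.oddCore X ≃* Matrix.SpecialLinearGroup (Fin 2) F)) ∨
      Cfsg.IsNonsplitDoubleCover (X ⧸ Cfsg.oddCore X) ↥(alternatingGroup (Fin 7)) := by
  have hPq : Group.IsPerfect (X ⧸ Cfsg.oddCore X) := ⟨by
    rw [_root_.commutator_def, ← Subgroup.map_top_of_surjective _ (QuotientGroup.mk'_surjective (Cfsg.oddCore X)),
      ← Subgroup.map_commutator, ← _root_.commutator_def, hP.commutator_eq_top]⟩
  refine perfect_rank_one_corefree hGW hPq (prankLE_odd_quotient _ Cores.oddCore_odd h1) ?_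
    (Cores.pPrimeCore_quotient_self 2)
  rw [Subgroup.card_eq_card_quotient_mul_card_subgroup (Cfsg.oddCore X), Nat.even_mul] at h2
  exact h2.resolve_right (Nat.not_even_iff_odd.2 Cores.oddCore_odd)

end Cfsg.Agent.GW.Cons
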