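import Mathlib

/-!
# The final congruences for groups with dihedral Sylow 2-subgroups

`N` is the index of the centralizer of an involution, `N * 2 = s ^ 2 * x * (x + d)` with
`s * (x - d) = 2 ^ n * (e * c * r)`, and `q = δ + 2 ^ n * c` is the cardinality of the field of a
component of the centralizer of an element of odd order.  Here `e` is `1`, or a prime divisor of `c`.
-/

set_option autoImplicit false

namespace Cfsg.Agent.GW.BenderArith

open Subgroup

universe w

section Sylow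

variable {G : Type w} [Group G] [Finite G] {p : ℕ} [Fact p.Prime]

/-- A Sylow subgroup of `H` with normalizer in `H` is a Sylow subgroup of `G`. -/
theorem index_modEq_one {H : Subgroup G} (P : Sylow p H)
    (hN : normalizer (((P : Subgroup H).map H.subtype : Subgroup G) : Set G) ≤ H) :
    H.index ≡ 1 [MOD p] := by
  obtain ⟨Q, hQ⟩ := P.exists_comap_subtype_eq
  set A : Subgroup G := (P : Subgroup H).map H.subtype with hA
  have hAQ : A = (Q : Subgroup G) ⊓ H := by
    rw [hA, ← hQ, Subgroup.map_comap_eq, Subgroup.range_subtype, inf_comm]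
  have hAQ' : A = Q := by
    by_contra hne
    have hle : A ≤ Q := hAQ ▸ inf_le_left
    haveI := Q.isPGroup'.isNilpotent
    have hlt : A.subgroupOf (Q : Subgroup G) < ⊤ := lt_top_iff_ne_top.2 fun h =>
      hne (le_antisymm hle (subgroupOf_eq_top.1 h))
    obtain ⟨y, hy, hyA⟩ :=
      SetLike.exists_of_lt (Group.normalizerCondition_of_isNilpotent _ hlt)
    refine hyA ?_
    rw [mem_subgroupOf, hAQ]
    refine ⟨y.2, hN ?_⟩
    have h1 := le_normalizer_comap (Q : Subgroup G).subtype (H := A)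
    rw [mem_normalizer_iff] at hy ⊢
    intro z
    by_cases hz : z ∈ (Q : Subgroup G)
    · simpa [mem_subgroupOf] using hy ⟨z, hz⟩
    · exact iff_of_false (fun h => hz (hle h)) fun h => hz (by
        simpa [mul_assoc] using mul_mem (mul_mem (inv_mem y.2) (hle h)) y.2)
  have h1 := card_sylow_modEq_one p G
  have h2 := card_sylow_modEq_one p H
  rw [Q.card_eq_index_normalizer] at h1
  rw [P.card_eq_index_normalizer] at h2
  have h3 : ((normalizer (Q : Set G)).subgroupOf H).index = (normalizer (P : Set H)).index := by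
    have e : A.subgroupOf H = (P : Subgroup H) :=
      comap_map_eq_self_of_injective H.subtype_injective _
    rw [← Sylow.coe_coe Q, ← hAQ', subgroupOf_normalizer_eq (map_subtype_le _), e, Sylow.coe_coe]
  have h4 := relIndex_mul_index (show normalizer (Q : Set G) ≤ H by
    rw [← Sylow.coe_coe Q, ← hAQ']; exact hN)
  rw [relIndex, h3] at h4
  rw [← h4] at h1
  calc H.index = 1 * H.index := (one_mul _).symm
    _ ≡ (normalizer (P : Set H)).index * H.index [MOD p] := (h2.symm.mul_right _)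
    _ ≡ 1 [MOD p] := h1

theorem not_dvd_index {H : Subgroup G} (P : Sylow p H)
    (hN : normalizer (((P : Subgroup H).map H.subtype : Subgroup G) : Set G) ≤ H) :
    ¬ p ∣ H.index := by
  intro hd
  have h := (Nat.modEq_zero_iff_dvd.2 hd).symm.trans (index_modEq_one P hN)
  exact (Fact.out : p.Prime).one_lt.ne' (Nat.eq_one_of_dvd_one ((Nat.modEq_zero_iff_dvd.1 h.symm)))

end Sylow

/-- An odd prime power dividing `a * b` with `a`, `b` coprime divides one of them. -/
theorem primePow_dvd_or {q a b : ℕ} (hq : IsPrimePow q) (hab : Nat.Coprime a b) (h : q ∣ a * b) :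
    q ∣ a ∨ q ∣ b :=
  hab.isPrimePow_dvd_mul hq |>.1 h

/-- A divisor of an odd number that is congruent to `±1` modulo a large prime is `1`. -/
theorem eq_one_of_sq_modEq {p s : ℕ} (hp : p.Prime) (hs : Odd s) (hlt : s + 1 < 2 * p)
    (h : (p : ℤ) ∣ (s : ℤ) ^ 2 - 1) : s = 1 := by
  have hpz : Prime (p : ℤ) := Nat.prime_iff_prime_int.1 hp
  rw [show (s : ℤ) ^ 2 - 1 = ((s : ℤ) - 1) * ((s : ℤ) + 1) by ring] at h
  obtain ⟨j, rfl⟩ := hs
  have hp2 := hp.two_le
  rcases hpz.dvd_or_dvd h with ⟨k, hk⟩ | ⟨k, hk⟩ <;> push_cast at hk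
  · rcases lt_trichotomy k 0 with hk0 | hk0 | hk0
    · nlinarith
    · subst hk0; omega
    · have : k = 1 := by nlinarith
      subst this
      rcases hp.eq_two_or_odd with h2 | h2 <;> omega
  · have : k = 1 := by nlinarith
    subst this
    rcases hp.eq_two_or_odd with h2 | h2 <;> omega

variable {n c r e s N p : ℕ} {x d : ℤ}

/-- The auxiliary multiplier `s` is `1`, and the index is coprime to `c` and `r`. -/
theorem eq_one_and_coprime (hd : d = 1 ∨ d = -1) (hr : Odd r) (hs : Odd s)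
    (he : ∀ l : ℕ, l.Prime → l ∣ e → l ∣ c) (hN : (N : ℤ) * 2 = (s : ℤ) ^ 2 * x * (x + d))
    (hx : (s : ℤ) * (x - d) = 2 ^ n * ((e : ℤ) * c * r))
    (hS : ∀ l : ℕ, l.Prime → l ∣ c → N ≡ 1 [MOD l])
    (hp : p.Prime) (hpo : Odd p) (hpc : p ∣ c) (hrp : r + 1 < 2 * p) :
    s = 1 ∧ x - d = 2 ^ n * ((e : ℤ) * c * r) ∧ Nat.Coprime N r ∧ Nat.Coprime N c := by
  have hNc : Nat.Coprime N c := Nat.coprime_of_dvd fun l hl h1 h2 => by
    have := Nat.modEq_zero_iff_dvd.1 (((Nat.modEq_zero_iff_dvd.2 h1).symm.trans (hS l hl h2)).symm)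
    exact hl.one_lt.ne' (Nat.eq_one_of_dvd_one this)
  have hdiv : ∀ l : ℕ, l.Prime → l ∣ s → l ∣ N := fun l hl hls => by
    have h2 : (l : ℤ) ∣ (N : ℤ) * 2 := hN ▸
      ((dvd_pow (Int.natCast_dvd_natCast.2 hls) two_ne_zero).mul_right x).mul_right (x + d)
    have h3 : l ∣ N * 2 := by exact_mod_cast h2
    refine ((Nat.Coprime.dvd_of_dvd_mul_right ?_ h3))
    exact Nat.coprime_two_right.2 (hs.of_dvd_nat hls)
  have hsc : Nat.Coprime s c := Nat.coprime_of_dvd fun l hl h1 h2 =>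
    hl.one_lt.ne' (Nat.eq_one_of_dvd_one (hNc ▸ Nat.dvd_gcd (hdiv l hl h1) h2))
  have hse : Nat.Coprime s e := Nat.coprime_of_dvd fun l hl h1 h2 =>
    hl.one_lt.ne' (Nat.eq_one_of_dvd_one (hsc ▸ Nat.dvd_gcd h1 (he l hl h2)))
  have hsr : s ∣ r := by
    have h1 : (s : ℤ) ∣ ((2 ^ n * (e * c) * r : ℕ) : ℤ) := ⟨x - d, by rw [hx]; push_cast; ring⟩
    refine Nat.Coprime.dvd_of_dvd_mul_left ?_ (Int.natCast_dvd_natCast.1 h1)
    exact ((Nat.coprime_two_right.2 hs).pow_right n).mul_right (hse.mul_right hsc)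
  have hs1 : s = 1 := by
    refine eq_one_of_sq_modEq hp hs ?_ ?_
    · have := Nat.le_of_dvd (by rcases hr with ⟨j, rfl⟩; omega) hsr
      omega
    · have hps : ¬ p ∣ s := fun h =>
        hp.one_lt.ne' (Nat.eq_one_of_dvd_one (hsc ▸ Nat.dvd_gcd h hpc))
      have hxd : (p : ℤ) ∣ x - d := by
        refine ((Nat.prime_iff_prime_int.1 hp).dvd_or_dvd ?_).resolve_left
          (fun h => hps (Int.natCast_dvd_natCast.1 h))
        rw [hx]
        exact ((Int.natCast_dvd_natCast.2 hpc).mul_left _).mul_right _ |>.mul_left _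
      have hN1 : (p : ℤ) ∣ (N : ℤ) - 1 := Int.modEq_iff_dvd.1
        (Int.natCast_modEq_iff.2 (hS p hp hpc).symm)
      obtain ⟨a, ha⟩ := hxd
      obtain ⟨b, hb⟩ := hN1
      have h2 : (p : ℤ) ∣ 2 * ((s : ℤ) ^ 2 - 1) := by
        refine ⟨2 * b - (s : ℤ) ^ 2 * a * (x + 2 * d), ?_⟩
        have hd2 : d * d = 1 := by rcases hd with rfl | rfl <;> rfl
        linear_combination (2 : ℤ) * hb - hN - (s : ℤ) ^ 2 * (x + 2 * d) * ha - 2 * (s : ℤ) ^ 2 * hd2
      refine ((Nat.prime_iff_prime_int.1 hp).dvd_or_dvd h2).resolve_left fun h => ?_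
      have : p ∣ 2 := by exact_mod_cast h
      rcases hpo with ⟨j, rfl⟩
      have := Nat.le_of_dvd (by norm_num) this
      have := hp.two_le
      omega
  subst hs1
  have hx' : x - d = 2 ^ n * ((e : ℤ) * c * r) := by simpa using hx
  refine ⟨rfl, hx', ?_, hNc⟩
  refine Nat.coprime_of_dvd fun l hl h1 h2 => ?_
  obtain ⟨a, ha⟩ : (l : ℤ) ∣ x - d := hx' ▸ ((Int.natCast_dvd_natCast.2 h2).mul_left _).mul_left _
  obtain ⟨b, hb⟩ := Int.natCast_dvd_natCast.2 h1
  have h2' : (l : ℤ) ∣ 2 := by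
    have hd2 : d * d = 1 := by rcases hd with rfl | rfl <;> rfl
    refine ⟨2 * b - a * (x + 2 * d), ?_⟩
    simp only [Nat.cast_one, one_pow, one_mul] at hN
    linear_combination (-1 : ℤ) * hN + 2 * hb - (x + 2 * d) * ha - 2 * hd2
  have h3 : l ∣ 2 := by exact_mod_cast h2'
  obtain ⟨j, hj⟩ := hr.of_dvd_nat h2
  have := Nat.le_of_dvd (by norm_num) h3
  have := hl.two_le
  omega

variable {q m : ℕ} {δ : ℤ}

/-- The field order divides the index. -/
theorem dvd_index (hn : 1 ≤ n) (hδ : δ = 1 ∨ δ = -1) (hq : IsPrimePow q)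
    (hqc : (q : ℤ) = δ + 2 ^ n * c) (he : ∀ l : ℕ, l.Prime → l ∣ e → l ∣ c)
    (hNc : Nat.Coprime N c) (hNr : Nat.Coprime N r) (hm : ∀ l : ℕ, l.Prime → l ∣ m → l ∣ r)
    (hmq : m < q) (hm0 : 0 < m) (h : q ∣ N * (e * m)) : q ∣ N ∧ Nat.Coprime q c ∧ Odd q := by
  have hqc' : Nat.Coprime q c := Nat.coprime_of_dvd fun l hl h1 h2 => by
    have h3 : (l : ℤ) ∣ δ := by
      rw [show δ = (q : ℤ) - 2 ^ n * c by rw [hqc]; ring]
      exact dvd_sub (Int.natCast_dvd_natCast.2 h1) ((Int.natCast_dvd_natCast.2 h2).mul_left _)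
    have h4 : l ∣ 1 := by rcases hδ with rfl | rfl <;> simpa [← Int.natCast_dvd_natCast] using h3
    exact hl.one_lt.ne' (Nat.eq_one_of_dvd_one h4)
  have hqo : Odd q := by
    rw [← Int.odd_coe_nat, hqc]
    obtain ⟨k, rfl⟩ := Nat.exists_eq_add_of_le hn
    rcases hδ with rfl | rfl <;> simp [Int.odd_add, pow_add, Int.even_mul] 
  refine ⟨((primePow_dvd_or hq ?_ h).resolve_right fun h' => ?_), hqc', hqo⟩
  · refine Nat.Coprime.mul_right ?_ ?_
    · exact Nat.coprime_of_dvd fun l hl h1 h2 =>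
        hl.one_lt.ne' (Nat.eq_one_of_dvd_one (hNc ▸ Nat.dvd_gcd h1 (he l hl h2)))
    · exact Nat.coprime_of_dvd fun l hl h1 h2 =>
        hl.one_lt.ne' (Nat.eq_one_of_dvd_one (hNr ▸ Nat.dvd_gcd h1 (hm l hl h2)))
  · have : Nat.Coprime q e := Nat.coprime_of_dvd fun l hl h1 h2 =>
      hl.one_lt.ne' (Nat.eq_one_of_dvd_one (hqc' ▸ Nat.dvd_gcd h1 (he l hl h2)))
    exact absurd (Nat.le_of_dvd hm0 (this.dvd_of_dvd_mul_left h')) (by omega)

/-- No small nonzero residue is divisible by the field order. -/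
theorem not_dvd_of_lt {a : ℤ} (h0 : a ≠ 0) (h1 : a < q) (h2 : -(q : ℤ) < a) : ¬ (q : ℤ) ∣ a := by
  intro h
  exact h0 (Int.eq_zero_of_abs_lt_dvd h (abs_lt.2 ⟨h2, h1⟩))

/-- The field order divides one of the two degrees. -/
theorem dvd_degree (hd : d = 1 ∨ d = -1) (hq : IsPrimePow q)
    (hN : (N : ℤ) * 2 = x * (x + d)) (h : q ∣ N) : (q : ℤ) ∣ x ∨ (q : ℤ) ∣ x + d := by
  have h1 : q ∣ x.natAbs * (x + d).natAbs := by
    rw [← Int.natAbs_mul, ← hN, Int.natAbs_mul]
    simpa using h.mul_right 2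
  have h2 : Nat.Coprime x.natAbs (x + d).natAbs := by
    rw [← Int.isCoprime_iff_nat_coprime]
    rcases hd with rfl | rfl
    · exact ⟨-1, 1, by ring⟩
    · exact ⟨1, -1, by ring⟩
  exact (primePow_dvd_or hq h2 h1).imp Int.natCast_dvd.2 Int.natCast_dvd.2

variable (hn : 3 ≤ n) (hd : d = 1 ∨ d = -1) (hδ : δ = 1 ∨ δ = -1) (hc : Odd c) (hr : Odd r)
  (hs : Odd s) (hS : ∀ l : ℕ, l.Prime → l ∣ c → N ≡ 1 [MOD l])
  (hN : (N : ℤ) * 2 = (s : ℤ) ^ 2 * x * (x + d)) (hp : p.Prime) (hpo : Odd p) (hpc : p ∣ c)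
  (hrp : r + 1 < 2 * p) (hq : IsPrimePow q) (hqc : (q : ℤ) = δ + 2 ^ n * c)
  (hm : ∀ l : ℕ, l.Prime → l ∣ m → l ∣ r) (hm0 : 0 < m) (hmq : m < q)

include hn hd hδ hc hr hs hS hN hp hpo hpc hrp hq hqc hm hm0 hmq in
/-- The case of a central element of the Fitting subgroup in the component's centralizer. -/
theorem false_of_central (hr1 : r ≠ 1) (hx : (s : ℤ) * (x - d) = 2 ^ n * ((c : ℤ) * r))
    (hdvd : q ∣ N * m) : False := by
  obtain ⟨rfl, hx', hNr, hNc⟩ := eq_one_and_coprime (e := 1) (n := n) hd hr hs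
    (fun l _ h => h.trans (one_dvd c)) hN (by simpa using hx) hS hp hpo hpc hrp
  obtain ⟨hqN, -, -⟩ := dvd_index (e := 1) (by omega) hδ hq hqc
    (fun l _ h => h.trans (one_dvd c)) hNc hNr hm hmq hm0 (by simpa using hdvd)
  simp only [Nat.cast_one, one_pow, one_mul] at hN hx'
  have hqp : 8 * (p : ℤ) - 1 ≤ q := by
    have h8 : (8 : ℤ) ≤ 2 ^ n := by exact_mod_cast Nat.pow_le_pow_right two_pos hn
    have hcp : (p : ℤ) ≤ c := by exact_mod_cast Nat.le_of_dvd hc.pos hpc
    rcases hδ with rfl | rfl <;> nlinarith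
  have hr2 : 3 ≤ (r : ℤ) := by rcases hr with ⟨j, rfl⟩; omega
  have hrp' : (r : ℤ) + 1 < 2 * p := by exact_mod_cast hrp
  have key : ∀ k : ℤ, k = 1 ∨ k = 2 → ¬ (q : ℤ) ∣ x + (k - 1) * d := by
    intro k hk h
    have h' : (q : ℤ) ∣ k * d - δ * r := by
      have e : k * d - δ * r = (x + (k - 1) * d) - q * r := by
        linear_combination -hx' + (r : ℤ) * hqc
      exact e ▸ dvd_sub h (dvd_mul_right _ _)
    refine not_dvd_of_lt ?_ ?_ ?_ h' <;>
      rcases hd with rfl | rfl <;> rcases hδ with rfl | rfl <;> rcases hk with rfl | rfl <;> omega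
  rcases dvd_degree hd hq hN hqN with h | h
  · exact key 1 (Or.inl rfl) (by simpa using h)
  · exact key 2 (Or.inr rfl) (by simpa using h)

include hn hd hδ hc hr hs hS hN hp hpo hpc hrp hq hqc hm hm0 hmq in
/-- The case of a nonabelian Sylow subgroup of the Fitting subgroup: `o / a = e * c * r`. -/
theorem false_of_noncentral (he : e.Prime) (hec : e ∣ c)
    (hx : (s : ℤ) * (x - d) = 2 ^ n * ((e : ℤ) * c * r)) (hdvd : q ∣ N * (e * m)) : False := by
  have he' : ∀ l : ℕ, l.Prime → l ∣ e → l ∣ c := fun l hl h =>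
    ((Nat.prime_dvd_prime_iff_eq hl he).1 h) ▸ hec
  obtain ⟨rfl, hx', hNr, hNc⟩ := eq_one_and_coprime hd hr hs he' hN hx hS hp hpo hpc hrp
  obtain ⟨hqN, -, -⟩ := dvd_index (by omega) hδ hq hqc he' hNc hNr hm hmq hm0 hdvd
  simp only [Nat.cast_one, one_pow, one_mul] at hN
  obtain ⟨c', hc'⟩ := hec
  obtain ⟨k, rfl⟩ := Nat.exists_eq_add_of_le hn
  set M : ℤ := 2 ^ (3 + k) * c' with hM
  have hMe : M * e = 2 ^ (3 + k) * (c : ℤ) := by rw [hM, hc']; push_cast; ring
  have hMev : Even M := by rw [hM, pow_add]; simp [show Even (8 : ℤ) from ⟨4, rfl⟩]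
  have hqM : (q : ℤ) = δ + M * e := by rw [hMe, hqc]
  have hc'pos : 0 < c' := by
    rcases Nat.eq_zero_or_pos c' with h | h
    · rw [h, mul_zero] at hc'; exact absurd hc.pos (by omega)
    · exact h
  have hM8 : 8 ≤ M := by
    have : (8 : ℤ) ≤ 2 ^ (3 + k) := by exact_mod_cast Nat.pow_le_pow_right two_pos (show 3 ≤ 3 + k by omega)
    have : (1 : ℤ) ≤ c' := by exact_mod_cast hc'pos
    nlinarith
  have he3 : 3 ≤ (e : ℤ) := by
    obtain ⟨j, hj⟩ : Odd e := hc.of_dvd_nat ⟨c', hc'⟩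
    have := he.two_le
    omega
  have hrp' : (r : ℤ) + 1 < 2 * p := by exact_mod_cast hrp
  -- the bound
  have hb : 2 * M + r + 1 < M * e := by
    rcases (hp.dvd_mul).1 (hc' ▸ hpc) with h | h
    · have : (p : ℤ) = e := by exact_mod_cast (Nat.prime_dvd_prime_iff_eq hp he).1 h
      nlinarith
    · have : (p : ℤ) ≤ c' := by exact_mod_cast Nat.le_of_dvd hc'pos h
      have : 8 * (p : ℤ) ≤ M := by
        have h8 : (8 : ℤ) ≤ 2 ^ (3 + k) := by
          exact_mod_cast Nat.pow_le_pow_right two_pos (show 3 ≤ 3 + k by omega)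
        nlinarith
      nlinarith
  have key : ∀ j : ℤ, j = 1 ∨ j = 2 → ¬ (q : ℤ) ∣ x + (j - 1) * d := by
    intro j hj h
    have h' : (q : ℤ) ∣ j * M * d + r := by
      have hδ2 : δ * δ = 1 := by rcases hδ with rfl | rfl <;> rfl
      have e' : j * M * d + r = M * (x + (j - 1) * d) - q * ((r : ℤ) * (M * e - δ)) := by
        rw [hqM]
        linear_combination -M * hx' + M * e * r * hMe - (r : ℤ) * hδ2
      exact e' ▸ dvd_sub (h.mul_left _) (dvd_mul_right _ _)
    have hodd : Odd (j * M * d + r) := by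
      rw [Int.odd_add]
      exact iff_of_false (by simp [Int.not_odd_iff_even, Int.even_mul, hMev])
        (by simpa [Int.not_even_iff_odd] using hr)
    refine not_dvd_of_lt (fun h0 => by rw [h0] at hodd; simp at hodd) ?_ ?_ h' <;>
      rcases hd with rfl | rfl <;> rcases hδ with rfl | rfl <;> rcases hj with rfl | rfl <;>
      linarith
  rcases dvd_degree hd hq hN hqN with h | h
  · exact key 1 (Or.inl rfl) (by simpa using h)
  · exact key 2 (Or.inr rfl) (by simpa using h)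

end Cfsg.Agent.GW.BenderArith
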