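import Cfsg.Agent.Lib.GW.BenderSetting
import Cfsg.Agent.Lib.Coprime.PGroup
import Cfsg.Agent.OddLocal.Uniqueness
import Cfsg.Agent.S1247

/-!
# The key lemma: a reflection is scalar on each core, or a component appears

With the centralizer of the central involution maximal, if a reflection `u` centralizes a
nontrivial part `Φ` of `O_p(H)` and the normalizer of `Φ` has no component, then `u` centralizes
all of `O_p(H)`.
-/

set_option autoImplicit false
set_option linter.style.haveILetI false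

namespace Cfsg.Agent.GW.Bender

open Subgroup Cfsg.Agent.Involutions Cfsg.Agent.Components.MaximalPair

universe u

variable {G : Type u} [Group G] [Finite G]

/-- An involution without fixed points on a subgroup inverts it. -/
theorem inverts_of_inf_eq_bot {t : G} (ht : t * t = 1) {K : Subgroup G}
    (hn : t ∈ normalizer (K : Set G)) (hf : K ⊓ centralizer ({t} : Set G) = ⊥) :
    ∀ x ∈ K, t * x * t⁻¹ = x⁻¹ := by
  have hti : t⁻¹ = t := inv_eq_of_mul_eq_one_right ht
  have hm : ∀ y : K, (y : G)⁻¹ * (t * y * t⁻¹) ∈ K := fun y =>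
    mul_mem (inv_mem y.2) ((mem_normalizer_iff.1 hn y).1 y.2)
  have hinj : Function.Injective (fun y : K => (⟨_, hm y⟩ : K)) := by
    intro a b hab
    have h1 : (a : G)⁻¹ * (t * a * t⁻¹) = (b : G)⁻¹ * (t * b * t⁻¹) := congrArg Subtype.val hab
    have h2 : (b : G) * (a : G)⁻¹ ∈ centralizer ({t} : Set G) := by
      refine mem_centralizer_singleton_iff.2 (mul_inv_eq_iff_eq_mul.1 ?_).symm
      calc t * ((b : G) * (a : G)⁻¹) * t⁻¹
          = (t * b * t⁻¹) * (t * a * t⁻¹)⁻¹ := by group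
        _ = (b : G) * ((b : G)⁻¹ * (t * b * t⁻¹)) * (t * a * t⁻¹)⁻¹ := by group
        _ = (b : G) * ((a : G)⁻¹ * (t * a * t⁻¹)) * (t * a * t⁻¹)⁻¹ := by rw [h1]
        _ = (b : G) * (a : G)⁻¹ := by group
    have h4 : (b : G) * (a : G)⁻¹ ∈ K ⊓ centralizer ({t} : Set G) :=
      mem_inf.2 ⟨mul_mem b.2 (inv_mem a.2), h2⟩
    rw [hf] at h4
    exact Subtype.ext (mul_inv_eq_one.1 (mem_bot.1 h4)).symm
  intro x hx
  obtain ⟨y, hy⟩ := (Finite.injective_iff_surjective.1 hinj) ⟨x, hx⟩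
  obtain rfl : (y : G)⁻¹ * (t * y * t⁻¹) = x := congrArg Subtype.val hy
  simp only [mul_inv_rev, inv_inv, hti, mul_assoc]
  rw [ht, mul_one]

/-- If `t` is the only involution of a 2-group fixed by `t`, it is central in that group. -/
theorem mem_core_of_only {t : G} {K : Subgroup G} (hK : IsPGroup 2 K) (hK1 : K ≠ ⊥)
    (ht2 : orderOf t = 2) (hn : t ∈ normalizer (K : Set G))
    (honly : ∀ z ∈ K, orderOf z = 2 → z * t = t * z → z = t) :
    t ∈ K ∧ ∀ x ∈ K, t * x = x * t := by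
  haveI : Fact (Nat.Prime 2) := ⟨Nat.prime_two⟩
  have hZ : IsPGroup 2 (zpowers t) :=
    IsPGroup.of_card (n := 1) (by rw [Nat.card_zpowers, ht2, pow_one])
  have hT : IsPGroup 2 ↥(K ⊔ zpowers t) := hK.to_sup_of_normal_left' hZ (zpowers_le.2 hn)
  haveI := hT.isNilpotent
  haveI : (K.subgroupOf (K ⊔ zpowers t)).Normal :=
    normal_subgroupOf_of_le_normalizer (sup_le le_normalizer (zpowers_le.2 hn))
  have hne : K.subgroupOf (K ⊔ zpowers t) ≠ ⊥ := fun h => hK1 (by
    rw [eq_bot_iff]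
    intro x hx
    have := h ▸ (mem_subgroupOf (h := ⟨x, mem_sup_left hx⟩)).2 hx
    simpa using this)
  obtain ⟨⟨x, hx, hxc⟩, hx1⟩ := Subgroup.ne_bot_iff_exists_ne_one.1 (Cores.inf_center_ne_bot hne)
  have hx1' : (x : G) ≠ 1 := fun h => hx1 (Subtype.ext (Subtype.ext h))
  obtain ⟨k, hk⟩ := IsPGroup.iff_orderOf.1 hK ⟨(x : G), hx⟩
  replace hk : orderOf (x : G) = 2 ^ k := (Subgroup.orderOf_mk (x : G) hx).symm.trans hk
  rcases k with _ | k
  · exact absurd (orderOf_eq_one_iff.1 hk) hx1'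
  set z := (x : G) ^ 2 ^ k with hzdef
  have hz2 : orderOf z = 2 := by
    rw [hzdef, orderOf_pow' _ (by positivity), hk,
      Nat.gcd_eq_right (pow_dvd_pow 2 (Nat.le_succ k)), pow_succ,
      Nat.mul_div_cancel_left _ (by positivity)]
  have hzc : ∀ y ∈ K ⊔ zpowers t, y * z = z * y := fun y hy => by
    have e : Commute y (x : G) := congrArg Subtype.val (mem_center_iff.1 hxc ⟨y, hy⟩)
    exact (e.pow_right (2 ^ k)).eq
  have hzt := honly z (pow_mem hx _) hz2 (hzc t (mem_sup_right (mem_zpowers t))).symm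
  exact ⟨hzt ▸ pow_mem hx _, fun y hy => by
    have := hzc y (mem_sup_left hy); rw [hzt] at this; exact this.symm⟩

namespace Data

variable (d : Data G)

/-- The core commutes with the 2-core. -/
theorem commute_P_two {x f : G} (hx : x ∈ d.O) (hf : f ∈ d.P 2) : f * x = x * f := by
  haveI : Fact (Nat.Prime 2) := ⟨Nat.prime_two⟩
  have h1 : f * x * f⁻¹ * x⁻¹ ∈ d.P 2 := by
    rw [mul_assoc, mul_assoc, ← mul_assoc x]
    exact mul_mem hf (d.conj_mem_P (d.O_le hx) (inv_mem hf))
  have h2 : f * x * f⁻¹ * x⁻¹ ∈ d.O :=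
    mul_mem ((mem_normalizer_iff.1 (d.H_le_normalizer_O (d.P_le 2 hf)) x).1 hx) (inv_mem hx)
  obtain ⟨k, hk⟩ := IsPGroup.iff_orderOf.1 (d.P_isPGroup 2) ⟨_, h1⟩
  rw [orderOf_mk] at hk
  have h3 := Nat.eq_one_of_dvd_coprimes
    ((Nat.coprime_two_right.2 (d.orderOf_odd h2)).pow_right k) dvd_rfl hk.dvd
  rwa [orderOf_eq_one_iff, mul_inv_eq_one, mul_inv_eq_iff_eq_mul] at h3

/-- An element commuting with the odd parts of the Fitting subgroup lies in it. -/
theorem mem_fitting {x : G} (hx : x ∈ d.O)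
    (hc : ∀ p : ℕ, p.Prime → p ≠ 2 → ∀ f ∈ d.P p, x * f = f * x) :
    (⟨x, d.O_le hx⟩ : d.H) ∈ Cfsg.fittingSubgroup d.H := by
  haveI := d.solvable_H
  refine Cores.centralizer_fittingSubgroup_le ?_
  have key : Cfsg.fittingSubgroup d.H ≤ centralizer ({⟨x, d.O_le hx⟩} : Set d.H) := by
    rw [Components.Fitting.fitting_eq_coreJoin]
    refine iSup_le fun p => ?_
    intro f hf
    rw [mem_centralizer_singleton_iff]
    refine Subtype.ext (show (f : G) * x = x * f from ?_)
    by_cases hp2 : (p : ℕ) = 2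
    · exact d.commute_P_two hx ⟨f, hp2 ▸ hf, rfl⟩
    · exact (hc p p.2 hp2 f ⟨f, hf, rfl⟩).symm
  exact mem_centralizer_iff.2 fun f hf => mem_centralizer_singleton_iff.1 (key hf)

/-- An involution of `H` centralizing the odd Fitting subgroup centralizes the core. -/
theorem centralizes_O {v : G} (hv : v ∈ d.H) (hv2 : v * v = 1)
    (hc : ∀ p : ℕ, p.Prime → p ≠ 2 → ∀ f ∈ d.P p, v * f = f * v) :
    ∀ x ∈ d.O, v * x = x * v := by
  intro x hx
  have hvi : v⁻¹ = v := inv_eq_of_mul_eq_one_right hv2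
  set c := x * v * x⁻¹ * v with hcdef
  have hcO : c ∈ d.O := by
    have := mul_mem hx ((mem_normalizer_iff.1 (d.H_le_normalizer_O hv) x⁻¹).1 (inv_mem hx))
    rwa [hvi, show x * (v * x⁻¹ * v) = c by rw [hcdef]; group] at this
  have hcc : ∀ p : ℕ, p.Prime → p ≠ 2 → ∀ f ∈ d.P p, c * f = f * c := by
    intro p hp hp2 f hf
    have h1 : Commute v f := hc p hp hp2 f hf
    have h2 : Commute (x * v * x⁻¹) f := by
      have h3 : Commute v (x⁻¹ * f * x) := by
        have := hc p hp hp2 _ (d.conj_mem_P (inv_mem (d.O_le hx)) hf)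
        rwa [inv_inv] at this
      have := (Commute.conj_iff x).2 h3
      rwa [show x * (x⁻¹ * f * x) * x⁻¹ = f by group] at this
    exact (h2.mul_left h1).eq
  -- so `c` lies in the odd Fitting subgroup, which `v` centralizes
  have hcF := d.mem_fitting hcO hcc
  have hvc : v * c = c * v := by
    have key : Cfsg.fittingSubgroup d.H ≤
        (centralizer ({v} : Set G)).comap d.H.subtype ⊔ Cfsg.pCore 2 d.H := by
      rw [Components.Fitting.fitting_eq_coreJoin]
      refine iSup_le fun p => ?_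
      by_cases hp2 : (p : ℕ) = 2
      · rw [hp2]; exact le_sup_right
      · exact fun f hf => mem_sup_left (mem_comap.2
          (mem_centralizer_singleton_iff.2 (hc p p.2 hp2 f ⟨f, hf, rfl⟩).symm))
    haveI : Fact (Nat.Prime 2) := ⟨Nat.prime_two⟩
    obtain ⟨a, ha, b, hb, hab⟩ := mem_sup_of_normal_right.1 (key hcF)
    obtain ⟨k, hk⟩ := IsPGroup.iff_orderOf.1 (Cores.pCore_isPGroup (G := d.H) 2) ⟨b, hb⟩
    rw [orderOf_mk] at hk
    have hcomm : Commute (⟨c, d.O_le hcO⟩ : d.H) b⁻¹ :=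
      Commute.inv_right (Subtype.ext (d.commute_P_two hcO ⟨b, hb, rfl⟩).symm)
    have h1 : (⟨c, d.O_le hcO⟩ : d.H) ^ 2 ^ k = a ^ 2 ^ k := by
      rw [show a = (⟨c, d.O_le hcO⟩ : d.H) * b⁻¹ from eq_mul_inv_of_mul_eq hab, hcomm.mul_pow,
        inv_pow, ← hk, pow_orderOf_eq_one, inv_one, mul_one]
    have hcop : Nat.Coprime (2 ^ k) (orderOf (⟨c, d.O_le hcO⟩ : d.H)) := by
      rw [orderOf_mk]
      exact ((Nat.coprime_two_right.2 (d.orderOf_odd hcO)).pow_right k).symm
    obtain ⟨j, hj⟩ := exists_pow_eq_self_of_coprime hcop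
    have h2 : (⟨c, d.O_le hcO⟩ : d.H) ∈ (centralizer ({v} : Set G)).comap d.H.subtype := by
      rw [← hj, h1]; exact pow_mem (pow_mem ha _) _
    exact (mem_centralizer_singleton_iff.1 (mem_comap.1 h2)).symm
  have hrev : v * c * v⁻¹ = c⁻¹ := by
    rw [hcdef, mul_inv_rev, mul_inv_rev, mul_inv_rev, inv_inv, hvi]
    simp only [mul_assoc, hv2, mul_one]
  rw [hvc, mul_inv_cancel_right] at hrev
  have h1 := eq_one_of_odd (d.orderOf_odd hcO) hrev
  rw [hcdef, mul_eq_one_iff_eq_inv, hvi, mul_inv_eq_iff_eq_mul] at h1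
  exact h1.symm

/-- The reflections generate the Sylow 2-subgroup in two steps. -/
theorem exists_refl {s : G} (hs : s ∈ (d.S : Subgroup G)) :
    (∃ i, s = d.u i) ∨ ∃ i j, s = d.u i * d.u j := by
  rcases h : d.e ⟨s, hs⟩ with j | j
  · exact Or.inr ⟨0, j, by rw [u, u, DihedralSylow.refl, DihedralSylow.refl, ← Subgroup.coe_mul,
      ← map_mul, DihedralGroup.sr_mul_sr, sub_zero, ← h, MulEquiv.symm_apply_apply]⟩
  · exact Or.inl ⟨j, by rw [u, DihedralSylow.refl, ← h, MulEquiv.symm_apply_apply]⟩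

/-- An involution of the Sylow 2-subgroup is central or a reflection. -/
theorem involution_cases {s : G} (hs : s ∈ (d.S : Subgroup G)) (h2 : orderOf s = 2) :
    s = d.t ∨ ∃ i, s = d.u i := by
  have hne := Involutions.Basic.ne_one h2
  rcases DihedralSylow.exists_mem_four d.S d.e d.dvd d.ne_zero hs (Involutions.Basic.inv_sq_one h2)
    with h | h | ⟨i, h⟩
  · exact absurd h hne
  · exact Or.inl h
  · exact Or.inr ⟨i, h⟩

theorem comm_P {p q : ℕ} [Fact p.Prime] [Fact q.Prime] (hpq : p ≠ q) {x y : G} (hx : x ∈ d.P p)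
    (hy : y ∈ d.P q) : x * y = y * x := by
  obtain ⟨a, ha, rfl⟩ := hx
  obtain ⟨b, hb, rfl⟩ := hy
  exact congrArg Subtype.val (Cores.pCore_commute hpq ha hb).eq

end Data

namespace Setting

variable (d : Setting G) [IsSimpleGroup G]

/-- The central involution is the only involution of `H` centralizing a nontrivial core. -/
theorem eq_t (hO : d.O ≠ ⊥) {v : G} (hv : v ∈ d.H) (hv2 : orderOf v = 2)
    (hc : ∀ x ∈ d.O, v * x = x * v) : v = d.t := by
  haveI : Fact (Nat.Prime 2) := ⟨Nat.prime_two⟩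
  -- move into the Sylow 2-subgroup
  have hvH : IsPGroup 2 (zpowers (⟨v, hv⟩ : d.H)) := IsPGroup.of_card (n := 1) (by
    rw [Nat.card_zpowers, Subgroup.orderOf_mk, hv2, pow_one])
  obtain ⟨Q, hQ⟩ := hvH.exists_le_sylow
  obtain ⟨h, hh⟩ := MulAction.exists_smul_eq d.H Q (d.S.subtype d.S_le)
  have hmem : (h : G) * v * (h : G)⁻¹ ∈ (d.S : Subgroup G) := by
    have h1 : MulAut.conj h (⟨v, hv⟩ : d.H) ∈ ((h • Q : Sylow 2 d.H) : Subgroup d.H) :=
      Subgroup.smul_mem_pointwise_smul _ (MulAut.conj h) _ (hQ (mem_zpowers _))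
    rw [hh] at h1
    exact h1
  rcases d.involution_cases hmem (by rw [Involutions.Basic.orderOf_conj, hv2]) with h1 | ⟨i, h1⟩
  · have h2 : v = (h : G)⁻¹ * d.t * (h : G) := by rw [← h1]; group
    have h3 := d.conj_t (inv_mem h.2)
    rw [inv_inv] at h3
    rw [h2, h3]
  · exfalso
    obtain ⟨g, hg1, hg2⟩ := d.rho i
    have hA : d.O ≤ d.A i := fun x hx => ⟨hx, mem_centralizer_singleton_iff.2 (by
      have hx' := (mem_normalizer_iff.1 (d.H_le_normalizer_O (inv_mem h.2)) x).1 hx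
      rw [inv_inv] at hx'
      have hh' : Commute v ((h : G)⁻¹ * x * (h : G)) := hc _ hx'
      have hk := (Commute.conj_iff (h : G)).2 hh'
      rw [show (h : G) * ((h : G)⁻¹ * x * (h : G)) * (h : G)⁻¹ = x by group, h1] at hk
      exact hk.eq.symm)⟩
    refine hO (d.eq_bot_of_moved d.O_le d.H_le_normalizer_O (g := g) ?_ ?_)
    · exact mem_normalizer_fintype fun x hx => (d.rho_mem_A hg1 hg2 (hA hx)).1
    · rw [hg1]; exact d.u_ne_t i

/-- The two consequences of maximality for the cores of `N(Φ)`. -/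
theorem cores (Φ : Subgroup G) (hΦF : Φ ≤ (Cfsg.fittingSubgroup d.H).map d.H.subtype) :
    let B := normalizer (Φ : Set G)
    (∀ q : ℕ, q.Prime → ¬ q ∣ Nat.card (Cfsg.fittingSubgroup d.H) →
        core q B ⊓ d.H = ⊥) ∧
      ∀ p : ℕ, p.Prime → p ∣ Nat.card (Cfsg.fittingSubgroup d.H) → ∀ x ∈ core p B,
        ∀ y : d.H, y ∈ Cfsg.fittingSubgroup d.H → Nat.Coprime (orderOf y) p →
          x * (y : G) = (y : G) * x := by
  intro B
  set FF := (Cfsg.generalizedFittingSubgroup d.H).map d.H.subtype with hFF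
  set Sb := Φ ⊔ (FF ⊓ centralizer (Φ : Set G))
  have hΦFF : Φ ≤ FF := by rw [hFF, d.genFitting_H]; exact hΦF
  have hSb : Sb ≤ FF := sup_le hΦFF inf_le_left
  have hnil : Group.IsNilpotent FF := by
    rw [hFF, d.genFitting_H]
    exact Cores.isNilpotent_map _ _ Cores.fittingSubgroup_isNilpotent
  haveI := hnil
  have hsn : (Sb.subgroupOf FF).IsSubnormal :=
    Cfsg.Agent.OddLocal.Uniqueness.isSubnormal_of_isNilpotent _
  have hC : FF ⊓ centralizer (Sb : Set G) ≤ Sb :=
    le_trans (inf_le_inf_left _ (centralizer_le (le_sup_left : Φ ≤ Sb))) le_sup_right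
  have hB : Sb ≤ B := sup_le le_normalizer (inf_le_right.trans (centralizer_le_normalizer _))
  obtain ⟨h1, h2⟩ := Cfsg.Agent.S1247.result d.not_commutative d.H d.maximal Sb hSb hsn hC B hB
  refine ⟨h1, fun p hp hdvd x hx y hy hco => ?_⟩
  have hy' : y ∈ Cfsg.generalizedFittingSubgroup d.H := by rw [d.genFitting_H]; exact hy
  exact h2 p hp hdvd x hx y
    ⟨⟨y, hy'⟩, Cores.mem_pResidual_of_coprime (by rwa [Subgroup.orderOf_mk]), rfl⟩

/-- Without components in `N(Φ)`, either `[b,t]` lies in a Fitting subgroup of odd order or `b`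
centralizes `t`. -/
theorem fitting_or_commute {p : ℕ} [hp : Fact p.Prime] (hp2 : p ≠ 2) (hP : d.P p ≠ ⊥)
    (Φ : Subgroup G) (hΦ : Φ ≤ d.P p)
    (hlayer : Cfsg.layer (normalizer (Φ : Set G) : Subgroup G) = ⊥) {b : G}
    (hb : b ∈ normalizer (Φ : Set G)) :
    b * d.t = d.t * b ∨ (core 2 (normalizer (Φ : Set G)) = ⊥ ∧
      ∃ h : b * d.t * b⁻¹ * d.t ∈ normalizer (Φ : Set G),
        (⟨_, h⟩ : normalizer (Φ : Set G)) ∈ Cfsg.fittingSubgroup (normalizer (Φ : Set G) : Subgroup G)) := by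
  haveI : Fact (Nat.Prime 2) := ⟨Nat.prime_two⟩
  set B := normalizer (Φ : Set G) with hBdef
  have hΦO : Φ ≤ d.O := hΦ.trans (d.P_le_O hp2)
  have hO : d.O ≠ ⊥ := fun h => hP (le_bot_iff.1 (h ▸ d.P_le_O hp2))
  have hΦF : Φ ≤ (Cfsg.fittingSubgroup d.H).map d.H.subtype :=
    hΦ.trans (map_mono (Components.Fitting.pCore_le_fitting p))
  obtain ⟨hout, hin⟩ := d.cores Φ hΦF
  have htF : (⟨d.t, d.t_mem_H⟩ : d.H) ∈ Cfsg.fittingSubgroup d.H :=
    Components.Fitting.pCore_le_fitting 2 d.t_mem_pCore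
  have htB : d.t ∈ B := centralizer_le_normalizer _ (mem_centralizer_iff.2 fun x hx =>
    mem_centralizer_singleton_iff.1 (d.O_le (hΦO hx)))
  -- the central involution is scalar on each core of odd order of `B`
  have hscal : ∀ r : ℕ, r.Prime → r ≠ 2 → (∀ x ∈ core r B, d.t * x * d.t⁻¹ = x) ∨
      (∀ x ∈ core r B, d.t * x * d.t⁻¹ = x⁻¹) := by
    intro r hr hr2
    by_cases hd : r ∣ Nat.card (Cfsg.fittingSubgroup d.H)
    · refine Or.inl fun x hx => mul_inv_eq_iff_eq_mul.2 (hin r hr hd x hx _ htF ?_).symm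
      rw [Subgroup.orderOf_mk, d.t_order]
      exact (Nat.coprime_primes Nat.prime_two hr).2 (Ne.symm hr2)
    · exact Or.inr (inverts_of_inf_eq_bot d.t_sq (le_normalizer_core r B htB) (hout r hr hd))
  by_cases h2 : core 2 B = ⊥
  · set c := b * d.t * b⁻¹ * d.t with hc
    have hcB : c ∈ B := mul_mem (mul_mem (mul_mem hb htB) (inv_mem hb)) htB
    have hcF : (⟨c, hcB⟩ : B) ∈ Cfsg.fittingSubgroup B := by
      have hgen : Cfsg.generalizedFittingSubgroup B = Cfsg.fittingSubgroup B := by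
        rw [Cfsg.generalizedFittingSubgroup, hlayer, bot_sup_eq]
      have hcen : (⟨c, hcB⟩ : B) ∈ centralizer (Cfsg.fittingSubgroup B : Set B) := by
        have key : Cfsg.fittingSubgroup B ≤ centralizer ({⟨c, hcB⟩} : Set B) := by
          rw [Components.Fitting.fitting_eq_coreJoin]
          refine iSup_le fun r => ?_
          intro x hx
          rw [mem_centralizer_singleton_iff]
          refine Subtype.ext (show (x : G) * c = c * x from ?_)
          have hxr : (x : G) ∈ core r B := ⟨x, hx, rfl⟩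
          by_cases hr2 : (r : ℕ) = 2
          · rw [hr2, h2, mem_bot] at hxr
            rw [hxr, one_mul, mul_one]
          · have hbx := (mem_normalizer_iff.1 (le_normalizer_core r B (inv_mem hb)) (x : G)).1 hxr
            rw [inv_inv] at hbx
            have e : d.t * (b⁻¹ * x * b) * d.t⁻¹ = b⁻¹ * (d.t * x * d.t⁻¹) * b := by
              rcases hscal r r.2 hr2 with h | h <;> rw [h _ hxr, h _ hbx]
              group
            have e2 : c * x * c⁻¹ = x := by
              rw [hc]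
              calc b * d.t * b⁻¹ * d.t * x * (b * d.t * b⁻¹ * d.t)⁻¹
                  = b * (d.t * (b⁻¹ * (d.t * x * d.t⁻¹) * b) * d.t⁻¹) * b⁻¹ := by
                    simp only [mul_inv_rev, mul_assoc, inv_inv]
                _ = b * (d.t * (d.t * (b⁻¹ * x * b) * d.t⁻¹) * d.t⁻¹) * b⁻¹ := by rw [e]
                _ = x := by
                    have htt : ∀ y : G, d.t * (d.t * y * d.t) * d.t = y := fun y => by
                      rw [show d.t * (d.t * y * d.t) * d.t = d.t * d.t * y * (d.t * d.t) by group,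
                        d.t_sq, one_mul, mul_one]
                    simp only [d.t_inv]
                    rw [htt]
                    group
            exact (mul_inv_eq_iff_eq_mul.1 e2).symm
        exact mem_centralizer_iff.2 fun f hf => mem_centralizer_singleton_iff.1 (key hf)
      have h3 := Components.Fitting.centralizer_genFitting_le (G := B)
      rw [hgen] at h3
      exact h3 hcen
    exact Or.inr ⟨h2, hcB, hcF⟩
  · -- then `B` lies in `H`
    suffices hBH : B ≤ d.H by exact Or.inl (mem_centralizer_singleton_iff.1 (hBH hb))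
    have h2dvd : 2 ∣ Nat.card (Cfsg.fittingSubgroup d.H) := by
      rw [← d.t_order, ← Subgroup.orderOf_mk d.t d.t_mem_H]
      exact Subgroup.orderOf_dvd_natCard _ htF
    have honly : ∀ z ∈ core 2 B, orderOf z = 2 → z * d.t = d.t * z → z = d.t := by
      intro z hz hz2 hzt
      have hzH : z ∈ d.H := mem_centralizer_singleton_iff.2 hzt
      refine d.eq_t hO hzH hz2 (d.centralizes_O hzH (by rw [← sq, ← hz2, pow_orderOf_eq_one]) ?_)
      intro r hr hr2 f hf
      haveI : Fact r.Prime := ⟨hr⟩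
      obtain ⟨f', hf', rfl⟩ := hf
      refine hin 2 Nat.prime_two h2dvd z hz f' (Components.Fitting.pCore_le_fitting r hf') ?_
      obtain ⟨j, hj⟩ := IsPGroup.iff_orderOf.1 (Cores.pCore_isPGroup (G := d.H) r) ⟨f', hf'⟩
      rw [Subgroup.orderOf_mk] at hj
      rw [hj]
      exact ((Nat.coprime_primes hr Nat.prime_two).2 hr2).pow_left j
    obtain ⟨htK, huniq⟩ := mem_core_of_only (core_isPGroup 2 B) h2 d.t_order
      (le_normalizer_core 2 B htB) honly
    intro g hg
    have hgt : g * d.t * g⁻¹ ∈ core 2 B := (mem_normalizer_iff.1 (le_normalizer_core 2 B hg) _).1 htK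
    have := honly _ hgt (by rw [Involutions.Basic.orderOf_conj, d.t_order])
      (huniq _ hgt).symm
    exact mem_centralizer_singleton_iff.2 (mul_inv_eq_iff_eq_mul.1 this)

/-- Without components in `N(Φ)` the central involution fixes every `p`-element `[b,t]`. -/
theorem commute_t {p : ℕ} [hp : Fact p.Prime] (hp2 : p ≠ 2) (hP : d.P p ≠ ⊥) (Φ : Subgroup G)
    (hΦ : Φ ≤ d.P p) (hlayer : Cfsg.layer (normalizer (Φ : Set G) : Subgroup G) = ⊥) {b : G}
    (hb : b ∈ normalizer (Φ : Set G)) {k : ℕ} (hk : orderOf (b * d.t * b⁻¹ * d.t) = p ^ k) :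
    b * d.t = d.t * b := by
  haveI : Fact (Nat.Prime 2) := ⟨Nat.prime_two⟩
  set B := normalizer (Φ : Set G) with hBdef
  have hΦO : Φ ≤ d.O := hΦ.trans (d.P_le_O hp2)
  have hO : d.O ≠ ⊥ := fun h => hP (le_bot_iff.1 (h ▸ d.P_le_O hp2))
  have hΦF : Φ ≤ (Cfsg.fittingSubgroup d.H).map d.H.subtype :=
    hΦ.trans (map_mono (Components.Fitting.pCore_le_fitting p))
  obtain ⟨hout, hin⟩ := d.cores Φ hΦF
  have htF : (⟨d.t, d.t_mem_H⟩ : d.H) ∈ Cfsg.fittingSubgroup d.H :=
    Components.Fitting.pCore_le_fitting 2 d.t_mem_pCore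
  have htB : d.t ∈ B := centralizer_le_normalizer _ (mem_centralizer_iff.2 fun x hx =>
    mem_centralizer_singleton_iff.1 (d.O_le (hΦO hx)))
  -- the central involution is scalar on each core of odd order of `B`
  have hscal : ∀ r : ℕ, r.Prime → r ≠ 2 → (∀ x ∈ core r B, d.t * x * d.t⁻¹ = x) ∨
      (∀ x ∈ core r B, d.t * x * d.t⁻¹ = x⁻¹) := by
    intro r hr hr2
    by_cases hd : r ∣ Nat.card (Cfsg.fittingSubgroup d.H)
    · refine Or.inl fun x hx => mul_inv_eq_iff_eq_mul.2 (hin r hr hd x hx _ htF ?_).symm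
      rw [Subgroup.orderOf_mk, d.t_order]
      exact (Nat.coprime_primes Nat.prime_two hr).2 (Ne.symm hr2)
    · exact Or.inr (inverts_of_inf_eq_bot d.t_sq (le_normalizer_core r B htB) (hout r hr hd))
  rcases d.fitting_or_commute hp2 hP Φ hΦ hlayer hb with h | ⟨-, hcB, hcF⟩
  · exact h
  set c := b * d.t * b⁻¹ * d.t with hc
  -- a `p`-element of the Fitting subgroup
  have hcp : c ∈ core p B := by
    refine ⟨⟨c, hcB⟩, ?_, rfl⟩
    obtain ⟨a, ha, a', ha', hmul⟩ := mem_sup_of_normal_right.1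
      ((Components.Fitting.fitting_eq_coreJoin (G := B)).le.trans
        (Components.Fitting.coreJoin_le_sup p) hcF)
    set π := QuotientGroup.mk' (Cfsg.pCore p B)
    have hc' : π ⟨c, hcB⟩ = π a' := by
      rw [← hmul, map_mul, (QuotientGroup.eq_one_iff a).2 ha |> fun e : π a = 1 => e, one_mul]
    have d1 : orderOf (π ⟨c, hcB⟩) ∣ p ^ k := by
      rw [← hk, ← Subgroup.orderOf_mk c hcB]; exact orderOf_map_dvd π _
    have d2 : orderOf (π ⟨c, hcB⟩) ∣ Nat.card (Cfsg.pPrimeCore p B) := by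
      rw [hc']; exact (orderOf_map_dvd π _).trans (Subgroup.orderOf_dvd_natCard _ ha')
    exact (QuotientGroup.eq_one_iff _).1 (orderOf_eq_one_iff.1 (Nat.eq_one_of_dvd_coprimes
      ((Cores.pPrimeCore_card_coprime (G := B) p).symm.pow_left k) d1 d2))
  have hdvd : p ∣ Nat.card (Cfsg.fittingSubgroup d.H) := by
    refine dvd_trans ?_ (card_dvd_of_le (Components.Fitting.pCore_le_fitting p))
    obtain ⟨j, hj⟩ := IsPGroup.iff_card.1 (Cores.pCore_isPGroup (G := d.H) p)
    rcases j with _ | j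
    · exfalso
      refine hP ?_
      rw [pow_zero, card_eq_one] at hj
      rw [Data.P, Components.MaximalPair.core, hj, Subgroup.map_bot]
    · rw [hj]; exact dvd_pow_self p (Nat.succ_ne_zero j)
  have hfix : c * d.t = d.t * c := hin p hp.out hdvd c hcp _ htF (by
    rw [Subgroup.orderOf_mk, d.t_order]
    exact (Nat.coprime_primes Nat.prime_two hp.out).2 (Ne.symm hp2))
  have hinv : d.t * c * d.t⁻¹ = c⁻¹ := by
    simp only [hc, mul_inv_rev, inv_inv, d.t_inv, mul_assoc, d.t_sq, mul_one]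
  rw [← hfix, mul_inv_cancel_right] at hinv
  have h1 := Data.eq_one_of_odd (by rw [hk]; exact (hp.out.odd_of_ne_two hp2).pow) hinv
  rw [hc, mul_eq_one_iff_eq_inv, d.t_inv, mul_inv_eq_iff_eq_mul] at h1
  exact h1

/-- Without components in `N(Φ)` every `[b,t]` has odd order. -/
theorem t_moves_odd {p : ℕ} [hp : Fact p.Prime] (hp2 : p ≠ 2) (hP : d.P p ≠ ⊥)
    (Φ : Subgroup G) (hΦ : Φ ≤ d.P p)
    (hlayer : Cfsg.layer (normalizer (Φ : Set G) : Subgroup G) = ⊥) {b : G}
    (hb : b ∈ normalizer (Φ : Set G)) : Odd (orderOf (b * d.t * b⁻¹ * d.t)) := by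
  haveI : Fact (Nat.Prime 2) := ⟨Nat.prime_two⟩
  rcases d.fitting_or_commute hp2 hP Φ hΦ hlayer hb with h | ⟨h2, hcB, hcF⟩
  · rw [h, mul_inv_cancel_right, d.t_sq, orderOf_one]; exact odd_one
  · set B := normalizer (Φ : Set G)
    have h2' : Cfsg.pCore 2 B = ⊥ := by
      rw [← map_eq_bot_iff_of_injective _ B.subtype_injective]; exact h2
    have hle := Components.Fitting.fitting_eq_coreJoin (G := B) |>.le.trans
      (Components.Fitting.coreJoin_le_sup 2)
    rw [h2', bot_sup_eq] at hle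
    have hd := Subgroup.orderOf_dvd_natCard _ (hle hcF)
    rw [Subgroup.orderOf_mk] at hd
    exact (Nat.coprime_two_right.1 (Cores.pPrimeCore_card_coprime (G := B) 2)).of_dvd_nat hd

/-- Key lemma. -/
theorem centralizes_of_no_component {p : ℕ} [hp : Fact p.Prime] (hp2 : p ≠ 2) (i : ZMod d.m)
    (hne : d.P p ⊓ centralizer ({d.u i} : Set G) ≠ ⊥)
    (hlayer : Cfsg.layer (normalizer ((d.P p ⊓ centralizer ({d.u i} : Set G) : Subgroup G) : Set G) :
      Subgroup G) = ⊥) : d.P p ≤ centralizer ({d.u i} : Set G) := by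
  set Φ := d.P p ⊓ centralizer ({d.u i} : Set G) with hΦ
  have hP : d.P p ≠ ⊥ := fun h => hne (by rw [hΦ, h, bot_inf_eq])
  obtain ⟨g, hg1, hg2⟩ := d.rho i
  set Φ' := Φ.map (MulAut.conj g).toMonoidHom with hΦ'
  have hΦ'A : Φ' ≤ d.A i := by
    rintro _ ⟨x, hx, rfl⟩
    exact d.rho_mem_A hg1 hg2 ⟨d.P_le_O hp2 hx.1, hx.2⟩
  set u := d.u i with hu
  have huN : u ∈ normalizer (d.P p : Set G) := d.H_le_normalizer_P p (d.u_mem_H i)
  have hle : zpowers u ≤ centralizer (d.P p : Set G) := by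
    refine Coprime.le_centralizer_of_pxq (p := p) (P := Φ') (Q := zpowers u) (U := d.P p)
      (((d.P_isPGroup p).to_le inf_le_left).map _) ?_ (d.P_isPGroup p) ?_ ?_ ?_ ?_
    · rw [Nat.card_zpowers, hu, d.u_order i]
      exact (Nat.coprime_primes Nat.prime_two hp.out).2 (Ne.symm hp2)
    · intro x hx
      refine mem_centralizer_iff.2 fun y hy => ?_
      obtain ⟨j, rfl⟩ := mem_zpowers_iff.1 hy
      exact ((Commute.zpow_left (Commute.symm
        (mem_centralizer_singleton_iff.1 (hΦ'A hx).2)) j)).eq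
    · exact (hΦ'A.trans inf_le_left).trans (d.O_le.trans (d.H_le_normalizer_P p))
    · exact zpowers_le.2 huN
    · rintro f ⟨hfP, hfc⟩
      -- pull the commutator back to `N(Φ)`
      have hfB : g⁻¹ * f * g ∈ normalizer (Φ : Set G) := by
        refine centralizer_le_normalizer _ (mem_centralizer_iff.2 fun x hx => ?_)
        have h1 := mem_centralizer_iff.1 hfc _ ⟨x, hx, rfl⟩
        simp only [MulEquiv.coe_toMonoidHom, MulAut.conj_apply] at h1
        calc x * (g⁻¹ * f * g) = g⁻¹ * ((g * x * g⁻¹) * f) * g := by group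
          _ = g⁻¹ * (f * (g * x * g⁻¹)) * g := by rw [h1]
          _ = g⁻¹ * f * g * x := by group
      have hcP : f * u * f⁻¹ * u ∈ d.P p := by
        have h1 := (mem_normalizer_iff.1 huN f⁻¹).1 (inv_mem hfP)
        rw [hu, d.u_inv] at h1
        rw [show f * u * f⁻¹ * u = f * (u * f⁻¹ * u) by group]
        exact mul_mem hfP h1
      obtain ⟨k, hk⟩ := IsPGroup.iff_orderOf.1 (d.P_isPGroup p) ⟨_, hcP⟩
      rw [orderOf_mk] at hk
      have hgt : g⁻¹ * u * g = d.t := by
        rw [hu, show d.u i = g * d.t * g⁻¹ from hg1.symm]; group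
      have h3 := d.commute_t hp2 hP Φ inf_le_left hlayer hfB (b := g⁻¹ * f * g) (k := k) (by
        rw [show g⁻¹ * f * g * d.t * (g⁻¹ * f * g)⁻¹ * d.t = g⁻¹ * (f * u * f⁻¹ * u) * (g⁻¹)⁻¹ by
          rw [← hgt]; group, Involutions.Basic.orderOf_conj, hk])
      rw [← hgt] at h3
      refine mem_centralizer_iff.2 fun y hy => ?_
      obtain ⟨j, rfl⟩ := mem_zpowers_iff.1 hy
      refine (Commute.zpow_left (?_ : Commute u f) j).eq
      calc u * f = g * ((g⁻¹ * u * g) * (g⁻¹ * f * g)) * g⁻¹ := by group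
        _ = g * ((g⁻¹ * f * g) * (g⁻¹ * u * g)) * g⁻¹ := by rw [h3]
        _ = f * u := by group
  intro x hx
  exact mem_centralizer_singleton_iff.2 (mem_centralizer_iff.1 (hle (mem_zpowers u)) x hx)

end Setting

end Cfsg.Agent.GW.Bender
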