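import Cfsg.Agent.Lib.GW.BenderArith
import Cfsg.Agent.Lib.GW.BenderKey
import Cfsg.Agent.Lib.GW.OrderBounds

/-!
# The final congruences in the setting

The order formula gives the multiplier `s` and the degree `x`, the Sylow subgroups of the core at the
primes without fixed reflection are Sylow subgroups of the whole group, and the field order of a
component in a subgroup divides the index times a suborbit length.
-/

set_option autoImplicit false
set_option linter.style.haveILetI false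

namespace Cfsg.Agent.GW.Bender

open Subgroup Cfsg.Agent.Involutions Cfsg.Agent.Components.MaximalPair

universe u

variable {G : Type u} [Group G] [Finite G]

/-- The index of `H` times a suborbit length is divisible by the index of `H` in any subgroup of `L`
normal in `L`. -/
theorem relIndex_dvd_index_mul {E L : Subgroup G} (hEL : E ≤ L) (hn : L ≤ normalizer (E : Set G))
    (H : Subgroup G) : H.relIndex E ∣ H.index * L.relIndex H := by
  have h1 : H.index * L.relIndex H = L.index * H.relIndex L := by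
    rw [mul_comm, mul_comm L.index, ← inf_relIndex_right L H, relIndex_mul_index inf_le_right,
      ← inf_relIndex_right H L, relIndex_mul_index inf_le_right, inf_comm]
  rw [h1]
  refine dvd_mul_of_dvd_right ?_ _
  haveI : (E.subgroupOf L).Normal := (normal_subgroupOf_iff_le_normalizer hEL).2 hn
  set E' := E.subgroupOf L
  set H' := H.subgroupOf L
  have e : H.relIndex E = H'.relIndex E' := (relIndex_subgroupOf hEL).symm
  have h2 : H'.relIndex E' * E'.index = E'.relIndex H' * H'.index := by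
    rw [← inf_relIndex_right H' E', relIndex_mul_index inf_le_right, ← inf_relIndex_right E' H',
      relIndex_mul_index inf_le_right, inf_comm]
  have h3 : E'.index = E'.relIndex H' * (E' ⊔ H').index := by
    rw [← relIndex_sup_left (H := H') (K := E'), relIndex_mul_index le_sup_left]
  rw [h3, mul_left_comm] at h2
  have h4 := Nat.eq_of_mul_eq_mul_left (Nat.pos_of_ne_zero fun h0 => E'.index_ne_zero_of_finite
    (by rw [h3, h0, zero_mul])) h2
  rw [e]
  exact ⟨_, h4.symm⟩

/-- The parameters of the order formula: the multiplier is odd. -/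
theorem exists_multiplier {k o a L N : ℕ} {x d : ℤ} (hk : 2 ∣ k) (hk0 : 0 < k) (ha : 0 < a)
    (hL : 0 < L) (ho : o = a * L) (hN : Odd N) (hd : d = 1 ∨ d = -1) (hx : 0 < x) (hne : x ≠ d)
    (hdvd : (2 * k : ℤ) ∣ x - d)
    (heq : ((N : ℚ) * (4 * k * o)) * ((x : ℚ) - d) ^ 2 = 2 * (x : ℚ) * ((x : ℚ) + d) *
      (4 * k * o : ℚ) ^ 3 * (1 / (4 * a : ℚ) + 1 / (4 * a : ℚ)) ^ 2) :
    ∃ s : ℕ, Odd s ∧ (N : ℤ) * 2 = (s : ℤ) ^ 2 * x * (x + d) ∧ (s : ℤ) * (x - d) = 4 * k * L := by
  obtain ⟨j, hj⟩ := hdvd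
  obtain ⟨k', rfl⟩ := hk
  have h1 : (N : ℚ) * ((x : ℚ) - d) ^ 2 =
      2 * (x : ℚ) * ((x : ℚ) + d) * (4 * (2 * k' : ℕ) * L : ℚ) ^ 2 / 4 := by
    have hk' : (0 : ℚ) < (2 * k' : ℕ) := Nat.cast_pos.2 hk0
    have ho' : (o : ℚ) = a * L := by exact_mod_cast ho
    have hap : (0 : ℚ) < a := Nat.cast_pos.2 ha
    have hLp : (0 : ℚ) < L := Nat.cast_pos.2 hL
    rw [ho'] at heq
    field_simp at heq ⊢
    nlinarith [heq]
  have h2 : (N : ℤ) * ((x - d) ^ 2) = 2 * x * (x + d) * (4 * (k' : ℤ) * L) ^ 2 := by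
    have : ((N : ℤ) * ((x - d) ^ 2) : ℚ) = ((2 * x * (x + d) * (4 * (k' : ℤ) * L) ^ 2 : ℤ) : ℚ) := by
      push_cast at h1 ⊢
      linear_combination h1
    exact_mod_cast this
  have hd2 : d * d = 1 := by rcases hd with rfl | rfl <;> rfl
  set w : ℤ := d + 2 * (k' : ℤ) * j with hw
  push_cast at hj
  have hxd : x + d = 2 * w := by rw [hw]; linear_combination hj
  -- `N j ^ 2 = 4 x w L ^ 2`
  have h3 : (N : ℤ) * j ^ 2 = 4 * (x * w * (L : ℤ) ^ 2) := by
    have hk2 : (16 : ℤ) * k' ^ 2 ≠ 0 := by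
      have : 0 < k' := by omega
      positivity
    refine mul_left_cancel₀ hk2 ?_
    rw [hj, hxd] at h2
    linear_combination h2
  have hje : Even j := by
    have h4 : Even ((N : ℤ) * j ^ 2) := ⟨2 * (x * w * (L : ℤ) ^ 2), by rw [h3]; ring⟩
    rw [Int.even_mul, Int.even_pow' two_ne_zero] at h4
    exact h4.resolve_left (by simpa [Int.even_coe_nat] using hN)
  obtain ⟨g, rfl⟩ := hje
  have h5 : (N : ℤ) * g ^ 2 = x * w * (L : ℤ) ^ 2 := by linarith [h3]
  have hco : IsCoprime (g ^ 2) (x * w) := by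
    refine (IsCoprime.mul_right ?_ ?_).pow_left
    · exact ⟨-(8 * d * k'), d, by
        rw [show x = d + 2 * (2 * (k' : ℤ)) * (g + g) by linarith]
        linear_combination hd2⟩
    · exact ⟨-(4 * d * k'), d, by rw [hw]; linear_combination hd2⟩
  obtain ⟨s, hs⟩ := (Int.pow_dvd_pow_iff two_ne_zero).1 (hco.dvd_of_dvd_mul_left ⟨N, by rw [← h5]; ring⟩)
  have hg0 : 0 < g := by
    rcases lt_trichotomy g 0 with h | h | h
    · have : 0 < k' := by omega
      rcases hd with rfl | rfl <;> nlinarith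
    · subst h
      simp at hj
      exact absurd (sub_eq_zero.1 hj) hne
    · exact h
  have hs0 : 0 < s := by
    by_contra hn
    nlinarith
  lift s to ℕ using hs0.le
  have hN' : (N : ℤ) = x * w * (s : ℤ) ^ 2 := by
    refine mul_right_cancel₀ (pow_ne_zero 2 hg0.ne') ?_
    rw [h5, hs]; ring
  refine ⟨s, ?_, by rw [hN', hxd]; ring, ?_⟩
  · have : Odd ((N : ℤ)) := (Int.odd_coe_nat N).2 hN
    rw [hN', Int.odd_mul, Int.odd_pow' two_ne_zero, Int.odd_coe_nat] at this
    exact this.2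
  · rw [hj, hs]; push_cast; ring

namespace Data

variable (d : Data G)

theorem inf_O_S : d.O ⊓ (d.S : Subgroup G) = ⊥ := by
  refine (eq_bot_iff_forall _).2 fun x hx => orderOf_eq_one_iff.1 ?_
  obtain ⟨k, hk⟩ := IsPGroup.iff_orderOf.1 d.S.2 ⟨x, hx.2⟩
  rw [orderOf_mk] at hk
  have ho := d.orderOf_odd hx.1
  rw [hk] at ho ⊢
  rcases Nat.eq_zero_or_pos k with h0 | h0
  · rw [h0, pow_zero]
  · exact absurd ho (Nat.not_odd_iff_even.2 (Nat.even_pow.2 ⟨even_two, h0.ne'⟩))

theorem card_S : Nat.card (d.S : Subgroup G) = 2 * d.m := by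
  rw [Nat.card_congr d.e.toEquiv, DihedralGroup.nat_card]

theorem card_H : Nat.card d.H = 2 * d.m * Nat.card d.O := by
  classical
  rw [← d.card_S, mul_comm, ← Nat.card_prod]
  refine (Nat.card_congr (Equiv.ofBijective
    (fun w : d.O × (d.S : Subgroup G) => (⟨(w.1 : G) * w.2, mul_mem (d.O_le w.1.2) (d.S_le w.2.2)⟩ : d.H))
    ⟨fun a b h => ?_, fun h => ?_⟩)).symm
  · have e1 : (a.1 : G) * a.2 = b.1 * b.2 := congrArg Subtype.val h
    have e2 : (b.1 : G)⁻¹ * a.1 ∈ d.O ⊓ (d.S : Subgroup G) := by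
      refine mem_inf.2 ⟨mul_mem (inv_mem b.1.2) a.1.2, ?_⟩
      rw [show (b.1 : G)⁻¹ * a.1 = b.2 * (a.2 : G)⁻¹ from eq_mul_inv_of_mul_eq (by
        rw [mul_assoc, e1, inv_mul_cancel_left])]
      exact (mul_mem b.2.2 ((d.S : Subgroup G).inv_mem a.2.2) : _ ∈ (d.S : Subgroup G))
    rw [d.inf_O_S, mem_bot, inv_mul_eq_one] at e2
    rw [← e2] at e1
    exact Prod.ext (Subtype.ext e2.symm) (Subtype.ext (mul_left_cancel e1))
  · obtain ⟨o, ho, s, hs, he⟩ := d.exists_mul h.2
    exact ⟨(⟨o, ho⟩, ⟨s, hs⟩), Subtype.ext he.symm⟩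

theorem commute_refl_iff {i : ZMod d.m} {s : G} (hs : s ∈ (d.S : Subgroup G)) :
    Commute s (d.u i) ↔ s ∈ DihedralSylow.four d.S d.e d.dvd i := by
  have h2 := d.dvd
  have hm0 := d.ne_zero
  rw [DihedralSylow.mem_four]
  constructor
  · intro hc
    have h : d.e ⟨s, hs⟩ * DihedralGroup.sr i = DihedralGroup.sr i * d.e ⟨s, hs⟩ := by
      have h1 : (⟨s, hs⟩ : (d.S : Subgroup G)) * d.e.symm (DihedralGroup.sr i) =
          d.e.symm (DihedralGroup.sr i) * ⟨s, hs⟩ := Subtype.ext hc.eq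
      simpa using congrArg d.e h1
    have hy : s = ((d.e.symm (d.e ⟨s, hs⟩) : (d.S : Subgroup G)) : G) := by simp
    rcases hj : d.e ⟨s, hs⟩ with j | j <;> rw [hj] at h hy
    · simp only [DihedralGroup.r_mul_sr, DihedralGroup.sr_mul_r, DihedralGroup.sr.injEq] at h
      have : DihedralGroup.r j * DihedralGroup.r j = (1 : DihedralGroup d.m) := by
        rw [DihedralGroup.r_mul_r, show j + j = 0 from by linear_combination -h]; rfl
      rcases (DihedralEmbedding.r_sq h2 hm0).1 this with rfl | rfl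
      · left; rw [hy]; simp
      · right; left; exact hy
    · simp only [DihedralGroup.sr_mul_sr, DihedralGroup.r.injEq] at h
      have : DihedralGroup.r (j - i) * DihedralGroup.r (j - i) = (1 : DihedralGroup d.m) := by
        rw [DihedralGroup.r_mul_r, show j - i + (j - i) = 0 from by linear_combination -h]; rfl
      rcases (DihedralEmbedding.r_sq h2 hm0).1 this with h0 | h0
      · right; right; left; rw [hy, sub_eq_zero.1 h0]; rfl
      · right; right; right; rw [hy, show j = i + DihedralEmbedding.half d.m by rw [← h0]; ring]; rfl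
  · intro h
    obtain h | h := em (d.u i = s)
    · exact h ▸ Commute.refl _
    · haveI := DihedralSylow.four_isKleinFour d.S d.e h2 hm0 i
      have a : s ∈ DihedralSylow.four d.S d.e h2 i := (DihedralSylow.mem_four _ _ _ _).2 (by assumption)
      have b : d.u i ∈ DihedralSylow.four d.S d.e h2 i :=
        (DihedralSylow.mem_four _ _ _ _).2 (Or.inr (Or.inr (Or.inl rfl)))
      exact congrArg Subtype.val (mul_comm_of_exponent_two IsKleinFour.exponent_two
        (⟨s, a⟩ : DihedralSylow.four d.S d.e h2 i) ⟨_, b⟩)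

/-- The centralizer of a four-group. -/
theorem card_centralizer_four (i : ZMod d.m) :
    Nat.card (centralizer ({d.t, d.u i} : Set G)) = 4 * Nat.card (d.A i) := by
  classical
  haveI := DihedralSylow.four_isKleinFour d.S d.e d.dvd d.ne_zero i
  set U := DihedralSylow.four d.S d.e d.dvd i with hU
  have hUS : U ≤ d.S := DihedralSylow.four_le d.S d.e d.dvd i
  have hmem : ∀ g : G, g ∈ centralizer ({d.t, d.u i} : Set G) ↔ g ∈ d.H ∧ Commute g (d.u i) :=
    fun g => by
      simp only [mem_centralizer_iff, Set.forall_mem_insert, Set.mem_singleton_iff, forall_eq,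
        Data.H, Commute, SemiconjBy]
      exact and_congr (by simp [eq_comm]) eq_comm
  rw [← IsKleinFour.card_four (G := U), mul_comm, ← Nat.card_prod]
  refine (Nat.card_congr (Equiv.ofBijective
    (fun w : d.A i × U => (⟨(w.1 : G) * w.2, (hmem _).2
      ⟨mul_mem (d.O_le w.1.2.1) (d.S_le (hUS w.2.2)),
        Commute.mul_left (mem_centralizer_singleton_iff.1 w.1.2.2)
          ((d.commute_refl_iff (hUS w.2.2)).2 w.2.2)⟩⟩ :
        centralizer ({d.t, d.u i} : Set G))) ⟨fun a b h => ?_, fun h => ?_⟩)).symm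
  · have e1 : (a.1 : G) * a.2 = b.1 * b.2 := congrArg Subtype.val h
    have e2 : (b.1 : G)⁻¹ * a.1 ∈ d.O ⊓ (d.S : Subgroup G) := by
      refine mem_inf.2 ⟨mul_mem (inv_mem b.1.2.1) a.1.2.1, ?_⟩
      rw [show (b.1 : G)⁻¹ * a.1 = b.2 * (a.2 : G)⁻¹ from eq_mul_inv_of_mul_eq (by
        rw [mul_assoc, e1, inv_mul_cancel_left])]
      exact (mul_mem (hUS b.2.2) ((d.S : Subgroup G).inv_mem (hUS a.2.2)) : _ ∈ (d.S : Subgroup G))
    rw [d.inf_O_S, mem_bot, inv_mul_eq_one] at e2
    rw [← e2] at e1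
    exact Prod.ext (Subtype.ext e2.symm) (Subtype.ext (mul_left_cancel e1))
  · obtain ⟨hH, hc⟩ := (hmem _).1 h.2
    obtain ⟨o, ho, s, hs, he⟩ := d.exists_mul hH
    -- `[s,u] = (o⁻¹)(u o u⁻¹)` lies in `O` and in `S`
    have hx : s * d.u i * s⁻¹ * (d.u i)⁻¹ ∈ d.O ⊓ (d.S : Subgroup G) := by
      refine mem_inf.2 ⟨?_, ((d.S : Subgroup G).mul_mem ((d.S : Subgroup G).mul_mem ((d.S : Subgroup G).mul_mem
        hs (d.u_mem i)) ((d.S : Subgroup G).inv_mem hs)) ((d.S : Subgroup G).inv_mem (d.u_mem i)))⟩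
      rw [show s * d.u i * s⁻¹ * (d.u i)⁻¹ = o⁻¹ * (d.u i * o * (d.u i)⁻¹) from ?_]
      · exact mul_mem (inv_mem ho)
          ((mem_normalizer_iff.1 (d.H_le_normalizer_O (d.u_mem_H i)) o).1 ho)
      · have h1 : o * s * d.u i = d.u i * (o * s) := by rw [← he]; exact hc.eq
        calc s * d.u i * s⁻¹ * (d.u i)⁻¹ = o⁻¹ * (o * s * d.u i) * s⁻¹ * (d.u i)⁻¹ := by group
          _ = _ := by rw [h1]; group
    rw [d.inf_O_S, mem_bot, mul_inv_eq_one, mul_inv_eq_iff_eq_mul] at hx
    have hsU : s ∈ U := (d.commute_refl_iff hs).1 hx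
    have hco : Commute o (d.u i) := by
      have h1 := hc.mul_left (Commute.inv_left (show Commute s (d.u i) from hx))
      rwa [he, mul_inv_cancel_right] at h1
    exact ⟨(⟨o, ho, mem_centralizer_singleton_iff.2 hco⟩, ⟨s, hsU⟩), Subtype.ext he.symm⟩

/-- An involution of `H` is the central one or conjugate in `H` to a reflection. -/
theorem exists_conj_refl {v : G} (hv : v ∈ d.H) (hv2 : orderOf v = 2) (hne : v ≠ d.t) :
    ∃ h ∈ d.H, ∃ i, h * v * h⁻¹ = d.u i := by
  haveI : Fact (Nat.Prime 2) := ⟨Nat.prime_two⟩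
  have hvH : IsPGroup 2 (zpowers (⟨v, hv⟩ : d.H)) := IsPGroup.of_card (n := 1) (by
    rw [Nat.card_zpowers, Subgroup.orderOf_mk, hv2, pow_one])
  obtain ⟨Q, hQ⟩ := hvH.exists_le_sylow
  obtain ⟨h, hh⟩ := MulAction.exists_smul_eq d.H Q (d.S.subtype d.S_le)
  have hmem : (h : G) * v * (h : G)⁻¹ ∈ (d.S : Subgroup G) := by
    have h1 : MulAut.conj h (⟨v, hv⟩ : d.H) ∈ ((h • Q : Sylow 2 d.H) : Subgroup d.H) :=
      Subgroup.smul_mem_pointwise_smul _ (MulAut.conj h) _ (hQ (mem_zpowers _))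
    rw [hh] at h1
    exact h1
  rcases d.involution_cases hmem (by rw [Involutions.Basic.orderOf_conj, hv2]) with h1 | ⟨i, h1⟩
  · refine absurd ?_ hne
    have h3 := d.conj_t (inv_mem h.2)
    rw [inv_inv] at h3
    rw [show v = (h : G)⁻¹ * ((h : G) * v * (h : G)⁻¹) * h by group, h1, h3]
  · exact ⟨h, h.2, i, h1⟩

end Data

namespace Setting

variable (d : Setting G) [IsSimpleGroup G]

/-- A Sylow subgroup of `H` at a prime without fixed reflection is a Sylow subgroup of `G`. -/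
theorem index_modEq_one {p : ℕ} [hp : Fact p.Prime] (hP : d.P p ≠ ⊥)
    (hu : ∀ i, ∃ f ∈ d.P p, d.u i * f ≠ f * d.u i) : d.H.index ≡ 1 [MOD p] := by
  obtain ⟨Q⟩ := (inferInstance : Nonempty (Sylow p d.H))
  set A : Subgroup G := (Q : Subgroup d.H).map d.H.subtype with hA
  refine BenderArith.index_modEq_one Q fun g hg => ?_
  have hPA : d.P p ≤ A := map_mono (Cores.pCore_le_sylow Q)
  have hN : normalizer (d.P p : Set G) = d.H := d.normalizer_eq (d.P_le p) (d.H_le_normalizer_P p) hP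
  have hC : centralizer (A : Set G) ≤ d.H :=
    hN ▸ (centralizer_le (show (d.P p : Set G) ⊆ A from hPA)).trans (centralizer_le_normalizer _)
  have htA : ∀ x ∈ A, d.t * x = x * d.t := fun x hx =>
    (mem_centralizer_singleton_iff.1 (map_subtype_le _ hx)).symm
  have hgt : g * d.t * g⁻¹ ∈ centralizer (A : Set G) := mem_centralizer_iff.2 fun x hx => by
    have hx' : g⁻¹ * x * g ∈ A := (mem_normalizer_iff''.1 hg x).1 hx
    have h1 := (Commute.conj_iff g).2 (show Commute d.t (g⁻¹ * x * g) from htA _ hx')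
    rw [show g * (g⁻¹ * x * g) * g⁻¹ = x by group] at h1
    exact h1.eq.symm
  refine mem_centralizer_singleton_iff.2 ?_
  by_contra hne
  have hne' : g * d.t * g⁻¹ ≠ d.t := fun h => hne (by
    rw [mul_inv_eq_iff_eq_mul] at h; exact h)
  obtain ⟨h, hh, i, hi⟩ := d.exists_conj_refl (hC hgt)
    (by rw [Involutions.Basic.orderOf_conj, d.t_order]) hne'
  obtain ⟨f, hf, hne''⟩ := hu i
  refine hne'' ?_
  have hf' : h⁻¹ * f * h ∈ d.P p := by
    simpa using d.conj_mem_P (inv_mem hh) hf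
  have h1 := (Commute.conj_iff h).2
    (show Commute (g * d.t * g⁻¹) (h⁻¹ * f * h) from (mem_centralizer_iff.1 hgt _ (hPA hf')).symm)
  rw [hi, show h * (h⁻¹ * f * h) * h⁻¹ = f by group] at h1
  exact h1.eq

/-- The order formula with all fixed points of reflections of equal order. -/
theorem exists_parameters (hm : 2 < d.m) {a L : ℕ} (ha : ∀ i, Nat.card (d.A i) = a)
    (hO : Nat.card d.O = a * L) :
    ∃ (n s : ℕ) (x δ : ℤ), 3 ≤ n ∧ 2 ^ n = 2 * d.m ∧ (δ = 1 ∨ δ = -1) ∧ Odd s ∧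
      (d.H.index : ℤ) * 2 = (s : ℤ) ^ 2 * x * (x + δ) ∧ (s : ℤ) * (x - δ) = 2 ^ n * (L : ℤ) := by
  haveI : Fact (Nat.Prime 2) := ⟨Nat.prime_two⟩
  have hdvdS : 2 * d.m ∣ Nat.card G := d.card_S ▸ (d.S : Subgroup G).card_subgroup_dvd_card
  have hG : 2 < Nat.card G :=
    lt_of_lt_of_le (by omega) (Nat.le_of_dvd Nat.card_pos hdvdS)
  obtain ⟨P, σ, τ, k, hk, h, hσ⟩ := OrderBounds.exists_dihSylow hG d.S hm d.e d.t_order
  obtain ⟨x, δ, hδ, hx0, hne, hdvd, heq⟩ := OrderBounds.exists_degree h (OrderBounds.one_class hG d.S d.two_le d.e)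
  rw [hσ] at heq
  have hc : ∀ v : G, v ∈ (P : Subgroup G) → orderOf v = 2 → v ≠ d.t →
      Nat.card (centralizer ({d.t, v} : Set G)) = 4 * a := by
    intro v hvP hv2 hne'
    have hvH : v ∈ d.H := by
      have := h.sylow_le hvP
      rwa [hσ] at this
    obtain ⟨g, hg, i, hi⟩ := d.exists_conj_refl hvH hv2 hne'
    rw [← ha i, ← d.card_centralizer_four i, ← hi]
    have hgt := d.conj_t hg
    refine (Nat.card_congr ((MulAut.conj g).toEquiv.subtypeEquiv fun y => ?_))
    simp only [MulEquiv.toEquiv_eq_coe, MulEquiv.coe_toEquiv, MulAut.conj_apply, mem_centralizer_iff,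
      Set.forall_mem_insert, Set.mem_singleton_iff, forall_eq]
    constructor
    · rintro ⟨h1, h2⟩
      refine ⟨?_, ?_⟩
      · have := congrArg (fun z => g * z * g⁻¹) h1
        rw [← hgt]; simpa [mul_assoc] using this
      · have := congrArg (fun z => g * z * g⁻¹) h2
        simpa [mul_assoc] using this
    · rintro ⟨h1, h2⟩
      refine ⟨?_, ?_⟩
      · have := congrArg (fun z => g⁻¹ * z * g) h1
        rw [← hgt] at this
        simpa [mul_assoc] using this
      · have := congrArg (fun z => g⁻¹ * z * g) h2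
        simpa [mul_assoc] using this
  have hτσ : τ ≠ σ ^ k := fun e => h.τ_notMem (e ▸ pow_mem (mem_zpowers σ) k)
  have hτo : orderOf τ = 2 := orderOf_eq_prime (by rw [sq]; exact h.τ_sq)
    (fun e => h.τ_notMem (by rw [e]; exact one_mem _))
  have hστo : orderOf (σ * τ) = 2 := by
    refine orderOf_eq_prime (by rw [sq]; simpa using h.refl_sq 1) (fun e => h.τ_notMem ?_)
    rw [show τ = σ⁻¹ from eq_inv_of_mul_eq_one_right e]
    exact inv_mem (mem_zpowers σ)
  have hστne : σ * τ ≠ σ ^ k := fun e => h.τ_notMem (by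
    rw [show τ = σ⁻¹ * σ ^ k from eq_inv_mul_of_mul_eq e]
    exact mul_mem (inv_mem (mem_zpowers σ)) (pow_mem (mem_zpowers σ) k))
  rw [hc τ h.τ_mem hτo (hσ ▸ hτσ), hc (σ * τ) (mul_mem h.σ_mem h.τ_mem) hστo (hσ ▸ hστne),
    d.card_H, ← (d.H).index_mul_card, d.card_H, hk] at heq
  have hodd : Odd d.H.index := by
    rw [Nat.odd_iff]
    by_contra hn
    refine d.S.not_dvd_index ((Nat.dvd_of_mod_eq_zero (show d.H.index % 2 = 0 by omega)).trans ?_)
    exact index_dvd_of_le d.S_le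
  have hap : 0 < a := ha 0 ▸ Nat.card_pos
  have hLp : 0 < L := by
    rcases Nat.eq_zero_or_pos L with h0 | h0
    · rw [h0, mul_zero] at hO; exact absurd hO Nat.card_pos.ne'
    · exact h0
  obtain ⟨s, hs, hN, hx⟩ := exists_multiplier (k := k) h.even h.pos hap hLp hO hodd hδ
    (by exact_mod_cast hx0) hne (by exact_mod_cast hdvd) (by push_cast at heq ⊢; linear_combination heq)
  obtain ⟨e, he⟩ := h.m_pow
  have he1 : 1 ≤ e := by
    by_contra h0
    obtain rfl : e = 0 := by omega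
    exact absurd (he ▸ h.even) (by norm_num)
  refine ⟨e + 2, s, x, δ, by omega, by rw [hk, he, pow_add]; ring, hδ, hs, hN, ?_⟩
  rw [hx, he, pow_add]; push_cast; ring

/-- The contradiction of the component case; `e = 1` when an element of order `p` of the centre of
the Fitting subgroup lies in the component's core, a prime divisor of `c` otherwise, and `m` is the
suborbit length. -/
theorem false_of_residues (hm : 2 < d.m) {a c r e q m n p : ℕ} {δ : ℤ}
    (ha : ∀ i, Nat.card (d.A i) = a) (hO : Nat.card d.O = a * (e * c * r))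
    (hn : 2 ^ n = 2 * d.m) (hc : Odd c) (hr : Odd r) (he : e = 1 ∧ r ≠ 1 ∨ e.Prime ∧ e ∣ c)
    (hu : ∀ l : ℕ, l.Prime → l ∣ c → d.P l ≠ ⊥ ∧ ∀ i, ∃ f ∈ d.P l, d.u i * f ≠ f * d.u i)
    (hp : p.Prime) (hpc : p ∣ c) (hrp : r + 1 < 2 * p)
    (hδ : δ = 1 ∨ δ = -1) (hq : IsPrimePow q) (hqc : (q : ℤ) = δ + 2 ^ n * c)
    (hml : ∀ l : ℕ, l.Prime → l ∣ m → l ∣ r) (hm0 : 0 < m) (hmq : m < q)
    (hdvd : q ∣ d.H.index * (e * m)) : False := by
  obtain ⟨n', s, x, δ', hn3, hn', hδ', hs, hN, hx⟩ := d.exists_parameters hm ha hO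
  obtain rfl : n' = n := Nat.pow_right_injective le_rfl (hn'.trans hn.symm)
  have hS : ∀ l : ℕ, l.Prime → l ∣ c → d.H.index ≡ 1 [MOD l] := fun l hl hlc => by
    haveI : Fact l.Prime := ⟨hl⟩
    exact d.index_modEq_one (hu l hl hlc).1 (hu l hl hlc).2
  have hpo : Odd p := hc.of_dvd_nat hpc
  rcases he with ⟨rfl, hr1⟩ | ⟨he, hec⟩
  · exact BenderArith.false_of_central hn3 hδ' hδ hc hr hs hS hN hp hpo hpc hrp hq hqc hml hm0 hmq
      hr1 (by push_cast at hx; linear_combination hx) (by simpa using hdvd)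
  · exact BenderArith.false_of_noncentral hn3 hδ' hδ hc hr hs hS hN hp hpo hpc hrp hq hqc hml hm0
      hmq he hec (by push_cast at hx; linear_combination hx) hdvd

end Setting

end Cfsg.Agent.GW.Bender
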