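import Cfsg.Agent.Lib.GW.BenderFrame

/-!
# The dihedral Sylow theorem: the two cases of the mixed configuration
-/

set_option autoImplicit false

namespace Cfsg.Agent.GW.Bender

open Subgroup

universe u

variable {G : Type u} [Group G] [Finite G]

namespace Data

variable (d : Data G)

/-- No abelian subgroup of the core normal in `H` meets the fixed points of the reflections. -/
def NoAbelianFixed : Prop :=
  ∀ X : Subgroup G, X ≤ d.O → IsMulCommutative X → d.H ≤ normalizer (X : Set G) →
    X ⊓ centralizer ({d.u 0} : Set G) = ⊥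

/-- The remaining case: `O_p(H)` is `⟨w, b⟩` times its centre, of exponent `p` on the first factor. -/
structure ExtraData (p : ℕ) (w b ζ : G) : Prop where
  prime : p.Prime
  ne_two : p ≠ 2
  w_order : orderOf w = p
  fixed_eq : ∀ i, d.P p ⊓ centralizer ({d.u i} : Set G) = zpowers w
  frame : ∀ i, d.Frame i p (zpowers w)
  b_mem : b ∈ d.P p
  b_order : orderOf b = p
  b_inverted : ∀ i, d.u i * b * (d.u i)⁻¹ = b⁻¹
  zeta_mem : ζ ∈ d.Zc p
  zeta_order : orderOf ζ = p
  moved : b * w * b⁻¹ = w * ζ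
  generated : d.P p ≤ zpowers w ⊔ zpowers b ⊔ d.Zc p
  /-- The centres are inverted by the reflections and central in the core. -/
  centre : ∀ r : ℕ, r.Prime → r ≠ 2 → ∀ z ∈ d.Zc r,
    (∀ i, d.u i * z * (d.u i)⁻¹ = z⁻¹) ∧ ∀ x ∈ d.O, x * z = z * x
  others : ∀ r : ℕ, r.Prime → r ≠ 2 → r ≠ p → d.P r ≤ d.Zc r

end Data

end Cfsg.Agent.GW.Bender
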