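import Cfsg.Agent.Lib.GW.BenderComponentDefs
import Cfsg.Agent.Lib.Components.LocalBalance
import Cfsg.Agent.Lib.Involutions.DihedralEmbedding
import Cfsg.Agent.S2119

/-!
# The dihedral Sylow theorem: components of type `A₇`

If the largest perfect subgroup `E` of a proper subgroup `B` is `A₇` modulo its odd core, then
`B = E C_B(E)`, all involutions of `B` lie in `E`, and for an involution `t` of `E` some involution
of `E` centralizing `t` centralizes all odd-order elements of `C_B(t)`.
-/

set_option autoImplicit false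
set_option linter.style.haveILetI false

namespace Cfsg.Agent.GW.Bender

open Subgroup Cfsg.Agent.GW.Overgroups Equiv Equiv.Perm
open scoped commutatorElement

universe u

variable {G : Type u} [Group G] [Finite G]

namespace AltSeven

/-- The points moved by `(0 1)(2 3)`. -/
def lo : Fin 4 → Fin 7 := ![0, 1, 2, 3]

/-- The points fixed by `(0 1)(2 3)`. -/
def hi : Fin 3 → Fin 7 := ![4, 5, 6]

/-- The maps commuting with `(0 1)(2 3)`, given by their values. -/
def cand (a b : Fin 4) (c d e : Fin 3) : Fin 7 → Fin 7 :=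
  ![lo a, (swap 0 1 * swap 2 3 : Perm (Fin 7)) (lo a), lo b,
    (swap 0 1 * swap 2 3 : Perm (Fin 7)) (lo b), hi c, hi d, hi e]

theorem cand_facts : ∀ a b c d e, Function.Injective (cand a b c d e) →
    (∀ i, (cand a b c d e)^[12] i = i) ∧
      ((∀ i, (cand a b c d e)^[3] i = i) → ∀ i, cand a b c d e ((swap 0 2 * swap 1 3 : Perm (Fin 7)) i) =
        (swap 0 2 * swap 1 3 : Perm (Fin 7)) (cand a b c d e i)) := by
  decide +kernel

/-- The centralizer of `(0 1)(2 3)` in the symmetric group of degree seven. -/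
theorem centralizer_facts (x : Perm (Fin 7))
    (hx : x * (swap 0 1 * swap 2 3) = swap 0 1 * swap 2 3 * x) :
    x ^ 12 = 1 ∧ (x * x * x = 1 → x * (swap 0 2 * swap 1 3) = swap 0 2 * swap 1 3 * x) := by
  set τ : Perm (Fin 7) := swap 0 1 * swap 2 3 with hτ
  have hc : ∀ i, x (τ i) = τ (x i) := fun i => DFunLike.congr_fun hx i
  have hlo : ∀ i, τ i ≠ i → ∃ a, i = lo a := by rw [hτ]; decide
  have hhi : ∀ i, τ i = i → ∃ a, i = hi a := by rw [hτ]; decide
  have m : ∀ i, τ i ≠ i → ∃ a, x i = lo a := fun i h => hlo _ fun h' => by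
    rw [← hc] at h'
    exact h (x.injective h')
  have f : ∀ i, τ i = i → ∃ a, x i = hi a := fun i h => hhi _ (by rw [← hc, h])
  obtain ⟨a, ha⟩ := m 0 (by rw [hτ]; decide)
  obtain ⟨b, hb⟩ := m 2 (by rw [hτ]; decide)
  obtain ⟨c, hc4⟩ := f 4 (by rw [hτ]; decide)
  obtain ⟨d, hd⟩ := f 5 (by rw [hτ]; decide)
  obtain ⟨e, he⟩ := f 6 (by rw [hτ]; decide)
  have h1 : x 1 = τ (lo a) := by
    rw [← ha, ← hc]
    exact congrArg x (by rw [hτ]; decide)
  have h3 : x 3 = τ (lo b) := by
    rw [← hb, ← hc]
    exact congrArg x (by rw [hτ]; decide)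
  have heq : (x : Fin 7 → Fin 7) = cand a b c d e := by
    funext i
    fin_cases i <;> [exact ha; exact h1; exact hb; exact h3; exact hc4; exact hd; exact he]
  obtain ⟨p12, p3⟩ := cand_facts a b c d e (heq ▸ x.injective)
  rw [← heq] at p12 p3
  refine ⟨Equiv.ext fun i => ?_, fun h => Equiv.ext fun i => ?_⟩
  · rw [Equiv.Perm.coe_pow]
    exact p12 i
  · exact p3 (fun j => DFunLike.congr_fun h j) i

/-- An involution of `A₇` is conjugate in `S₇` to `(0 1)(2 3)`. -/
theorem isConj_base {τ : Perm (Fin 7)} (h2 : orderOf τ = 2) (hs : sign τ = 1) :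
    IsConj (swap 0 1 * swap 2 3 : Perm (Fin 7)) τ := by
  rw [isConj_iff_cycleType_eq]
  have hp : Nat.Prime (orderOf τ) := by rw [h2]; exact Nat.prime_two
  obtain ⟨n, hn⟩ := cycleType_prime_order hp
  rw [h2] at hn
  have hsum : (n + 1) * 2 ≤ 7 := by
    have h := τ.support.card_le_univ
    rw [← sum_cycleType, hn, Multiset.sum_replicate, smul_eq_mul, Fintype.card_fin] at h
    exact h
  rw [sign_of_cycleType, hn, Multiset.sum_replicate, Multiset.card_replicate, smul_eq_mul] at hs
  have hn2 : n ≤ 2 := by omega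
  obtain rfl : n = 1 := by
    interval_cases n <;> first | rfl | (exfalso; revert hs; decide)
  rw [hn]
  decide

/-- A second involution centralizing the odd elements of the centralizer. -/
theorem exists_partner {τ : Perm (Fin 7)} (h2 : orderOf τ = 2) (hs : sign τ = 1) :
    ∃ ν : Perm (Fin 7), ν ∈ alternatingGroup (Fin 7) ∧ ν * ν = 1 ∧ ν ≠ 1 ∧ ν ≠ τ ∧ τ * ν = ν * τ ∧
      ∀ x : Perm (Fin 7), τ * x = x * τ → Odd (orderOf x) → x * ν = ν * x := by
  obtain ⟨c, hc⟩ := isConj_iff.1 (isConj_base h2 hs)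
  set φ := MulAut.conj c
  have hτ : φ (swap 0 1 * swap 2 3) = τ := hc
  set ν₀ : Perm (Fin 7) := swap 0 2 * swap 1 3
  refine ⟨φ ν₀, ?_, ?_, ?_, ?_, ?_, fun x hx ho => ?_⟩
  · exact (alternatingGroup.normal (α := Fin 7)).conj_mem _ (mem_alternatingGroup.2 (by decide)) c
  · rw [← map_mul, ← map_one φ]
    exact congrArg φ (by decide)
  · rw [← map_one φ]
    exact φ.injective.ne (by decide)
  · rw [← hτ]
    exact φ.injective.ne (by decide)
  · rw [← hτ, ← map_mul, ← map_mul]
    exact congrArg φ (by decide)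
  · obtain ⟨y, rfl⟩ := φ.surjective x
    rw [← hτ, ← map_mul, ← map_mul] at hx
    have hy := centralizer_facts y (φ.injective hx).symm
    rw [MulEquiv.orderOf_eq] at ho
    have h3 : orderOf y ∣ 3 := by
      have h12 : orderOf y ∣ 4 * 3 := orderOf_dvd_of_pow_eq_one hy.1
      exact ((Nat.coprime_two_right.2 ho).pow_right 2).dvd_of_dvd_mul_left h12
    have hy3 := orderOf_dvd_iff_pow_eq_one.1 h3
    rw [pow_succ, pow_two] at hy3
    rw [← map_mul, ← map_mul, hy.2 hy3]

/-- The eight products of three commuting transpositions. -/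
def eight (x : Bool × Bool × Bool) : Perm (Fin 7) :=
  (if x.1 then swap 0 1 else 1) * (if x.2.1 then swap 2 3 else 1) * (if x.2.2 then swap 4 5 else 1)

theorem eight_mul : ∀ x y, eight x * eight y = eight (xor x.1 y.1, xor x.2.1 y.2.1, xor x.2.2 y.2.2) := by
  decide +kernel

theorem eight_injective : ∀ x y, eight x = eight y → x = y := by decide +kernel

/-- An elementary abelian group of order eight in the symmetric group of degree seven. -/
def eightGroup : Subgroup (Perm (Fin 7)) where
  carrier := Set.range eight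
  one_mem' := ⟨(false, false, false), by decide⟩
  mul_mem' := by
    rintro _ _ ⟨x, rfl⟩ ⟨y, rfl⟩
    exact ⟨_, (eight_mul x y).symm⟩
  inv_mem' := by
    rintro _ ⟨x, rfl⟩
    refine ⟨x, eq_inv_of_mul_eq_one_left ?_⟩
    rw [eight_mul]
    rcases x with ⟨a, b, c⟩
    cases a <;> cases b <;> cases c <;> decide

theorem eightGroup_sq (y : eightGroup) : y * y = 1 := by
  obtain ⟨_, x, rfl⟩ := y
  refine Subtype.ext ?_
  show eight x * eight x = 1
  rw [eight_mul]
  rcases x with ⟨a, b, c⟩
  cases a <;> cases b <;> cases c <;> decide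

theorem card_eightGroup : Nat.card eightGroup = 8 := by
  have : (eightGroup : Set (Perm (Fin 7))) = Set.range eight := rfl
  show Nat.card (Set.range eight) = 8
  rw [Nat.card_range_of_injective eight_injective]
  simp

end AltSeven

/-- No elementary abelian subgroup of order eight. -/
theorem Data.card_le_four (d : Data G) {Q : Subgroup G} (h : ∀ x : Q, x * x = 1) : Nat.card Q ≤ 4 := by
  obtain ⟨f, hf⟩ := Involutions.DihedralSylow.exists_embedding d.S
    (Q := Q) (fun x => ⟨1, by rw [pow_one, pow_two, h x]⟩) d.e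
  exact Involutions.DihedralEmbedding.card_le_four f hf d.dvd d.ne_zero h

/-- The action of a proper subgroup on its component of type `A₇`. -/
theorem alt_action (d : Data G) (hknown : KnownProper G) {B : Subgroup G} (hB : B ≠ ⊤)
    (hlayer : Cfsg.layer B ≠ ⊥) (hpsl : ¬ IsPSLType B) :
    ∃ ψ : B →* Perm (Fin 7), (∀ x : B, Perm.sign (ψ x) = 1) ∧
      (∀ σ ∈ alternatingGroup (Fin 7), ∃ e : B, (e : G) ∈ maxPerfect B ∧ ψ e = σ) ∧
      Odd (Nat.card ψ.ker) ∧
      (∀ x : B, ψ x = 1 → ∀ e ∈ maxPerfect B, (x : G) * e = e * x) := by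
  have hgen : Cfsg.generalizedFittingSubgroup B ≠ Cfsg.fittingSubgroup B := by
    intro h
    refine hlayer ?_
    have hle : Cfsg.layer B ≤ Cfsg.fittingSubgroup B := h ▸ le_sup_left
    haveI : Group.IsNilpotent (Cfsg.fittingSubgroup B) := Cores.fittingSubgroup_isNilpotent
    refine eq_bot_of_perfect Components.Basic.commutator_layer_self ?_
    exact Group.isSolvable_of_isSolvable_injective (f := Subgroup.inclusion hle)
      (Subgroup.inclusion_injective hle)
  obtain ⟨hE1, hOE, -⟩ := component_structure hknown hB hgen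
  set E := maxPerfect B with hEdef
  have hEB : E ≤ B := maxPerfect_le B
  have hEtop : E ≠ ⊤ := fun h => hB (top_le_iff.1 (h.symm.le.trans hEB))
  obtain ⟨f⟩ : Nonempty (E ⧸ Cfsg.oddCore E ≃* alternatingGroup (Fin 7)) :=
    (hknown E hEtop hE1 (maxPerfect_perfect B)).resolve_left hpsl
  haveI : (Cfsg.oddCore E).Normal := Cores.pPrimeCore_normal 2
  -- the centre of `E` is its odd core
  have hcen : Subgroup.center E = Cfsg.oddCore E := by
    refine le_antisymm (fun z hz => ?_) fun z hz => mem_center_iff.2 fun e => Subtype.ext ?_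
    · have hzc : f (QuotientGroup.mk z) ∈ Subgroup.center (alternatingGroup (Fin 7)) := by
        refine mem_center_iff.2 fun y => ?_
        obtain ⟨q, rfl⟩ := f.surjective y
        obtain ⟨e, rfl⟩ := QuotientGroup.mk_surjective q
        rw [← map_mul, ← map_mul, ← QuotientGroup.mk_mul, ← QuotientGroup.mk_mul,
          mem_center_iff.1 hz e]
      rw [alternatingGroup.center_eq_bot (α := Fin 7) (by simp), mem_bot,
        MulEquiv.map_eq_one_iff] at hzc
      exact (QuotientGroup.eq_one_iff z).1 hzc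
    · exact mem_centralizer_iff.1 (hOE ⟨z, hz, rfl⟩) e e.2
  -- the action
  set f' : E ⧸ Subgroup.center E ≃* alternatingGroup (Fin 7) :=
    (QuotientGroup.quotientMulEquivOfEq hcen).trans f with hf'
  set ι := MulEquiv.ofBijective
    (MulAut.conjNormal : Perm (Fin 7) →* MulAut (alternatingGroup (Fin 7)))
    (S2119.result 7 (by norm_num) (by norm_num)) with hι
  set act := Components.LocalBalance.actQuot E with hact
  set ψ : B →* Perm (Fin 7) := ι.symm.toMonoidHom.comp ((MulAut.congr f').toMonoidHom.comp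
    (act.comp (Subgroup.inclusion (le_normalizer_maxPerfect B)))) with hψ
  have hψE : ∀ e : E, ψ ⟨e, hEB e.2⟩ = (f' (QuotientGroup.mk e) : Perm (Fin 7)) := by
    intro e
    show ι.symm (MulAut.congr f' (act _)) = _
    rw [MulEquiv.symm_apply_eq]
    refine MulEquiv.ext fun a => Subtype.ext ?_
    obtain ⟨q, rfl⟩ := f'.surjective a
    obtain ⟨l, rfl⟩ := QuotientGroup.mk_surjective q
    rw [hι, MulEquiv.ofBijective_apply, MulAut.conjNormal_apply, ← Subgroup.coe_inv, ← map_inv,
      ← Subgroup.coe_mul, ← map_mul, ← Subgroup.coe_mul, ← map_mul]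
    refine congrArg Subtype.val ?_
    show f' (act _ (f'.symm (f' (QuotientGroup.mk l)))) = _
    rw [f'.symm_apply_apply, hact, Components.LocalBalance.actQuot_apply]
    rfl
  have hker : ∀ x : B, ψ x = 1 → ∀ e ∈ E, (x : G) * e = e * x := by
    intro x hx
    have hx' : act (Subgroup.inclusion (le_normalizer_maxPerfect B) x) = 1 := by
      have h1 : ι.symm (MulAut.congr f' (act (Subgroup.inclusion (le_normalizer_maxPerfect B) x))) = 1 := hx
      rw [MulEquiv.map_eq_one_iff] at h1
      exact (MulEquiv.map_eq_one_iff (MulAut.congr f')).1 h1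
    have hbot : ⁅E, zpowers (x : G)⁆ = ⊥ := by
      refine Components.Basic.commutator_eq_bot_of_perfect (maxPerfect_perfect B) ?_
      rw [commutator_eq_bot_iff_le_centralizer]
      refine commutator_le.2 ?_
      rintro l hl _ ⟨n, rfl⟩
      set g := Subgroup.inclusion (le_normalizer_maxPerfect B) x
      have hn : act (g ^ n) = 1 := by rw [map_zpow, hx', one_zpow]
      have h := congrArg
        (fun φ : MulAut (E ⧸ Subgroup.center E) => φ (QuotientGroup.mk ⟨l⁻¹, inv_mem hl⟩)) hn
      simp only [hact, Components.LocalBalance.actQuot_apply, MulAut.one_apply] at h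
      rw [eq_comm, QuotientGroup.eq, mem_center_iff] at h
      refine mem_centralizer_iff.2 fun a ha => ?_
      have h' := congrArg Subtype.val (h ⟨a, ha⟩)
      simp only [Subgroup.coe_mul, Subgroup.coe_inv, SubgroupClass.coe_zpow, inv_inv] at h'
      show a * ⁅l, (x : G) ^ n⁆ = ⁅l, (x : G) ^ n⁆ * a
      simp only [commutatorElement_def]
      have hg : ((g : normalizer (E : Set G)) : G) = x := rfl
      rw [hg] at h'
      simp only [mul_assoc] at h' ⊢
      exact h'
    intro e he
    exact (mem_centralizer_iff.1 (commutator_eq_bot_iff_le_centralizer.1 hbot he) x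
      (mem_zpowers _))
  have hsurj : ∀ σ ∈ alternatingGroup (Fin 7), ∃ e : B, (e : G) ∈ E ∧ ψ e = σ := by
    intro σ hσ
    obtain ⟨q, hq⟩ := f'.surjective ⟨σ, hσ⟩
    obtain ⟨e, rfl⟩ := QuotientGroup.mk_surjective q
    exact ⟨⟨e, hEB e.2⟩, e.2, by rw [hψE, hq]⟩
  have hfix : ∀ x : B, (x : G) ∈ E → ψ x = 1 → Odd (orderOf (x : G)) := by
    intro x hxE hx
    have h1 := hψE ⟨x, hxE⟩
    rw [show (⟨((⟨x, hxE⟩ : E) : G), hEB hxE⟩ : B) = x from rfl, hx] at h1
    have h2 : f' (QuotientGroup.mk (⟨x, hxE⟩ : E)) = 1 := Subtype.ext h1.symm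
    rw [MulEquiv.map_eq_one_iff, QuotientGroup.eq_one_iff, hcen] at h2
    rw [← Subgroup.orderOf_mk (x : G) hxE]
    exact Cores.oddCore_odd.of_dvd_nat (Subgroup.orderOf_dvd_natCard _ h2)
  -- the kernel is odd
  have hodd : Odd (Nat.card ψ.ker) := by
    rw [← Nat.not_even_iff_odd]
    intro hev
    haveI : Fact (Nat.Prime 2) := ⟨Nat.prime_two⟩
    obtain ⟨⟨c, hc⟩, hc2⟩ := exists_prime_orderOf_dvd_card' (G := ψ.ker) 2 (even_iff_two_dvd.1 hev)
    rw [Subgroup.orderOf_mk] at hc2
    rw [MonoidHom.mem_ker] at hc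
    -- a four-group of `E` on which `ψ` is injective
    have lift : ∀ σ ∈ alternatingGroup (Fin 7), σ * σ = 1 →
        ∃ a : B, (a : G) ∈ E ∧ a * a = 1 ∧ ψ a = σ := by
      intro σ hσ hσ2
      obtain ⟨e, he, hes⟩ := hsurj σ hσ
      obtain ⟨k, r, hr, hn⟩ := Nat.exists_eq_two_pow_mul_odd (orderOf_pos e).ne'
      refine ⟨e ^ r, by rw [SubmonoidClass.coe_pow]; exact pow_mem he r, ?_, ?_⟩
      · have h1 : ψ (e ^ r * e ^ r) = 1 := by
          rw [map_mul, map_pow, hes, ← pow_add, ← two_mul, pow_mul, pow_two, hσ2, one_pow]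
        have h2 := hfix _ (by push_cast; exact mul_mem (pow_mem he r) (pow_mem he r)) h1
        rw [Subgroup.orderOf_coe] at h2
        have h3 : orderOf (e ^ r * e ^ r) ∣ 2 ^ k := by
          refine orderOf_dvd_of_pow_eq_one ?_
          rw [← pow_add, ← pow_mul, show (r + r) * 2 ^ k = (2 ^ k * r) * 2 by ring, pow_mul, ← hn,
            pow_orderOf_eq_one, one_pow]
        exact orderOf_eq_one_iff.1 (Nat.eq_one_of_dvd_coprimes
          ((Nat.coprime_two_right.2 h2).pow_right k) dvd_rfl h3)
      · rw [map_pow, hes]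
        obtain ⟨j, rfl⟩ := hr
        rw [pow_succ, pow_mul, pow_two, hσ2, one_pow, one_mul]
    obtain ⟨a, haE, ha2, hat⟩ := lift (swap 0 1 * swap 2 3) (mem_alternatingGroup.2 (by decide))
      (by decide)
    obtain ⟨b, hbE, hb2, hbt⟩ := lift (swap 0 2 * swap 1 3) (mem_alternatingGroup.2 (by decide))
      (by decide)
    have hab : Commute a b := by
      set z := a * b * a * b with hz
      have hzE : (z : G) ∈ E := by rw [hz]; push_cast; exact mul_mem (mul_mem (mul_mem haE hbE) haE) hbE
      have hψz : ψ z = 1 := by rw [hz, map_mul, map_mul, map_mul, hat, hbt]; decide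
      have hzo := hfix z hzE hψz
      have hza : a * z = z * a :=
        Subtype.ext (hker z hψz a haE).symm
      have hinv : z * (a * z * a) = 1 := by
        rw [hz, show a * b * a * b * (a * (a * b * a * b) * a) = a * b * a * (b * (a * a) * b) * a * b * a
          by simp only [mul_assoc], ha2, mul_one, hb2, mul_one,
          show a * b * a * a * b * a = a * (b * (a * a) * b) * a by simp only [mul_assoc], ha2, mul_one,
          hb2, mul_one, ha2]
      clear_value z
      rw [hza, mul_assoc z a a, ha2, mul_one] at hinv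
      have hz1 : (z : G) = 1 := Data.eq_one_of_odd hzo
        (eq_inv_of_mul_eq_one_left (congrArg Subtype.val hinv))
      have : a * b * a * b = 1 := hz ▸ Subtype.ext hz1
      calc a * b = (a * b * a * b) * (b⁻¹ * a⁻¹) := by group
        _ = b⁻¹ * a⁻¹ := by rw [this, one_mul]
        _ = b * a := by rw [inv_eq_of_mul_eq_one_right ha2, inv_eq_of_mul_eq_one_right hb2]
    have hc2' : c * c = 1 := by rw [← pow_two, ← hc2, pow_orderOf_eq_one]
    have hc1 : c ≠ 1 := fun h => by rw [h, orderOf_one] at hc2; norm_num at hc2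
    have hca : Commute c a := Subtype.ext (hker c hc a haE)
    have hcb : Commute c b := Subtype.ext (hker c hc b hbE)
    let el : Bool × Bool × Bool → B := fun x =>
      (if x.1 then c else 1) * ((if x.2.1 then a else 1) * (if x.2.2 then b else 1))
    have hmul : ∀ x y, el x * el y = el (xor x.1 y.1, xor x.2.1 y.2.1, xor x.2.2 y.2.2) := by
      have h1 : ∀ {g : B}, g * g = 1 → ∀ p q : Bool,
          (if p then g else 1) * (if q then g else 1) = if xor p q then g else 1 := by
        intro g hg p q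
        cases p <;> cases q <;> simp [hg]
      have hC : ∀ {g h : B}, Commute g h → ∀ p q : Bool,
          Commute (if p then g else 1) (if q then h else 1) := by
        intro g h hgh p q
        cases p <;> cases q <;> simp [hgh]
      rintro ⟨x1, x2, x3⟩ ⟨y1, y2, y3⟩
      simp only [el]
      rw [((hC hca y1 x2).mul_right (hC hcb y1 x3)).symm.mul_mul_mul_comm,
        (hC hab.symm x3 y2).mul_mul_mul_comm, h1 hc2', h1 ha2, h1 hb2]
    have hel1 : el (false, false, false) = 1 := by simp [el]
    have hinj : Function.Injective el := by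
      intro x y h
      have h' := congrArg ψ h
      rcases x with ⟨x1, x2, x3⟩
      rcases y with ⟨y1, y2, y3⟩
      simp only [el, map_mul] at h'
      simp only [apply_ite ψ, map_one, hc, hat, hbt, ite_self, one_mul] at h'
      have key : ∀ p q p' q' : Bool,
          (if p then (swap 0 1 * swap 2 3 : Perm (Fin 7)) else 1) *
            (if q then swap 0 2 * swap 1 3 else 1) =
          (if p' then swap 0 1 * swap 2 3 else 1) * (if q' then swap 0 2 * swap 1 3 else 1) →
          p = p' ∧ q = q' := by decide +kernel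
      obtain ⟨rfl, rfl⟩ := key _ _ _ _ h'
      simp only [el, mul_left_inj] at h
      cases x1 <;> cases y1 <;> first | rfl | exact absurd h hc1 | exact absurd h.symm hc1
    let Q : Subgroup B :=
      { carrier := Set.range el
        one_mem' := ⟨_, hel1⟩
        mul_mem' := by
          rintro _ _ ⟨x, rfl⟩ ⟨y, rfl⟩
          exact ⟨_, (hmul x y).symm⟩
        inv_mem' := by
          rintro _ ⟨x, rfl⟩
          refine ⟨x, eq_inv_of_mul_eq_one_left ?_⟩
          rw [hmul]
          simp [el] }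
    have hQ : ∀ y : Q.map B.subtype, y * y = 1 := by
      rintro ⟨_, _, ⟨x, rfl⟩, rfl⟩
      refine Subtype.ext ?_
      show ((el x : B) : G) * el x = 1
      rw [← Subgroup.coe_mul, hmul]
      simp [el]
    have h8 : Nat.card Q = 8 := by
      show Nat.card (Set.range el) = 8
      rw [Nat.card_range_of_injective hinj]
      simp
    have := d.card_le_four hQ
    rw [Subgroup.card_map_of_injective B.subtype_injective, h8] at this
    omega
  refine ⟨ψ, fun x => ?_, hsurj, hodd, hker⟩
  -- the image is not the symmetric group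
  by_contra hx
  have hrange : ψ.range = ⊤ := by
    refine eq_top_iff.2 fun σ _ => ?_
    by_cases hσ : σ ∈ alternatingGroup (Fin 7)
    · obtain ⟨e, -, he⟩ := hsurj σ hσ
      exact ⟨e, he⟩
    · obtain ⟨e, -, he⟩ := hsurj (σ * ψ x) ((Subgroup.mul_mem_iff_of_index_two
        alternatingGroup.index_eq_two).2 (iff_of_false hσ fun h => hx (mem_alternatingGroup.1 h)))
      exact ⟨e * x⁻¹, by rw [map_mul, he, map_inv, mul_inv_cancel_right]⟩
  haveI : Fact (Nat.Prime 2) := ⟨Nat.prime_two⟩
  set R := AltSeven.eightGroup.comap ψ with hR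
  let P : Sylow 2 R := default
  have hinjP : ∀ y : (P : Subgroup R), ψ (y : R) = 1 → y = 1 := by
    intro y hy
    have h1 : Odd (orderOf ((y : R) : B)) :=
      hodd.of_dvd_nat (Subgroup.orderOf_dvd_natCard _ (MonoidHom.mem_ker.2 hy))
    obtain ⟨k, hk⟩ := IsPGroup.iff_orderOf.1 P.2 y
    rw [Subgroup.orderOf_coe, Subgroup.orderOf_coe, hk] at h1
    refine orderOf_eq_one_iff.1 ?_
    rcases k with _ | k
    · rw [hk, pow_zero]
    · exact absurd h1 (by simp [Nat.odd_pow_iff, parity_simps])
  have hQ : ∀ y : ((P : Subgroup R).map R.subtype).map B.subtype, y * y = 1 := by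
    rintro ⟨_, _, ⟨y, hy, rfl⟩, rfl⟩
    refine Subtype.ext ?_
    have hmem : ψ (y : B) ∈ AltSeven.eightGroup := y.2
    have hsq : ψ (y : B) * ψ (y : B) = 1 := by
      have := AltSeven.eightGroup_sq ⟨ψ (y : B), hmem⟩
      exact congrArg (fun z : AltSeven.eightGroup => (z : Perm (Fin 7))) this
    have h1 : (⟨y, hy⟩ : (P : Subgroup R)) * ⟨y, hy⟩ = 1 := by
      apply hinjP
      rw [Subgroup.coe_mul, Subgroup.coe_mul, map_mul]
      exact hsq
    have h2 : y * y = 1 := congrArg Subtype.val h1
    show ((y : B) : G) * ((y : B) : G) = 1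
    rw [← Subgroup.coe_mul, ← Subgroup.coe_mul, h2, OneMemClass.coe_one, OneMemClass.coe_one]
  have h8 : 8 ∣ Nat.card R := by
    let ρ : R →* AltSeven.eightGroup := (ψ.comp R.subtype).codRestrict _ fun y => y.2
    have hs : Function.Surjective ρ := by
      rintro ⟨σ, hσ⟩
      obtain ⟨e, he⟩ : σ ∈ ψ.range := hrange ▸ mem_top σ
      exact ⟨⟨e, show ψ e ∈ AltSeven.eightGroup by rw [he]; exact hσ⟩, Subtype.ext he⟩
    rw [← AltSeven.card_eightGroup]
    exact Subgroup.card_dvd_of_surjective ρ hs
  have h8P : 8 ∣ Nat.card (P : Subgroup R) :=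
    P.pow_dvd_card_of_pow_dvd_card (n := 3) h8
  have h4 := d.card_le_four hQ
  rw [Subgroup.card_map_of_injective B.subtype_injective,
    Subgroup.card_map_of_injective R.subtype_injective] at h4
  have := Nat.le_of_dvd Nat.card_pos h8P
  omega

/-- The facts about a component of type `A₇`. -/
theorem alt_facts (d : Data G) (hknown : KnownProper G) {B : Subgroup G} (hB : B ≠ ⊤)
    (hlayer : Cfsg.layer B ≠ ⊥) (hpsl : ¬ IsPSLType B) :
    (∀ v ∈ B, orderOf v = 2 → v ∈ maxPerfect B) ∧
      ∀ t ∈ maxPerfect B, orderOf t = 2 →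
        ∃ v ∈ maxPerfect B, orderOf v = 2 ∧ v ≠ t ∧ t * v = v * t ∧
          ∀ x ∈ B, t * x = x * t → Odd (orderOf x) → v * x = x * v := by
  obtain ⟨ψ, hsign, hsurj, hodd, hker⟩ := alt_action d hknown hB hlayer hpsl
  set E := maxPerfect B with hEdef
  have hEB : E ≤ B := maxPerfect_le B
  have hone : ∀ x : B, ψ x = 1 → Odd (orderOf (x : G)) := fun x hx => by
    rw [Subgroup.orderOf_coe]
    exact hodd.of_dvd_nat (Subgroup.orderOf_dvd_natCard _ (MonoidHom.mem_ker.2 hx))
  have hcomm : ∀ a x : B, (a : G) ∈ E → a * a = 1 → ψ x * ψ a = ψ a * ψ x →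
      (a : G) * x = x * a := by
    intro a x haE ha h
    set z := x * a * x⁻¹ * a with hz
    have hψz : ψ z = 1 := by
      rw [hz, map_mul, map_mul, map_mul, h, map_inv, mul_inv_cancel_right, ← map_mul, ha, map_one]
    have hzE : (z : G) ∈ E := by
      rw [hz]
      push_cast
      exact mul_mem ((mem_normalizer_iff.1 (le_normalizer_maxPerfect B x.2) _).1 haE) haE
    have hza : a * z = z * a := Subtype.ext (hker z hψz a haE).symm
    have hinv : z * (a * z * a) = 1 := by
      rw [hz, show x * a * x⁻¹ * a * (a * (x * a * x⁻¹ * a) * a) =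
        x * a * x⁻¹ * (a * a) * x * a * x⁻¹ * (a * a) by simp only [mul_assoc], ha, mul_one, mul_one,
        show x * a * x⁻¹ * x * a * x⁻¹ = x * (a * (x⁻¹ * x) * a) * x⁻¹ by simp only [mul_assoc],
        inv_mul_cancel, mul_one, ha, mul_one, mul_inv_cancel]
    clear_value z
    rw [hza, mul_assoc z a a, ha, mul_one] at hinv
    have hz1 : z = 1 := Subtype.ext (Data.eq_one_of_odd (hone z hψz)
      (eq_inv_of_mul_eq_one_left (congrArg Subtype.val hinv)))
    rw [hz, mul_eq_one_iff_eq_inv, inv_eq_of_mul_eq_one_right ha, mul_inv_eq_iff_eq_mul] at hz1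
    exact congrArg Subtype.val hz1.symm
  refine ⟨fun v hv hv2 => ?_, fun t htE ht2 => ?_⟩
  · obtain ⟨e, heE, he⟩ := hsurj (ψ ⟨v, hv⟩) (mem_alternatingGroup.2 (hsign _))
    set c := e⁻¹ * ⟨v, hv⟩ with hc
    have hψc : ψ c = 1 := by rw [hc, map_mul, map_inv, he, inv_mul_cancel]
    have hce : Commute (c : G) e := hker c hψc e heE
    have hvec : v = e * c := by rw [hc]; simp
    have hsq : (c : G) ^ 2 ∈ E := by
      have h1 : v ^ 2 = 1 := by rw [← hv2, pow_orderOf_eq_one]
      rw [hvec, hce.symm.mul_pow] at h1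
      rw [eq_inv_of_mul_eq_one_right h1]
      exact inv_mem (pow_mem heE 2)
    obtain ⟨j, hj⟩ := hone c hψc
    have hcE : (c : G) ∈ E := by
      have h1 : (c : G) = ((c : G) ^ 2) ^ (j + 1) := by
        rw [← pow_mul, show 2 * (j + 1) = orderOf (c : G) + 1 by omega, pow_succ, pow_orderOf_eq_one,
          one_mul]
      rw [h1]
      exact pow_mem hsq _
    rw [hvec]
    exact mul_mem heE hcE
  · set t' : B := ⟨t, hEB htE⟩
    have hτ : orderOf (ψ t') = 2 := by
      refine orderOf_eq_prime ?_ fun h => ?_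
      · rw [← map_pow, show t' ^ 2 = 1 from Subtype.ext (by
          rw [SubmonoidClass.coe_pow, ← ht2]; exact pow_orderOf_eq_one t), map_one]
      · have := hone t' h
        rw [show orderOf (t' : G) = 2 from ht2] at this
        exact absurd this (by decide)
    obtain ⟨ν, hνA, hν2, hν1, hντ, hτν, hνx⟩ := AltSeven.exists_partner hτ (hsign t')
    obtain ⟨e, heE, he⟩ := hsurj ν hνA
    obtain ⟨k, r, hr, hn⟩ := Nat.exists_eq_two_pow_mul_odd (orderOf_pos e).ne'
    set v := e ^ r with hv
    have hvE : (v : G) ∈ E := by rw [hv, SubmonoidClass.coe_pow]; exact pow_mem heE r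
    have hψv : ψ v = ν := by
      rw [hv, map_pow, he]
      obtain ⟨j, rfl⟩ := hr
      rw [pow_succ, pow_mul, pow_two, hν2, one_pow, one_mul]
    have hv2 : v * v = 1 := by
      have h1 := hone (v * v) (by rw [map_mul, hψv, hν2])
      rw [Subgroup.orderOf_coe] at h1
      have h3 : orderOf (v * v) ∣ 2 ^ k := by
        refine orderOf_dvd_of_pow_eq_one ?_
        rw [hv, ← pow_add, ← pow_mul, show (r + r) * 2 ^ k = (2 ^ k * r) * 2 by ring, pow_mul, ← hn,
          pow_orderOf_eq_one, one_pow]
      exact orderOf_eq_one_iff.1 (Nat.eq_one_of_dvd_coprimes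
        ((Nat.coprime_two_right.2 h1).pow_right k) dvd_rfl h3)
    refine ⟨v, hvE, ?_, ?_, ?_, fun x hxB htx hxo => ?_⟩
    · rw [Subgroup.orderOf_coe]
      exact orderOf_eq_prime (by rw [pow_two, hv2]) fun h => hν1 (by rw [← hψv, h, map_one])
    · intro h
      exact hντ (by rw [← hψv, show v = t' from Subtype.ext h])
    · refine (hcomm v t' hvE hv2 ?_).symm
      rw [hψv]
      exact hτν
    · refine hcomm v ⟨x, hxB⟩ hvE hv2 ?_
      rw [hψv]
      refine hνx _ ?_ ?_
      · rw [← map_mul, ← map_mul]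
        exact congrArg ψ (Subtype.ext htx)
      · refine hxo.of_dvd_nat ?_
        rw [← Subgroup.orderOf_mk x hxB]
        exact orderOf_map_dvd ψ _

/-- Everything is inner for a component of type `A₇`. -/
theorem alt_le_sup (d : Data G) (hknown : KnownProper G) {B : Subgroup G} (hB : B ≠ ⊤)
    (hlayer : Cfsg.layer B ≠ ⊥) (hpsl : ¬ IsPSLType B) :
    B ≤ maxPerfect B ⊔ oddPart B := by
  obtain ⟨ψ, hsign, hsurj, hodd, -⟩ := alt_action d hknown hB hlayer hpsl
  intro x hx
  obtain ⟨e, heE, he⟩ := hsurj (ψ ⟨x, hx⟩) (mem_alternatingGroup.2 (hsign _))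
  have hc : e⁻¹ * ⟨x, hx⟩ ∈ Cfsg.oddCore B :=
    Cores.le_oddCore hodd (MonoidHom.mem_ker.2 (by rw [map_mul, map_inv, he, inv_mul_cancel]))
  have := mul_mem (mem_sup_left (T := oddPart B) heE) (mem_sup_right (S := maxPerfect B) ⟨_, hc, rfl⟩)
  simpa using this

end Cfsg.Agent.GW.Bender
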