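import Cfsg.Agent.Lib.GW.OvergroupsPSL
import Cfsg.Agent.Lib.GW.PSLFieldPart

/-!
# The component of type `PSL₂(q)`: facts inside `PSL₂(q)` and its automorphism group
-/

set_option autoImplicit false
set_option linter.unusedSectionVars false

namespace Cfsg.Agent.GW.ComponentPSL

open Matrix
open scoped MatrixGroups commutatorElement
open Cfsg.Agent.AutPSL

universe u

variable {F : Type u} [Field F] [Fintype F]

local notation "M2" => Matrix (Fin 2) (Fin 2) F
local notation "PG" => Matrix.ProjectiveSpecialLinearGroup (Fin 2) F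
local notation "π" => Forms.KleinPSL.pi F
local notation "gA" => AutPSL.Basic.gAut (n := 2) (F := F)
local notation "fA" => AutPSL.Basic.fAut (n := 2) (F := F)

theorem two_ne_zero_of_odd (hodd : Odd (Fintype.card F)) : (2 : F) ≠ 0 := fun h => by
  have h4 : addOrderOf (1 : F) = 2 :=
    addOrderOf_eq_prime (by rw [two_nsmul, one_add_one_eq_two, h]) one_ne_zero
  exact Nat.not_even_iff_odd.2 hodd (even_iff_two_dvd.2 (h4 ▸ addOrderOf_dvd_card))

theorem conj_injective : Function.Injective (MulAut.conj : PG →* MulAut PG) :=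
  AutPSL.LocalBalance.conj_injective le_rfl

/-- The outer automorphism group is abelian. -/
theorem commutator_mem_inn (a b : MulAut PG) : ⁅a, b⁆ ∈ Cfsg.Inn PG := by
  obtain ⟨g, σ, rfl⟩ := AutPSL.Out.exists_decomp_two a
  obtain ⟨h, τ, rfl⟩ := AutPSL.Out.exists_decomp_two b
  set q := QuotientGroup.mk' (Cfsg.Inn PG) with hq
  set K := (gA).range.map q with hK
  obtain ⟨hcyc, hcard⟩ := AutPSL.Diag.card_diag (F := F) (n := 2) le_rfl K hK
  have hn : ((gA).range).Normal := AutPSL.Conj.range_normal le_rfl
  have hKn : K.Normal := hn.map q (QuotientGroup.mk'_surjective _)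
  have hK2 : Nat.card K ≤ 2 := by
    rw [hcard]
    exact Nat.gcd_le_left _ two_pos
  have hcen : ∀ k ∈ K, ∀ x, Commute k x := by
    intro k hk x
    by_cases hk1 : k = 1
    · rw [hk1]; exact Commute.one_left x
    have hx : x * k * x⁻¹ ∈ K := hKn.conj_mem k hk x
    have key : x * k * x⁻¹ = k := by
      by_contra hne
      have hx1 : x * k * x⁻¹ ≠ 1 := fun e => hk1 (conj_eq_one_iff.1 e)
      let f : Fin 3 → K := ![1, ⟨k, hk⟩, ⟨_, hx⟩]
      have hf : Function.Injective f := by
        intro i j hij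
        fin_cases i <;> fin_cases j <;> simp_all [f, Subtype.ext_iff, eq_comm]
      have := Nat.card_le_card_of_injective f hf
      rw [Nat.card_fin] at this
      omega
    exact (mul_inv_eq_iff_eq_mul.1 key).symm
  have hg : q (gA g) ∈ K := Subgroup.mem_map_of_mem q ⟨g, rfl⟩
  have hh : q (gA h) ∈ K := Subgroup.mem_map_of_mem q ⟨h, rfl⟩
  have hστ : Commute (q (fA σ)) (q (fA τ)) := by
    obtain ⟨p, hc⟩ := CharP.exists F
    haveI := hc
    haveI : Fact p.Prime := ⟨CharP.char_is_prime F p⟩
    obtain ⟨f, -, hf⟩ := FiniteField.card F p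
    obtain ⟨e⟩ := AutPSL.Out.exists_ringAut_equiv (F := F) hf
    have : σ * τ = τ * σ := e.injective (by rw [map_mul, map_mul, mul_comm])
    show q (fA σ) * q (fA τ) = q (fA τ) * q (fA σ)
    rw [← map_mul, ← map_mul, ← map_mul, ← map_mul, this]
  rw [← QuotientGroup.eq_one_iff]
  show q ⁅gA g * fA σ, gA h * fA τ⁆ = 1
  rw [map_commutatorElement, commutatorElement_eq_one_iff_mul_comm, map_mul, map_mul]
  exact (((hcen _ hg _).mul_left ((hcen _ hh _).symm)).mul_right
    (((hcen _ hg _)).mul_left hστ)).eq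

variable (hodd : Odd (Fintype.card F))

include hodd in
/-- Elements of odd order centralising an involution commute. -/
theorem odd_comm {t x y : PG} (ht : orderOf t = 2) (hx : Commute x t) (hy : Commute y t)
    (hxo : Odd (orderOf x)) (hyo : Odd (orderOf y)) : Commute x y := by
  have h2 := two_ne_zero_of_odd hodd
  obtain ⟨A, rfl⟩ := Forms.KleinPSL.pi_surjective t
  obtain ⟨X, rfl⟩ := Forms.KleinPSL.pi_surjective x
  obtain ⟨Y, rfl⟩ := Forms.KleinPSL.pi_surjective y
  have hA : π A ≠ 1 := fun h => by rw [h, orderOf_one] at ht; norm_num at ht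
  have key : ∀ Z : SL(2, F), Commute (π Z) (π A) → Odd (orderOf (π Z)) →
      (A : M2) * Z = (Z : M2) * A := fun Z hc ho =>
    OvergroupsPSL.comm_of_fix h2 (g := Matrix.SpecialLinearGroup.toGL A) (X := Z) (by
      rw [← OvergroupsPSL.conj_pi, MulAut.conj_apply, ← hc.eq, mul_inv_cancel_right]) ho
  have hXY : X * Y = Y * X :=
    Subtype.ext (OvergroupsPSL.comm_trans (PSLBinary.pi_ne_one.1 hA) (key X hx hxo) (key Y hy hyo))
  show π X * π Y = π Y * π X
  rw [← map_mul, hXY, map_mul]

include hodd in
/-- A four-group is centralised by no element of odd order. -/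
theorem four_odd {t v a : PG} (ht : orderOf t = 2) (hv : orderOf v = 2) (hne : v ≠ t)
    (hc : Commute v t) (hat : Commute a t) (hav : Commute a v) (ho : Odd (orderOf a)) : a = 1 := by
  have h := OvergroupsPSL.inner_inverts (two_ne_zero_of_odd hodd) ht hv hne hc hat ho
  rw [← hav.eq, mul_inv_cancel_right] at h
  have h2 : a ^ 2 = 1 := by rw [sq]; nth_rewrite 2 [h]; exact mul_inv_cancel a
  rcases (Nat.dvd_prime Nat.prime_two).1 (orderOf_dvd_of_pow_eq_one h2) with h' | h'
  · exact orderOf_eq_one_iff.1 h'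
  · rw [h'] at ho; exact absurd ho (by decide)

include hodd in
/-- A four-group is self-centralising. -/
theorem four_sq {t v a : PG} (ht : orderOf t = 2) (hv : orderOf v = 2) (hne : v ≠ t)
    (hc : Commute v t) (hat : Commute a t) (hav : Commute a v) : a * a = 1 := by
  have hh : orderOf (t * v) ∣ 2 := orderOf_dvd_of_pow_eq_one (by
    rw [hc.symm.mul_pow, sq, sq, Forms.KleinPSL.mul_self_of_order_two ht,
      Forms.KleinPSL.mul_self_of_order_two hv, one_mul])
  rcases PSLBinary.mem_four (two_ne_zero_of_odd hodd) ht hv hne.symm hc.symm hat hav with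
    rfl | rfl | rfl | rfl
  · exact one_mul 1
  · exact Forms.KleinPSL.mul_self_of_order_two ht
  · exact Forms.KleinPSL.mul_self_of_order_two hv
  · rw [← sq]; exact orderOf_dvd_iff_pow_eq_one.1 hh

include hodd in
/-- An involutory automorphism without field part other than the conjugation by `t` inverts the
elements of odd order of `C(t)`. -/
theorem inverts_torus {t x : PG} (ht : orderOf t = 2) (β : MulAut PG) (hb : orderOf β = 2)
    (hbt : β t = t) (hne : β ≠ MulAut.conj t)
    (hfour : ¬ ∃ x y : PG, orderOf x = 2 ∧ orderOf y = 2 ∧ x ≠ y ∧ Commute x y ∧ β x = x ∧ β y = y ∧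
      β ∉ Cfsg.Inn PG)
    (hx : Commute x t) (ho : Odd (orderOf x)) : β x = x⁻¹ := by
  have h2 := two_ne_zero_of_odd hodd
  by_cases hinn : β ∈ Cfsg.Inn PG
  · obtain ⟨b, rfl⟩ := hinn
    have hbo : orderOf b = 2 := by rw [← orderOf_injective _ conj_injective, hb]
    have hbc : Commute b t := mul_inv_eq_iff_eq_mul.1 hbt
    exact OvergroupsPSL.inner_inverts h2 ht hbo (fun h => hne (by rw [h])) hbc hx ho
  obtain ⟨ψ, -, hker⟩ := AutPSL.Out.exists_proj_two (F := F)
  have hψ : ∀ α, ψ α = 1 ↔ ∃ g, α = gA g := fun α => by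
    rw [← MonoidHom.mem_ker, hker]
    exact ⟨fun ⟨g, hg⟩ => ⟨g, hg.symm⟩, fun ⟨g, hg⟩ => ⟨g, hg.symm⟩⟩
  have hψβ : ψ β = 1 := by
    by_contra hn
    obtain ⟨x, y, h1, h2', h3, h4, h5, h6⟩ := OvergroupsPSL.exists_four_fixed h2 ψ hψ
      (Forms.KleinPSL.mul_self_of_order_two hb) hn
    exact hfour ⟨x, y, h1, h2', h3, h4, h5, h6, hinn⟩
  obtain ⟨g, hg⟩ := (hψ β).1 hψβ
  obtain ⟨A, rfl, hA⟩ := OvergroupsPSL.exists_frame h2 ht g hg hb hinn hbt
  rw [hg]
  exact OvergroupsPSL.Frame.inverts h2 hA hx ho

include hodd in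
theorem centralizer_card {t : PG} (ht : orderOf t = 2) :
    (Fintype.card F % 4 = 1 → Nat.card (Subgroup.centralizer ({t} : Set PG)) = Fintype.card F - 1) ∧
      (Fintype.card F % 4 = 3 →
        Nat.card (Subgroup.centralizer ({t} : Set PG)) = Fintype.card F + 1) := by
  have h2 := two_ne_zero_of_odd hodd
  rw [PSLBinary.natCard_centralizer_invol h2 ht]
  exact Forms.KleinSL2.natCard_circ_one h2

include hodd in
theorem centralizer_cases {t : PG} (ht : orderOf t = 2) :
    Nat.card (Subgroup.centralizer ({t} : Set PG)) = Fintype.card F - 1 ∨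
      Nat.card (Subgroup.centralizer ({t} : Set PG)) = Fintype.card F + 1 := by
  obtain ⟨h1, h3⟩ := centralizer_card hodd ht
  obtain ⟨k, hk⟩ := hodd
  rcases (show Fintype.card F % 4 = 1 ∨ Fintype.card F % 4 = 3 by omega) with h | h
  exacts [Or.inl (h1 h), Or.inr (h3 h)]

include hodd in
/-- An automorphism of `p`-power order fixing `t` and the `p'`-elements of odd order of `C(t)` is
inner. -/
theorem inner_of_fix {t : PG} (ht : orderOf t = 2) {p k : ℕ} (hp : p.Prime) (hp2 : p ≠ 2)
    (β : MulAut PG) (hb : β ^ p ^ k = 1)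
    (hfix : ∀ r : ℕ, r.Prime → r ≠ 2 → r ≠ p → ∀ a : PG, orderOf a = r → Commute a t → β a = a) :
    ∃ a : PG, MulAut.conj a = β := by
  refine FieldPart.exists_conj_of_fix hp hp2 hodd β hb (centralizer_cases hodd ht) ?_
  intro r hr hr2 hrp hdvd
  haveI : Fact r.Prime := ⟨hr⟩
  obtain ⟨a, ha⟩ := exists_prime_orderOf_dvd_card' r hdvd
  have ho : orderOf (a : PG) = r := by rw [Subgroup.orderOf_coe, ha]
  exact ⟨a, ho, hfix r hr hr2 hrp a ho (Subgroup.mem_centralizer_singleton_iff.1 a.2)⟩

/-- For `q = 9` an automorphism of odd order fixing an involution is trivial. -/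
theorem nine_odd (h9 : Fintype.card F = 9) {t : PG} (ht : orderOf t = 2) (β : MulAut PG)
    (hb : Odd (orderOf β)) (hbt : β t = t) : β = 1 := by
  have hodd : Odd (Fintype.card F) := by rw [h9]; decide
  obtain ⟨ψ, -, hker⟩ := AutPSL.Out.exists_proj_two (F := F)
  haveI : Fact (Nat.Prime 3) := ⟨Nat.prime_three⟩
  have hψ : ψ β = 1 := by
    refine orderOf_eq_one_iff.1 (Nat.eq_one_of_dvd_coprimes (Nat.coprime_two_left.2 hb)
      (AutPSL.FieldCent.dvd_degree (p := 3) (f := 2) (by rw [h9]; norm_num) (ψ β))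
      (orderOf_map_dvd ψ β))
  obtain ⟨g, rfl⟩ : β ∈ (gA).range := hker ▸ MonoidHom.mem_ker.2 hψ
  obtain ⟨a, ha⟩ := OvergroupsPSL.inner_of_odd hb
  rw [ha] at hb hbt ⊢
  have hc : Commute a t := mul_inv_eq_iff_eq_mul.1 hbt
  rw [orderOf_injective _ conj_injective] at hb
  have h8 := Subgroup.orderOf_dvd_natCard (Subgroup.centralizer ({t} : Set PG))
    (Subgroup.mem_centralizer_singleton_iff.2 hc.eq)
  rw [(centralizer_card hodd ht).1 (by rw [h9]), h9] at h8
  have h1 : orderOf a = 1 := Nat.eq_one_of_dvd_coprimes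
    ((Nat.coprime_two_left.2 hb).pow_left 3) (by simpa using h8) dvd_rfl
  rw [orderOf_eq_one_iff.1 h1, map_one]

/-- The centralizer of `J` is cyclic. -/
theorem cyclic_cent_j (h2 : (2 : F) ≠ 0) :
    IsCyclic (Subgroup.centralizer ({Forms.KleinSL2.jSL} : Set SL(2, F))) := by
  classical
  let L := AlgebraicClosure F
  obtain ⟨s, hs⟩ := IsAlgClosed.exists_eq_mul_self (-1 : L)
  set C := Subgroup.centralizer ({Forms.KleinSL2.jSL} : Set SL(2, F)) with hC
  have hrep : ∀ X : C, ((X : SL(2, F)) : M2) =
      Forms.KleinSL2.cM (((X : SL(2, F)) : M2) 0 0) (((X : SL(2, F)) : M2) 1 0) := fun X => by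
    refine Forms.KleinSL2.eq_cM_of_comm ?_
    have h := (Subgroup.mem_centralizer_singleton_iff (G := SL(2, F))).1 X.2
    exact congrArg Subtype.val h
  let χ : C →* L :=
    { toFun := fun X => algebraMap F L (((X : SL(2, F)) : M2) 0 0) +
        algebraMap F L (((X : SL(2, F)) : M2) 1 0) * s
      map_one' := by simp
      map_mul' := fun X Y => by
        have e : ((X * Y : C) : SL(2, F)) = (X : SL(2, F)) * Y := rfl
        rw [e, Matrix.SpecialLinearGroup.coe_mul, hrep X, hrep Y, Forms.KleinSL2.cM_mul]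
        simp only [Forms.KleinSL2.cM, Matrix.of_apply, Matrix.cons_val', Matrix.cons_val_zero,
          Matrix.cons_val_one, Matrix.cons_val_fin_one, map_sub, map_add, map_mul]
        linear_combination algebraMap F L (((X : SL(2, F)) : M2) 1 0) *
          algebraMap F L (((Y : SL(2, F)) : M2) 1 0) * hs }
  refine isCyclic_of_subgroup_isDomain χ ((injective_iff_map_eq_one χ).2 fun X hX => ?_)
  set a := ((X : SL(2, F)) : M2) 0 0 with ha
  set b := ((X : SL(2, F)) : M2) 1 0 with hb
  have hX' : algebraMap F L a + algebraMap F L b * s = 1 := hX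
  have hd : algebraMap F L a * algebraMap F L a + algebraMap F L b * algebraMap F L b = 1 := by
    have h := (X : SL(2, F)).2
    rw [hrep X, Forms.KleinSL2.det_cM] at h
    rw [← map_mul, ← map_mul, ← map_add, h, map_one]
  have h2L : (2 : L) ≠ 0 := by
    rw [← map_ofNat (algebraMap F L) 2]
    exact fun h => h2 ((algebraMap F L).injective (h.trans (map_zero _).symm))
  have hs0 : s ≠ 0 := fun h => by simp [h] at hs
  have hb' : algebraMap F L b = 0 := by
    have h1 : algebraMap F L a - algebraMap F L b * s = 1 := by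
      linear_combination hd - (algebraMap F L a - algebraMap F L b * s) * hX' +
        algebraMap F L b * algebraMap F L b * hs
    exact (mul_eq_zero.1 (show (2 * s) * algebraMap F L b = 0 by
      linear_combination hX' - h1)).resolve_left (mul_ne_zero h2L hs0)
  have ha' : algebraMap F L a = 1 := by rw [hb', zero_mul, add_zero] at hX'; exact hX'
  refine Subtype.ext (Subtype.ext ?_)
  rw [hrep X, ← ha, ← hb, (algebraMap F L).injective (hb'.trans (map_zero _).symm),
    (algebraMap F L).injective (ha'.trans (map_one _).symm)]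
  ext i j
  fin_cases i <;> fin_cases j <;> simp [Forms.KleinSL2.cM]

include hodd in
/-- Odd subgroups of the centralizer of an involution are cyclic. -/
theorem odd_cyclic {t : PG} (ht : orderOf t = 2) (K : Subgroup PG) (hK : ∀ x ∈ K, Commute x t)
    (ho : Odd (Nat.card K)) : IsCyclic K := by
  have h2 := two_ne_zero_of_odd hodd
  obtain ⟨A, rfl⟩ := Forms.KleinPSL.pi_surjective t
  have hA := (Forms.KleinPSL.orderOf_pi_eq_two h2).1 ht
  obtain ⟨g, hg⟩ := Forms.KleinSL2.exists_conj_j h2 hA
  haveI := cyclic_cent_j (F := F) h2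
  set C := Subgroup.centralizer ({Forms.KleinSL2.jSL} : Set SL(2, F))
  let f : C →* PG := (π).comp ((MulAut.conj g).toMonoidHom.comp C.subtype)
  have hle : K ≤ f.range := by
    intro x hx
    obtain ⟨X, rfl⟩ := Forms.KleinPSL.pi_surjective x
    have hox : Odd (orderOf (π X)) :=
      ho.of_dvd_nat (Subgroup.orderOf_dvd_natCard _ hx)
    have hc : (A : M2) * X = (X : M2) * A :=
      OvergroupsPSL.comm_of_fix h2 (g := Matrix.SpecialLinearGroup.toGL A) (X := X) (by
        rw [← OvergroupsPSL.conj_pi, MulAut.conj_apply, ← (hK _ hx).eq, mul_inv_cancel_right]) hox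
    have hc' : A * X = X * A := Subtype.ext hc
    refine ⟨⟨g⁻¹ * X * g, Subgroup.mem_centralizer_singleton_iff.2 ?_⟩, ?_⟩
    · calc g⁻¹ * X * g * Forms.KleinSL2.jSL = g⁻¹ * (X * (g * Forms.KleinSL2.jSL * g⁻¹)) * g := by group
        _ = g⁻¹ * (g * Forms.KleinSL2.jSL * g⁻¹ * X) * g := by rw [hg, hc']
        _ = _ := by group
    · show π (g * (g⁻¹ * X * g) * g⁻¹) = π X
      congr 1
      group
  haveI : IsCyclic f.range := isCyclic_of_surjective f.rangeRestrict f.rangeRestrict_surjective
  exact isCyclic_of_injective (Subgroup.inclusion hle) (Subgroup.inclusion_injective hle)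

include hodd in
/-- An outer involution without field part centralises a torus of the other type. -/
theorem outer_torus (h3 : 3 < Fintype.card F) {t : PG} (ht : orderOf t = 2) (β : MulAut PG)
    (hb : orderOf β = 2) (hbt : β t = t) (hinn : β ∉ Cfsg.Inn PG)
    (hfour : ¬ ∃ x y : PG, orderOf x = 2 ∧ orderOf y = 2 ∧ x ≠ y ∧ Commute x y ∧ β x = x ∧ β y = y) :
    ∃ w : PG, β w = w ∧ t * w * t⁻¹ = w⁻¹ ∧ Odd (orderOf w) ∧
      (orderOf w).Coprime (Nat.card (Subgroup.centralizer ({t} : Set PG))) ∧
      (∀ p : ℕ, p.Prime → p ≠ 2 → p ∣ Nat.card (Subgroup.centralizer ({t} : Set PG)) →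
        p + 1 < orderOf w) ∧
      (Fintype.card F = 9 → orderOf w = 5) ∧
      ∀ f : PG, β f = f → Odd (orderOf f) → orderOf f ∣ orderOf w := by
  classical
  have h2 := two_ne_zero_of_odd hodd
  obtain ⟨ψ, -, hker⟩ := AutPSL.Out.exists_proj_two (F := F)
  have hψ : ∀ α, ψ α = 1 ↔ ∃ g, α = gA g := fun α => by
    rw [← MonoidHom.mem_ker, hker]
    exact ⟨fun ⟨g, hg⟩ => ⟨g, hg.symm⟩, fun ⟨g, hg⟩ => ⟨g, hg.symm⟩⟩
  have hψβ : ψ β = 1 := by
    by_contra hn
    exact hfour (OvergroupsPSL.exists_four_fixed h2 ψ hψ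
      (Forms.KleinPSL.mul_self_of_order_two hb) hn)
  obtain ⟨g, rfl⟩ := (hψ β).1 hψβ
  obtain ⟨A, rfl, hA⟩ := OvergroupsPSL.exists_frame h2 ht g rfl hb hinn hbt
  set d := (g : M2).det with hd
  have hd0 : d ≠ 0 := fun h0 => hA.nonsq ⟨0, by rw [mul_zero]; exact h0.symm⟩
  have htr := hA.trace
  have hgg : (g : M2) * g = (-d) • (1 : M2) := OvergroupsPSL.mul_self_of_trace _ htr
  let C : Subgroup SL(2, F) :=
    { carrier := {X | (g : M2) * X = (X : M2) * g}
      one_mem' := by simp
      mul_mem' := fun {a b} ha hb => by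
        simp only [Set.mem_ofPred_eq, Matrix.SpecialLinearGroup.coe_mul] at ha hb ⊢
        rw [← mul_assoc, ha, mul_assoc, hb, mul_assoc]
      inv_mem' := fun {a} ha => by
        simp only [Set.mem_ofPred_eq] at ha ⊢
        calc (g : M2) * ((a⁻¹ : SL(2, F)) : M2) =
            ((a⁻¹ * a : SL(2, F)) : M2) * ((g : M2) * ((a⁻¹ : SL(2, F)) : M2)) := by
              rw [inv_mul_cancel, Matrix.SpecialLinearGroup.coe_one, one_mul]
          _ = ((a⁻¹ : SL(2, F)) : M2) * ((g : M2) * ((a * a⁻¹ : SL(2, F)) : M2)) := by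
              rw [Matrix.SpecialLinearGroup.coe_mul, Matrix.SpecialLinearGroup.coe_mul,
                mul_assoc ((a⁻¹ : SL(2, F)) : M2), ← mul_assoc (a : M2), ← ha]
              simp only [mul_assoc]
          _ = _ := by rw [mul_inv_cancel, Matrix.SpecialLinearGroup.coe_one, mul_one] }
  -- `C` lies in the algebra spanned by `1` and `g`
  have hrep : ∀ X : C, ∃ a b : F, ((X : SL(2, F)) : M2) = a • (1 : M2) + b • (g : M2) := by
    intro X
    have hX : (g : M2) * ((X : SL(2, F)) : M2) = ((X : SL(2, F)) : M2) * g := X.2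
    have e00 := congrFun (congrFun hX 0) 0
    have e01 := congrFun (congrFun hX 0) 1
    have e10 := congrFun (congrFun hX 1) 0
    simp [Matrix.mul_apply, Fin.sum_univ_two] at e00 e01 e10
    set α := (g : M2) 0 0
    set β' := (g : M2) 0 1
    set γ := (g : M2) 1 0
    set x := ((X : SL(2, F)) : M2) 0 0
    set y := ((X : SL(2, F)) : M2) 0 1
    set z := ((X : SL(2, F)) : M2) 1 0
    set w := ((X : SL(2, F)) : M2) 1 1
    have g11 : (g : M2) 1 1 = -α := by linear_combination htr
    rw [g11] at e01 e10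
    rcases not_and_or.1 (OvergroupsPSL.not_scalar hA.ncent) with h | h
    · refine ⟨x - y / β' * α, y / β', ?_⟩
      have hne : β' ≠ 0 := h
      ext i j
      fin_cases i <;> fin_cases j <;> simp [g11, α, β', γ, x, y, z, w]
      · field_simp [hne]
      · field_simp [hne]
        linear_combination e00
      · field_simp [hne]
        linear_combination e01
    rcases not_and_or.1 h with h | h
    · refine ⟨x - z / γ * α, z / γ, ?_⟩
      have hne : γ ≠ 0 := h
      ext i j
      fin_cases i <;> fin_cases j <;> simp [g11, α, β', γ, x, y, z, w]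
      · field_simp [hne]
        linear_combination -e00
      · field_simp [hne]
      · field_simp [hne]
        linear_combination -e10
    · rw [g11] at h
      have hne : α ≠ 0 := fun h0 => h (show α = -α by rw [h0, neg_zero])
      refine ⟨(x + w) / 2, (x - w) / (2 * α), ?_⟩
      have k1 : (x - w) / (2 * α) * β' = y := by
        field_simp [hne, h2]
        linear_combination -e01
      have k2 : (x - w) / (2 * α) * γ = z := by
        field_simp [hne, h2]
        linear_combination e10
      have k3 : (x - w) / (2 * α) * α = (x - w) / 2 := by field_simp [hne, h2]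
      ext i j
      fin_cases i <;> fin_cases j <;>
        simp only [Fin.zero_eta, Fin.mk_one, Fin.isValue, Matrix.add_apply, Matrix.smul_apply,
          smul_eq_mul, Matrix.one_apply_eq, ne_eq, Fin.zero_ne_one, one_ne_zero, not_false_eq_true,
          Matrix.one_apply_ne, mul_zero, mul_one, zero_add, g11]
      · show x = (x + w) / 2 + (x - w) / (2 * α) * α
        rw [k3]; field_simp; ring
      · exact k1.symm
      · exact k2.symm
      · show w = (x + w) / 2 + (x - w) / (2 * α) * -α
        rw [mul_neg, k3]; field_simp; ring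
  choose ca cb hcab using hrep
  have huniq : ∀ a b a' b' : F, a • (1 : M2) + b • (g : M2) = a' • (1 : M2) + b' • (g : M2) →
      a = a' ∧ b = b' := by
    intro a b a' b' h
    have e1 := congrArg Matrix.trace h
    have e2 := congrArg (fun X : M2 => (X * (g : M2)).trace) h
    simp only [add_mul, Matrix.smul_mul, one_mul, hgg, smul_smul, trace_add, trace_smul,
      trace_fin_two, smul_eq_mul, Matrix.one_apply_eq, htr, mul_zero, add_zero, zero_add] at e1 e2
    refine ⟨mul_right_cancel₀ h2 (by linear_combination e1), ?_⟩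
    exact mul_right_cancel₀ (mul_ne_zero h2 (neg_ne_zero.2 hd0)) (by linear_combination e2)
  let L := AlgebraicClosure F
  obtain ⟨s, hs⟩ := IsAlgClosed.exists_eq_mul_self (algebraMap F L (-d))
  let χ : C →* L :=
    { toFun := fun X => algebraMap F L (ca X) + algebraMap F L (cb X) * s
      map_one' := by
        obtain ⟨h1, h0⟩ := huniq (ca 1) (cb 1) 1 0 (by rw [← hcab]; simp)
        rw [h1, h0]; simp
      map_mul' := fun X Y => by
        obtain ⟨h1, h0⟩ := huniq (ca (X * Y)) (cb (X * Y)) (ca X * ca Y + cb X * cb Y * (-d))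
          (ca X * cb Y + cb X * ca Y) (by
          rw [← hcab, Subgroup.coe_mul, Matrix.SpecialLinearGroup.coe_mul, hcab X, hcab Y]
          simp only [add_mul, mul_add, Matrix.smul_mul, Matrix.mul_smul, one_mul, mul_one, hgg,
            smul_smul]
          module)
        rw [h1, h0]
        simp only [map_add, map_mul, hs]
        ring }
  have h2L : (2 : L) ≠ 0 := by
    rw [← map_ofNat (algebraMap F L) 2]
    exact fun h => h2 ((algebraMap F L).injective (h.trans (map_zero _).symm))
  have hs0 : s ≠ 0 := fun h => neg_ne_zero.2 hd0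
    ((algebraMap F L).injective (by rw [hs, h, mul_zero, map_zero]))
  have hdet : ∀ X : C, ca X * ca X + d * (cb X * cb X) = 1 := by
    intro X
    have h := (X : SL(2, F)).2
    rw [hcab X, det_fin_two] at h
    simp only [Matrix.add_apply, Matrix.smul_apply, smul_eq_mul, Matrix.one_apply_eq, ne_eq,
      Fin.zero_ne_one, not_false_eq_true, Matrix.one_apply_ne, mul_zero, mul_one, zero_add,
      one_ne_zero] at h
    rw [hd, det_fin_two]
    linear_combination h - ca X * cb X * htr
  have hconj : ∀ X : C, χ X * (algebraMap F L (ca X) - algebraMap F L (cb X) * s) = 1 := by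
    intro X
    have h := congrArg (algebraMap F L) (hdet X)
    simp only [map_add, map_mul, map_one] at h
    have hs' : algebraMap F L d = -(s * s) := by rw [← hs, map_neg, neg_neg]
    rw [hs'] at h
    show (algebraMap F L (ca X) + algebraMap F L (cb X) * s) * _ = 1
    linear_combination h
  have hχ : Function.Injective χ := by
    rw [injective_iff_map_eq_one]
    intro X hX
    have h := hconj X
    rw [hX, one_mul] at h
    have hX' : algebraMap F L (ca X) + algebraMap F L (cb X) * s = 1 := hX
    have hb0 : algebraMap F L (cb X) = 0 := by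
      refine (mul_eq_zero.1 (show (2 * s) * algebraMap F L (cb X) = 0 by
        linear_combination hX' - h)).resolve_left (mul_ne_zero h2L hs0)
    have ha1 : algebraMap F L (ca X) = 1 := by rw [hb0, zero_mul, add_zero] at hX'; exact hX'
    refine Subtype.ext (Subtype.ext ?_)
    rw [hcab X, (algebraMap F L).injective (hb0.trans (map_zero _).symm),
      (algebraMap F L).injective (ha1.trans (map_one _).symm)]
    simp
  haveI : IsCyclic C := isCyclic_of_subgroup_isDomain χ hχ
  -- the order of `C`
  have hcard : Fintype.card F ≤ Nat.card C + 2 := by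
    let pt : {s : F // 1 + d * (s * s) ≠ 0} → C := fun s =>
      ⟨⟨((1 - d * (s.1 * s.1)) / (1 + d * (s.1 * s.1))) • (1 : M2) +
          (2 * s.1 / (1 + d * (s.1 * s.1))) • (g : M2), by
        rw [det_fin_two]
        simp only [Matrix.add_apply, Matrix.smul_apply, smul_eq_mul, Matrix.one_apply_eq, ne_eq,
          Fin.zero_ne_one, not_false_eq_true, Matrix.one_apply_ne, mul_zero, mul_one,
          zero_add, one_ne_zero]
        have hdd : d = (g : M2) 0 0 * (g : M2) 1 1 - (g : M2) 0 1 * (g : M2) 1 0 := det_fin_two _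
        refine Eq.trans ?_ (OvergroupsPSL.param_det d s.1 s.2)
        linear_combination ((1 - d * (s.1 * s.1)) / (1 + d * (s.1 * s.1))) *
            (2 * s.1 / (1 + d * (s.1 * s.1))) * htr -
          (2 * s.1 / (1 + d * (s.1 * s.1))) * (2 * s.1 / (1 + d * (s.1 * s.1))) * hdd⟩, by
        show (g : M2) * _ = _ * (g : M2)
        simp [mul_add, add_mul]⟩
    have hinj : Function.Injective pt := by
      intro s s' e
      obtain ⟨k2, k1⟩ := huniq _ _ _ _ (congrArg (fun X : C => ((X : SL(2, F)) : M2)) e :)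
      apply Subtype.ext
      have h1 := s.2
      have h1' := s'.2
      rw [div_eq_div_iff h1 h1'] at k1 k2
      have k3 : s.1 * s.1 = s'.1 * s'.1 := by
        refine mul_left_cancel₀ (mul_ne_zero h2 hd0) ?_
        linear_combination -k2
      rw [← k3] at k1
      exact mul_left_cancel₀ h2 (mul_right_cancel₀ h1 k1)
    have h1 := Nat.card_le_card_of_injective pt hinj
    have h2' : (Finset.univ.filter fun s : F => ¬ (1 + d * (s * s) ≠ 0)).card ≤ 2 := by
      by_cases hex : ∃ s₀ : F, 1 + d * (s₀ * s₀) = 0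
      · obtain ⟨s₀, hs₀⟩ := hex
        refine (Finset.card_le_card (t := {s₀, -s₀}) fun s hs => ?_).trans Finset.card_le_two
        simp only [ne_eq, not_not, Finset.mem_filter, Finset.mem_univ, true_and] at hs
        simp only [Finset.mem_insert, Finset.mem_singleton]
        exact mul_self_eq_mul_self_iff.1 (mul_left_cancel₀ hd0 (by linear_combination hs - hs₀))
      · push Not at hex
        rw [Finset.filter_eq_empty_iff.2 fun s _ => not_not.2 (hex s), Finset.card_empty]
        exact Nat.zero_le _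
    have h3' := Finset.card_filter_add_card_filter_not (s := (Finset.univ : Finset F))
      (fun s : F => 1 + d * (s * s) ≠ 0)
    rw [Finset.card_univ] at h3'
    rw [Nat.card_eq_fintype_card, Fintype.card_subtype] at h1
    omega
  -- Frobenius on the square root
  obtain ⟨r, hr⟩ := hodd
  have hdn : ¬ IsSquare d := fun ⟨c, hc⟩ => hA.nonsq ⟨c, hc.symm⟩
  have hsq : s ^ Fintype.card F = -((-1) ^ r) * s := by
    have hpow : d ^ (Fintype.card F / 2) = -1 := by
      have hF : ringChar F ≠ 2 := fun h => h2 (by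
        haveI := ringChar.of_eq h
        exact CharTwo.two_eq_zero)
      refine (FiniteField.pow_dichotomy hF hd0).resolve_left fun h1 => hdn ?_
      exact (FiniteField.isSquare_iff hF hd0).2 h1
    rw [hr, show (2 * r + 1) / 2 = r by omega] at hpow
    rw [hr, pow_succ, pow_mul, pow_two, ← hs, ← map_pow, neg_pow, hpow]
    simp
  have hfr : ∀ X : C, χ X ^ Fintype.card F =
      algebraMap F L (ca X) + algebraMap F L (cb X) * s ^ Fintype.card F := by
    intro X
    obtain ⟨p, hc⟩ := CharP.exists F
    haveI := hc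
    haveI : Fact p.Prime := ⟨CharP.char_is_prime F p⟩
    haveI : CharP L p := charP_of_injective_algebraMap (algebraMap F L).injective p
    obtain ⟨f, -, hf⟩ := FiniteField.card F p
    show (algebraMap F L (ca X) + algebraMap F L (cb X) * s) ^ _ = _
    rw [hf, add_pow_char_pow, mul_pow, ← map_pow, ← map_pow, ← hf, FiniteField.pow_card,
      FiniteField.pow_card]
  have hexp : ∀ X : C, (Even r → χ X ^ (Fintype.card F + 1) = 1) ∧
      (Odd r → χ X ^ Fintype.card F = χ X) := by
    intro X
    refine ⟨fun he => ?_, fun ho => ?_⟩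
    · rw [pow_succ, hfr, hsq, he.neg_one_pow]
      have h := hconj X
      linear_combination h
    · rw [hfr, hsq, ho.neg_one_pow, neg_neg, one_mul]
      rfl
  obtain ⟨c, hc⟩ := IsCyclic.exists_generator (α := C)
  have hco : orderOf c = Nat.card C := orderOf_eq_card_of_forall_mem_zpowers hc
  have hNdvd : (Even r → Nat.card C ∣ Fintype.card F + 1) ∧
      (Odd r → Nat.card C ∣ Fintype.card F - 1) := by
    refine ⟨fun he => ?_, fun ho => ?_⟩
    · rw [← hco, ← orderOf_injective χ hχ]
      exact orderOf_dvd_of_pow_eq_one ((hexp c).1 he)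
    · rw [← hco, ← orderOf_injective χ hχ]
      refine orderOf_dvd_of_pow_eq_one ?_
      have h := (hexp c).2 ho
      have hne : χ c ≠ 0 := fun h0 => by
        have := hconj c
        rw [h0, zero_mul] at this
        exact zero_ne_one this
      refine mul_right_cancel₀ hne ?_
      rw [← pow_succ, Nat.sub_add_cancel Fintype.card_pos, h, one_mul]
  let m1 : C := ⟨-1, by show (g : M2) * _ = _ * _; simp⟩
  have hm1 : orderOf m1 = 2 := by
    refine orderOf_eq_prime (Subtype.ext (by
      show (-1 : SL(2, F)) ^ 2 = 1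
      simp)) fun h => ?_
    exact Forms.KleinPSL.ne_neg_self h2 1 (congrArg Subtype.val h).symm
  have heven : 2 ∣ Nat.card C := hm1.symm.dvd.trans (orderOf_dvd_natCard m1)
  have hN : (Even r ∧ Nat.card C = Fintype.card F + 1) ∨
      (Odd r ∧ Nat.card C = Fintype.card F - 1) := by
    have hpos : 0 < Nat.card C := Nat.card_pos
    rcases Nat.even_or_odd r with he | ho
    · refine Or.inl ⟨he, ?_⟩
      obtain ⟨l, hl⟩ := hNdvd.1 he
      rcases l with _ | _ | _ | l
      · omega
      · omega
      · obtain ⟨a, ha⟩ := heven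
        obtain ⟨b, rfl⟩ := he
        omega
      · have : 3 * Nat.card C ≤ Fintype.card F + 1 := by
          rw [hl, mul_comm]
          exact Nat.mul_le_mul_left _ (by omega)
        omega
    · refine Or.inr ⟨ho, ?_⟩
      obtain ⟨l, hl⟩ := hNdvd.2 ho
      rcases l with _ | _ | _ | l
      · omega
      · omega
      · obtain ⟨a, ha⟩ := heven
        obtain ⟨b, rfl⟩ := ho
        omega
      · have : 3 * Nat.card C ≤ Fintype.card F - 1 := by
          rw [hl, mul_comm]
          exact Nat.mul_le_mul_left _ (by omega)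
        omega
  obtain ⟨n, hn⟩ : ∃ n, Nat.card C = 2 * n := heven
  set w : PG := π (c : SL(2, F)) with hw
  have hwo : orderOf w = n := by
    refine Nat.dvd_antisymm (orderOf_dvd_of_pow_eq_one ?_) ?_
    · have hsq' : χ (c ^ n) * χ (c ^ n) = 1 := by
        rw [← map_mul, ← pow_add, ← two_mul, ← hn, ← hco, pow_orderOf_eq_one, map_one]
      have hne : χ (c ^ n) ≠ 1 := fun h => by
        have h' := orderOf_dvd_of_pow_eq_one (hχ (h.trans (map_one χ).symm))
        rw [hco, hn] at h'
        have hn0 : 0 < n := by have := Nat.card_pos (α := C); omega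
        have := Nat.le_of_dvd hn0 h'
        omega
      have hm1' : χ (c ^ n) = χ m1 := by
        have h1 : χ (c ^ n) = -1 := (mul_self_eq_one_iff.1 hsq').resolve_left hne
        have h1' : χ m1 = -1 := (mul_self_eq_one_iff.1 (by
          rw [← map_mul, show m1 * m1 = 1 from Subtype.ext (by
            show (-1 : SL(2, F)) * -1 = 1
            simp), map_one])).resolve_left fun h => by
          rw [hχ (h.trans (map_one χ).symm), orderOf_one] at hm1
          norm_num at hm1
        rw [h1, h1']
      rw [hw, ← map_pow, ← Subgroup.coe_pow, hχ hm1']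
      exact Forms.KleinPSL.pi_eq_one.2 (Or.inr rfl)
    · have h := pow_orderOf_eq_one w
      nth_rewrite 1 [hw] at h
      rw [← map_pow, Forms.KleinPSL.pi_eq_one] at h
      have h2n : orderOf c ∣ 2 * orderOf w := by
        refine orderOf_dvd_of_pow_eq_one (Subtype.ext ?_)
        rw [Subgroup.coe_pow, mul_comm 2, pow_mul, sq]
        rcases h with h | h <;> rw [h] <;> simp
      rw [hco, hn] at h2n
      exact Nat.dvd_of_mul_dvd_mul_left two_pos h2n
  obtain ⟨hc1, hc3⟩ := centralizer_card (t := π A) ⟨r, hr⟩ ht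
  have hnc : (Fintype.card F % 4 = 1 ∧ 2 * n = Fintype.card F + 1) ∨
      (Fintype.card F % 4 = 3 ∧ 2 * n = Fintype.card F - 1) := by
    rcases hN with ⟨⟨b, hb⟩, h⟩ | ⟨⟨b, hb⟩, h⟩
    · exact Or.inl ⟨by omega, hn ▸ h⟩
    · exact Or.inr ⟨by omega, hn ▸ h⟩
  have hnodd : Odd n := by
    rw [Nat.odd_iff]
    omega
  refine ⟨w, ?_, ?_, hwo ▸ hnodd, ?_, ?_, fun h9 => by rw [hwo]; omega, fun f hf hfo => ?_⟩
  · rw [hw, OvergroupsPSL.gAut_pi]
    refine congrArg π (Subtype.ext ?_)
    rw [AutPSL.Basic.conjSL_coe, show (g : M2) * ((c : SL(2, F)) : M2) = ((c : SL(2, F)) : M2) * g from c.2,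
      mul_assoc, Units.mul_inv, mul_one]
  · have hanti : (g : M2) * ((A : M2) * ((c : SL(2, F)) : M2)) =
        -(((A : M2) * ((c : SL(2, F)) : M2)) * (g : M2)) := by
      rw [← mul_assoc, hA.anti, neg_mul, mul_assoc, mul_assoc,
        show (g : M2) * ((c : SL(2, F)) : M2) = ((c : SL(2, F)) : M2) * g from c.2]
    have ho : orderOf (π (A * (c : SL(2, F)))) = 2 :=
      OvergroupsPSL.orderOf_pi_of_trace h2 (OvergroupsPSL.trace_of_anti h2 g hanti)
    have h := Forms.KleinPSL.mul_self_of_order_two ho
    rw [map_mul, ← hw] at h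
    rw [show (π A)⁻¹ = π A from PSLBinary.inv_of_two ht]
    exact eq_inv_of_mul_eq_one_left (by simpa [mul_assoc] using h)
  · rw [hwo]
    refine Nat.coprime_of_dvd fun p hp hpn hpc => ?_
    have h2p : p ≠ 2 := by
      rintro rfl
      rw [Nat.odd_iff] at hnodd
      omega
    have hd2 : p ∣ 2 := by
      rcases hnc with ⟨h4, h⟩ | ⟨h4, h⟩
      · rw [hc1 h4] at hpc
        have := Nat.dvd_sub (Dvd.dvd.mul_left hpn 2) hpc
        rwa [show 2 * n - (Fintype.card F - 1) = 2 by omega] at this
      · rw [hc3 h4] at hpc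
        have := Nat.dvd_sub hpc (Dvd.dvd.mul_left hpn 2)
        rwa [show Fintype.card F + 1 - 2 * n = 2 by omega] at this
    exact h2p ((Nat.prime_dvd_prime_iff_eq hp Nat.prime_two).1 hd2)
  · intro p hp hp2 hpc
    rw [hwo]
    have hcop : Nat.Coprime 4 p := by
      have := (Nat.coprime_primes Nat.prime_two hp).2 (Ne.symm hp2)
      exact this.pow_left 2
    have h3p : 3 ≤ p := Nat.lt_of_le_of_ne hp.two_le (Ne.symm hp2)
    rcases hnc with ⟨h4, h⟩ | ⟨h4, h⟩
    · rw [hc1 h4] at hpc
      have hle := Nat.le_of_dvd (by omega)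
        (hcop.mul_dvd_of_dvd_of_dvd (by omega : 4 ∣ Fintype.card F - 1) hpc)
      omega
    · rw [hc3 h4] at hpc
      have hle := Nat.le_of_dvd (by omega)
        (hcop.mul_dvd_of_dvd_of_dvd (by omega : 4 ∣ Fintype.card F + 1) hpc)
      omega
  · obtain ⟨X, rfl⟩ := Forms.KleinPSL.pi_surjective f
    have hX : X ∈ C := OvergroupsPSL.comm_of_fix h2 hf hfo
    have h1 : orderOf (π X) ∣ 2 * n := by
      refine (orderOf_map_dvd _ X).trans ?_
      rw [← hn, ← Subgroup.orderOf_mk X hX]
      exact orderOf_dvd_natCard _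
    rw [hwo]
    exact (Nat.coprime_two_right.2 hfo).dvd_of_dvd_mul_left h1

end Cfsg.Agent.GW.ComponentPSL
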