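import Cfsg.Agent.Lib.GW.BenderComponentLift
import Cfsg.Agent.Lib.GW.BenderComponentAlt
import Cfsg.Agent.Lib.GW.BenderComponentPSL
import Cfsg.Agent.Lib.GW.BenderComponentCentre

/-!
# A proper subgroup with a component: the facts
-/

set_option autoImplicit false
set_option linter.style.haveILetI false

namespace Cfsg.Agent.GW.Bender

open Subgroup Cfsg.Agent.GW.Overgroups
open scoped commutatorElement

universe u

variable {G : Type u} [Group G] [Finite G] {B : Subgroup G}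

theorem odd_of_isPow {p : ℕ} (hp : p.Prime) (hp2 : p ≠ 2) {x : G} (h : IsPow p x) :
    Odd (orderOf x) := by
  obtain ⟨k, hk⟩ := h
  rw [hk]
  exact (hp.odd_of_ne_two hp2).pow

theorem not_mem_oddPart {v : G} (hv : orderOf v = 2) : v ∉ oddPart B := fun h => by
  have := (oddPart_odd B).of_dvd_nat (Subgroup.orderOf_dvd_natCard _ h)
  rw [hv] at this
  exact absurd this (by decide)

theorem comp_mem_of_four (d : Data G) (hb : CompBase B) {t : G} (ht : t ∈ maxPerfect B)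
    (ho : orderOf t = 2) (h8 : ¬ 8 ∣ Nat.card G) {x : G} (hx : x ∈ B) (hx2 : orderOf x = 2) :
    x ∈ maxPerfect B := by
  haveI : Fact (Nat.Prime 2) := ⟨Nat.prime_two⟩
  haveI : NeZero d.m := ⟨d.ne_zero⟩
  set E := maxPerfect B with hE
  have hev : Even (Nat.card E) := even_iff_two_dvd.2 (by
    rw [← ho, ← Subgroup.orderOf_mk t ht]; exact orderOf_dvd_natCard _)
  let P0 : Sylow 2 E := default
  obtain ⟨k, hk, ⟨eP⟩⟩ := (Cons.sylow_sub_dihedral d.S d.e E P0).resolve_left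
    (Cons.not_cyclic_of_perfect (Group.IsPerfect.mk hb.perfect) hev P0)
  have h4 : 4 ∣ Nat.card E := by
    obtain ⟨j, rfl⟩ := Involutions.DihedralSylow.two_dvd P0 eP hk
    refine Dvd.dvd.trans ⟨j, ?_⟩ P0.toSubgroup.card_subgroup_dvd_card
    rw [Nat.card_congr eP.toEquiv, DihedralGroup.nat_card]
    ring
  set Q := E.subgroupOf B with hQ
  haveI : Q.Normal := normal_subgroupOf_of_le_normalizer (le_normalizer_maxPerfect B)
  have hodd : ¬ 2 ∣ Q.index := fun h => h8 (by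
    refine Dvd.dvd.trans ?_ B.card_subgroup_dvd_card
    rw [← Q.card_mul_index, show (8 : ℕ) = 4 * 2 from rfl]
    refine mul_dvd_mul ?_ h
    rwa [hQ, Nat.card_congr (subgroupOfEquivOfLe (maxPerfect_le B)).toEquiv])
  have h1 : orderOf (QuotientGroup.mk' Q ⟨x, hx⟩) ∣ 2 := by
    refine (orderOf_map_dvd _ _).trans ?_
    rw [Subgroup.orderOf_mk, hx2]
  rcases (Nat.dvd_prime Nat.prime_two).1 h1 with h | h
  · rw [orderOf_eq_one_iff, QuotientGroup.mk'_apply, QuotientGroup.eq_one_iff, hQ,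
      mem_subgroupOf] at h
    exact h
  · exact absurd (h ▸ orderOf_dvd_natCard _) hodd

section PSL

variable {F : Type} [Field F] [Fintype F]

local notation "PG" => Matrix.ProjectiveSpecialLinearGroup (Fin 2) F

variable (hb : CompBase B) (M : Model B (Matrix.ProjectiveSpecialLinearGroup (Fin 2) F))
  (hodd : Odd (Fintype.card F))

include M in
theorem psl_derived : ⁅B, B⁆ ≤ maxPerfect B ⊔ oddPart B := by
  refine Subgroup.commutator_le.2 fun x hx y hy => ?_
  obtain ⟨a, ha⟩ := ComponentPSL.commutator_mem_inn (M.ρ ⟨x, hx⟩) (M.ρ ⟨y, hy⟩)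
  exact (M.mem_sup_iff ⁅(⟨x, hx⟩ : B), ⟨y, hy⟩⁆).2 ⟨a, by rw [map_commutatorElement, ha]⟩

include hb M hodd in
theorem psl_inner_part {t : G} (ht : t ∈ maxPerfect B) (ht2 : orderOf t = 2) {p : ℕ} (hp : p.Prime)
    (hp2 : p ≠ 2) {x : G} (hx : x ∈ B) (htx : t * x = x * t) (hxp : IsPow p x)
    (hfix : ∀ y ∈ maxPerfect B, t * y = y * t → Odd (orderOf y) → (orderOf y).Coprime p →
      IsPow p (x * y * x⁻¹ * y⁻¹)) : x ∈ maxPerfect B ⊔ oddPart B := by

  set β := M.ρ ⟨x, hx⟩ with hβ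
  let t' : maxPerfect B := ⟨t, ht⟩
  have hβt : β (M.π t') = M.π t' := M.fix_of_commute ⟨x, hx⟩ t' htx
  obtain ⟨k, hk⟩ := hxp
  have hbk : β ^ p ^ k = 1 := by
    rw [hβ, ← map_pow, show (⟨x, hx⟩ : B) ^ p ^ k = 1 from Subtype.ext (by
      rw [SubmonoidClass.coe_pow, ← hk]; exact pow_orderOf_eq_one x), map_one]
  refine (M.mem_sup_iff ⟨x, hx⟩).2
    ((ComponentPSL.inner_of_fix hodd (M.invol t' ht2) hp hp2 β hbk ?_).imp fun a ha => ha.symm)
  intro r hr hr2 hrp a hao hat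
  obtain ⟨y0, hy0⟩ := M.surj a
  obtain ⟨j, n', hn', hn⟩ := Nat.exists_eq_pow_mul_and_not_dvd (orderOf_pos y0).ne' p hp.ne_one
  set y := y0 ^ p ^ j with hy
  have hcop : (p ^ j).Coprime (orderOf a) := by
    rw [hao]; exact ((Nat.coprime_primes hp hr).2 (Ne.symm hrp)).pow_left j
  have hπy : M.π y = a ^ p ^ j := by rw [hy, map_pow, hy0]
  have hyo : orderOf (M.π y) = r := by rw [hπy, Nat.Coprime.orderOf_pow hcop.symm, hao]
  have hyt : Commute (M.π y) (M.π t') := hπy ▸ hat.pow_left _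
  have hyn : orderOf (y : G) ∣ n' := by
    rw [Subgroup.orderOf_coe]
    refine orderOf_dvd_of_pow_eq_one ?_
    rw [hy, ← pow_mul, ← hn, pow_orderOf_eq_one]
  obtain ⟨l, hl⟩ := hfix y y.2 (M.commute_of_image hb y t' ht2 hyt)
    (M.odd_of_image (hyo ▸ hr.odd_of_ne_two hr2))
    (((hp.coprime_iff_not_dvd).2 fun h => hn' (h.trans hyn)).symm)
  have hmem : x * y * x⁻¹ ∈ maxPerfect B :=
    (mem_normalizer_iff.1 (le_normalizer_maxPerfect B hx) _).1 y.2
  set z : maxPerfect B := ⟨x * y * x⁻¹, hmem⟩ * y⁻¹ with hz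
  have hπz : M.π z = β (M.π y) * (M.π y)⁻¹ := by
    rw [hz, map_mul, map_inv, M.conj ⟨x, hx⟩ y ⟨_, hmem⟩ rfl]
  have hbo : orderOf (β (M.π y)) = r := by rw [MulEquiv.orderOf_eq, hyo]
  have hbt : Commute (β (M.π y)) (M.π t') := hβt ▸ hyt.map β
  have hc := ComponentPSL.odd_comm hodd (M.invol t' ht2) hbt hyt
    (hbo ▸ hr.odd_of_ne_two hr2) (hyo ▸ hr.odd_of_ne_two hr2)
  have h1 : orderOf (M.π z) ∣ p ^ l := by
    refine (orderOf_map_dvd _ z).trans ?_
    rw [← Subgroup.orderOf_coe, ← hl]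
    exact dvd_of_eq (congrArg orderOf (by simp [hz, mul_assoc]))
  have h2 : (M.π z) ^ r = 1 := by
    rw [hπz, hc.inv_right.mul_pow, inv_pow]
    nth_rewrite 1 [← hbo]
    rw [pow_orderOf_eq_one, ← hyo, pow_orderOf_eq_one, inv_one, mul_one]
  have h3 := orderOf_eq_one_iff.1 (Nat.eq_one_of_dvd_coprimes
    (((Nat.coprime_primes hp hr).2 (Ne.symm hrp)).pow_left l) h1 (orderOf_dvd_of_pow_eq_one h2))
  rw [hπz, mul_inv_eq_one, hπy] at h3
  obtain ⟨m, hm⟩ := exists_pow_eq_self_of_coprime hcop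
  calc β a = β ((a ^ p ^ j) ^ m) := by rw [hm]
    _ = a := by rw [map_pow, h3, hm]

include hb M hodd in
theorem psl_cycle_fixed {t v g a : G} (ht : t ∈ maxPerfect B) (hv : v ∈ maxPerfect B)
    (ht2 : orderOf t = 2) (hv2 : orderOf v = 2) (hne : v ≠ t) (hc : t * v = v * t)
    (hg : g ∈ maxPerfect B) (hg1 : g * t * g⁻¹ = v) (hg2 : g * v * g⁻¹ = t * v) (ha : a ∈ B)
    (hao : Odd (orderOf a)) (hta : t * a = a * t) (hva : v * a = a * v)
    (hcentre : maxPerfect B ⊓ oddPart B = ⊥ ∨ a ∈ oddPart B) : a * g = g * a := by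

  rcases hcentre with hbot | haD
  swap
  · exact (mem_centralizer_iff.1 (hb.cent haD) g hg).symm
  let t' : maxPerfect B := ⟨t, ht⟩
  let v' : maxPerfect B := ⟨v, hv⟩
  let g' : maxPerfect B := ⟨g, hg⟩
  have hmem : a * g * a⁻¹ ∈ maxPerfect B :=
    (mem_normalizer_iff.1 (le_normalizer_maxPerfect B ha) _).1 hg
  set β := M.ρ ⟨a, ha⟩ with hβ
  set h := M.π g' with hh
  have hβg : β h = M.π ⟨a * g * a⁻¹, hmem⟩ := M.conj ⟨a, ha⟩ g' _ rfl
  have e1 : h * M.π t' * h⁻¹ = M.π v' := by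
    rw [hh, ← map_inv, ← map_mul, ← map_mul]
    exact congrArg M.π (Subtype.ext hg1)
  have e2 : h * M.π v' * h⁻¹ = M.π t' * M.π v' := by
    rw [hh, ← map_inv, ← map_mul, ← map_mul, ← map_mul]
    exact congrArg M.π (Subtype.ext hg2)
  have ft : β (M.π t') = M.π t' := M.fix_of_commute _ t' hta
  have fv : β (M.π v') = M.π v' := M.fix_of_commute _ v' hva
  set c := h⁻¹ * β h with hcdef
  have key : ∀ p q : PG, h * p * h⁻¹ = q → β p = p → β q = q → Commute c p := by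
    intro p q hpq hp hq
    have h1 : β h * p * (β h)⁻¹ = h * p * h⁻¹ := by
      calc β h * p * (β h)⁻¹ = β (h * p * h⁻¹) := by rw [map_mul, map_mul, map_inv, hp]
        _ = _ := by rw [hpq, hq]
    show c * p = p * c
    calc c * p = h⁻¹ * (β h * p * (β h)⁻¹) * β h := by rw [hcdef]; group
      _ = h⁻¹ * (h * p * h⁻¹) * β h := by rw [h1]
      _ = _ := by rw [hcdef]; group
  have kt := key _ _ e1 ft fv
  have kv := key _ _ e2 fv (by rw [map_mul, ft, fv])
  have hπne : M.π v' ≠ M.π t' := fun e =>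
    hne (congrArg Subtype.val (M.invol_eq hb (x := v') (y := t') hv2 ht2 e))
  have hπc : Commute (M.π v') (M.π t') := M.image_commute (x := v') (y := t') hc.symm
  have hsq := ComponentPSL.four_sq hodd (M.invol t' ht2) (M.invol v' hv2) hπne hπc kt kv
  have hcfix : β c = c := by
    rcases PSLBinary.mem_four (ComponentPSL.two_ne_zero_of_odd hodd) (M.invol t' ht2)
      (M.invol v' hv2) hπne.symm hπc.symm kt kv with e | e | e | e <;> rw [e]
    · exact map_one _
    · exact ft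
    · exact fv
    · rw [map_mul, ft, fv]
  have hiter : ∀ i : ℕ, (β ^ i) h = h * c ^ i := by
    intro i
    induction i with
    | zero => simp
    | succ i ih =>
      rw [pow_succ', MulAut.mul_apply, ih, map_mul, map_pow, hcfix, pow_succ',
        show β h = h * c from (mul_inv_cancel_left h _).symm, mul_assoc]
  have hn : c ^ orderOf a = 1 := by
    have h1 := hiter (orderOf a)
    rw [hβ, ← map_pow, show (⟨a, ha⟩ : B) ^ orderOf a = 1 from Subtype.ext (pow_orderOf_eq_one a),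
      map_one, MulAut.one_apply] at h1
    exact left_eq_mul.1 h1
  have hc1 : c = 1 := orderOf_eq_one_iff.1 (Nat.eq_one_of_dvd_coprimes (Nat.coprime_two_left.2 hao)
    (orderOf_dvd_of_pow_eq_one (by rw [sq, hsq])) (orderOf_dvd_of_pow_eq_one hn))
  rw [hcdef, inv_mul_eq_one, hh, hβg] at hc1
  have hD : ((g'⁻¹ * ⟨a * g * a⁻¹, hmem⟩ : maxPerfect B) : G) ∈ oddPart B :=
    (M.ker_π _).1 (by rw [map_mul, map_inv, ← hc1, inv_mul_cancel])
  have h1 : g⁻¹ * (a * g * a⁻¹) ∈ maxPerfect B ⊓ oddPart B := ⟨(maxPerfect B).mul_mem ((maxPerfect B).inv_mem hg) hmem, hD⟩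
  rw [hbot, mem_bot, inv_mul_eq_one] at h1
  exact (mul_inv_eq_iff_eq_mul.1 h1.symm)

include M hodd in
theorem psl_centre (hb : CompBase B) (h3 : 3 < Fintype.card F) :
    maxPerfect B ⊓ oddPart B = ⊥ ∨
    ∀ t ∈ maxPerfect B, orderOf t = 2 → ∀ x ∈ B, t * x = x * t → Odd (orderOf x) →
      x ∈ oddPart B := by

  rcases ComponentCentre.central_kernel hodd h3 hb.perfect M.π M.surj (M.ker_central hb) M.ker_odd
    with h | ⟨h9, -⟩
  · refine Or.inl ((eq_bot_iff_forall _).2 fun x hx => ?_)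
    have : (⟨x, hx.1⟩ : maxPerfect B) ∈ M.π.ker := (M.ker_π _).2 hx.2
    rw [h, mem_bot] at this
    exact congrArg Subtype.val this
  · refine Or.inr fun t ht ht2 x hx htx hxo => (M.ker_ρ ⟨x, hx⟩).1 ?_
    refine ComponentPSL.nine_odd h9 (M.invol ⟨t, ht⟩ ht2) _ ?_ (M.fix_of_commute _ ⟨t, ht⟩ htx)
    refine hxo.of_dvd_nat ?_
    rw [← Subgroup.orderOf_mk x hx]
    exact orderOf_map_dvd M.ρ _

include hb M hodd in
theorem psl_torus {t x : G} (ht : t ∈ maxPerfect B) (ht2 : orderOf t = 2)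
    (hx : x ∈ maxPerfect B ⊔ oddPart B) (hxo : Odd (orderOf x)) (htx : t * x = x * t) :
      (∀ y ∈ maxPerfect B ⊔ oddPart B, Odd (orderOf y) → t * y = y * t →
        x * y * x⁻¹ * y⁻¹ ∈ oddPart B) ∧
      ∀ v ∈ B, orderOf v = 2 → v ≠ t → t * v = v * t → v * x * v⁻¹ * x ∈ oddPart B := by

  have hsup : maxPerfect B ⊔ oddPart B ≤ B := sup_le (maxPerfect_le B) (oddPart_le B)
  let t' : maxPerfect B := ⟨t, ht⟩
  have inn : ∀ y (hy : y ∈ maxPerfect B ⊔ oddPart B), Odd (orderOf y) → t * y = y * t →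
      ∃ a, M.ρ ⟨y, hsup hy⟩ = MulAut.conj a ∧ Odd (orderOf a) ∧ Commute a (M.π t') := by
    intro y hy hyo hty
    obtain ⟨a, ha⟩ := (M.mem_sup_iff ⟨y, hsup hy⟩).1 hy
    refine ⟨a, ha, hyo.of_dvd_nat ?_, ?_⟩
    · rw [← orderOf_injective _ M.conj_injective, ← ha, ← Subgroup.orderOf_mk y (hsup hy)]
      exact orderOf_map_dvd M.ρ _
    · have := M.fix_of_commute ⟨y, hsup hy⟩ t' hty
      rw [ha, MulAut.conj_apply] at this
      exact mul_inv_eq_iff_eq_mul.1 this
  obtain ⟨a, ha, hao, hat⟩ := inn x hx hxo htx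
  refine ⟨fun y hy hyo hty => ?_, fun v hv hv2 hne htv => ?_⟩
  · obtain ⟨b, hbb, hbo, hbt⟩ := inn y hy hyo hty
    have hab := ComponentPSL.odd_comm hodd (M.invol t' ht2) hat hbt hao hbo
    refine (M.ker_ρ ⁅(⟨x, hsup hx⟩ : B), ⟨y, hsup hy⟩⁆).1 ?_
    rw [map_commutatorElement, ha, hbb, ← map_commutatorElement,
      commutatorElement_eq_one_iff_mul_comm.2 hab.eq, map_one]
  set β := M.ρ ⟨v, hv⟩ with hβ
  have hvv := Involutions.Basic.inv_sq_one hv2
  have hb2 : orderOf β = 2 := by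
    refine orderOf_eq_prime ?_ fun h => not_mem_oddPart hv2 ((M.ker_ρ _).1 h)
    rw [sq, hβ, ← map_mul, show (⟨v, hv⟩ : B) * ⟨v, hv⟩ = 1 from Subtype.ext hvv, map_one]
  have hinv : β a = a⁻¹ := by
    refine ComponentPSL.inverts_torus hodd (M.invol t' ht2) β hb2
      (M.fix_of_commute _ t' htv) ?_ ?_ hat hao
    · intro h
      have h1 : (⟨v, hv⟩ : B) * ⟨t, maxPerfect_le B ht⟩ ∈ M.ρ.ker := by
        rw [MonoidHom.mem_ker, map_mul, M.rho_of_mem t' ⟨t, maxPerfect_le B ht⟩ rfl, ← hβ, h,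
          ← map_mul, ← map_mul, show t' * t' = 1 from Subtype.ext (Involutions.Basic.inv_sq_one ht2),
          map_one, map_one]
      have h2 := (M.ker_ρ _).1 h1
      refine not_mem_oddPart (v := v * t) ?_ h2
      rw [Involutions.Basic.orderOf_two_iff]
      refine ⟨?_, fun e => hne ?_⟩
      · rw [← sq, Commute.mul_pow htv.symm, sq, sq, hvv, Involutions.Basic.inv_sq_one ht2, one_mul]
      · rw [eq_inv_of_mul_eq_one_left e]
        exact inv_eq_of_mul_eq_one_right (Involutions.Basic.inv_sq_one ht2)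
    · rintro ⟨p, q, hp, hq, hpq, hc, fp, fq, hinn⟩
      exact hinn (M.four_inner hb (v := ⟨v, hv⟩) hv2 hp hq hpq hc fp fq)
  refine (M.ker_ρ ((⟨v, hv⟩ : B) * ⟨x, hsup hx⟩ * ⟨v, hv⟩⁻¹ * ⟨x, hsup hx⟩)).1 ?_
  rw [map_mul, map_mul, map_mul, map_inv, ha, ← hβ]
  refine MulEquiv.ext fun p => ?_
  simp [MulAut.conj_apply, hinv, mul_assoc]

include M hodd in
theorem psl_torus_cyclic {t : G} (ht : t ∈ maxPerfect B) (ht2 : orderOf t = 2) {X : Subgroup G}
    (hX : X ≤ maxPerfect B ⊓ centralizer ({t} : Set G)) (hXo : Odd (Nat.card X))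
    (hXD : X ⊓ oddPart B = ⊥) : IsCyclic X := by

  let f : X →* PG := M.π.comp (Subgroup.inclusion (hX.trans inf_le_left))
  have hf : Function.Injective f := (injective_iff_map_eq_one f).2 fun x hx => by
    have h1 : (x : G) ∈ X ⊓ oddPart B := ⟨x.2, (M.ker_π _).1 hx⟩
    rw [hXD, mem_bot] at h1
    exact Subtype.ext h1
  haveI : IsCyclic f.range := ComponentPSL.odd_cyclic hodd (M.invol ⟨t, ht⟩ ht2) f.range
    (by
      rintro _ ⟨x, rfl⟩
      exact M.image_commute (mem_centralizer_singleton_iff.1 (hX x.2).2))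
    (hXo.of_dvd_nat (Subgroup.card_range_dvd f))
  exact isCyclic_of_injective f.rangeRestrict fun x y h => hf (congrArg Subtype.val h)

include hb M hodd in
theorem psl_outer (h3 : 3 < Fintype.card F) {t v : G} (ht : t ∈ maxPerfect B) (ht2 : orderOf t = 2)
    (hv : v ∈ B) (hvE : v ∉ maxPerfect B) (hv2 : orderOf v = 2) (htv : t * v = v * t) :
    ∃ y ∈ maxPerfect B, v * y = y * v ∧ t * y * t⁻¹ = y⁻¹ ∧ Odd (orderOf y) ∧
      (orderOf y).Coprime (Nat.card (maxPerfect B ⊓ centralizer ({t} : Set G) : Subgroup G)) ∧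
      ∀ p : ℕ, p.Prime → p ≠ 2 →
        p ∣ Nat.card (maxPerfect B ⊓ centralizer ({t} : Set G) : Subgroup G) → p + 1 < orderOf y ∧
          ∀ f ∈ maxPerfect B, v * f = f * v → IsPow p f → f ∈ oddPart B := by

  let t' : maxPerfect B := ⟨t, ht⟩
  set β := M.ρ ⟨v, hv⟩ with hβ
  have hvv := Involutions.Basic.inv_sq_one hv2
  have hb2 : orderOf β = 2 := by
    refine orderOf_eq_prime ?_ fun h => not_mem_oddPart hv2 ((M.ker_ρ _).1 h)
    rw [sq, hβ, ← map_mul, show (⟨v, hv⟩ : B) * ⟨v, hv⟩ = 1 from Subtype.ext hvv, map_one]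
  have hinn : β ∉ Cfsg.Inn PG := fun ⟨a, ha⟩ =>
    hvE (mem_of_two' hb ((M.mem_sup_iff ⟨v, hv⟩).2 ⟨a, ha.symm⟩) ⟨1, by rw [hv2, pow_one]⟩)
  obtain ⟨w, hwf, hwi, hwo, hwc, hwp, hw9, hwd⟩ := ComponentPSL.outer_torus hodd h3
    (M.invol t' ht2) β hb2 (M.fix_of_commute _ t' htv) hinn
    (fun ⟨p, q, hp, hq, hpq, hc, fp, fq⟩ =>
      hinn (M.four_inner hb (v := ⟨v, hv⟩) hv2 hp hq hpq hc fp fq))
  set n := orderOf w with hn
  have hz := ComponentCentre.central_kernel hodd h3 hb.perfect M.π M.surj (M.ker_central hb) M.ker_odd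
  have hcop : n.Coprime (Nat.card M.π.ker) := by
    rcases hz with h | ⟨h9, h⟩
    · rw [h, Subgroup.card_bot]; exact Nat.coprime_one_right n
    · rw [h, hw9 h9]; decide
  obtain ⟨y, hyw, hyn⟩ := M.exists_lift (pow_orderOf_eq_one w) hcop
  have hyo : orderOf (y : G) = n := by
    rw [Subgroup.orderOf_coe]
    exact Nat.dvd_antisymm (orderOf_dvd_of_pow_eq_one hyn)
      (by rw [hn, ← hyw]; exact orderOf_map_dvd M.π y)
  have hyG : (y : G) ^ n = 1 := by rw [← Subgroup.coe_pow, hyn, OneMemClass.coe_one]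
  have hC : Nat.card (maxPerfect B ⊓ centralizer ({t} : Set G) : Subgroup G) ∣
      Nat.card M.π.ker * Nat.card (centralizer ({M.π t'} : Set PG)) := by
    set K := (maxPerfect B ⊓ centralizer ({t} : Set G) : Subgroup G) with hK
    let f : K →* centralizer ({M.π t'} : Set PG) :=
      (M.π.comp (Subgroup.inclusion inf_le_left)).codRestrict _ fun x =>
        mem_centralizer_singleton_iff.2
          (M.image_commute (y := t') (mem_centralizer_singleton_iff.1 x.2.2)).eq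
    rw [← f.ker.card_mul_index, Subgroup.index_ker]
    refine mul_dvd_mul ?_ f.range.card_subgroup_dvd_card
    let i : f.ker →* M.π.ker := MonoidHom.mk' (fun x => ⟨⟨((x : K) : G), (x : K).2.1⟩,
      MonoidHom.mem_ker.2 (congrArg Subtype.val (MonoidHom.mem_ker.1 x.2) :)⟩) fun _ _ => rfl
    exact Subgroup.card_dvd_of_injective i fun x x' h => Subtype.ext (Subtype.ext
      (congrArg (fun z : M.π.ker => ((z : maxPerfect B) : G)) h :))
  have hcopK : n.Coprime (Nat.card (maxPerfect B ⊓ centralizer ({t} : Set G) : Subgroup G)) :=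
    (hcop.mul_right hwc).coprime_dvd_right hC
  have hmem : v * y * v⁻¹ ∈ maxPerfect B :=
    (mem_normalizer_iff.1 (le_normalizer_maxPerfect B hv) _).1 y.2
  refine ⟨y, y.2, ?_, ?_, hyo ▸ hwo, hyo ▸ hcopK, fun p hp hp2 hpd => ⟨?_, fun f hf hvf hfp => ?_⟩⟩
  · have := M.lift_unique hb hcop (x := ⟨_, hmem⟩) (y := y)
      (Subtype.ext (by rw [Subgroup.coe_pow, conj_pow, hyG]; simp)) hyn
      (by rw [← M.conj ⟨v, hv⟩ y ⟨_, hmem⟩ rfl, hyw]; exact hwf)
    exact mul_inv_eq_iff_eq_mul.1 (congrArg Subtype.val this)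
  · have := M.lift_unique hb hcop (x := t' * y * t'⁻¹) (y := y⁻¹)
      (by rw [conj_pow, hyn]; group) (by rw [inv_pow, hyn, inv_one])
      (by rw [map_mul, map_mul, map_inv, map_inv, hyw]; exact hwi)
    exact congrArg Subtype.val this
  · rw [hyo]
    rcases hp.dvd_mul.1 (hpd.trans hC) with h | h
    · rcases hz with e | ⟨h9, e⟩
      · rw [e, Subgroup.card_bot] at h
        exact absurd (Nat.dvd_one.1 h) hp.ne_one
      · rw [e] at h
        rw [hw9 h9, (Nat.prime_dvd_prime_iff_eq hp Nat.prime_three).1 h]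
        norm_num
    · exact hwp p hp hp2 h
  · refine (M.ker_π ⟨f, hf⟩).1 ?_
    obtain ⟨l, hl⟩ := hfp
    have h1 : orderOf (M.π ⟨f, hf⟩) ∣ p ^ l := by
      refine (orderOf_map_dvd _ _).trans ?_
      rw [Subgroup.orderOf_mk, hl]
    have hpn : n.Coprime p := hcopK.coprime_dvd_right hpd
    exact orderOf_eq_one_iff.1 (Nat.eq_one_of_dvd_coprimes (hpn.symm.pow_left l) h1
      (hwd _ (M.fix_of_commute ⟨v, hv⟩ ⟨f, hf⟩ hvf.symm) ((hp.odd_of_ne_two hp2).pow.of_dvd_nat h1)))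

end PSL

theorem exists_psl_model (hb : CompBase B) (h : IsPSLType B) :
    ∃ (F : Type) (_ : Field F) (_ : Fintype F), Odd (Fintype.card F) ∧ 3 < Fintype.card F ∧
      Nonempty (Model B (Matrix.ProjectiveSpecialLinearGroup (Fin 2) F)) := by
  obtain ⟨F, i1, i2, ho, h3, ⟨e⟩⟩ := h
  exact ⟨F, i1, i2, ho, h3, exists_model hb e⟩

/-- The facts about a proper subgroup with a component. -/
theorem compFacts (d : Data G) (hknown : KnownProper G) (hB : B ≠ ⊤) (hlayer : Cfsg.layer B ≠ ⊥) :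
    CompFacts B := by
  have hb := compBase d.S d.two_le d.e hknown hB hlayer
  have hsup : maxPerfect B ⊔ oddPart B ≤ B := sup_le (maxPerfect_le B) (oddPart_le B)
  refine ⟨hb.ne_bot, hb.centralizer_eq, ?_, fun x hx h2 => mem_of_two' hb hx h2, ?_,
    fun t ht ht2 => exists_four_in d.S d.two_le d.e hb.perfect ht ht2,
    fun t ht v hv ht2 hv2 hne hc => exists_cycle_lift d.S d.two_le d.e hb ht hv ht2 hv2 hne hc,
    ?_, fun h => alt_facts d hknown hB hlayer h, ?_, ?_, ?_, ?_, ?_, ?_⟩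
  · by_cases h : IsPSLType B
    · obtain ⟨F, _, _, ho, h3, ⟨M⟩⟩ := exists_psl_model hb h
      exact psl_derived M
    · refine Subgroup.commutator_le.2 fun x hx y hy => ?_
      have hle := alt_le_sup d hknown hB hlayer h
      rw [commutatorElement_def]
      exact mul_mem (mul_mem (mul_mem (hle hx) (hle hy)) (inv_mem (hle hx))) (inv_mem (hle hy))
  · intro h8 x hx hx2
    haveI : Fact (Nat.Prime 2) := ⟨Nat.prime_two⟩
    have hev : 2 ∣ Nat.card (maxPerfect B) := by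
      rw [← even_iff_two_dvd, ← Nat.not_odd_iff_even]
      intro ho
      haveI : Group.IsSolvable (maxPerfect B) := Cfsg.Agent.S0205.result ho
      exact hb.ne_bot (eq_bot_of_perfect (maxPerfect_perfect B) inferInstance)
    obtain ⟨⟨t, ht⟩, hto⟩ := exists_prime_orderOf_dvd_card' 2 hev
    rw [Subgroup.orderOf_mk] at hto
    exact comp_mem_of_four d hb ht hto h8 hx hx2
  · intro t ht ht2 p hp hp2 x hx htx hxp hfix
    by_cases h : IsPSLType B
    · obtain ⟨F, _, _, ho, h3, ⟨M⟩⟩ := exists_psl_model hb h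
      exact psl_inner_part hb M ho ht ht2 hp hp2 hx htx hxp hfix
    · exact alt_le_sup d hknown hB hlayer h hx
  · intro h t ht v hv ht2 hv2 hne hc x hx hxo htx hvx
    obtain ⟨F, _, _, ho, h3, ⟨M⟩⟩ := exists_psl_model hb h
    obtain ⟨a, ha⟩ := (M.mem_sup_iff ⟨x, hsup hx⟩).1 hx
    refine (M.ker_ρ ⟨x, hsup hx⟩).1 ?_
    have key : ∀ w (hw : w ∈ maxPerfect B), w * x = x * w → Commute a (M.π ⟨w, hw⟩) := by
      intro w hw hwx
      have := M.fix_of_commute ⟨x, hsup hx⟩ ⟨w, hw⟩ hwx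
      rw [ha, MulAut.conj_apply] at this
      exact mul_inv_eq_iff_eq_mul.1 this
    rw [ha, ComponentPSL.four_odd ho (M.invol ⟨t, ht⟩ ht2) (M.invol ⟨v, hv⟩ hv2)
      (fun e => hne (congrArg Subtype.val (M.invol_eq hb (x := ⟨v, hv⟩) (y := ⟨t, ht⟩) hv2 ht2 e)))
      (M.image_commute (x := ⟨v, hv⟩) (y := ⟨t, ht⟩) hc.symm) (key t ht htx) (key v hv hvx)
      (hxo.of_dvd_nat (by
        rw [← orderOf_injective _ M.conj_injective, ← ha, ← Subgroup.orderOf_mk x (hsup hx)]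
        exact orderOf_map_dvd M.ρ _)), map_one]
  · intro h t ht v hv ht2 hv2 hne hc g hg hg1 hg2 a ha hao hta hva
    obtain ⟨F, _, _, ho, h3, ⟨M⟩⟩ := exists_psl_model hb h
    exact psl_cycle_fixed hb M ho ht hv ht2 hv2 hne hc hg hg1 hg2 ha hao hta hva
      ((psl_centre M ho hb h3).imp_right fun H => H t ht ht2 a ha hta hao)
  · intro h
    obtain ⟨F, _, _, ho, h3, ⟨M⟩⟩ := exists_psl_model hb h
    exact psl_centre M ho hb h3
  · intro h t ht ht2 x hx hxo htx
    obtain ⟨F, _, _, ho, h3, ⟨M⟩⟩ := exists_psl_model hb h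
    exact psl_torus hb M ho ht ht2 hx hxo htx
  · intro h t ht ht2 X hX hXo hXD
    obtain ⟨F, _, _, ho, h3, ⟨M⟩⟩ := exists_psl_model hb h
    exact psl_torus_cyclic M ho ht ht2 hX hXo hXD
  · intro t ht ht2 v hv hvE hv2 htv
    by_cases h : IsPSLType B
    · obtain ⟨F, _, _, ho, h3, ⟨M⟩⟩ := exists_psl_model hb h
      exact psl_outer hb M ho h3 ht ht2 hv hvE hv2 htv
    · exact absurd ((alt_facts d hknown hB hlayer h).1 v hv hv2) hvE

end Cfsg.Agent.GW.Bender
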