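import Mathlib
import Cfsg.Agent.S0806
import Cfsg.Agent.S0811
import Cfsg.Agent.S0812
import Cfsg.Agent.Lib.PSLBinary.Invol
import Cfsg.Agent.Lib.SmallSimple.Basic
import Cfsg.Agent.Lib.Perm.ThreeCycleFStar
import Cfsg.Agent.Lib.PSLOrderSpectrum.Main
import Cfsg.Agent.Lib.Characters.Burnside
import Cfsg.Agent.Lib.Forms.DicksonSolvable

/-!
# Proper overgroups of involution centralisers in `PSL₂(q)` and `A₇` are solvable
-/

set_option autoImplicit false
set_option linter.style.haveILetI false
set_option linter.unusedSectionVars false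

namespace Cfsg.Agent.GW.OvergroupsFact

open Equiv Equiv.Perm

universe u

/-! ### The alternating group of degree seven -/

/-- A subgroup of `A₇` containing the centraliser of `(0 1)(2 3)` is solvable or everything. -/
theorem altSeven_aux (M : Subgroup (Perm (Fin 7))) (hM : M ≤ alternatingGroup (Fin 7))
    (hC : ∀ g ∈ alternatingGroup (Fin 7),
      g * (swap 0 1 * swap 2 3) = swap 0 1 * swap 2 3 * g → g ∈ M) :
    Group.IsSolvable M ∨ M = alternatingGroup (Fin 7) := by
  have ha : swap (0 : Fin 7) 1 * swap 2 3 ∈ M := hC _ (mem_alternatingGroup.2 (by decide)) rfl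
  have hb : swap (0 : Fin 7) 2 * swap 1 3 ∈ M :=
    hC _ (mem_alternatingGroup.2 (by decide)) (by decide)
  have hc : swap (4 : Fin 7) 5 * swap 5 6 ∈ M :=
    hC _ (mem_alternatingGroup.2 (by decide)) (by decide)
  by_cases hsplit : ∀ g ∈ M, ∀ i : Fin 7, ((i : ℕ) < 4 ↔ ((g i : Fin 7) : ℕ) < 4)
  · left
    let r : M →* Perm {i : Fin 7 // (i : ℕ) < 4} × Perm {i : Fin 7 // ¬ (i : ℕ) < 4} :=
      { toFun := fun g => ((g : Perm (Fin 7)).subtypePerm fun i => (hsplit g g.2 i).symm,
          (g : Perm (Fin 7)).subtypePerm fun i => (not_congr (hsplit g g.2 i)).symm)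
        map_one' := rfl
        map_mul' := fun a b => Prod.ext (Equiv.ext fun _ => rfl) (Equiv.ext fun _ => rfl) }
    have hr : Function.Injective r := by
      intro a b h
      refine Subtype.ext (Equiv.ext fun i => ?_)
      by_cases hi : (i : ℕ) < 4
      · exact congrArg Subtype.val (DFunLike.congr_fun (congrArg Prod.fst h) ⟨i, hi⟩)
      · exact congrArg Subtype.val (DFunLike.congr_fun (congrArg Prod.snd h) ⟨i, hi⟩)
    haveI : Group.IsSolvable (Perm {i : Fin 7 // (i : ℕ) < 4}) :=
      Cfsg.Agent.Perm.ThreeCycleFStar.isSolvable_perm_of_card_le_four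
        (by rw [Nat.card_eq_fintype_card]; decide)
    haveI : Group.IsSolvable (Perm {i : Fin 7 // ¬ (i : ℕ) < 4}) :=
      Cfsg.Agent.Perm.ThreeCycleFStar.isSolvable_perm_of_card_le_four
        (by rw [Nat.card_eq_fintype_card]; decide)
    exact Group.isSolvable_of_isSolvable_injective hr
  · right
    push Not at hsplit
    -- `M` is transitive
    have hlo : ∀ i : Fin 7, (i : ℕ) < 4 → ∃ g ∈ M, g 0 = i := by
      intro i hi
      fin_cases i
      · exact ⟨1, one_mem M, rfl⟩
      · exact ⟨_, ha, by decide⟩
      · exact ⟨_, hb, by decide⟩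
      · exact ⟨_, mul_mem ha hb, by decide⟩
      all_goals simp at hi
    have hhi : ∀ i : Fin 7, ¬ (i : ℕ) < 4 → ∃ g ∈ M, g 4 = i := by
      intro i hi
      fin_cases i
      all_goals first
        | exact absurd (by decide) hi
        | exact ⟨1, one_mem M, rfl⟩
        | exact ⟨_, hc, by decide⟩
        | exact ⟨_, mul_mem hc hc, by decide⟩
    obtain ⟨g, hg, i, hi⟩ := hsplit
    have h04 : ∃ h ∈ M, h 0 = 4 := by
      rcases hi with ⟨h1, h2⟩ | ⟨h1, h2⟩
      · obtain ⟨x, hx, hx0⟩ := hlo i h1
        obtain ⟨y, hy, hy4⟩ := hhi (g i) (not_lt.2 h2)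
        refine ⟨y⁻¹ * g * x, mul_mem (mul_mem (inv_mem hy) hg) hx, ?_⟩
        rw [mul_apply, mul_apply, hx0, ← hy4, Equiv.Perm.inv_def, symm_apply_apply]
      · obtain ⟨x, hx, hx4⟩ := hhi i (not_lt.2 h1)
        obtain ⟨y, hy, hy0⟩ := hlo (g i) h2
        refine ⟨x⁻¹ * g⁻¹ * y, mul_mem (mul_mem (inv_mem hx) (inv_mem hg)) hy, ?_⟩
        rw [mul_apply, mul_apply, hy0, Equiv.Perm.inv_def g, symm_apply_apply, ← hx4, Equiv.Perm.inv_def,
          symm_apply_apply]
    obtain ⟨h, hh, hh4⟩ := h04
    have hall : ∀ i : Fin 7, ∃ g ∈ M, g 0 = i := by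
      intro i
      by_cases hi' : (i : ℕ) < 4
      · exact hlo i hi'
      · obtain ⟨y, hy, hy4⟩ := hhi i hi'
        exact ⟨y * h, mul_mem hy hh, by rw [mul_apply, hh4, hy4]⟩
    haveI : MulAction.IsPretransitive M (Fin 7) := ⟨fun a b => by
      obtain ⟨x, hx, hxa⟩ := hall a
      obtain ⟨y, hy, hyb⟩ := hall b
      refine ⟨⟨y * x⁻¹, mul_mem hy (inv_mem hx)⟩, ?_⟩
      show (y * x⁻¹) a = b
      rw [mul_apply, ← hxa, Equiv.Perm.inv_def, symm_apply_apply, hyb]⟩
    have hprim : MulAction.IsPreprimitive M (Fin 7) :=
      MulAction.IsPreprimitive.of_prime_card (by rw [Nat.card_fin]; norm_num)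
    refine le_antisymm hM (alternatingGroup_le_of_isPreprimitive_of_isThreeCycle_mem hprim ?_ hc)
    rw [Equiv.swap_comm (4 : Fin 7) 5]
    exact isThreeCycle_swap_mul_swap_same (by decide) (by decide) (by decide)

/-- In `A₇` a proper overgroup of the centraliser of an involution is solvable. -/
theorem altSeven_eq_top (t : alternatingGroup (Fin 7)) (ht : orderOf t = 2)
    {M : Subgroup (alternatingGroup (Fin 7))}
    (hC : Subgroup.centralizer ({t} : Set (alternatingGroup (Fin 7))) ≤ M)
    (hns : ¬ Group.IsSolvable M) : M = ⊤ := by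
  have ht' : orderOf (t : Perm (Fin 7)) = 2 := by rw [Subgroup.orderOf_coe, ht]
  set t0 : Perm (Fin 7) := swap 0 1 * swap 2 3
  obtain ⟨c, hc⟩ : IsConj (t : Perm (Fin 7)) t0 := by
    rw [isConj_iff_cycleType_eq]
    have hp : Nat.Prime (orderOf (t : Perm (Fin 7))) := by rw [ht']; exact Nat.prime_two
    obtain ⟨n, hn⟩ := cycleType_prime_order hp
    rw [ht'] at hn
    have hsum : (n + 1) * 2 ≤ 7 := by
      have h := (t : Perm (Fin 7)).support.card_le_univ
      rw [← sum_cycleType, hn, Multiset.sum_replicate, smul_eq_mul, Fintype.card_fin] at h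
      exact h
    have hs := mem_alternatingGroup.1 t.2
    rw [sign_of_cycleType, hn, Multiset.sum_replicate, Multiset.card_replicate, smul_eq_mul] at hs
    have hn2 : n ≤ 2 := by omega
    obtain rfl : n = 1 := by
      interval_cases n <;> first | rfl | (exfalso; revert hs; decide)
    rw [hn]
    decide
  set e : Perm (Fin 7) ≃* Perm (Fin 7) := MulAut.conj (c : Perm (Fin 7)) with he
  have hc' : e (t : Perm (Fin 7)) = t0 := by
    rw [he, MulAut.conj_apply, hc.eq, mul_inv_cancel_right]
  set M' := (M.map (alternatingGroup (Fin 7)).subtype).map e.toMonoidHom with hM'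
  have hle : M' ≤ alternatingGroup (Fin 7) := by
    rintro _ ⟨_, ⟨x, -, rfl⟩, rfl⟩
    exact (alternatingGroup.normal (α := Fin 7)).conj_mem _ x.2 _
  have hcard : Nat.card M' = Nat.card M := by
    rw [hM', Subgroup.card_map_of_injective (f := e.toMonoidHom) e.injective,
      Subgroup.card_map_of_injective (Subgroup.subtype_injective _)]
  have hC' : ∀ g ∈ alternatingGroup (Fin 7), g * t0 = t0 * g → g ∈ M' := by
    intro g hg hcom
    have hg' : e.symm g ∈ alternatingGroup (Fin 7) := by
      rw [he, MulAut.conj_symm_apply]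
      simpa using (alternatingGroup.normal (α := Fin 7)).conj_mem _ hg (c : Perm (Fin 7))⁻¹
    refine ⟨e.symm g, ⟨⟨e.symm g, hg'⟩, hC ?_, rfl⟩, e.apply_symm_apply g⟩
    rw [Subgroup.mem_centralizer_singleton_iff]
    refine Subtype.ext (e.injective ?_)
    simp only [Subgroup.coe_mul, map_mul, MulEquiv.apply_symm_apply, hc']
    exact hcom
  rcases altSeven_aux M' hle hC' with h | h
  · exfalso
    refine hns ?_
    haveI := h
    let f : M →* M' := ((e.toMonoidHom.comp (alternatingGroup (Fin 7)).subtype).comp
      M.subtype).codRestrict M' fun x => ⟨_, ⟨x, x.2, rfl⟩, rfl⟩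
    exact Group.isSolvable_of_isSolvable_injective (f := f) fun x y hxy =>
      Subtype.ext (Subtype.ext (e.injective (congrArg Subtype.val hxy :)))
  · exact Subgroup.eq_top_of_card_eq _ (by rw [← hcard, h])

/-! ### The groups `PSL₂(q)` -/

theorem solvable_of_small {M : Type u} [Group M] [Finite M]
    (h : Nat.card M ∈ ({1, 2, 3, 4, 5, 6, 8, 10, 12, 15, 16, 20, 24, 40} : Finset ℕ)) :
    Group.IsSolvable M := by
  simp only [Finset.mem_insert, Finset.mem_singleton] at h
  have h2 : Nat.Prime 2 := Nat.prime_two
  have h3 : Nat.Prime 3 := Nat.prime_three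
  have h5 : Nat.Prime 5 := by norm_num
  rcases h with e | e | e | e | e | e | e | e | e | e | e | e | e | e
  · exact Characters.burnside_pa_qb h2 h3 (a := 0) (b := 0) (by rw [e]; rfl)
  · exact Characters.burnside_pa_qb h2 h3 (a := 1) (b := 0) (by rw [e]; rfl)
  · exact Characters.burnside_pa_qb h2 h3 (a := 0) (b := 1) (by rw [e]; rfl)
  · exact Characters.burnside_pa_qb h2 h3 (a := 2) (b := 0) (by rw [e]; rfl)
  · exact Characters.burnside_pa_qb h2 h5 (a := 0) (b := 1) (by rw [e]; rfl)
  · exact Characters.burnside_pa_qb h2 h3 (a := 1) (b := 1) (by rw [e]; rfl)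
  · exact Characters.burnside_pa_qb h2 h3 (a := 3) (b := 0) (by rw [e]; rfl)
  · exact Characters.burnside_pa_qb h2 h5 (a := 1) (b := 1) (by rw [e]; rfl)
  · exact Characters.burnside_pa_qb h2 h3 (a := 2) (b := 1) (by rw [e]; rfl)
  · exact Characters.burnside_pa_qb h3 h5 (a := 1) (b := 1) (by rw [e]; rfl)
  · exact Characters.burnside_pa_qb h2 h3 (a := 4) (b := 0) (by rw [e]; rfl)
  · exact Characters.burnside_pa_qb h2 h5 (a := 2) (b := 1) (by rw [e]; rfl)
  · exact Characters.burnside_pa_qb h2 h3 (a := 3) (b := 1) (by rw [e]; rfl)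
  · exact Characters.burnside_pa_qb h2 h5 (a := 3) (b := 1) (by rw [e]; rfl)

theorem altFive_centralizer : ∀ x : alternatingGroup (Fin 5), x * x = 1 → x ≠ 1 →
    (Finset.univ.filter fun y : alternatingGroup (Fin 5) => y * x = x * y).card = 4 := by
  decide +kernel

variable {F : Type*} [Field F] [Fintype F]

local notation "PG" => Matrix.ProjectiveSpecialLinearGroup (Fin 2) F

/-- In `PSL₂(q)`, `q` odd, a proper overgroup of the centraliser of an involution is solvable. -/
theorem psl_eq_top (hodd : Odd (Fintype.card F)) (h3 : 3 < Fintype.card F) [IsSimpleGroup PG]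
    {t : PG} (ht : orderOf t = 2) {M : Subgroup PG}
    (hC : Subgroup.centralizer ({t} : Set PG) ≤ M) (hns : ¬ Group.IsSolvable M) : M = ⊤ := by
  classical
  by_contra hMne
  have hmod : Fintype.card F % 2 = 1 := Nat.odd_iff.1 hodd
  have h2 : (2 : F) ≠ 0 := Ring.two_ne_zero fun hc => by
    have := FiniteField.even_card_iff_char_two.1 hc
    omega
  have hcen := PSLBinary.natCard_centralizer_invol h2 ht
  obtain ⟨e1, e3⟩ := Forms.KleinSL2.natCard_circ_one (F := F) h2
  have hG : Nat.gcd 2 (Fintype.card F - 1) * Nat.card PG =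
      Fintype.card F * ((Fintype.card F - 1) * (Fintype.card F + 1)) :=
    PSLOrderSpectrum.card_psl_two
  have hgcd : Nat.gcd 2 (Fintype.card F - 1) = 2 := Nat.gcd_eq_left (by omega)
  rw [hgcd] at hG
  have hna : ¬ IsMulCommutative PG := SmallSimple.Basic.not_comm_of_not_prime fun hp => by
    have h2' : 2 ∣ Nat.card PG := (dvd_of_eq ht.symm).trans (orderOf_dvd_natCard t)
    have := (hp.eq_one_or_self_of_dvd 2 h2').resolve_left (by norm_num)
    rw [← this] at hG
    have : 5 * (4 * 6) ≤ Fintype.card F * ((Fintype.card F - 1) * (Fintype.card F + 1)) :=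
      Nat.mul_le_mul (by omega) (Nat.mul_le_mul (by omega) (by omega))
    omega
  have hCM := Subgroup.card_dvd_of_le hC
  rw [hcen] at hCM
  have hMG := Subgroup.card_subgroup_dvd_card M
  by_cases hbig : Fintype.card F ∈ ({2, 3, 5, 7, 9, 11} : Finset ℕ)
  · -- the small cases
    have hfac := SmallSimple.Basic.two_mul_card_dvd_factorial hna M hMne
    have hidx := M.card_mul_index
    have hMpos : 0 < Nat.card M := Nat.card_pos
    simp only [Finset.mem_insert, Finset.mem_singleton] at hbig
    rcases hbig with e | e | e | e | e | e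
    · omega
    · omega
    · rw [e] at hG
      norm_num [-Nat.card_eq_fintype_card] at hG
      have hd : Nat.card M ∣ 60 := by rwa [show Nat.card PG = 60 by omega] at hMG
      have hne : Nat.card M ≠ 60 := fun h => hMne (Subgroup.eq_top_of_card_eq _ (by omega))
      refine hns (solvable_of_small ?_)
      have hmem : Nat.card M ∈ Nat.divisors 60 := Nat.mem_divisors.2 ⟨hd, by norm_num⟩
      rw [show Nat.divisors 60 = {1, 2, 3, 4, 5, 6, 10, 12, 15, 20, 30, 60} by decide] at hmem
      simp only [Finset.mem_insert, Finset.mem_singleton] at hmem ⊢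
      have h30 : Nat.card M ≠ 30 := fun h => by
        have hi : M.index = 2 := by rw [h] at hidx; omega
        rw [hi, show Nat.card PG = 60 by omega] at hfac
        norm_num [Nat.factorial, -Nat.card_eq_fintype_card] at hfac
      omega
    · rw [e] at hG
      norm_num [-Nat.card_eq_fintype_card] at hG
      have hPG : Nat.card PG = 168 := by omega
      rw [e3 (by omega), e] at hCM
      rw [hPG] at hfac hidx
      have hi : 7 ≤ M.index := by
        by_contra hlt
        interval_cases hh : M.index <;> norm_num [Nat.factorial, -Nat.card_eq_fintype_card] at hfac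
      obtain ⟨k, hk⟩ := hCM
      refine hns (solvable_of_small ?_)
      have : k ≤ 3 := by nlinarith
      have : 1 ≤ k := by by_contra h0; simp [show k = 0 by omega] at hk
      simp only [Finset.mem_insert, Finset.mem_singleton]
      omega
    · rw [e] at hG
      norm_num [-Nat.card_eq_fintype_card] at hG
      have hPG : Nat.card PG = 360 := by omega
      rw [e1 (by omega), e] at hCM
      rw [hPG] at hfac hidx hMG
      have hi : 6 ≤ M.index := by
        by_contra hlt
        interval_cases hh : M.index <;> norm_num [Nat.factorial, -Nat.card_eq_fintype_card] at hfac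
      obtain ⟨k, hk⟩ := hCM
      norm_num [-Nat.card_eq_fintype_card] at hk
      refine hns (solvable_of_small ?_)
      have : k ≤ 7 := by nlinarith
      have hk1 : 1 ≤ k := by by_contra h0; simp [show k = 0 by omega] at hk
      rw [hk] at hMG
      simp only [Finset.mem_insert, Finset.mem_singleton]
      interval_cases k <;> norm_num [-Nat.card_eq_fintype_card] at hMG <;> omega
    · rw [e] at hG
      norm_num [-Nat.card_eq_fintype_card] at hG
      have hPG : Nat.card PG = 660 := by omega
      rw [e3 (by omega), e] at hCM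
      rw [hPG] at hidx hMG hfac
      have hi : 11 ≤ M.index := by
        by_contra hlt
        interval_cases hh : M.index <;> norm_num [Nat.factorial, -Nat.card_eq_fintype_card] at hfac
      obtain ⟨k, hk⟩ := hCM
      norm_num [-Nat.card_eq_fintype_card] at hk
      have : k ≤ 5 := by nlinarith
      have hk1 : 1 ≤ k := by by_contra h0; simp [show k = 0 by omega] at hk
      rw [hk] at hMG
      interval_cases k <;> norm_num [-Nat.card_eq_fintype_card] at hMG
      · exact hns (solvable_of_small (by rw [hk]; decide))
      · -- order sixty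
        have h60 : Nat.card M = 60 := by omega
        let C : Subgroup M := (Subgroup.centralizer ({t} : Set PG)).subgroupOf M
        have hC12 : Nat.card C = 12 := by
          rw [Nat.card_congr (Subgroup.subgroupOfEquivOfLe hC).toEquiv, hcen, e3 (by omega), e]
        have htM : t ∈ M := hC (Subgroup.mem_centralizer_singleton_iff.2 rfl)
        have hCidx : C.index = 5 := by
          have := C.card_mul_index
          rw [hC12, h60] at this
          omega
        let f := MulAction.toPermHom M (M ⧸ C)
        by_cases hinj : Function.Injective f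
        · have hA : f.range = alternatingGroup (M ⧸ C) := by
            have h5 : Nat.card (M ⧸ C) = 5 := by rw [← Subgroup.index_eq_card, hCidx]
            have hcr : Nat.card f.range = 60 := by
              rw [← Nat.card_congr (MonoidHom.ofInjective hinj).toEquiv, h60]
            have hi2 : f.range.index = 2 := by
              have := f.range.card_mul_index
              rw [hcr, Nat.card_perm, h5] at this
              norm_num [Nat.factorial, -Nat.card_eq_fintype_card] at this
              omega
            exact Equiv.Perm.eq_alternatingGroup_of_index_eq_two hi2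
          obtain ⟨ι⟩ : Nonempty ((M ⧸ C) ≃ Fin 5) :=
            Finite.card_eq.1 (by rw [← Subgroup.index_eq_card, hCidx, Nat.card_fin])
          let φ : M ≃* alternatingGroup (Fin 5) :=
            ((MonoidHom.ofInjective hinj).trans (MulEquiv.subgroupCongr hA)).trans
              (Equiv.altCongrHom ι)
          have hx : φ ⟨t, htM⟩ * φ ⟨t, htM⟩ = 1 := by
            rw [← map_mul, ← map_one φ]
            exact congrArg φ (Subtype.ext (Forms.KleinPSL.mul_self_of_order_two ht))
          have hx1 : φ ⟨t, htM⟩ ≠ 1 := fun h => by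
            have h' := φ.injective (h.trans (map_one φ).symm)
            rw [show t = 1 from congrArg Subtype.val h', orderOf_one] at ht
            exact absurd ht (by norm_num)
          have h4 := altFive_centralizer _ hx hx1
          have : Nat.card C ≤ 4 := by
            rw [← h4, ← Fintype.card_subtype, ← Nat.card_eq_fintype_card]
            refine Nat.card_le_card_of_injective (fun y => ⟨φ y.1, ?_⟩) fun a b h =>
              Subtype.ext (φ.injective (congrArg Subtype.val h :))
            rw [← map_mul, ← map_mul]
            exact congrArg φ (Subtype.ext (Subgroup.mem_centralizer_singleton_iff.1 y.2))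
          omega
        · have hker : f.ker ≠ ⊥ := fun h => hinj ((MonoidHom.ker_eq_bot_iff f).1 h)
          have hkC : f.ker ≤ C := by
            intro y hy
            have h1 := DFunLike.congr_fun (MonoidHom.mem_ker.1 hy) ((1 : M) : M ⧸ C)
            have h2' : ((y * 1 : M) : M ⧸ C) = ((1 : M) : M ⧸ C) := h1
            rw [mul_one, QuotientGroup.eq, mul_one, inv_mem_iff] at h2'
            exact h2'
          have hd := Subgroup.card_dvd_of_le hkC
          rw [hC12] at hd
          have hk' := f.ker.card_mul_index
          rw [h60] at hk'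
          have h1k : 1 < Nat.card f.ker := (Subgroup.one_lt_card_iff_ne_bot _).2 hker
          have hmem : Nat.card f.ker ∈ ({2, 3, 4, 6, 12} : Finset ℕ) := by
            have hm : Nat.card f.ker ∈ Nat.divisors 12 := Nat.mem_divisors.2 ⟨hd, by norm_num⟩
            rw [show Nat.divisors 12 = {1, 2, 3, 4, 6, 12} by decide] at hm
            simp only [Finset.mem_insert, Finset.mem_singleton] at hm ⊢
            omega
          haveI : Group.IsSolvable f.ker := solvable_of_small (by
            simp only [Finset.mem_insert, Finset.mem_singleton] at hmem ⊢; omega)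
          haveI : Group.IsSolvable (M ⧸ f.ker) := by
            simp only [Finset.mem_insert, Finset.mem_singleton] at hmem
            have hcases : f.ker.index = 30 ∨ f.ker.index = 20 ∨ f.ker.index = 15 ∨
                f.ker.index = 10 ∨ f.ker.index = 5 := by
              rcases hmem with h | h | h | h | h <;> rw [h] at hk' <;> omega
            rcases hcases with h | h | h | h | h
            · have hsq : Squarefree (Nat.card (M ⧸ f.ker)) := by
                rw [← Subgroup.index_eq_card, h]
                rw [show (30 : ℕ) = 2 * (3 * 5) from rfl, Nat.squarefree_mul (by norm_num),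
                  Nat.squarefree_mul (by norm_num)]
                exact ⟨Nat.prime_two.squarefree, Nat.prime_three.squarefree,
                  (show Nat.Prime 5 by norm_num).squarefree⟩
              haveI := IsZGroup.of_squarefree hsq
              infer_instance
            all_goals exact solvable_of_small (by rw [← Subgroup.index_eq_card, h]; decide)
          exact hns (Group.isSolvable_of_ker_le_range f.ker.subtype (QuotientGroup.mk' f.ker)
            (by rw [QuotientGroup.ker_mk', Subgroup.range_subtype]))
  · -- the centraliser is maximal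
    simp only [Finset.mem_insert, Finset.mem_singleton, not_or] at hbig
    obtain ⟨k, hk⟩ : ∃ k, Fintype.card F = 2 * k + 1 := ⟨Fintype.card F / 2, by omega⟩
    obtain ⟨H, m, hH, ⟨eH⟩, hm, hm2⟩ : ∃ (H : Subgroup PG) (m : ℕ), IsCoatom H ∧
        Nonempty (H ≃* DihedralGroup m) ∧ 2 * m = Nat.card (Forms.KleinSL2.Circ F 1) ∧ 2 ∣ m := by
      rcases (show Fintype.card F % 4 = 1 ∨ Fintype.card F % 4 = 3 by omega) with h | h
      · obtain ⟨H, hH, he⟩ := S0812.result (F := F) rfl (by simp; omega)
        refine ⟨H, _, hH, he, ?_, ?_⟩ <;> rw [hgcd]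
        · rw [e1 h]; omega
        · omega
      · obtain ⟨H, hH, he⟩ := S0811.result (F := F) rfl (by simp; omega)
        refine ⟨H, _, hH, he, ?_, ?_⟩ <;> rw [hgcd]
        · rw [e3 h]; omega
        · omega
    have hm0 : m ≠ 0 := by
      rcases (show Fintype.card F % 4 = 1 ∨ Fintype.card F % 4 = 3 by omega) with h | h
      · rw [e1 h] at hm; omega
      · rw [e3 h] at hm; omega
    haveI : NeZero m := ⟨hm0⟩
    obtain ⟨j, hj⟩ := hm2
    -- the central involution of `H`
    set z : PG := ((eH.symm (DihedralGroup.r (j : ZMod m)) : H) : PG) with hz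
    have hzo : orderOf z = 2 := by
      rw [hz, Subgroup.orderOf_coe, MulEquiv.orderOf_eq, DihedralGroup.orderOf_r,
        ZMod.val_natCast, Nat.mod_eq_of_lt (by omega), Nat.gcd_eq_right ⟨2, by omega⟩, hj,
        Nat.mul_div_cancel _ (by omega)]
    have hjj : (j : ZMod m) + j = 0 := by
      rw [← Nat.cast_add, ← two_mul, ← hj, ZMod.natCast_self]
    have hHz : H ≤ Subgroup.centralizer ({z} : Set PG) := by
      intro x hx
      rw [Subgroup.mem_centralizer_singleton_iff]
      have key : (⟨x, hx⟩ : H) * eH.symm (DihedralGroup.r (j : ZMod m)) =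
          eH.symm (DihedralGroup.r (j : ZMod m)) * ⟨x, hx⟩ := by
        apply eH.injective
        rw [map_mul, map_mul, eH.apply_symm_apply]
        rcases eH ⟨x, hx⟩ with i | i
        · simp [add_comm]
        · rw [DihedralGroup.sr_mul_r, DihedralGroup.r_mul_sr, sub_eq_add_neg,
            ← eq_neg_of_add_eq_zero_left hjj]
      exact congrArg Subtype.val key
    have hHeq : H = Subgroup.centralizer ({z} : Set PG) := by
      refine Subgroup.eq_of_le_of_card_ge hHz (le_of_eq ?_)
      rw [PSLBinary.natCard_centralizer_invol h2 hzo, Nat.card_congr eH.toEquiv,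
        DihedralGroup.nat_card, hm]
    obtain ⟨g, hg⟩ := isConj_iff.1 (Forms.KleinPSL.involutions_isConj h2 z t hzo ht)
    have hCt : IsCoatom (Subgroup.centralizer ({t} : Set PG)) := by
      have e' : Subgroup.centralizer ({t} : Set PG) =
          (MulAut.conj g).mapSubgroup H := by
        ext x
        rw [hHeq, Subgroup.mem_centralizer_singleton_iff]
        simp only [MulEquiv.mapSubgroup_apply, Subgroup.mem_map]
        constructor
        · intro hx
          refine ⟨g⁻¹ * x * g, Subgroup.mem_centralizer_singleton_iff.2 ?_, by simp [mul_assoc]⟩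
          calc g⁻¹ * x * g * z = g⁻¹ * (x * (g * z * g⁻¹)) * g := by group
            _ = g⁻¹ * ((g * z * g⁻¹) * x) * g := by rw [hg, hx]
            _ = z * (g⁻¹ * x * g) := by group
        · rintro ⟨y, hy, rfl⟩
          rw [Subgroup.mem_centralizer_singleton_iff] at hy
          simp only [MonoidHom.coe_coe, MulAut.conj_apply, ← hg]
          calc g * y * g⁻¹ * (g * z * g⁻¹) = g * (y * z) * g⁻¹ := by group
            _ = g * (z * y) * g⁻¹ := by rw [hy]
            _ = _ := by group
      rw [e', OrderIso.isCoatom_iff]
      exact hH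
    have hMC := (hCt.le_iff.1 hC).resolve_left hMne
    refine hns ?_
    rw [hMC]
    have hz2 : Group.IsSolvable H := by
      haveI : Group.IsSolvable (DihedralGroup m) := Forms.DicksonSolvable.isSolvable_dihedral m
      exact Group.isSolvable_of_isSolvable_injective (f := eH.toMonoidHom) eH.injective
    haveI := hz2
    let f : Subgroup.centralizer ({t} : Set PG) →* H :=
      ((MulAut.conj g⁻¹).toMonoidHom.comp (Subgroup.centralizer ({t} : Set PG)).subtype).codRestrict H
        fun x => by
          rw [hHeq, Subgroup.mem_centralizer_singleton_iff]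
          have hx := Subgroup.mem_centralizer_singleton_iff.1 x.2
          simp only [MonoidHom.coe_comp, MulEquiv.coe_toMonoidHom, Subgroup.coe_subtype,
            Function.comp_apply, MulAut.conj_apply, inv_inv]
          calc g⁻¹ * (x : PG) * g * z = g⁻¹ * ((x : PG) * (g * z * g⁻¹)) * g := by group
            _ = g⁻¹ * ((g * z * g⁻¹) * (x : PG)) * g := by rw [hg, hx]
            _ = z * (g⁻¹ * (x : PG) * g) := by group
    exact Group.isSolvable_of_isSolvable_injective (f := f) fun a b h =>
      Subtype.ext ((MulAut.conj g⁻¹).injective (congrArg Subtype.val h :))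

end Cfsg.Agent.GW.OvergroupsFact
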