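import Mathlib
import Cfsg.Agent.S0205
import Cfsg.Agent.Lib.GW.OvergroupsFact
import Cfsg.Agent.Lib.Coprime.Action
import Cfsg.Agent.Lib.Coprime.Generation
import Cfsg.Agent.Lib.Components.Basic
import Cfsg.Agent.Lib.Components.Layer
import Cfsg.Agent.Lib.Cores.Basic
import Cfsg.Agent.Lib.Classical.Linear

/-!
# Overgroups with a component: the uniqueness of the maximal subgroup containing it

In a group all of whose proper perfect subgroups are, modulo their odd core, `PSL₂(q)` or `A₇`,
let `E` be the perfect radical of a maximal subgroup `K` which has a component and contains the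
centraliser of an involution of `E`. Then `K` is the only maximal subgroup containing `E`.
-/

set_option autoImplicit false
set_option linter.style.haveILetI false
set_option linter.unusedSectionVars false

namespace Cfsg.Agent.GW.Overgroups

open Subgroup
open scoped commutatorElement

universe u v

variable {G : Type u} [Group G]

/-- The largest perfect subgroup of `K`. -/
def maxPerfect (K : Subgroup G) : Subgroup G := sSup {P | P ≤ K ∧ ⁅P, P⁆ = P}

theorem le_maxPerfect {P K : Subgroup G} (h : P ≤ K) (hP : ⁅P, P⁆ = P) : P ≤ maxPerfect K :=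
  le_sSup ⟨h, hP⟩

theorem maxPerfect_le (K : Subgroup G) : maxPerfect K ≤ K := sSup_le fun _ h => h.1

theorem maxPerfect_perfect (K : Subgroup G) : ⁅maxPerfect K, maxPerfect K⁆ = maxPerfect K := by
  refine le_antisymm (commutator_le.2 fun a ha b hb => ?_) (sSup_le fun P hP => ?_)
  · simp only [commutatorElement_def]
    exact mul_mem (mul_mem (mul_mem ha hb) (inv_mem ha)) (inv_mem hb)
  · conv_lhs => rw [← hP.2]
    exact commutator_mono (le_sSup hP) (le_sSup hP)

theorem le_normalizer_maxPerfect (K : Subgroup G) : K ≤ normalizer (maxPerfect K : Set G) := by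
  intro k hk
  have key : ∀ g ∈ K, (maxPerfect K).map (MulAut.conj g).toMonoidHom ≤ maxPerfect K := by
    intro g hg
    refine le_maxPerfect ?_ (by rw [← map_commutator, maxPerfect_perfect])
    rintro _ ⟨x, hx, rfl⟩
    exact mul_mem (mul_mem hg (maxPerfect_le K hx)) (inv_mem hg)
  refine mem_normalizer_iff.2 fun x => ⟨fun hx => key k hk ⟨x, hx, rfl⟩, fun hx => ?_⟩
  have h := key k⁻¹ (inv_mem hk) ⟨_, hx, rfl⟩
  simpa [mul_assoc] using h

/-- The odd core of a subgroup, as a subgroup of the whole group. -/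
def oddPart (R : Subgroup G) : Subgroup G := (Cfsg.oddCore R).map R.subtype

theorem oddPart_le (R : Subgroup G) : oddPart R ≤ R := map_subtype_le _

variable [Finite G]

theorem oddPart_odd (R : Subgroup G) : Odd (Nat.card (oddPart R)) := by
  rw [oddPart, card_map_of_injective R.subtype_injective]
  exact Cores.oddCore_odd

theorem oddPart_solvable (R : Subgroup G) : Group.IsSolvable (oddPart R) :=
  Cfsg.Agent.S0205.result (oddPart_odd R)

theorem le_normalizer_oddPart (R : Subgroup G) : R ≤ normalizer (oddPart R : Set G) := by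
  haveI : (Cfsg.oddCore R).Normal := Cores.pPrimeCore_normal 2
  exact (normal_subgroupOf_iff_le_normalizer (oddPart_le R)).1 (by
    rw [oddPart, Subgroup.subgroupOf, comap_map_eq_self_of_injective R.subtype_injective]
    infer_instance)

/-- An element normalising `R` normalises its odd core. -/
theorem mem_normalizer_oddPart {R : Subgroup G} {g : G} (hg : g ∈ normalizer (R : Set G)) :
    g ∈ normalizer (oddPart R : Set G) := by
  haveI hchar : (Cfsg.oddCore R).Characteristic := Cores.pPrimeCore_characteristic 2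
  have key : ∀ g ∈ normalizer (R : Set G), ∀ x ∈ oddPart R, g * x * g⁻¹ ∈ oddPart R := by
    rintro g hg _ ⟨x, hx, rfl⟩
    refine ⟨R.normalizerMonoidHom ⟨g, hg⟩ x, ?_, rfl⟩
    have := Subgroup.characteristic_iff_map_eq.1 hchar (R.normalizerMonoidHom ⟨g, hg⟩)
    exact this ▸ Subgroup.mem_map_of_mem (R.normalizerMonoidHom ⟨g, hg⟩).toMonoidHom hx
  refine mem_normalizer_iff.2 fun x => ⟨key g hg x, fun hx => ?_⟩
  have := key g⁻¹ (inv_mem hg) _ hx
  simpa [mul_assoc] using this

/-- A perfect solvable subgroup is trivial. -/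
theorem eq_bot_of_perfect {P : Subgroup G} (hP : ⁅P, P⁆ = P) (hs : Group.IsSolvable P) : P = ⊥ := by
  by_contra h
  exact (Coprime.commutator_lt_of_isSolvable hs h).ne hP

/-- The hypothesis on the proper subgroups: a proper perfect subgroup is `PSL₂(q)` or `A₇` modulo
its odd core. -/
def KnownProper (G : Type u) [Group G] [Finite G] : Prop :=
  ∀ P : Subgroup G, P ≠ ⊤ → P ≠ ⊥ → ⁅P, P⁆ = P →
    (∃ (F : Type) (_ : Field F) (_ : Fintype F), Odd (Fintype.card F) ∧ 3 < Fintype.card F ∧
        Nonempty (P ⧸ Cfsg.oddCore P ≃* Matrix.ProjectiveSpecialLinearGroup (Fin 2) F)) ∨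
      Nonempty (P ⧸ Cfsg.oddCore P ≃* alternatingGroup (Fin 7))

/-- A group isomorphic to `PSL₂(q)`, `q > 3` odd, or to `A₇`. -/
def IsType (Q : Type v) [Group Q] : Prop :=
  (∃ (F : Type) (_ : Field F) (_ : Fintype F), Odd (Fintype.card F) ∧ 3 < Fintype.card F ∧
      Nonempty (Q ≃* Matrix.ProjectiveSpecialLinearGroup (Fin 2) F)) ∨
    Nonempty (Q ≃* alternatingGroup (Fin 7))

theorem isType_simple {Q : Type v} [Group Q] (h : IsType Q) : IsSimpleGroup Q := by
  rcases h with ⟨F, i1, i2, -, h3, ⟨e⟩⟩ | ⟨⟨e⟩⟩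
  · haveI : IsSimpleGroup (Matrix.ProjectiveSpecialLinearGroup (Fin 2) F) :=
      Classical.Linear.isSimpleGroup_PSL_fin le_rfl fun _ => h3
    exact e.isSimpleGroup
  · haveI : IsSimpleGroup (alternatingGroup (Fin 7)) := alternatingGroup.isSimpleGroup (by simp)
    exact e.isSimpleGroup

/-- In a group of this type, a proper overgroup of the centraliser of an involution is solvable. -/
theorem isType_eq_top {Q : Type v} [Group Q] (h : IsType Q) {t : Q} (ht : orderOf t = 2)
    {M : Subgroup Q} (hC : centralizer ({t} : Set Q) ≤ M) (hns : ¬ Group.IsSolvable M) : M = ⊤ := by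
  have key : ∀ {Q' : Type} [Group Q'] (e : Q ≃* Q')
      (_ : ∀ (t' : Q') (M' : Subgroup Q'), orderOf t' = 2 → centralizer ({t'} : Set Q') ≤ M' →
        ¬ Group.IsSolvable M' → M' = ⊤), M = ⊤ := by
    intro Q' _ e hQ
    have h1 := hQ (e t) (M.map e.toMonoidHom) (by rw [MulEquiv.orderOf_eq, ht]) ?_ ?_
    · have := Subgroup.map_injective (f := e.toMonoidHom) e.injective
        (h1.trans (Subgroup.map_top_of_surjective _ e.surjective).symm)
      exact this
    · intro x hx
      refine ⟨e.symm x, hC (mem_centralizer_singleton_iff.2 (e.injective ?_)), e.apply_symm_apply x⟩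
      rw [map_mul, map_mul, e.apply_symm_apply]
      exact mem_centralizer_singleton_iff.1 hx
    · intro hs
      haveI := hs
      exact hns (Group.isSolvable_of_isSolvable_injective
        (f := (M.equivMapOfInjective e.toMonoidHom e.injective).toMonoidHom) (MulEquiv.injective _))
  rcases h with ⟨F, i1, i2, hodd, h3, ⟨e⟩⟩ | ⟨⟨e⟩⟩
  · haveI : IsSimpleGroup (Matrix.ProjectiveSpecialLinearGroup (Fin 2) F) :=
      Classical.Linear.isSimpleGroup_PSL_fin le_rfl fun _ => h3
    exact key e fun t' M' ht' hC' hns' => OvergroupsFact.psl_eq_top hodd h3 ht' hC' hns'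
  · exact key e fun t' M' ht' hC' hns' => OvergroupsFact.altSeven_eq_top t' ht' hC' hns'

/-- A subgroup with a component: its largest perfect subgroup is quasisimple and centralises the odd
core. -/
theorem component_structure (hknown : KnownProper G) {K : Subgroup G} (hK : K ≠ ⊤)
    (hcomp : Cfsg.generalizedFittingSubgroup K ≠ Cfsg.fittingSubgroup K) :
    maxPerfect K ≠ ⊥ ∧ oddPart (maxPerfect K) ≤ centralizer (maxPerfect K : Set G) ∧
      oddPart K ≤ centralizer (maxPerfect K : Set G) := by
  set E := maxPerfect K with hE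
  obtain ⟨L, hL⟩ : ∃ L : Subgroup K, Cfsg.IsComponent L := by
    by_contra hne
    push Not at hne
    refine hcomp ?_
    rw [Cfsg.generalizedFittingSubgroup, sup_eq_right]
    exact sSup_le fun L hL => absurd hL (hne L)
  set L' := L.map K.subtype with hL'
  have hLperf : ⁅L', L'⁆ = L' := by rw [hL', ← map_commutator, Components.Basic.component_commutator_self hL]
  have hLE : L' ≤ E := le_maxPerfect (map_subtype_le _) hLperf
  have hLne : L' ≠ ⊥ := by
    rw [hL', Ne, map_eq_bot_iff_of_injective _ K.subtype_injective]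
    intro h
    exact Components.Basic.component_not_le_of_isSolvable hL (H := L)
      (by rw [h]; infer_instance) le_rfl
  have hE1 : E ≠ ⊥ := fun h => hLne (le_bot_iff.1 (hLE.trans h.le))
  -- a component centralises every normal solvable subgroup
  have hcent : ∀ X : Subgroup G, X ≤ K → K ≤ normalizer (X : Set G) → Group.IsSolvable X →
      ⁅L', X⁆ = ⊥ := by
    intro X hXK hKX hXs
    haveI : (X.subgroupOf K).Normal := normal_subgroupOf_of_le_normalizer hKX
    haveI : Group.IsSolvable (X.subgroupOf K) :=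
      Group.isSolvable_of_isSolvable_injective (f := (subgroupOfEquivOfLe hXK).toMonoidHom)
        (MulEquiv.injective _)
    have := congrArg (Subgroup.map K.subtype)
      (Components.Basic.component_commutator_eq_bot_of_isSolvable hL
        (inferInstance : (X.subgroupOf K).Normal).isSubnormal inferInstance)
    rwa [map_commutator, map_subgroupOf_eq_of_le hXK, Subgroup.map_bot] at this
  have hEK : E ≤ K := maxPerfect_le K
  have hKE : K ≤ normalizer (E : Set G) := le_normalizer_maxPerfect K
  have hOE : ⁅L', oddPart E⁆ = ⊥ := hcent _ ((oddPart_le E).trans hEK)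
    (fun k hk => mem_normalizer_oddPart (hKE hk)) (oddPart_solvable E)
  -- the component is all of `E`
  have htop : E ≠ ⊤ := fun h => hK (top_le_iff.1 (h.symm.le.trans hEK))
  have htype : IsType (E ⧸ Cfsg.oddCore E) := hknown E htop hE1 (maxPerfect_perfect K)
  haveI := isType_simple htype
  haveI : (Cfsg.oddCore E).Normal := Cores.pPrimeCore_normal 2
  set π := QuotientGroup.mk' (Cfsg.oddCore E)
  have hLsn : (L'.subgroupOf E).IsSubnormal := by
    have h1 : (L'.subgroupOf K).IsSubnormal := by
      rw [hL', Subgroup.subgroupOf, comap_map_eq_self_of_injective K.subtype_injective]; exact hL.1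
    have h2 := h1.subgroupOf (K := E.subgroupOf K)
    have h3 := h2.map (f := (subgroupOfEquivOfLe hEK).toMonoidHom) (MulEquiv.surjective _)
    convert h3 using 1
    ext x
    simp only [mem_map, mem_subgroupOf, MulEquiv.coe_toMonoidHom]
    exact ⟨fun hx => ⟨⟨⟨x, hEK x.2⟩, x.2⟩, hx, rfl⟩, fun ⟨y, hy, hyx⟩ => hyx ▸ hy⟩
  have himg : (L'.subgroupOf E).map π = ⊤ := by
    refine ((hLsn.map (QuotientGroup.mk'_surjective _)).eq_bot_or_top_of_isSimpleGroup
      inferInstance).resolve_left fun h => ?_
    rw [Subgroup.map_eq_bot_iff, QuotientGroup.ker_mk'] at h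
    have hle : L' ≤ oddPart E := fun x hx => ⟨⟨x, hLE hx⟩, h (mem_subgroupOf.2 hx), rfl⟩
    haveI := oddPart_solvable E
    exact hLne (eq_bot_of_perfect hLperf
      (Group.isSolvable_of_isSolvable_injective (f := Subgroup.inclusion hle)
        (Subgroup.inclusion_injective hle)))
  have hmem : ∀ x ∈ E, ∃ l ∈ L', ∃ o ∈ oddPart E, x = l * o := by
    intro x hx
    obtain ⟨l, hl, hlx⟩ : π ⟨x, hx⟩ ∈ (L'.subgroupOf E).map π := himg ▸ mem_top _
    refine ⟨l, hl, ((l⁻¹ * ⟨x, hx⟩ : E) : G), ⟨_, QuotientGroup.eq.1 hlx, rfl⟩, ?_⟩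
    simp
  have hLeq : L' = E := by
    refine le_antisymm hLE ?_
    rw [hE, ← maxPerfect_perfect K]
    refine commutator_le.2 fun a ha b hb => ?_
    -- modulo the odd core, and by perfection
    by_contra hnot
    haveI hLn : (L'.subgroupOf E).Normal := by
      refine ⟨fun y hy x => ?_⟩
      obtain ⟨l, hl, o, ho, hxe⟩ := hmem x x.2
      rw [mem_subgroupOf] at hy ⊢
      push_cast
      have hoy : o * y * o⁻¹ = (y : G) := by
        have := commutator_eq_bot_iff_le_centralizer.1 hOE hy
        rw [mem_centralizer_iff] at this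
        rw [this o ho, mul_inv_cancel_right]
      rw [hxe, show l * o * (y : G) * (l * o)⁻¹ = l * (o * (y : G) * o⁻¹) * l⁻¹ by group, hoy]
      exact mul_mem (mul_mem hl hy) (inv_mem hl)
    haveI : Group.IsSolvable (E ⧸ L'.subgroupOf E) := by
      haveI : Group.IsSolvable (Cfsg.oddCore E) := Cfsg.Agent.S0205.result Cores.oddCore_odd
      refine Group.isSolvable_of_surjective (f := (QuotientGroup.mk' (L'.subgroupOf E)).comp
        (Cfsg.oddCore E).subtype) fun y => ?_
      obtain ⟨x, rfl⟩ := QuotientGroup.mk'_surjective _ y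
      obtain ⟨l, hl, o, ⟨o', ho', ho''⟩, hxe⟩ := hmem x x.2
      refine ⟨⟨o', ho'⟩, ?_⟩
      refine QuotientGroup.eq.2 (mem_subgroupOf.2 ?_)
      show ((o' : E) : G)⁻¹ * (x : G) ∈ L'
      rw [hxe, show ((o' : E) : G) = o from ho'']
      have hxe' : o⁻¹ * (l * o) = l := by
        have := commutator_eq_bot_iff_le_centralizer.1 hOE hl
        rw [mem_centralizer_iff] at this
        rw [← this o ⟨o', ho', ho''⟩, inv_mul_cancel_left]
      rw [hxe']
      exact hl
    have hp : ⁅(⊤ : Subgroup (E ⧸ L'.subgroupOf E)), (⊤ : Subgroup (E ⧸ L'.subgroupOf E))⁆ = ⊤ := by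
      rw [← map_top_of_surjective _ (QuotientGroup.mk'_surjective (L'.subgroupOf E)),
        ← map_commutator]
      congr 1
      apply Subgroup.map_injective E.subtype_injective
      rw [map_commutator, ← MonoidHom.range_eq_map, E.range_subtype]
      exact maxPerfect_perfect K
    have hbot := eq_bot_of_perfect hp inferInstance
    have hab := mem_bot.1 (hbot ▸ mem_top (QuotientGroup.mk' (L'.subgroupOf E) ⟨⁅a, b⁆, by
      rw [hE, ← maxPerfect_perfect K]; exact commutator_mem_commutator ha hb⟩))
    exact hnot (mem_subgroupOf.1 ((QuotientGroup.eq_one_iff (N := L'.subgroupOf E) _).1 hab))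
  refine ⟨hE1, ?_, ?_⟩
  · rw [← commutator_eq_bot_iff_le_centralizer, commutator_comm]
    rwa [hLeq] at hOE
  · rw [← commutator_eq_bot_iff_le_centralizer, commutator_comm, ← hLeq]
    exact hcent _ (oddPart_le K) (le_normalizer_oddPart K) (oddPart_solvable K)

/-- Lemma L: a proper subgroup containing `E` lies in `K`. -/
theorem le_of_perfect_le (hknown : KnownProper G) [IsSimpleGroup G] {K : Subgroup G}
    (hK : IsCoatom K) (hE : maxPerfect K ≠ ⊥) {W : Subgroup G} [IsMulCommutative W]
    (hWc : ¬ IsCyclic W) (hW2 : IsPGroup 2 W) (hWE : W ≤ maxPerfect K)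
    (hWK : ∀ w ∈ W, w ≠ 1 → centralizer ({w} : Set G) ≤ K)
    {t : G} (htW : t ∈ W) (ht : orderOf t = 2)
    {L : Subgroup G} (hL : L ≠ ⊤) (hEL : maxPerfect K ≤ L) : L ≤ K := by
  haveI : Fact (Nat.Prime 2) := ⟨Nat.prime_two⟩
  set E := maxPerfect K with hEdef
  set R := maxPerfect L with hRdef
  have hER : E ≤ R := le_maxPerfect hEL (maxPerfect_perfect K)
  have hR1 : R ≠ ⊥ := fun h => hE (le_bot_iff.1 (hER.trans h.le))
  have hRt : R ≠ ⊤ := fun h => hL (top_le_iff.1 (h.symm.le.trans (maxPerfect_le L)))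
  have htype : IsType (R ⧸ Cfsg.oddCore R) := hknown R hRt hR1 (maxPerfect_perfect L)
  haveI : (Cfsg.oddCore R).Normal := Cores.pPrimeCore_normal 2
  set π := QuotientGroup.mk' (Cfsg.oddCore R) with hπ
  -- the odd core of `R` lies in `K`
  have hWR : W ≤ R := hWE.trans hER
  obtain ⟨k, hk⟩ := IsPGroup.iff_card.1 hW2
  have hcop : (Nat.card W).Coprime (Nat.card (oddPart R)) := by
    rw [hk]; exact (Nat.coprime_two_left.2 (oddPart_odd R)).pow_left k
  have hWN : W ≤ normalizer (oddPart R : Set G) := hWR.trans (le_normalizer_oddPart R)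
  have hORK : oddPart R ≤ K := by
    rw [← Coprime.fixedGen_eq hWc hWN hcop]
    exact iSup₂_le fun w hw => inf_le_right.trans (hWK w hw.1 hw.2)
  have htR : t ∈ R := hWR htW
  have hto : orderOf (π ⟨t, htR⟩) = 2 := by
    refine orderOf_eq_prime ?_ fun h1 => ?_
    · rw [← map_pow, show (⟨t, htR⟩ : R) ^ 2 = 1 from Subtype.ext (by
        rw [SubmonoidClass.coe_pow, ← ht]; exact pow_orderOf_eq_one t), map_one]
    · have hmem : t ∈ oddPart R := ⟨⟨t, htR⟩, (QuotientGroup.eq_one_iff _).1 h1, rfl⟩
      have hd := Subgroup.orderOf_dvd_natCard _ hmem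
      rw [ht] at hd
      exact (Nat.not_even_iff_odd.2 (oddPart_odd R)) (even_iff_two_dvd.2 hd)
  have hC : centralizer ({π ⟨t, htR⟩} : Set (R ⧸ Cfsg.oddCore R)) ≤ (K.subgroupOf R).map π := by
    intro y hy
    obtain ⟨⟨x, hx⟩, rfl⟩ := QuotientGroup.mk'_surjective _ y
    have hA : zpowers t ≤ normalizer (oddPart R : Set G) :=
      zpowers_le.2 (le_normalizer_oddPart R htR)
    obtain ⟨o, ho, hoc⟩ := Coprime.exists_fixed_in_coset (k := x) hA
      (by rw [Nat.card_zpowers, ht]; exact Nat.coprime_two_left.2 (oddPart_odd R))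
      (Or.inr (oddPart_solvable R)) (by
        intro a ha
        obtain ⟨j, rfl⟩ := mem_zpowers_iff.1 ha
        refine ⟨(⟨x, hx⟩ : R)⁻¹ * ((⟨t, htR⟩ : R) ^ j * ⟨x, hx⟩ * ((⟨t, htR⟩ : R) ^ j)⁻¹), ?_, ?_⟩
        · apply (QuotientGroup.eq_one_iff _).1
          show π _ = 1
          have hc : Commute (π ⟨x, hx⟩) (π ⟨t, htR⟩ ^ j) :=
            Commute.zpow_right (mem_centralizer_singleton_iff.1 hy) j
          rw [map_mul, map_inv, map_mul, map_mul, map_inv, map_zpow, ← hc.eq, mul_inv_cancel_right,
            inv_mul_cancel]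
        · simp)
    have hxo : x * o ∈ K := hWK t htW (fun h => by
        rw [h, orderOf_one] at ht; exact absurd ht (by decide))
      (mem_centralizer_singleton_iff.2
        (mem_centralizer_iff.1 hoc t (mem_zpowers t)).symm)
    refine ⟨⟨x, hx⟩, ?_, rfl⟩
    show x ∈ K
    simpa using mul_mem hxo (inv_mem (hORK ho))
  have hns : ¬ Group.IsSolvable ((K.subgroupOf R).map π) := by
    intro hs
    have hle : (E.subgroupOf R).map π ≤ (K.subgroupOf R).map π :=
      map_mono (comap_mono (maxPerfect_le K))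
    have hbot : (E.subgroupOf R).map π = ⊥ := by
      refine eq_bot_of_perfect ?_ (Group.isSolvable_of_isSolvable_injective
        (f := Subgroup.inclusion hle) (Subgroup.inclusion_injective hle))
      rw [← map_commutator]
      congr 1
      apply Subgroup.map_injective R.subtype_injective
      rw [map_commutator, map_subgroupOf_eq_of_le hER, maxPerfect_perfect]
    rw [Subgroup.map_eq_bot_iff, QuotientGroup.ker_mk'] at hbot
    have hEO : E ≤ oddPart R := fun x hx => ⟨⟨x, hER hx⟩, hbot (mem_subgroupOf.2 hx), rfl⟩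
    haveI := oddPart_solvable R
    exact hE (eq_bot_of_perfect (maxPerfect_perfect K) (Group.isSolvable_of_isSolvable_injective
      (f := Subgroup.inclusion hEO) (Subgroup.inclusion_injective hEO)))
  have htop := isType_eq_top htype hto hC hns
  have hRK : R ≤ K := by
    intro x hx
    obtain ⟨y, hy, hyx⟩ : π ⟨x, hx⟩ ∈ (K.subgroupOf R).map π := htop ▸ mem_top _
    have ho : ((y⁻¹ * ⟨x, hx⟩ : R) : G) ∈ K := hORK ⟨_, QuotientGroup.eq.1 hyx, rfl⟩
    simpa using mul_mem (mem_subgroupOf.1 hy) ho
  have hRE : R = E := le_antisymm (le_maxPerfect hRK (maxPerfect_perfect L)) hER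
  have hLN : L ≤ normalizer (E : Set G) := hRE ▸ le_normalizer_maxPerfect L
  rcases (hK.le_iff.1 (le_normalizer_maxPerfect K)) with h | h
  · exfalso
    haveI : E.Normal := normalizer_eq_top_iff.1 h
    rcases IsSimpleGroup.eq_bot_or_eq_top_of_normal E inferInstance with h' | h'
    · exact hE h'
    · exact hK.1 (top_le_iff.1 (h'.symm.le.trans (maxPerfect_le K)))
  · exact h ▸ hLN

end Cfsg.Agent.GW.Overgroups
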