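import Cfsg.Agent.Lib.GW.BenderSetting
import Cfsg.Agent.Lib.GW.OvergroupsBasic

/-!
# The dihedral Sylow theorem: what is used about a proper subgroup with a component

`E` is the largest perfect subgroup of `B` and `D` its odd core.  Modulo `D` the group `E` is
`PSL₂(q)` or `A₇` and `B` acts faithfully on it.
-/

set_option autoImplicit false

namespace Cfsg.Agent.GW.Bender

open Subgroup Cfsg.Agent.GW.Overgroups

universe u

variable {G : Type u} [Group G] [Finite G]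

/-- The component of type `PSL₂(q)`. -/
def IsPSLType (B : Subgroup G) : Prop :=
  ∃ (F : Type) (_ : Field F) (_ : Fintype F), Odd (Fintype.card F) ∧ 3 < Fintype.card F ∧
    Nonempty (maxPerfect B ⧸ Cfsg.oddCore (maxPerfect B) ≃*
      Matrix.ProjectiveSpecialLinearGroup (Fin 2) F)

/-- An element of prime power order. -/
def IsPow (p : ℕ) (x : G) : Prop := ∃ k : ℕ, orderOf x = p ^ k

/-- The facts about a proper subgroup with a component. -/
structure CompFacts (B : Subgroup G) : Prop where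
  ne_bot : maxPerfect B ≠ ⊥
  centralizer_eq : B ⊓ centralizer (maxPerfect B : Set G) = oddPart B
  derived : ⁅B, B⁆ ≤ maxPerfect B ⊔ oddPart B
  mem_of_two : ∀ x ∈ maxPerfect B ⊔ oddPart B, IsPow 2 x → x ∈ maxPerfect B
  /-- If a Sylow 2-subgroup is a four-group, it lies in the component. -/
  mem_of_four : ¬ 8 ∣ Nat.card G → ∀ x ∈ B, orderOf x = 2 → x ∈ maxPerfect B
  exists_inner : ∀ t ∈ maxPerfect B, orderOf t = 2 →
    ∃ v ∈ maxPerfect B, orderOf v = 2 ∧ v ≠ t ∧ t * v = v * t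
  exists_cycle : ∀ t ∈ maxPerfect B, ∀ v ∈ maxPerfect B, orderOf t = 2 → orderOf v = 2 → v ≠ t →
    t * v = v * t → ∃ g ∈ maxPerfect B, g * t * g⁻¹ = v ∧ g * v * g⁻¹ = t * v
  /-- No field part. -/
  inner_part : ∀ t ∈ maxPerfect B, orderOf t = 2 → ∀ p : ℕ, p.Prime → p ≠ 2 →
    ∀ x ∈ B, t * x = x * t → IsPow p x →
    (∀ y ∈ maxPerfect B, t * y = y * t → Odd (orderOf y) → (orderOf y).Coprime p →
      IsPow p (x * y * x⁻¹ * y⁻¹)) →
    x ∈ maxPerfect B ⊔ oddPart B
  /-- The type `A₇`: everything is inner, and some inner involution of `C(t)` centralizes the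
  odd-order elements of `C(t)`. -/
  alt : ¬ IsPSLType B → (∀ v ∈ B, orderOf v = 2 → v ∈ maxPerfect B) ∧
    ∀ t ∈ maxPerfect B, orderOf t = 2 →
      ∃ v ∈ maxPerfect B, orderOf v = 2 ∧ v ≠ t ∧ t * v = v * t ∧
        ∀ x ∈ B, t * x = x * t → Odd (orderOf x) → v * x = x * v
  four_fixed : IsPSLType B → ∀ t ∈ maxPerfect B, ∀ v ∈ maxPerfect B, orderOf t = 2 →
    orderOf v = 2 → v ≠ t → t * v = v * t →
    ∀ x ∈ maxPerfect B ⊔ oddPart B, Odd (orderOf x) → t * x = x * t → v * x = x * v →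
      x ∈ oddPart B
  cycle_fixed : IsPSLType B → ∀ t ∈ maxPerfect B, ∀ v ∈ maxPerfect B, orderOf t = 2 →
    orderOf v = 2 → v ≠ t → t * v = v * t → ∀ g ∈ maxPerfect B, g * t * g⁻¹ = v →
    g * v * g⁻¹ = t * v → ∀ a ∈ B, Odd (orderOf a) → t * a = a * t → v * a = a * v → a * g = g * a
  /-- The centre is trivial unless `q = 9`, where the torus has no odd part. -/
  centre : IsPSLType B → maxPerfect B ⊓ oddPart B = ⊥ ∨
    ∀ t ∈ maxPerfect B, orderOf t = 2 → ∀ x ∈ B, t * x = x * t → Odd (orderOf x) → x ∈ oddPart B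
  torus : IsPSLType B → ∀ t ∈ maxPerfect B, orderOf t = 2 →
    ∀ x ∈ maxPerfect B ⊔ oddPart B, Odd (orderOf x) → t * x = x * t →
      (∀ y ∈ maxPerfect B ⊔ oddPart B, Odd (orderOf y) → t * y = y * t →
        x * y * x⁻¹ * y⁻¹ ∈ oddPart B) ∧
      ∀ v ∈ B, orderOf v = 2 → v ≠ t → t * v = v * t → v * x * v⁻¹ * x ∈ oddPart B
  torus_cyclic : IsPSLType B → ∀ t ∈ maxPerfect B, orderOf t = 2 →
    ∀ X : Subgroup G, X ≤ maxPerfect B ⊓ centralizer ({t} : Set G) → Odd (Nat.card X) →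
      X ⊓ oddPart B = ⊥ → IsCyclic X
  /-- An outer involution centralizes a torus of the other type. -/
  outer : ∀ t ∈ maxPerfect B, orderOf t = 2 → ∀ v ∈ B, v ∉ maxPerfect B → orderOf v = 2 →
    t * v = v * t → ∃ y ∈ maxPerfect B, v * y = y * v ∧ t * y * t⁻¹ = y⁻¹ ∧ Odd (orderOf y) ∧
      (orderOf y).Coprime (Nat.card (maxPerfect B ⊓ centralizer ({t} : Set G) : Subgroup G)) ∧
      ∀ p : ℕ, p.Prime → p ≠ 2 →
        p ∣ Nat.card (maxPerfect B ⊓ centralizer ({t} : Set G) : Subgroup G) → p + 1 < orderOf y ∧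
          ∀ f ∈ maxPerfect B, v * f = f * v → IsPow p f → f ∈ oddPart B

end Cfsg.Agent.GW.Bender
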