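import Cfsg.Agent.Lib.GW.BenderComponentModel
import Cfsg.Agent.Lib.GW.ConsQuaternion

/-!
# A proper subgroup with a component: lifting from the simple quotient
-/

set_option autoImplicit false
set_option linter.style.haveILetI false

namespace Cfsg.Agent.GW.Bender

open Subgroup Cfsg.Agent.GW.Overgroups Cfsg.Agent.Involutions
open scoped commutatorElement

universe u v

/-- In a simple group with dihedral Sylow 2-subgroups every four-group has a rotation. -/
theorem exists_cycle_simple {Q : Type u} [Group Q] [Finite Q] [IsSimpleGroup Q] (T : Sylow 2 Q)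
    {k : ℕ} (hk : 2 ≤ k) (eT : (T : Subgroup Q) ≃* DihedralGroup k) {a b : Q} (ha : orderOf a = 2)
    (hb : orderOf b = 2) (hne : b ≠ a) (hc : Commute a b) :
    ∃ g : Q, g * a * g⁻¹ = b ∧ g * b * g⁻¹ = a * b := by
  haveI : Fact (Nat.Prime 2) := ⟨Nat.prime_two⟩
  have ha2 := Involutions.Basic.inv_sq_one ha
  have hb2 := Involutions.Basic.inv_sq_one hb
  haveI : IsMulCommutative (closure ({a, b} : Set Q)) := Subgroup.isMulCommutative_closure (by
    rintro x (rfl | rfl) y (rfl | rfl)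
    exacts [rfl, hc.eq, hc.eq.symm, rfl])
  have hW : IsPGroup 2 (closure ({a, b} : Set Q)) := by
    refine fun x => ⟨1, Subtype.ext ?_⟩
    rw [pow_one, Subgroup.coe_pow, OneMemClass.coe_one]
    obtain ⟨x, hx⟩ := x
    induction hx using closure_induction with
    | mem x hx => rcases hx with rfl | rfl <;> rw [sq] <;> assumption
    | one => simp
    | mul x y hx hy ihx ihy =>
      have hxy : Commute x y := congrArg Subtype.val (IsMulCommutative.is_comm.comm
        (⟨x, hx⟩ : closure ({a, b} : Set Q)) ⟨y, hy⟩)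
      rw [hxy.mul_pow, ihx, ihy, one_mul]
    | inv x _ ih => rw [inv_pow, ih, inv_one]
  obtain ⟨T', hT'⟩ := hW.exists_le_sylow
  obtain ⟨d, hdS, -⟩ := Assembly.exists_data T' ((T.equiv T').symm.trans eT) hk
  have haS : a ∈ (d.S : Subgroup Q) := hdS ▸ hT' (subset_closure (by simp))
  have hbS : b ∈ (d.S : Subgroup Q) := hdS ▸ hT' (subset_closure (by simp))
  have hrot : ∀ i, ∃ g : Q, g * d.t * g⁻¹ = d.u i ∧ g * d.u i * g⁻¹ = d.t * d.u i := d.rho
  have htc : ∀ i, d.t * d.u i = d.u i * d.t := fun i =>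
    ((mul_inv_eq_iff_eq_mul.1 (DihedralSylow.z_conj d.S d.e d.dvd (d.u_mem i))).trans rfl).symm
  rcases ((DihedralSylow.exists_mem_four d.S d.e d.dvd d.ne_zero haS ha2).resolve_left
      (Involutions.Basic.ne_one ha)) with rfl | ⟨i, rfl⟩
  · obtain ⟨i, rfl⟩ := (((DihedralSylow.exists_mem_four d.S d.e d.dvd d.ne_zero hbS hb2).resolve_left
      (Involutions.Basic.ne_one hb))).resolve_left hne
    exact hrot i
  change ∃ g : Q, g * d.u i * g⁻¹ = b ∧ g * b * g⁻¹ = d.u i * b
  obtain ⟨g, hg1, hg2⟩ := hrot i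
  have hg3 : g * (d.t * d.u i) * g⁻¹ = d.t := by
    rw [← conj_mul, hg1, hg2, htc, ← mul_assoc, d.u_sq, one_mul]
  rcases ((DihedralSylow.exists_mem_four d.S d.e d.dvd d.ne_zero hbS hb2).resolve_left
      (Involutions.Basic.ne_one hb)) with rfl | ⟨j, rfl⟩
  · refine ⟨g⁻¹, ?_, ?_⟩
    · show g⁻¹ * d.u i * g⁻¹⁻¹ = d.t
      calc g⁻¹ * d.u i * g⁻¹⁻¹ = g⁻¹ * (g * d.t * g⁻¹) * g⁻¹⁻¹ := by rw [hg1]
        _ = _ := by group
    · show g⁻¹ * d.t * g⁻¹⁻¹ = d.u i * d.t
      calc g⁻¹ * d.t * g⁻¹⁻¹ = g⁻¹ * (g * (d.t * d.u i) * g⁻¹) * g⁻¹⁻¹ := by rw [hg3]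
        _ = d.t * d.u i := by group
        _ = _ := htc i
  · change ∃ g : Q, g * d.u i * g⁻¹ = d.u j ∧ g * d.u j * g⁻¹ = d.u i * d.u j
    change Commute (d.u i) (d.u j) at hc
    have hprod : d.u i * d.u j = d.t := by
      rcases DihedralSylow.exists_mem_four d.S d.e d.dvd d.ne_zero (mul_mem haS hbS)
        (show d.u i * d.u j * (d.u i * d.u j) = 1 by
          rw [← sq, hc.mul_pow, sq, sq, d.u_sq, d.u_sq, one_mul]) with h | h | ⟨l, h⟩
      · exact absurd ((eq_inv_of_mul_eq_one_right h).trans (d.u_inv i)) hne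
      · exact h
      · exfalso
        change DihedralSylow.refl d.S d.e i * DihedralSylow.refl d.S d.e j =
          DihedralSylow.refl d.S d.e l at h
        rw [DihedralSylow.refl, DihedralSylow.refl, DihedralSylow.refl, ← Subgroup.coe_mul,
          ← map_mul, SetLike.coe_eq_coe, EmbeddingLike.apply_eq_iff_eq] at h
        simp at h
    have hj : d.u j = d.t * d.u i := by
      rw [htc, ← hprod, ← mul_assoc, d.u_sq, one_mul]
    exact ⟨g, hg2.trans hj.symm, by rw [hj, hg3, ← hj, hprod]⟩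

namespace Model

variable {G : Type u} [Group G] [Finite G] {B : Subgroup G} {P : Type v} [Group P] (M : Model B P)

theorem ker_central (hb : CompBase B) : M.π.ker ≤ center (maxPerfect B) := fun z hz =>
  mem_center_iff.2 fun y =>
    Subtype.ext (mem_centralizer_iff.1 (hb.cent ((M.ker_π z).1 hz)) y y.2)

theorem ker_odd : Odd (Nat.card M.π.ker) := by
  let f : M.π.ker →* oddPart B :=
    MonoidHom.mk' (fun x => ⟨((x : maxPerfect B) : G), (M.ker_π _).1 x.2⟩) fun _ _ => rfl
  exact (oddPart_odd B).of_dvd_nat (Subgroup.card_dvd_of_injective f fun x y h =>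
    Subtype.ext (Subtype.ext (congrArg Subtype.val h :)))

theorem orderOf_dvd (x : maxPerfect B) :
    orderOf x ∣ orderOf (M.π x) * Nat.card M.π.ker := by
  refine orderOf_dvd_of_pow_eq_one ?_
  rw [pow_mul]
  exact orderOf_dvd_iff_pow_eq_one.1 (Subgroup.orderOf_dvd_natCard _
    (MonoidHom.mem_ker.2 (by rw [map_pow, pow_orderOf_eq_one])))

theorem odd_of_image {x : maxPerfect B} (h : Odd (orderOf (M.π x))) : Odd (orderOf (x : G)) := by
  rw [Subgroup.orderOf_coe]
  exact (h.mul M.ker_odd).of_dvd_nat (M.orderOf_dvd x)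

theorem commute_of_image (hb : CompBase B) (x t : maxPerfect B) (ht : orderOf (t : G) = 2)
    (h : Commute (M.π x) (M.π t)) : (t : G) * x = x * t :=
  M.commute_of_fix hb ⟨x, maxPerfect_le B x.2⟩ t ht (by
    rw [M.rho_of_mem x _ rfl, MulAut.conj_apply, h.eq, mul_inv_cancel_right])

theorem image_commute {x y : maxPerfect B} (h : (x : G) * y = y * x) :
    Commute (M.π x) (M.π y) := by
  show M.π x * M.π y = M.π y * M.π x
  rw [← map_mul, ← map_mul, show x * y = y * x from Subtype.ext h]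

theorem exists_invol {a : P} (ha : orderOf a = 2) :
    ∃ x : maxPerfect B, orderOf (x : G) = 2 ∧ M.π x = a := by
  obtain ⟨y, rfl⟩ := M.surj a
  obtain ⟨s, hs⟩ := M.ker_odd
  refine ⟨y ^ Nat.card M.π.ker, ?_, ?_⟩
  · have h1 : orderOf (y ^ Nat.card M.π.ker) ∣ 2 := by
      refine orderOf_dvd_of_pow_eq_one ?_
      rw [← pow_mul, mul_comm]
      refine orderOf_dvd_iff_pow_eq_one.1 ?_
      rw [← ha]
      exact M.orderOf_dvd y
    rw [Subgroup.orderOf_coe]
    refine ((Nat.dvd_prime Nat.prime_two).1 h1).resolve_left fun h => ?_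
    have h2 := congrArg M.π (orderOf_eq_one_iff.1 h)
    rw [map_pow, map_one, hs, pow_succ, pow_mul, ← ha, pow_orderOf_eq_one, one_pow, one_mul] at h2
    rw [h2, orderOf_one] at ha
    norm_num at ha
  · rw [map_pow, hs, pow_succ, pow_mul, ← ha, pow_orderOf_eq_one, one_pow, one_mul]

/-- A lift of the same order. -/
theorem exists_lift {a : P} {n : ℕ} (ha : a ^ n = 1) (hn : n.Coprime (Nat.card M.π.ker)) :
    ∃ x : maxPerfect B, M.π x = a ∧ x ^ n = 1 := by
  obtain ⟨y, rfl⟩ := M.surj a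
  have hcop : (Nat.card M.π.ker).Coprime (orderOf (M.π y)) :=
    hn.symm.coprime_dvd_right (orderOf_dvd_of_pow_eq_one ha)
  obtain ⟨m, hm⟩ := exists_pow_eq_self_of_coprime hcop
  refine ⟨(y ^ Nat.card M.π.ker) ^ m, by rw [map_pow, map_pow, hm], ?_⟩
  rw [← pow_mul, ← pow_mul]
  refine orderOf_dvd_iff_pow_eq_one.1 ((M.orderOf_dvd y).trans ?_)
  rw [mul_comm (orderOf (M.π y))]
  exact Nat.mul_dvd_mul_left _ ((orderOf_dvd_of_pow_eq_one ha).trans (dvd_mul_left _ _))

theorem lift_unique (hb : CompBase B) {x y : maxPerfect B} {n : ℕ}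
    (hn : n.Coprime (Nat.card M.π.ker)) (hx : x ^ n = 1) (hy : y ^ n = 1)
    (h : M.π x = M.π y) : x = y := by
  have hz : x⁻¹ * y ∈ M.π.ker := by rw [MonoidHom.mem_ker, map_mul, map_inv, h, inv_mul_cancel]
  have hc : Commute x (x⁻¹ * y) := mem_center_iff.1 (M.ker_central hb hz) x
  have h1 : (x⁻¹ * y) ^ n = 1 := by
    have h2 := hc.mul_pow n
    rw [mul_inv_cancel_left, hx, hy, one_mul] at h2
    exact h2.symm
  exact inv_mul_eq_one.1 (orderOf_eq_one_iff.1 (Nat.eq_one_of_dvd_coprimes hn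
    (orderOf_dvd_of_pow_eq_one h1) (Subgroup.orderOf_dvd_natCard _ hz)))

/-- An involution fixing a four-group of the quotient pointwise is inner. -/
theorem four_inner (hb : CompBase B) {v : B} (hv : orderOf (v : G) = 2) {a b : P}
    (ha : orderOf a = 2) (hbo : orderOf b = 2) (hne : a ≠ b) (hab : Commute a b)
    (hva : M.ρ v a = a) (hvb : M.ρ v b = b) : M.ρ v ∈ (MulAut.conj : P →* MulAut P).range := by
  obtain ⟨x, hx, rfl⟩ := M.exists_invol ha
  obtain ⟨y, hy, rfl⟩ := M.exists_invol hbo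
  have h1 := M.commute_of_image hb x y hy hab
  have h2 := M.commute_of_fix hb v x hx hva
  have h3 := M.commute_of_fix hb v y hy hvb
  have hxy : (x : G) ≠ y := fun h => hne (by rw [Subtype.ext h])
  have hvE : (v : G) ∈ maxPerfect B := by
    rcases hb.no_eight x y v hx hy hv hxy h1.symm h2.symm h3.symm with h | h | h <;> rw [h]
    exacts [x.2, y.2, mul_mem x.2 y.2]
  exact ⟨_, (M.rho_of_mem ⟨v, hvE⟩ v rfl).symm⟩

end Model

/-- Every four-group of the largest perfect subgroup has a rotation. -/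
theorem exists_cycle_lift {G : Type u} [Group G] [Finite G] (S : Sylow 2 G) {m : ℕ} (hm : 2 ≤ m)
    (e : (S : Subgroup G) ≃* DihedralGroup m) {B : Subgroup G} (hb : CompBase B) {t v : G}
    (ht : t ∈ maxPerfect B) (hv : v ∈ maxPerfect B) (ht2 : orderOf t = 2) (hv2 : orderOf v = 2)
    (hne : v ≠ t) (hc : t * v = v * t) :
    ∃ g ∈ maxPerfect B, g * t * g⁻¹ = v ∧ g * v * g⁻¹ = t * v := by
  haveI : Fact (Nat.Prime 2) := ⟨Nat.prime_two⟩
  haveI : NeZero m := ⟨by omega⟩
  set E := maxPerfect B with hE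
  set N := Cfsg.oddCore E with hN
  haveI := isType_simple hb.type
  haveI : N.Normal := Cores.pPrimeCore_normal 2
  have hev : Even (Nat.card E) := even_iff_two_dvd.2 (by
    rw [← ht2, ← Subgroup.orderOf_mk t ht]; exact orderOf_dvd_natCard _)
  let P0 : Sylow 2 E := default
  obtain ⟨k, hk, ⟨eP⟩⟩ := (Cons.sylow_sub_dihedral S e E P0).resolve_left
    (Cons.not_cyclic_of_perfect (Group.IsPerfect.mk hb.perfect) hev P0)
  obtain ⟨i⟩ := Cons.sylow_odd_quotient_equiv N Cores.oddCore_odd P0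
  obtain ⟨M⟩ := exists_model hb (MulEquiv.refl (E ⧸ N))
  let t' : E := ⟨t, ht⟩
  let v' : E := ⟨v, hv⟩
  obtain ⟨g, hg1, hg2⟩ := exists_cycle_simple _ hk (i.symm.trans eP) (M.invol t' ht2)
    (M.invol v' hv2) (fun h => hne (congrArg Subtype.val (M.invol_eq hb (x := v') (y := t') hv2 ht2 h)))
    (M.image_commute (x := t') (y := v') hc)
  obtain ⟨g, rfl⟩ := M.surj g
  have htv : orderOf ((t' * v' : E) : G) = 2 := by
    rw [Involutions.Basic.orderOf_two_iff]
    refine ⟨?_, fun h => hne ?_⟩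
    · show t * v * (t * v) = 1
      rw [← sq, Commute.mul_pow hc, sq, sq, Involutions.Basic.inv_sq_one ht2,
        Involutions.Basic.inv_sq_one hv2, one_mul]
    · exact (inv_eq_of_mul_eq_one_right (h : t * v = 1)).symm.trans
        (inv_eq_of_mul_eq_one_right (Involutions.Basic.inv_sq_one ht2))
  refine ⟨g, g.2, ?_, ?_⟩
  · exact congrArg Subtype.val (M.invol_eq hb (x := g * t' * g⁻¹) (y := v')
      (by simp [Involutions.Basic.orderOf_conj, t', ht2]) hv2 (by rw [map_mul, map_mul, map_inv, hg1]))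
  · exact congrArg Subtype.val (M.invol_eq hb (x := g * v' * g⁻¹) (y := t' * v')
      (by simp [Involutions.Basic.orderOf_conj, v', hv2]) htv
      (by rw [map_mul, map_mul, map_inv, map_mul, hg2]))

end Cfsg.Agent.GW.Bender
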