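import Mathlib
import Cfsg.Agent.Lib.GW.BenderPure
import Cfsg.Agent.Lib.GW.OrderBounds
import Cfsg.Agent.Lib.GW.ConsBase
import Cfsg.Agent.Lib.Involutions.KleinSylow

/-!
# Data for a simple group with dihedral Sylow 2-subgroups

The four-groups of the Sylow 2-subgroup have rotations; with trivial fixed points on the core and no
bare overgroup the normalizers of the nontrivial subgroups of the core lie in `H`.
-/

set_option autoImplicit false
set_option linter.style.haveILetI false

namespace Cfsg.Agent.GW.Assembly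

open Subgroup Cfsg.Agent.Involutions DihedralSylow DihedralEmbedding
open Cfsg.Agent.Transfer.Fusion (card_map_conj)

universe u

variable {G : Type u} [Group G] [Finite G]

omit [Finite G] in
/-- Elements taking `t` to `a` and to `b = ta` inside `{t, a, b}` generate a rotation. -/
theorem exists_rotation {t a b : G} (hab : t * a = b) (n p : G)
    (h1 : n * t * n⁻¹ = a) (h2 : n * a * n⁻¹ = t ∨ n * a * n⁻¹ = b)
    (h3 : p * t * p⁻¹ = b) (h4 : p * a * p⁻¹ = t ∨ p * a * p⁻¹ = a)
    (ht : t * t = 1) (hc : a * t = t * a) :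
    ∃ g : G, g * t * g⁻¹ = a ∧ g * a * g⁻¹ = t * a := by
  rcases h2 with h2 | h2
  · rcases h4 with h4 | h4
    · refine ⟨p⁻¹, ?_, ?_⟩
      · rw [← h4]; group
      · have h5 : p * b * p⁻¹ = a := by
          rw [← hab, ← conj_mul, h3, h4, ← hab, mul_assoc, hc, ← mul_assoc, ht, one_mul]
        rw [hab, ← h5]; group
    · refine ⟨p * n, ?_, ?_⟩
      · rw [show p * n * t * (p * n)⁻¹ = p * (n * t * n⁻¹) * p⁻¹ by group, h1, h4]
      · rw [show p * n * a * (p * n)⁻¹ = p * (n * a * n⁻¹) * p⁻¹ by group, h2, h3, hab]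
  · exact ⟨n, h1, h2.trans hab.symm⟩

variable (S : Sylow 2 G) {m : ℕ} (e : (S : Subgroup G) ≃* DihedralGroup m)

omit [Finite G] in
theorem z_mul_refl (hm : 2 ∣ m) (i : ZMod m) : z S e * DihedralSylow.refl S e i = DihedralSylow.refl S e (i + half m) := by
  rw [z, DihedralSylow.refl, DihedralSylow.refl, ← Subgroup.coe_mul, ← map_mul, DihedralGroup.r_mul_sr]
  congr 3
  rw [sub_eq_add_neg, neg_eq_of_add_eq_zero_left (half_add_half hm)]

/-- An element fixing a reflection and moving the central involution within the four-group. -/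
theorem exists_swap (hm : 2 ∣ m) (hm4 : 4 ∣ m) (hm0 : m ≠ 0)
    (h1 : ∀ a b : G, orderOf a = 2 → orderOf b = 2 → IsConj a b) (i : ZMod m) :
    ∃ p : G, p * DihedralSylow.refl S e i * p⁻¹ = DihedralSylow.refl S e i ∧ p * z S e * p⁻¹ = z S e * DihedralSylow.refl S e i := by
  haveI : Fact (Nat.Prime 2) := ⟨Nat.prime_two⟩
  have hz := orderOf_z S e hm hm0
  have hu : orderOf (DihedralSylow.refl S e i) = 2 := by
    rw [DihedralSylow.refl, Subgroup.orderOf_coe, MulEquiv.orderOf_eq, DihedralGroup.orderOf_sr]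
  obtain ⟨g, hg⟩ := isConj_iff.1 (h1 _ _ hu hz)
  set U' : Subgroup G := (four S e hm i).map (MulAut.conj g).toMonoidHom with hU'
  have hK := four_isKleinFour S e hm hm0 i
  have hmemU : ∀ x ∈ four S e hm i, g * x * g⁻¹ ∈ U' := fun x hx => ⟨x, hx, rfl⟩
  have hsS : (S : Subgroup G) ≤ centralizer ({z S e} : Set G) := fun s hs =>
    mem_centralizer_singleton_iff.2 (mul_inv_eq_iff_eq_mul.1 (z_conj S e hm hs))
  have hU'C : U' ≤ centralizer ({z S e} : Set G) := by
    rintro _ ⟨x, hx, rfl⟩
    rw [mem_centralizer_singleton_iff]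
    have hcx : Commute x (DihedralSylow.refl S e i) := by
      have := IsKleinFour.isMulCommutative (G := four S e hm i)
      exact congrArg Subtype.val (mul_comm' (⟨x, hx⟩ : four S e hm i)
        ⟨DihedralSylow.refl S e i, (mem_four S e hm i).2 (Or.inr (Or.inr (Or.inl rfl)))⟩)
    have := (Commute.conj_iff g).2 hcx
    rw [hg] at this
    exact this.eq
  set C := centralizer ({z S e} : Set G) with hC
  have hp : IsPGroup 2 (U'.subgroupOf C) := by
    refine (IsPGroup.of_card (n := 2) ?_).of_equiv (subgroupOfEquivOfLe hU'C).symm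
    rw [hU', card_map_conj, hK.card_four]
    norm_num
  obtain ⟨R, hR⟩ := hp.exists_le_sylow
  obtain ⟨c, hc⟩ := MulAction.exists_smul_eq C R (S.subtype hsS)
  set h : G := (c : G) * g with hh
  have hconj : ∀ x ∈ four S e hm i, h * x * h⁻¹ ∈ (S : Subgroup G) := by
    intro x hx
    have hxR : (⟨g * x * g⁻¹, hU'C (hmemU x hx)⟩ : C) ∈ (R : Subgroup C) := hR (hmemU x hx)
    have : c * ⟨g * x * g⁻¹, hU'C (hmemU x hx)⟩ * c⁻¹ ∈ ((S.subtype hsS : Sylow 2 C) : Subgroup C) := by
      rw [← hc, Sylow.coe_subgroup_smul]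
      exact ⟨_, hxR, rfl⟩
    have h' := Sylow.coe_subtype (h := hsS) ▸ this
    rw [mem_subgroupOf] at h'
    rw [hh, show (c : G) * g * x * ((c : G) * g)⁻¹ = c * (g * x * g⁻¹) * (c : G)⁻¹ by group]
    exact h'
  have hhu : h * DihedralSylow.refl S e i * h⁻¹ = z S e := by
    rw [hh, show (c : G) * g * DihedralSylow.refl S e i * ((c : G) * g)⁻¹ = c * (g * DihedralSylow.refl S e i * g⁻¹) * (c : G)⁻¹
      by group, hg]
    exact mul_inv_eq_iff_eq_mul.2 (mem_centralizer_singleton_iff.1 c.2)
  set V : Subgroup G := (four S e hm i).map (MulAut.conj h).toMonoidHom with hV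
  have hVS : V ≤ S := by rintro _ ⟨x, hx, rfl⟩; exact hconj x hx
  have hVK : IsKleinFour V := by
    refine (TwoGroups.isKleinFour_iff _).2 ⟨by rw [hV, card_map_conj, hK.card_four], ?_⟩
    rintro _ ⟨x, hx, rfl⟩
    rw [← map_mul, ((TwoGroups.isKleinFour_iff _).1 hK).2 x hx, map_one]
  obtain ⟨j, hj⟩ := exists_eq_four S e hm hm0 hVK hVS
  obtain ⟨rr, hrS, hrN, hrC⟩ := rot_swap S e hm hm4 hm0 j
  have hrz : rr * z S e * rr⁻¹ = z S e := z_conj S e hm hrS
  refine ⟨h⁻¹ * rr * h, ?_, ?_⟩
  · calc h⁻¹ * rr * h * DihedralSylow.refl S e i * (h⁻¹ * rr * h)⁻¹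
        = h⁻¹ * (rr * (h * DihedralSylow.refl S e i * h⁻¹) * rr⁻¹) * h := by group
      _ = DihedralSylow.refl S e i := by rw [hhu, hrz, ← hhu]; group
  · set y : G := h * z S e * h⁻¹ with hy
    have hyj : y ∈ four S e hm j := hj ▸ ⟨z S e, (mem_four S e hm i).2 (Or.inr (Or.inl rfl)), rfl⟩
    have hy1 : y ≠ 1 := fun hy' => Involutions.Basic.ne_one hz (conj_eq_one_iff.1 hy')
    have hyz : y ≠ z S e := fun hy' => by
      have := mul_left_cancel (mul_right_cancel (hy'.trans hhu.symm))
      exact (by simp [z, DihedralSylow.refl] : z S e ≠ DihedralSylow.refl S e i) this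
    have hry : rr * y * rr⁻¹ = z S e * y := by
      have hmem : rr * y * rr⁻¹ ∈ four S e hm j := (mem_normalizer_iff.1 hrN y).1 hyj
      have hcase := (((mem_four S e hm j).1 hyj).resolve_left hy1).resolve_left hyz
      have hne1 : rr * y * rr⁻¹ ≠ 1 := fun h' => hy1 (conj_eq_one_iff.1 h')
      have hnez : rr * y * rr⁻¹ ≠ z S e := fun h' =>
        hyz (mul_left_cancel (mul_right_cancel (h'.trans hrz.symm)))
      have hne : rr * y * rr⁻¹ ≠ y := by
        intro hfix
        apply hrC
        rw [mem_centralizer_iff]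
        intro x hx
        have hcom : ∀ w : G, rr * w * rr⁻¹ = w → w * rr = rr * w := fun w hw =>
          (mul_inv_eq_iff_eq_mul.1 hw).symm
        rcases (mem_four S e hm j).1 hx with rfl | rfl | rfl | rfl
        · rw [one_mul, mul_one]
        · exact hcom _ hrz
        · rcases hcase with hc' | hc'
          · exact hcom _ (hc' ▸ hfix)
          · have h2 : rr * (z S e * y) * rr⁻¹ = z S e * y := by rw [← conj_mul, hrz, hfix]
            rw [hc', z_mul_refl S e hm, add_assoc, half_add_half hm, add_zero] at h2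
            exact hcom _ h2
        · rcases hcase with hc' | hc'
          · have h2 : rr * (z S e * y) * rr⁻¹ = z S e * y := by rw [← conj_mul, hrz, hfix]
            rw [hc', z_mul_refl S e hm] at h2
            exact hcom _ h2
          · exact hcom _ (hc' ▸ hfix)
      rcases (((mem_four S e hm j).1 hmem).resolve_left hne1).resolve_left hnez with h1' | h1' <;>
        rcases hcase with hc' | hc'
      · exact absurd (h1'.trans hc'.symm) hne
      · rw [h1', hc', z_mul_refl S e hm, add_assoc, half_add_half hm, add_zero]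
      · rw [h1', hc', z_mul_refl S e hm]
      · exact absurd (h1'.trans hc'.symm) hne
    calc h⁻¹ * rr * h * z S e * (h⁻¹ * rr * h)⁻¹ = h⁻¹ * (rr * y * rr⁻¹) * h := by rw [hy]; group
      _ = h⁻¹ * (z S e * y) * h := by rw [hry]
      _ = (h⁻¹ * z S e * h) * z S e := by rw [hy]; group
      _ = DihedralSylow.refl S e i * z S e := by rw [← hhu]; group
      _ = z S e * DihedralSylow.refl S e i :=
        (mul_inv_eq_iff_eq_mul.1 (z_conj S e hm (SetLike.coe_mem _))).trans rfl

variable [IsSimpleGroup G]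

include e in
/-- A simple group with dihedral Sylow 2-subgroups carries the data. -/
theorem exists_data (hm : 2 ≤ m) :
    ∃ d : Bender.Data G, d.S = S ∧ d.m = m := by
  haveI : Fact (Nat.Prime 2) := ⟨Nat.prime_two⟩
  have h2 := two_dvd S e hm
  have hm0 : m ≠ 0 := by omega
  have hG2 : 2 < Nat.card G := by
    have := Nat.le_of_dvd Nat.card_pos S.toSubgroup.card_subgroup_dvd_card
    rw [Nat.card_congr e.toEquiv, DihedralGroup.nat_card] at this
    omega
  have hone := OrderBounds.one_class hG2 S hm e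
  refine ⟨⟨S, m, hm, e, fun i => ?_⟩, rfl, rfl⟩
  have hz := orderOf_z S e h2 hm0
  have hu : ∀ j, orderOf (DihedralSylow.refl S e j) = 2 := fun j => by
    rw [DihedralSylow.refl, Subgroup.orderOf_coe, MulEquiv.orderOf_eq, DihedralGroup.orderOf_sr]
  have htt : z S e * z S e = 1 := Involutions.Basic.inv_sq_one hz
  have huu : ∀ j, DihedralSylow.refl S e j * DihedralSylow.refl S e j = 1 := fun j => Involutions.Basic.inv_sq_one (hu j)
  have hcom : DihedralSylow.refl S e i * z S e = z S e * DihedralSylow.refl S e i :=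
    (mul_inv_eq_iff_eq_mul.1 (z_conj S e h2 (SetLike.coe_mem _))).trans rfl
  by_cases h4 : 4 ∣ m
  · obtain ⟨p, hp1, hp2⟩ := exists_swap S e h2 h4 hm0 hone i
    obtain ⟨n, hn1, hn2⟩ := exists_swap S e h2 h4 hm0 hone (i + half m)
    rw [← z_mul_refl S e h2] at hn1 hn2
    rw [← mul_assoc, htt, one_mul] at hn2
    refine exists_rotation (b := z S e * DihedralSylow.refl S e i) rfl n p hn2 (Or.inl ?_) hp2 (Or.inr hp1)
      htt hcom
    calc n * DihedralSylow.refl S e i * n⁻¹ = n * (z S e * (z S e * DihedralSylow.refl S e i)) * n⁻¹ := by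
          rw [← mul_assoc (z S e), htt, one_mul]
      _ = DihedralSylow.refl S e i * (z S e * DihedralSylow.refl S e i) := by rw [← conj_mul, hn1, hn2]
      _ = z S e := by rw [← mul_assoc, hcom, mul_assoc, huu, mul_one]
  · have hm2 : m = 2 := by
      by_contra hne
      exact h4 (four_dvd S e (by omega))
    subst hm2
    have hP : IsKleinFour (S : Subgroup G) := by
      refine ⟨?_, ?_⟩
      · rw [Nat.card_congr e.toEquiv, DihedralGroup.nat_card]
      · rw [Monoid.exponent_eq_of_mulEquiv e]; exact IsKleinFour.exponent_two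
    have hfS : (four S e h2 i : Subgroup G) = S := Subgroup.eq_of_le_of_card_ge (four_le S e h2 i) (by
      rw [(four_isKleinFour S e h2 hm0 i).card_four]; exact le_of_eq hP.card_four)
    have key : ∀ v : G, v ∈ (S : Subgroup G) → orderOf v = 2 →
        ∃ n : G, n * z S e * n⁻¹ = v ∧ ∀ x ∈ (S : Subgroup G), n * x * n⁻¹ ∈ (S : Subgroup G) := by
      intro v hv hv2
      obtain ⟨g, hg⟩ := isConj_iff.1 (hone _ _ hz hv2)
      obtain ⟨n, hn, he⟩ := KleinSylow.exists_normalizer_conj S hP
        (show z S e ∈ (S : Subgroup G) from SetLike.coe_mem _) (g := g) (hg ▸ hv)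
      exact ⟨n, he.trans hg, fun x hx => (mem_normalizer_iff.1 hn x).1 hx⟩
    have hcases : ∀ x ∈ (S : Subgroup G), x ≠ 1 →
        x = z S e ∨ x = DihedralSylow.refl S e i ∨ x = z S e * DihedralSylow.refl S e i := fun x hx hx1 => by
      rw [← hfS] at hx
      rw [z_mul_refl S e h2]
      exact ((mem_four S e h2 i).1 hx).resolve_left hx1
    have hu1 := Involutions.Basic.ne_one (hu i)
    obtain ⟨n, hn, hnS⟩ := key (DihedralSylow.refl S e i) (SetLike.coe_mem _) (hu i)
    obtain ⟨p, hp, hpS⟩ := key (z S e * DihedralSylow.refl S e i)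
      (mul_mem (show z S e ∈ (S : Subgroup G) from SetLike.coe_mem _) (SetLike.coe_mem _))
      (by rw [z_mul_refl S e h2]; exact hu _)
    have hzu : DihedralSylow.refl S e i ≠ z S e := fun h' => (by simp [z, DihedralSylow.refl] : z S e ≠ DihedralSylow.refl S e i) h'.symm
    refine exists_rotation (b := z S e * DihedralSylow.refl S e i) rfl n p hn ?_ hp ?_ htt hcom
    · rcases hcases _ (hnS _ (SetLike.coe_mem _)) (fun h' => hu1 (conj_eq_one_iff.1 h')) with
        h' | h' | h'
      · exact Or.inl h'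
      · exact absurd (mul_left_cancel (mul_right_cancel (h'.trans hn.symm))) hzu
      · exact Or.inr h'
    · rcases hcases _ (hpS _ (SetLike.coe_mem _)) (fun h' => hu1 (conj_eq_one_iff.1 h')) with
        h' | h' | h'
      · exact Or.inl h'
      · exact Or.inr h'
      · exact absurd (mul_left_cancel (mul_right_cancel (h'.trans hp.symm))) hzu

omit [IsSimpleGroup G] in
/-- The Sylow 2-subgroups of `C(Y)` are cyclic when the reflections invert `Y`, so `N(Y)` has no
component. -/
theorem layer_normalizer_eq_bot (d : Bender.Data G) (hA : ∀ i, d.A i = ⊥) {Y : Subgroup G}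
    (hY : Y ≤ d.O) (hY1 : Y ≠ ⊥) (hn : d.H ≤ normalizer (Y : Set G)) :
    Cfsg.layer ↥(normalizer (Y : Set G)) = ⊥ := by
  haveI : Fact (Nat.Prime 2) := ⟨Nat.prime_two⟩
  haveI : NeZero d.m := ⟨d.ne_zero⟩
  set K := normalizer (Y : Set G) with hK
  rw [Components.Basic.layer_eq_bot_iff]
  intro L hL
  have hSK : (d.S : Subgroup G) ≤ K := d.S_le.trans hn
  have hYsol : Group.IsSolvable (Y.subgroupOf K) := by
    haveI : Group.IsSolvable Y := Cfsg.Agent.S0205.result (d.O_odd.of_dvd_nat (card_dvd_of_le hY))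
    exact Group.isSolvable_of_isSolvable_injective (f := (subgroupOfEquivOfLe le_normalizer).toMonoidHom)
      (MulEquiv.injective _)
  haveI : (Y.subgroupOf K).Normal := normal_subgroupOf_of_le_normalizer le_rfl
  have hLY := Components.Basic.component_commutator_eq_bot_of_isSolvable hL
    (Subgroup.Normal.isSubnormal inferInstance) hYsol
  rw [commutator_eq_bot_iff_le_centralizer] at hLY
  have hLns : ¬ Group.IsSolvable L := Components.Basic.component_not_isSolvable hL
  have heven : Even (Nat.card L) := Nat.not_odd_iff_even.1 fun h => hLns (Cfsg.Agent.S0205.result h)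
  have hperf : Group.IsPerfect L := hL.2.1
  obtain ⟨P⟩ := (inferInstance : Nonempty (Sylow 2 L))
  refine Cons.not_cyclic_of_perfect hperf heven P ?_
  obtain ⟨R, hR⟩ := (P.2.map L.subtype).exists_le_sylow
  obtain ⟨c, hc⟩ := MulAction.exists_smul_eq K R (d.S.subtype hSK)
  have hmem : ∀ x : (P : Subgroup L), ∃ k : ZMod d.m,
      (c : G) * ((x : L) : K) * (c : G)⁻¹ = (d.e.symm (DihedralGroup.r k) : (d.S : Subgroup G)) := by
    intro x
    have hxS : c * ((x : L) : K) * c⁻¹ ∈ ((d.S.subtype hSK : Sylow 2 K) : Subgroup K) := by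
      rw [← hc, Sylow.coe_subgroup_smul]
      exact ⟨_, hR ⟨x, x.2, rfl⟩, rfl⟩
    have hxS' := Sylow.coe_subtype (h := hSK) ▸ hxS
    rw [mem_subgroupOf] at hxS'
    set s : G := (c : G) * ((x : L) : K) * (c : G)⁻¹ with hs
    rcases hes : d.e ⟨s, hxS'⟩ with k | k
    · exact ⟨k, by rw [← hes, MulEquiv.symm_apply_apply]⟩
    · exfalso
      have hsu : s = d.u k := by
        rw [Bender.Data.u, DihedralSylow.refl, ← hes, MulEquiv.symm_apply_apply]
      obtain ⟨y, hy, hy1⟩ := (Subgroup.bot_or_exists_ne_one Y).resolve_left hY1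
      have hy' : (c : G)⁻¹ * y * c ∈ Y := by
        simpa using (mem_normalizer_iff.1 (inv_mem c.2) y).1 hy
      have hcy : ((x : L) : K) * (⟨(c : G)⁻¹ * y * c, le_normalizer hy'⟩ : K) =
          ⟨(c : G)⁻¹ * y * c, le_normalizer hy'⟩ * ((x : L) : K) :=
        (mem_centralizer_iff.1 (hLY (x : L).2) _ (mem_subgroupOf.2 hy')).symm
      have hcy' := congrArg Subtype.val hcy
      simp only [Subgroup.coe_mul] at hcy'
      have hsy : s * y * s⁻¹ = y := by
        have : s * y = y * s := by
          calc s * y = (c : G) * (((x : L) : K) * ((c : G)⁻¹ * y * c)) * (c : G)⁻¹ := by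
                rw [hs]; group
            _ = (c : G) * (((c : G)⁻¹ * y * c) * ((x : L) : K)) * (c : G)⁻¹ := by rw [hcy']
            _ = y * s := by rw [hs]; group
        rw [this, mul_inv_cancel_right]
      have hinv : d.u k * y * (d.u k)⁻¹ = y⁻¹ :=
        Bender.inverts_of_inf_eq_bot (d.u_sq k) (d.H_le_normalizer_O (d.u_mem_H k)) (hA k) y (hY hy)
      rw [← hsu, hsy] at hinv
      exact hy1 (Bender.Data.eq_one_of_odd (d.orderOf_odd (hY hy)) hinv)
  let Z : Subgroup G := (zpowers (DihedralGroup.r (1 : ZMod d.m))).map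
    ((d.S : Subgroup G).subtype.comp d.e.symm.toMonoidHom)
  haveI : IsCyclic Z := isCyclic_of_surjective
    ((zpowers (DihedralGroup.r (1 : ZMod d.m))).equivMapOfInjective _
      ((Subgroup.subtype_injective _).comp d.e.symm.injective)).toMonoidHom (MulEquiv.surjective _)
  let f : (P : Subgroup L) →* G :=
    (MulAut.conj (c : G)).toMonoidHom.comp ((K.subtype.comp L.subtype).comp (P : Subgroup L).subtype)
  have hf : ∀ x, f x ∈ Z := fun x => by
    obtain ⟨k, hk⟩ := hmem x
    exact ⟨DihedralGroup.r k, ⟨(k.val : ℤ), by simp⟩, hk.symm⟩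
  exact isCyclic_of_injective (f.codRestrict Z hf) fun x y h =>
    Subtype.ext (Subtype.ext (Subtype.ext
      ((MulAut.conj (c : G)).injective (congrArg Subtype.val h :))))

omit [IsSimpleGroup G] in
/-- With trivial fixed points and no bare overgroup, `H` is the normalizer of each nontrivial
subgroup of the core that it normalizes. -/
theorem normalizer_eq_of_no_bare [IsSimpleGroup G] (d : Bender.Data G) (hA : ∀ i, d.A i = ⊥)
    (hNB : d.NoBareOvergroup) {Y : Subgroup G} (hY : Y ≤ d.O)
    (hn : d.H ≤ normalizer (Y : Set G)) (hY1 : Y ≠ ⊥) : normalizer (Y : Set G) = d.H := by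
  rcases hn.lt_or_eq with hlt | heq
  · exfalso
    refine hNB _ hlt (fun htop => ?_) ?_
    · rcases (normalizer_eq_top_iff.1 htop).eq_bot_or_eq_top with h | h
      · exact hY1 h
      · have hodd := d.O_odd.of_dvd_nat (card_dvd_of_le hY)
        rw [h, card_top] at hodd
        have h2 : 2 ∣ Nat.card G := d.t_order ▸ orderOf_dvd_natCard d.t
        rw [Nat.odd_iff] at hodd
        omega
    · rw [Cfsg.generalizedFittingSubgroup, layer_normalizer_eq_bot d hA hY hY1 hn, bot_sup_eq]
  · exact heq.symm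

end Cfsg.Agent.GW.Assembly
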