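import Cfsg.Agent.Lib.GW.BenderComponentDefs
import Cfsg.Agent.Lib.GW.ConsQGroupBasics
import Cfsg.Agent.Lib.GW.ConsFull
import Cfsg.Agent.Lib.GW.SimpleAssemblyData

/-!
# A proper subgroup with a component: the action on the simple quotient
-/

set_option autoImplicit false
set_option linter.style.haveILetI false

namespace Cfsg.Agent.GW.Bender

open Subgroup Cfsg.Agent.GW.Overgroups
open scoped commutatorElement

universe u v

variable {G : Type u} [Group G] [Finite G]

/-- The general facts about `B`, its largest perfect subgroup and its odd core. -/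
structure CompBase (B : Subgroup G) : Prop where
  ne_bot : maxPerfect B ≠ ⊥
  perfect : commutator (maxPerfect B) = ⊤
  type : IsType (maxPerfect B ⧸ Cfsg.oddCore (maxPerfect B))
  cent : oddPart B ≤ centralizer (maxPerfect B : Set G)
  inter : maxPerfect B ⊓ oddPart B = oddPart (maxPerfect B)
  /-- No elementary abelian subgroup of order eight. -/
  no_eight : ∀ a b c : G, orderOf a = 2 → orderOf b = 2 → orderOf c = 2 → a ≠ b →
    Commute a b → Commute c a → Commute c b → c = a ∨ c = b ∨ c = a * b
  centralizer_eq : B ⊓ centralizer (maxPerfect B : Set G) = oddPart B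

theorem le_oddPart_model {X R : Subgroup G} (hX : X ≤ R) (hn : R ≤ normalizer (X : Set G))
    (ho : Odd (Nat.card X)) : X ≤ oddPart R := by
  haveI : (X.subgroupOf R).Normal := normal_subgroupOf_of_le_normalizer hn
  intro x hx
  refine ⟨⟨x, hX hx⟩, Cores.le_oddCore (N := X.subgroupOf R) ?_ (mem_subgroupOf.2 hx), rfl⟩
  rwa [Nat.card_congr (subgroupOfEquivOfLe hX).toEquiv]

theorem no_eight_of_dihedral (S : Sylow 2 G) {m : ℕ} (hm : 2 ≤ m)
    (e : (S : Subgroup G) ≃* DihedralGroup m) (a b c : G) (ha : orderOf a = 2) (hb : orderOf b = 2)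
    (hc : orderOf c = 2) (hab : a ≠ b) (hcab : Commute a b) (hca : Commute c a) (hcb : Commute c b) :
    c = a ∨ c = b ∨ c = a * b := by
  haveI : Fact (Nat.Prime 2) := ⟨Nat.prime_two⟩
  by_contra hne
  push Not at hne
  obtain ⟨h1, h2, h3⟩ := hne
  set W := closure ({a, b, c} : Set G) with hW
  have hcomm : ∀ x ∈ ({a, b, c} : Set G), ∀ y ∈ ({a, b, c} : Set G), x * y = y * x := by
    rintro x (rfl | rfl | rfl) y (rfl | rfl | rfl)
    exacts [rfl, hcab.eq, hca.symm.eq, hcab.symm.eq, rfl, hcb.symm.eq, hca.eq, hcb.eq, rfl]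
  haveI : IsMulCommutative W := Subgroup.isMulCommutative_closure hcomm
  have ha2 := Involutions.Basic.inv_sq_one ha
  have hb2 := Involutions.Basic.inv_sq_one hb
  have hc2 := Involutions.Basic.inv_sq_one hc
  have hsq : ∀ x ∈ W, x * x = 1 := by
    intro x hx
    induction hx using closure_induction with
    | mem x hx => rcases hx with rfl | rfl | rfl <;> assumption
    | one => simp
    | mul x y hx hy ihx ihy =>
      have hxy : Commute x y :=
        congrArg Subtype.val (IsMulCommutative.is_comm.comm (⟨x, hx⟩ : W) ⟨y, hy⟩)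
      rw [← sq, hxy.mul_pow, sq, sq, ihx, ihy, one_mul]
    | inv x _ ih => rw [← mul_inv_rev, ih, inv_one]
  have hsqW : ∀ g : W, g * g = 1 := fun g => Subtype.ext (hsq g g.2)
  have hp : IsPGroup 2 W := fun x => ⟨1, by rw [pow_one, sq, hsqW]⟩
  obtain ⟨f, hf⟩ := Involutions.DihedralSylow.exists_embedding S hp e
  have h4 := Involutions.DihedralEmbedding.card_le_four f hf
    (Involutions.DihedralSylow.two_dvd S e hm) (by omega) hsqW
  have hmem : ∀ x ∈ ({a, b, c} : Set G), x ∈ W := fun x hx => subset_closure hx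
  let five : Fin 5 → W := ![1, ⟨a, hmem a (by simp)⟩, ⟨b, hmem b (by simp)⟩, ⟨c, hmem c (by simp)⟩,
    ⟨a * b, mul_mem (hmem a (by simp)) (hmem b (by simp))⟩]
  have ha1 := Involutions.Basic.ne_one ha
  have hb1 := Involutions.Basic.ne_one hb
  have hc1 := Involutions.Basic.ne_one hc
  have hab1 : a * b ≠ 1 := fun h => hab (by
    rw [← inv_eq_of_mul_eq_one_left hb2, eq_inv_iff_mul_eq_one]; exact h)
  have hinj : Function.Injective five := by
    intro i j hij
    fin_cases i <;> fin_cases j <;> simp_all [five, Subtype.ext_iff, eq_comm]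
  have := Nat.card_le_card_of_injective five hinj
  rw [Nat.card_fin] at this
  omega

theorem exists_four_in (S : Sylow 2 G) {m : ℕ} (hm : 2 ≤ m) (e : (S : Subgroup G) ≃* DihedralGroup m)
    {E : Subgroup G} (hE : commutator E = ⊤) {t : G} (ht : t ∈ E) (ho : orderOf t = 2) :
    ∃ v ∈ E, orderOf v = 2 ∧ v ≠ t ∧ t * v = v * t := by
  haveI : Fact (Nat.Prime 2) := ⟨Nat.prime_two⟩
  haveI : NeZero m := ⟨by omega⟩
  have ho' : orderOf (⟨t, ht⟩ : E) = 2 := by rw [Subgroup.orderOf_mk, ho]
  obtain ⟨P, hP⟩ := (IsPGroup.of_card (p := 2) (n := 1) (by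
    rw [Nat.card_zpowers, ho', pow_one]) : IsPGroup 2 (zpowers (⟨t, ht⟩ : E))).exists_le_sylow
  have hev : Even (Nat.card E) := even_iff_two_dvd.2 (ho' ▸ orderOf_dvd_natCard _)
  obtain ⟨k, hk, ⟨eP⟩⟩ := (Cons.sylow_sub_dihedral S e E P).resolve_left
    (Cons.not_cyclic_of_perfect (Group.IsPerfect.mk hE) hev P)
  have h2 : 2 ∣ k := Involutions.DihedralSylow.two_dvd P eP hk
  have hk0 : k ≠ 0 := by omega
  set z := Involutions.DihedralSylow.z P eP with hz
  have htP : (⟨t, ht⟩ : E) ∈ (P : Subgroup E) := hP (mem_zpowers _)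
  have hzc : ∀ s ∈ (P : Subgroup E), s * z = z * s := fun s hs =>
    mul_inv_eq_iff_eq_mul.1 (Involutions.DihedralSylow.z_conj P eP h2 hs)
  have hzo : orderOf z = 2 := Involutions.DihedralSylow.orderOf_z P eP h2 hk0
  by_cases htz : (⟨t, ht⟩ : E) = z
  · set r := Involutions.DihedralSylow.refl P eP 0 with hr
    refine ⟨r, r.2, ?_, fun h => ?_, ?_⟩
    · rw [Subgroup.orderOf_coe, hr, Involutions.DihedralSylow.refl, Subgroup.orderOf_coe,
        MulEquiv.orderOf_eq, DihedralGroup.orderOf_sr]
    · have : r = z := htz ▸ Subtype.ext h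
      simp [hr, hz, Involutions.DihedralSylow.z, Involutions.DihedralSylow.refl] at this
    · have := congrArg Subtype.val (hzc r (by
        rw [hr, Involutions.DihedralSylow.refl]; exact SetLike.coe_mem _))
      rw [← htz] at this
      exact this.symm
  · exact ⟨z, z.2, by rw [Subgroup.orderOf_coe, hzo], fun h => htz (Subtype.ext h.symm),
      congrArg Subtype.val (hzc _ htP)⟩

/-- The facts of the base from the hypotheses. -/
theorem compBase (S : Sylow 2 G) {m : ℕ} (hm : 2 ≤ m) (e : (S : Subgroup G) ≃* DihedralGroup m)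
    (hknown : KnownProper G) {B : Subgroup G} (hB : B ≠ ⊤) (hlayer : Cfsg.layer B ≠ ⊥) :
    CompBase B := by
  haveI : Fact (Nat.Prime 2) := ⟨Nat.prime_two⟩
  have hcomp : Cfsg.generalizedFittingSubgroup B ≠ Cfsg.fittingSubgroup B := by
    intro h
    refine hlayer ((Components.Basic.layer_eq_bot_iff).2 fun L hL => ?_)
    have hle : L ≤ Cfsg.fittingSubgroup B := by
      rw [← h, Cfsg.generalizedFittingSubgroup]
      exact (Components.Basic.le_layer hL).trans (le_sup_left)
    haveI := Cores.fittingSubgroup_isNilpotent (G := B)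
    exact Components.Basic.component_not_le_of_isSolvable hL inferInstance hle
  obtain ⟨hne, hEc, hDc⟩ := component_structure hknown hB hcomp
  set E := maxPerfect B with hE
  have hEB : E ≤ B := maxPerfect_le B
  have hperfG : ⁅E, E⁆ = E := maxPerfect_perfect B
  have hperf : commutator E = ⊤ := by
    apply Subgroup.map_injective E.subtype_injective
    rw [_root_.commutator_def, Subgroup.map_commutator, ← MonoidHom.range_eq_map,
      Subgroup.range_subtype, hperfG]
  have htype : IsType (E ⧸ Cfsg.oddCore E) :=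
    hknown E (fun h => hB (top_le_iff.1 (h ▸ hEB))) hne hperfG
  have hinter : E ⊓ oddPart B = oddPart E := by
    refine le_antisymm (le_oddPart_model inf_le_left ?_
      ((oddPart_odd B).of_dvd_nat (Subgroup.card_dvd_of_le inf_le_right))) (le_inf (oddPart_le E) ?_)
    · intro x hx
      refine mem_normalizer_iff.2 fun y => ?_
      have h1 := mem_normalizer_iff.1 (le_normalizer_maxPerfect B (hEB hx)) y
      have h2 := mem_normalizer_iff.1 (le_normalizer_oddPart B (hEB hx)) y
      simp only [mem_inf]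
      exact and_congr h1 h2
    · exact le_oddPart_model ((oddPart_le E).trans hEB)
        (fun b hb => mem_normalizer_oddPart (le_normalizer_maxPerfect B hb)) (oddPart_odd E)
  have hcentE : B ⊓ centralizer (E : Set G) = oddPart B := by
    refine le_antisymm (le_oddPart_model inf_le_left ?_ ?_) (le_inf (oddPart_le B) hDc)
    · intro b hb
      refine mem_normalizer_iff.2 fun y => ?_
      have hN := le_normalizer_maxPerfect B hb
      have key : ∀ g y : G, g ∈ B → g ∈ normalizer (E : Set G) → y ∈ B ⊓ centralizer (E : Set G) →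
          g * y * g⁻¹ ∈ B ⊓ centralizer (E : Set G) := by
        intro g y hg hgN hy
        refine ⟨B.mul_mem (B.mul_mem hg hy.1) (B.inv_mem hg), mem_centralizer_iff.2 fun w hw => ?_⟩
        have hw' : g⁻¹ * w * g ∈ E := (mem_normalizer_iff''.1 hgN w).1 hw
        have h := mem_centralizer_iff.1 hy.2 _ hw'
        calc w * (g * y * g⁻¹) = g * (g⁻¹ * w * g * y) * g⁻¹ := by group
          _ = g * (y * (g⁻¹ * w * g)) * g⁻¹ := by rw [h]
          _ = _ := by group
      exact ⟨key b y hb hN, fun hy => by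
        simpa [mul_assoc] using key b⁻¹ _ (inv_mem hb) (inv_mem hN) hy⟩
    · rw [← Nat.not_even_iff_odd, even_iff_two_dvd]
      intro h2
      obtain ⟨⟨c, hcm⟩, hc'⟩ := exists_prime_orderOf_dvd_card' 2 h2
      have hc : orderOf c = 2 := (Subgroup.orderOf_mk c hcm).symm.trans hc'
      obtain ⟨hcB, hcC⟩ := hcm
      have hev : 2 ∣ Nat.card E := by
        rw [← even_iff_two_dvd, ← Nat.not_odd_iff_even]
        intro ho
        haveI : Group.IsSolvable E := Cfsg.Agent.S0205.result ho
        exact hne (eq_bot_of_perfect hperfG inferInstance)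
      obtain ⟨⟨a, ha⟩, hao⟩ := exists_prime_orderOf_dvd_card' 2 hev
      rw [Subgroup.orderOf_mk] at hao
      obtain ⟨b, hb, hbo, hba, hab⟩ := exists_four_in S hm e hperf ha hao
      have hcE : c ∈ E → False := fun hcE => by
        have hcZ : (⟨c, hcE⟩ : E) ∈ center E := mem_center_iff.2 fun x =>
          Subtype.ext (mem_centralizer_iff.1 hcC x x.2)
        haveI := isType_simple htype
        set q := QuotientGroup.mk' (Cfsg.oddCore E)
        have hqc : q ⟨c, hcE⟩ ∈ center (E ⧸ Cfsg.oddCore E) := mem_center_iff.2 fun y => by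
          obtain ⟨y, rfl⟩ := QuotientGroup.mk'_surjective _ y
          rw [← map_mul, ← map_mul, mem_center_iff.1 hcZ y]
        have hbot : center (E ⧸ Cfsg.oddCore E) = ⊥ := by
          refine (IsSimpleGroup.eq_bot_or_eq_top_of_normal _ inferInstance).resolve_right fun h => ?_
          have hp : commutator (E ⧸ Cfsg.oddCore E) = ⊤ := by
            rw [_root_.commutator_def, ← Subgroup.map_top_of_surjective q (QuotientGroup.mk'_surjective _),
              ← Subgroup.map_commutator, ← _root_.commutator_def, hperf]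
          have hb' : commutator (E ⧸ Cfsg.oddCore E) = ⊥ := by
            rw [_root_.commutator_def, commutator_eq_bot_iff_le_centralizer]
            exact fun x _ => mem_centralizer_iff.2 fun y _ => mem_center_iff.1 (h ▸ mem_top x) y
          exact bot_ne_top (hb'.symm.trans hp)
        rw [hbot, mem_bot, QuotientGroup.mk'_apply, QuotientGroup.eq_one_iff] at hqc
        have hd : orderOf c ∣ Nat.card (Cfsg.oddCore E) := by
          rw [← Subgroup.orderOf_mk c hcE]; exact Subgroup.orderOf_dvd_natCard _ hqc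
        rw [hc] at hd
        exact Nat.not_even_iff_odd.2 (Cores.oddCore_odd (G := E)) (even_iff_two_dvd.2 hd)
      rcases no_eight_of_dihedral S hm e a b c hao hbo hc hba.symm hab
        (mem_centralizer_iff.1 hcC a ha).symm (mem_centralizer_iff.1 hcC b hb).symm with
          rfl | rfl | rfl
      exacts [hcE ha, hcE hb, hcE (mul_mem ha hb)]
  exact ⟨hne, hperf, htype, hDc, hinter, no_eight_of_dihedral S hm e, hcentE⟩

/-- A map from the largest perfect subgroup onto `P`, and the induced action of `B`. -/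
structure Model (B : Subgroup G) (P : Type v) [Group P] where
  π : maxPerfect B →* P
  ρ : B →* MulAut P
  surj : Function.Surjective π
  ker_π : ∀ x, π x = 1 ↔ (x : G) ∈ oddPart B
  conj : ∀ (b : B) (x y : maxPerfect B), (y : G) = (b : G) * x * (b : G)⁻¹ → ρ b (π x) = π y
  ker_ρ : ∀ b, ρ b = 1 ↔ (b : G) ∈ oddPart B
  conj_injective : Function.Injective (MulAut.conj : P →* MulAut P)

theorem exists_model {B : Subgroup G} (hb : CompBase B) {P : Type v} [Group P]
    (e : maxPerfect B ⧸ Cfsg.oddCore (maxPerfect B) ≃* P) : Nonempty (Model B P) := by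
  set E := maxPerfect B with hE
  set N := Cfsg.oddCore E with hN
  haveI : N.Characteristic := Cores.pPrimeCore_characteristic 2
  let θ : B →* MulAut E := E.normalizerMonoidHom.comp (Subgroup.inclusion (le_normalizer_maxPerfect B))
  have hθ : ∀ (b : B) (x : E), ((θ b x : E) : G) = (b : G) * x * (b : G)⁻¹ := fun b x => rfl
  let δ : MulAut E →* MulAut (E ⧸ N) :=
    { toFun := fun f => QuotientGroup.congr N N f (Subgroup.characteristic_iff_map_eq.1 inferInstance f)
      map_one' := by
        ext x
        induction x using QuotientGroup.induction_on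
        rfl
      map_mul' := fun f g => by
        ext x
        induction x using QuotientGroup.induction_on
        rfl }
  let π : E →* P := e.toMonoidHom.comp (QuotientGroup.mk' N)
  let ρ : B →* MulAut P := (MulAut.congr e).toMonoidHom.comp (δ.comp θ)
  have hker : ∀ x, π x = 1 ↔ (x : G) ∈ oddPart B := fun x => by
    show e (QuotientGroup.mk x) = 1 ↔ _
    rw [MulEquiv.map_eq_one_iff, QuotientGroup.eq_one_iff]
    constructor
    · exact fun h => ((hb.inter).symm.le ⟨x, h, rfl⟩).2
    · intro h
      obtain ⟨y, hy, hyx⟩ := hb.inter.le ⟨x.2, h⟩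
      exact (Subtype.ext hyx : y = x) ▸ hy
  have hρ : ∀ (b : B) (x : E), ρ b (π x) = π (θ b x) := fun b x => by
    show e (δ (θ b) (e.symm (e (QuotientGroup.mk x)))) = e (QuotientGroup.mk (θ b x))
    rw [MulEquiv.symm_apply_apply]
    rfl
  have hsurj : Function.Surjective π := e.surjective.comp (QuotientGroup.mk'_surjective _)
  refine ⟨⟨π, ρ, hsurj, hker, fun b x y hy => (hρ b x).trans (congrArg π (Subtype.ext ?_)),
    fun b => ⟨fun h => ?_, fun h => ?_⟩, ?_⟩⟩
  · rw [hθ, hy]
  · -- perfection: `b` centralises `E`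
    have hc : ∀ x : E, θ b x * x⁻¹ ∈ center E := fun x => by
      have h1 : π (θ b x * x⁻¹) = 1 := by
        rw [map_mul, ← hρ, h, MulAut.one_apply, map_inv, mul_inv_cancel]
      have h2 := hb.cent ((hker _).1 h1)
      exact mem_center_iff.2 fun y => Subtype.ext (mem_centralizer_iff.1 h2 y y.2)
    let ψ : E →* center E := MonoidHom.mk' (fun x => ⟨θ b x * x⁻¹, hc x⟩) fun x y => by
      refine Subtype.ext ?_
      show θ b (x * y) * (x * y)⁻¹ = θ b x * x⁻¹ * (θ b y * y⁻¹)
      have := mem_center_iff.1 (hc y) x⁻¹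
      rw [map_mul, mul_inv_rev]
      calc θ b x * θ b y * (y⁻¹ * x⁻¹) = θ b x * ((θ b y * y⁻¹) * x⁻¹) := by group
        _ = θ b x * (x⁻¹ * (θ b y * y⁻¹)) := by rw [this]
        _ = _ := by group
    have hψ : commutator E ≤ ψ.ker := by
      rw [_root_.commutator_def, Subgroup.commutator_le]
      intro x _ y _
      rw [MonoidHom.mem_ker, map_commutatorElement, commutatorElement_eq_one_iff_mul_comm]
      exact Subtype.ext (mem_center_iff.1 (ψ y).2 _)
    rw [← hb.centralizer_eq]
    refine ⟨b.2, mem_centralizer_iff.2 fun w hw => ?_⟩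
    have h1 : ψ ⟨w, hw⟩ = 1 := hψ (hb.perfect ▸ mem_top _)
    have h3 : θ b ⟨w, hw⟩ = ⟨w, hw⟩ := mul_inv_eq_one.1 (congrArg Subtype.val h1 :)
    have h4 := congrArg Subtype.val h3
    rw [hθ] at h4
    exact (mul_inv_eq_iff_eq_mul.1 h4).symm
  · refine MulEquiv.ext fun p => ?_
    obtain ⟨x, rfl⟩ := hsurj p
    rw [hρ, MulAut.one_apply]
    refine congrArg π (Subtype.ext ?_)
    rw [hθ, ← mem_centralizer_iff.1 (hb.cent h) x x.2, mul_inv_cancel_right]
  · haveI := isType_simple hb.type
    haveI : IsSimpleGroup P := e.symm.isSimpleGroup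
    have hperf : commutator P = ⊤ := by
      rw [_root_.commutator_def, ← Subgroup.map_top_of_surjective π hsurj, ← Subgroup.map_commutator,
        ← _root_.commutator_def, hb.perfect]
    have hbot : center P = ⊥ := by
      refine (IsSimpleGroup.eq_bot_or_eq_top_of_normal _ inferInstance).resolve_right fun h => ?_
      have hb' : commutator P = ⊥ := by
        rw [_root_.commutator_def, commutator_eq_bot_iff_le_centralizer]
        exact fun x _ => mem_centralizer_iff.2 fun y _ => mem_center_iff.1 (h ▸ mem_top x) y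
      exact bot_ne_top (hb'.symm.trans hperf)
    rw [injective_iff_map_eq_one]
    intro a ha
    rw [← mem_bot, ← hbot, mem_center_iff]
    intro g
    have := DFunLike.congr_fun ha g
    rw [MulAut.conj_apply, MulAut.one_apply] at this
    exact (mul_inv_eq_iff_eq_mul.1 this).symm

namespace Model

variable {B : Subgroup G} {P : Type v} [Group P] (M : Model B P)

theorem rho_of_mem (x : maxPerfect B) (b : B) (hx : (b : G) = x) :
    M.ρ b = MulAut.conj (M.π x) := by
  refine MulEquiv.ext fun p => ?_
  obtain ⟨y, rfl⟩ := M.surj p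
  rw [M.conj b y (x * y * x⁻¹) (by simp [hx]), MulAut.conj_apply, map_mul, map_mul, map_inv]

theorem invol (x : maxPerfect B) (hx : orderOf (x : G) = 2) : orderOf (M.π x) = 2 := by
  rw [Involutions.Basic.orderOf_two_iff, ← map_mul]
  refine ⟨by rw [show x * x = 1 from Subtype.ext (Involutions.Basic.inv_sq_one hx), map_one], ?_⟩
  intro h
  have := Subgroup.orderOf_dvd_natCard _ ((M.ker_π x).1 h)
  rw [hx] at this
  exact Nat.not_even_iff_odd.2 (oddPart_odd B) (even_iff_two_dvd.2 this)

/-- Involutions of `E` with the same image are equal. -/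
theorem invol_eq (hb : CompBase B) {x y : maxPerfect B} (hx : orderOf (x : G) = 2)
    (hy : orderOf (y : G) = 2) (h : M.π x = M.π y) : x = y := by
  set z : G := (x : G)⁻¹ * y with hz
  have hzD : z ∈ oddPart B := (M.ker_π (x⁻¹ * y)).1 (by rw [map_mul, map_inv, h, inv_mul_cancel])
  have hc : z * x = x * z := (mem_centralizer_iff.1 (hb.cent hzD) x x.2).symm
  have hy' : (y : G) = x * z := by rw [hz]; group
  have hz2 : z ^ 2 = 1 := by
    have := Involutions.Basic.inv_sq_one hy
    rw [hy', mul_assoc, ← mul_assoc z, hc, mul_assoc, ← mul_assoc, ← mul_assoc,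
      Involutions.Basic.inv_sq_one hx, one_mul] at this
    rw [sq]; exact this
  have hz1 : z = 1 := orderOf_eq_one_iff.1 (Nat.eq_one_of_dvd_coprimes
    (Nat.coprime_two_left.2 (oddPart_odd B)) (orderOf_dvd_of_pow_eq_one hz2)
    (Subgroup.orderOf_dvd_natCard _ hzD))
  exact Subtype.ext (by rw [hy', hz1, mul_one])

/-- An element of `B` whose image fixes the image of an involution commutes with it. -/
theorem commute_of_fix (hb : CompBase B) (b : B) (t : maxPerfect B) (ht : orderOf (t : G) = 2)
    (h : M.ρ b (M.π t) = M.π t) : (t : G) * b = b * t := by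
  have hmem : (b : G) * t * (b : G)⁻¹ ∈ maxPerfect B :=
    (mem_normalizer_iff.1 (le_normalizer_maxPerfect B b.2) _).1 t.2
  have := M.invol_eq hb (x := ⟨_, hmem⟩) (y := t) (by rw [Involutions.Basic.orderOf_conj, ht]) ht
    ((M.conj b t ⟨_, hmem⟩ rfl).symm.trans h)
  exact (mul_inv_eq_iff_eq_mul.1 (congrArg Subtype.val this)).symm

theorem fix_of_commute (b : B) (x : maxPerfect B) (h : (x : G) * b = b * x) :
    M.ρ b (M.π x) = M.π x :=
  M.conj b x x (by rw [← h, mul_inv_cancel_right])

theorem mem_sup_iff (b : B) :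
    (b : G) ∈ maxPerfect B ⊔ oddPart B ↔ ∃ a, M.ρ b = MulAut.conj a := by
  constructor
  · intro h
    have hle : maxPerfect B ⊔ oddPart B ≤
        ((MulAut.conj : P →* MulAut P).range.comap M.ρ).map B.subtype := by
      refine sup_le (fun x hx => ⟨⟨x, maxPerfect_le B hx⟩, ?_, rfl⟩)
        (fun x hx => ⟨⟨x, oddPart_le B hx⟩, ?_, rfl⟩)
      · exact ⟨_, (M.rho_of_mem ⟨x, hx⟩ _ rfl).symm⟩
      · exact ⟨1, by rw [(M.ker_ρ _).2 (by exact hx), map_one]⟩
    obtain ⟨y, ⟨a, ha⟩, hy⟩ := hle h
    exact ⟨a, by rw [← (Subtype.ext hy : y = b)]; exact ha.symm⟩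
  · rintro ⟨a, ha⟩
    obtain ⟨x, rfl⟩ := M.surj a
    have hd : ((⟨x, maxPerfect_le B x.2⟩ : B)⁻¹ * b : G) ∈ oddPart B :=
      (M.ker_ρ ((⟨x, maxPerfect_le B x.2⟩ : B)⁻¹ * b)).1 (by
        rw [map_mul, map_inv, M.rho_of_mem x _ rfl, ha, inv_mul_cancel])
    have := mul_mem (mem_sup_left x.2 : (x : G) ∈ maxPerfect B ⊔ oddPart B) (mem_sup_right hd)
    simpa using this

end Model

theorem mem_of_two' {B : Subgroup G} (hb : CompBase B) {x : G}
    (hx : x ∈ maxPerfect B ⊔ oddPart B) (h2 : IsPow 2 x) : x ∈ maxPerfect B := by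
  have hn : oddPart B ≤ normalizer (maxPerfect B : Set G) :=
    (oddPart_le B).trans (le_normalizer_maxPerfect B)
  rw [← SetLike.mem_coe, Subgroup.coe_mul_of_right_le_normalizer_left _ _ hn] at hx
  obtain ⟨e, he, d, hd, rfl⟩ := hx
  have hc : Commute e d := mem_centralizer_iff.1 (hb.cent hd) e he
  obtain ⟨k, hk⟩ := h2
  set N := Nat.card (oddPart B)
  have hcop : (orderOf (e * d)).Coprime N := by
    rw [hk]; exact (Nat.coprime_two_left.2 (oddPart_odd B)).pow_left k
  have hpow : (e * d) ^ N ∈ maxPerfect B := by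
    rw [hc.mul_pow, show d ^ N = 1 from
      orderOf_dvd_iff_pow_eq_one.1 (Subgroup.orderOf_dvd_natCard _ hd), mul_one]
    exact pow_mem he N
  have hle : zpowers (e * d) ≤ zpowers ((e * d) ^ N) := by
    refine le_of_eq (Subgroup.eq_of_le_of_card_ge (zpowers_le.2 (pow_mem (mem_zpowers _) N)) ?_).symm
    rw [Nat.card_zpowers, Nat.card_zpowers, hcop.orderOf_pow]
  exact (zpowers_le.2 hpow) (hle (mem_zpowers _))

end Cfsg.Agent.GW.Bender
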