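import Cfsg.Agent.Lib.GW.Main
import Cfsg.Agent.Lib.GW.BenderExtra

/-!
# The extraspecial case of the mixed configuration is impossible
-/

set_option autoImplicit false

namespace Cfsg.Agent.GW.Bender

universe u

theorem extraCase : ExtraCase.{u} :=
  fun _ _ _ _ _ _ hf hM _ _ _ _ hx => Setting.false_of_extra hf hM hx

theorem mixedResidual : MixedResidual.{u} := mixedResidual_of extraCase

end Cfsg.Agent.GW.Bender
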