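import Mathlib

/-!
# Subgroups of odd order of `SL₂(p)` normalized by a reflection

Let `Q ≤ SL₂(p)` have odd order and be invariant under conjugation by `diag (1, -1)`, fixing no
nontrivial linear character of `Q` and none of the two invariant lines.  Then only the identity of `Q`
is diagonal and `2 |Q| ≤ p + 1`.
-/

set_option autoImplicit false
set_option linter.unusedSectionVars false
set_option linter.style.haveILetI false

namespace Cfsg.Agent.GW.Count.SLTwo

open Matrix
open scoped MatrixGroups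

variable {p : ℕ} [Fact p.Prime]

local notation "SLp" => SL(2, ZMod p)

/-- An element given by its entries. -/
def mk2 (a b c d : ZMod p) (h : a * d - b * c = 1) : SLp := ⟨!![a, b; c, d], by rw [det_fin_two_of]; exact h⟩

@[simp] theorem mk2_00 (a b c d : ZMod p) (h) : mk2 a b c d h 0 0 = a := rfl
@[simp] theorem mk2_01 (a b c d : ZMod p) (h) : mk2 a b c d h 0 1 = b := rfl
@[simp] theorem mk2_10 (a b c d : ZMod p) (h) : mk2 a b c d h 1 0 = c := rfl
@[simp] theorem mk2_11 (a b c d : ZMod p) (h) : mk2 a b c d h 1 1 = d := rfl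

theorem ext4 {X Y : SLp} (h00 : X 0 0 = Y 0 0) (h01 : X 0 1 = Y 0 1) (h10 : X 1 0 = Y 1 0)
    (h11 : X 1 1 = Y 1 1) : X = Y := by
  ext i j
  fin_cases i <;> fin_cases j <;> assumption

/-- Conjugation by `diag (1, -1)`. -/
def jc : SLp →* SLp where
  toFun X := mk2 (X 0 0) (-(X 0 1)) (-(X 1 0)) (X 1 1) (by
    have h := X.2
    rw [det_fin_two] at h
    linear_combination h)
  map_one' := by apply ext4 <;> simp
  map_mul' X Y := by
    apply ext4 <;> simp [Matrix.mul_apply, Fin.sum_univ_two] <;> ring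

@[simp] theorem jc_00 (X : SLp) : jc X 0 0 = X 0 0 := rfl
@[simp] theorem jc_01 (X : SLp) : jc X 0 1 = -(X 0 1) := rfl
@[simp] theorem jc_10 (X : SLp) : jc X 1 0 = -(X 1 0) := rfl
@[simp] theorem jc_11 (X : SLp) : jc X 1 1 = X 1 1 := rfl

/-- The upper transvection. -/
def up (s : ZMod p) : SLp := mk2 1 s 0 1 (by ring)

/-- The lower transvection. -/
def low (s : ZMod p) : SLp := mk2 1 0 s 1 (by ring)

/-- The quarter turn. -/
def turn : SLp := mk2 0 1 (-1) 0 (by ring)

@[simp] theorem up_00 (s : ZMod p) : up s 0 0 = 1 := rfl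
@[simp] theorem up_01 (s : ZMod p) : up s 0 1 = s := rfl
@[simp] theorem up_10 (s : ZMod p) : up s 1 0 = 0 := rfl
@[simp] theorem up_11 (s : ZMod p) : up s 1 1 = 1 := rfl
@[simp] theorem low_00 (s : ZMod p) : low s 0 0 = 1 := rfl
@[simp] theorem low_01 (s : ZMod p) : low s 0 1 = 0 := rfl
@[simp] theorem low_10 (s : ZMod p) : low s 1 0 = s := rfl
@[simp] theorem low_11 (s : ZMod p) : low s 1 1 = 1 := rfl
@[simp] theorem turn_00 : (turn : SLp) 0 0 = 0 := rfl
@[simp] theorem turn_01 : (turn : SLp) 0 1 = 1 := rfl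
@[simp] theorem turn_10 : (turn : SLp) 1 0 = -1 := rfl
@[simp] theorem turn_11 : (turn : SLp) 1 1 = 0 := rfl

theorem up_mul (s t : ZMod p) : up s * up t = up (s + t) := by
  apply ext4 <;> simp [Matrix.mul_apply, Fin.sum_univ_two, add_comm]

theorem up_nsmul (s : ZMod p) (n : ℕ) : up s ^ n = up ((n : ZMod p) * s) := by
  induction n with
  | zero => apply ext4 <;> simp
  | succ n ih =>
    rw [pow_succ, ih, up_mul]
    congr 1
    push_cast
    ring

theorem up_mem {Q : Subgroup SLp} {s : ZMod p} (hs : s ≠ 0) (h : up s ∈ Q) (r : ZMod p) :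
    up r ∈ Q := by
  have h1 : up s ^ (r * s⁻¹).val = up r := by
    rw [up_nsmul, ZMod.natCast_zmod_val (r * s⁻¹), inv_mul_cancel_right₀ hs]
  exact h1 ▸ Q.pow_mem h _

variable (hp2 : p ≠ 2)
include hp2

theorem two_ne_zero' : (2 : ZMod p) ≠ 0 := by
  intro h
  have : (p : ℕ) ∣ 2 := (ZMod.natCast_eq_zero_iff 2 p).1 (by exact_mod_cast h)
  exact hp2 ((Nat.prime_dvd_prime_iff_eq (Fact.out) Nat.prime_two).1 this)

/-- A subgroup of odd order contains no element whose square is `-1` or with diagonal `-1, -1`. -/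
theorem not_mem_neg {Q : Subgroup SLp} (hodd : Odd (Nat.card Q)) {X : SLp} (hX : X ∈ Q)
    (h00 : X 0 0 = -1) (h01 : X 0 1 = 0) (h10 : X 1 0 = 0) (h11 : X 1 1 = -1) : False := by
  have h2 : orderOf X = 2 := by
    refine orderOf_eq_prime ?_ fun h => ?_
    · rw [sq]; apply ext4 <;> simp [Matrix.mul_apply, Fin.sum_univ_two, h00, h01, h10, h11]
    · have : X 0 0 = 1 := by rw [h]; simp
      rw [h00] at this
      exact two_ne_zero' hp2 (by linear_combination -this)
  have := h2 ▸ hodd.of_dvd_nat (Subgroup.orderOf_dvd_natCard Q hX)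
  exact absurd this (by decide)

theorem no_turn {Q : Subgroup SLp} (hodd : Odd (Nat.card Q)) {g : SLp} (hg : g ∈ Q)
    (h00 : g 0 0 = 0) (h11 : g 1 1 = 0) : False := by
  have hdet : g 0 0 * g 1 1 - g 0 1 * g 1 0 = 1 := by
    have h := g.2; rwa [det_fin_two] at h
  refine not_mem_neg hp2 hodd (Q.mul_mem hg hg) ?_ ?_ ?_ ?_ <;>
    simp [Matrix.mul_apply, Fin.sum_univ_two, h00, h11] <;>
    · rw [h00, h11] at hdet; linear_combination -hdet

/-- With a non-triangular element no upper transvection occurs. -/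
theorem no_up {Q : Subgroup SLp} (hodd : Odd (Nat.card Q)) (hup : ∃ x ∈ Q, x 1 0 ≠ 0) {s : ZMod p}
    (hs : s ≠ 0) (h : up s ∈ Q) : False := by
  obtain ⟨x, hx, hc⟩ := hup
  set x' := up (-(x 0 0 / x 1 0)) * x with hx'
  have hx'Q : x' ∈ Q := Q.mul_mem (up_mem hs h _) hx
  have e00 : x' 0 0 = 0 := by
    simp [hx', Matrix.mul_apply, Fin.sum_univ_two]
    field_simp
    ring
  have e10 : x' 1 0 = x 1 0 := by simp [hx', Matrix.mul_apply, Fin.sum_univ_two]
  have hdet : x' 0 0 * x' 1 1 - x' 0 1 * x' 1 0 = 1 := by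
    have h' := x'.2; rwa [det_fin_two] at h'
  rw [e00, e10] at hdet
  set r : ZMod p := x 1 0 * x 1 0 with hr
  have hlow : low (-1) ∈ Q := by
    have h1 : x' * up r⁻¹ * x'⁻¹ ∈ Q := Q.mul_mem (Q.mul_mem hx'Q (up_mem hs h _)) (Q.inv_mem hx'Q)
    have h2 : x' * up r⁻¹ * x'⁻¹ = low (-1) := by
      rw [mul_inv_eq_iff_eq_mul]
      apply ext4 <;> simp [Matrix.mul_apply, Fin.sum_univ_two, e00, e10]
      rw [hr]
      field_simp
      linear_combination -hdet
    exact h2 ▸ h1
  have ht : up 1 * low (-1) * up 1 ∈ Q := Q.mul_mem (Q.mul_mem (up_mem hs h 1) hlow) (up_mem hs h 1)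
  exact no_turn hp2 hodd ht (by simp [Matrix.mul_apply, Fin.sum_univ_two])
    (by simp [Matrix.mul_apply, Fin.sum_univ_two])

/-- A triangular element is diagonal. -/
theorem diag_of_upper {Q : Subgroup SLp} (hodd : Odd (Nat.card Q)) (hJ : ∀ x ∈ Q, jc x ∈ Q)
    (hup : ∃ x ∈ Q, x 1 0 ≠ 0) {x : SLp} (hx : x ∈ Q) (h : x 1 0 = 0) : x 0 1 = 0 := by
  by_contra hb
  have hdet : x 0 0 * x 1 1 - x 0 1 * x 1 0 = 1 := by
    have h' := x.2; rwa [det_fin_two] at h'
  rw [h, mul_zero, sub_zero] at hdet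
  have hd : x 1 1 ≠ 0 := fun e => by rw [e, mul_zero] at hdet; exact zero_ne_one hdet
  have he : x⁻¹ * jc x = up (-2 * (x 1 1 * x 0 1)) := by
    rw [inv_mul_eq_iff_eq_mul]
    apply ext4 <;> simp [Matrix.mul_apply, Fin.sum_univ_two, h]
    linear_combination 2 * x 0 1 * hdet
  exact no_up hp2 hodd hup (mul_ne_zero (neg_ne_zero.2 (two_ne_zero' hp2)) (mul_ne_zero hd hb))
    (he ▸ Q.mul_mem (Q.inv_mem hx) (hJ x hx))

omit hp2 in
/-- Conjugation by the quarter turn exchanges the two lines. -/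
theorem conj_turn (X : SLp) : (MulAut.conj (turn : SLp)) X 0 0 = X 1 1 ∧
    (MulAut.conj (turn : SLp)) X 0 1 = -(X 1 0) ∧ (MulAut.conj (turn : SLp)) X 1 0 = -(X 0 1) ∧
      (MulAut.conj (turn : SLp)) X 1 1 = X 0 0 := by
  have hinv : (turn : SLp)⁻¹ = mk2 0 (-1) 1 0 (by ring) :=
    inv_eq_of_mul_eq_one_right (by apply ext4 <;> simp [Matrix.mul_apply, Fin.sum_univ_two])
  rw [MulAut.conj_apply, hinv]
  simp [Matrix.mul_apply, Fin.sum_univ_two]

theorem diag_of_lower {Q : Subgroup SLp} (hodd : Odd (Nat.card Q)) (hJ : ∀ x ∈ Q, jc x ∈ Q)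
    (hlow : ∃ x ∈ Q, x 0 1 ≠ 0) {x : SLp} (hx : x ∈ Q) (h : x 0 1 = 0) : x 1 0 = 0 := by
  set T := MulAut.conj (turn : SLp)
  set Q' := Q.map T.toMonoidHom
  have hodd' : Odd (Nat.card Q') := by
    rw [Nat.card_congr (Q.equivMapOfInjective _ T.injective).symm.toEquiv]; exact hodd
  have hJ' : ∀ y ∈ Q', jc y ∈ Q' := by
    rintro _ ⟨y, hy, rfl⟩
    refine ⟨jc y, hJ y hy, ?_⟩
    show MulAut.conj (turn : SLp) (jc y) = jc (MulAut.conj (turn : SLp) y)
    obtain ⟨a, b, c, d⟩ := conj_turn (jc y)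
    obtain ⟨a', b', c', d'⟩ := conj_turn y
    apply ext4 <;> simp only [jc_00, jc_01, jc_10, jc_11, a, b, c, d, a', b', c', d']
  obtain ⟨y, hy, hy01⟩ := hlow
  have h' := diag_of_upper hp2 hodd' hJ' ⟨T y, ⟨y, hy, rfl⟩, by
    rw [(conj_turn y).2.2.1]; exact neg_ne_zero.2 hy01⟩ (x := T x) ⟨x, hx, rfl⟩
    (by rw [(conj_turn x).2.2.1, h, neg_zero])
  rwa [(conj_turn x).2.1, neg_eq_zero] at h'

omit hp2 in
/-- Every linear character invariant under the reflection is trivial. -/
def NoInvariant (Q : Subgroup SLp) (hJ : ∀ x ∈ Q, jc x ∈ Q) : Prop :=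
  ∀ (M : Type) [CommGroup M] (χ : Q →* M),
    (∀ x : Q, χ ⟨jc (x : SLp), hJ x x.2⟩ = χ x) → ∀ x, χ x = 1

/-- The identity is the only diagonal element. -/
theorem eq_one_of_diag {Q : Subgroup SLp} (hodd : Odd (Nat.card Q)) (hJ : ∀ x ∈ Q, jc x ∈ Q)
    (hNF : NoInvariant Q hJ) {x : SLp} (hx : x ∈ Q) (h01 : x 0 1 = 0) (h10 : x 1 0 = 0) : x = 1 := by
  classical
  by_contra hx1
  have hne : ∀ z : SLp, z ∈ Q → z ≠ 1 → z 0 1 = 0 → z 1 0 = 0 → z 0 0 ≠ z 1 1 := by
    intro z hz hz1 a b e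
    have hdet : z 0 0 * z 1 1 - z 0 1 * z 1 0 = 1 := by
      have h' := z.2; rwa [det_fin_two] at h'
    rw [a, ← e, zero_mul, sub_zero] at hdet
    rcases mul_self_eq_one_iff.1 hdet with h | h
    · exact hz1 (ext4 (by simp [h]) (by simp [a]) (by simp [b]) (by simp [← e, h]))
    · exact not_mem_neg hp2 hodd hz h a b (e ▸ h)
  have hcomm : ∀ z g : SLp, z 0 1 = 0 → z 1 0 = 0 → z 0 0 ≠ z 1 1 → Commute g z →
      g 0 1 = 0 ∧ g 1 0 = 0 := by
    intro z g a b hd hc
    have e1 := congrArg (fun M : SLp => M 0 1) hc.eq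
    have e2 := congrArg (fun M : SLp => M 1 0) hc.eq
    simp [Matrix.mul_apply, Fin.sum_univ_two, a, b] at e1 e2
    constructor
    · by_contra h; exact hd (mul_left_cancel₀ h (by linear_combination -e1))
    · by_contra h; exact hd (mul_left_cancel₀ h (by linear_combination e2))
  -- an element of prime order among the powers of `x`
  have ho : orderOf x ≠ 1 := fun h => hx1 (orderOf_eq_one_iff.1 h)
  set s := (orderOf x).minFac with hs
  have hsp : s.Prime := Nat.minFac_prime ho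
  haveI : Fact s.Prime := ⟨hsp⟩
  have hsd : s ∣ orderOf x := Nat.minFac_dvd _
  set z := x ^ (orderOf x / s) with hz
  have hzo : orderOf z = s := orderOf_pow_orderOf_div (orderOf_pos x).ne' hsd
  have hzQ : z ∈ Q := Q.pow_mem hx _
  have hz1 : z ≠ 1 := fun h => by rw [h, orderOf_one] at hzo; exact hsp.one_lt.ne hzo
  have hdiag : ∀ n : ℕ, (x ^ n) 0 1 = 0 ∧ (x ^ n) 1 0 = 0 := by
    intro n
    induction n with
    | zero => simp
    | succ n ih =>
      rw [pow_succ]
      generalize x ^ n = y at ih ⊢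
      simp [Matrix.mul_apply, Fin.sum_univ_two, ih.1, ih.2, h01, h10]
  have hz01 : z 0 1 = 0 := (hdiag _).1
  have hz10 : z 1 0 = 0 := (hdiag _).2
  clear_value z
  have hzd := hne z hzQ hz1 hz01 hz10
  set z' : Q := ⟨z, hzQ⟩
  obtain ⟨P, hP⟩ := (IsPGroup.of_card (n := 1) (by
    rw [Nat.card_zpowers, ← Subgroup.orderOf_coe, pow_one]; exact hzo) :
      IsPGroup s (Subgroup.zpowers z')).exists_le_sylow
  have hzP : z' ∈ (P : Subgroup Q) := hP (Subgroup.mem_zpowers _)
  -- the whole Sylow subgroup is diagonal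
  haveI : Nontrivial (P : Subgroup Q) :=
    ⟨⟨⟨z', hzP⟩, 1, fun e => hz1 (congrArg (fun w : (P : Subgroup Q) => ((w : Q) : SLp)) e)⟩⟩
  haveI := P.2.center_nontrivial
  obtain ⟨⟨⟨⟨c, hcQ⟩, hcP⟩, hcC⟩, hc1⟩ :=
    exists_ne (1 : Subgroup.center (P : Subgroup Q))
  have hc1' : c ≠ 1 := fun e => hc1 (Subtype.ext (Subtype.ext (Subtype.ext e)))
  have hcz : Commute c z := congrArg (fun w : (P : Subgroup Q) => ((w : Q) : SLp))
    ((Subgroup.mem_center_iff.1 hcC ⟨z', hzP⟩).symm)
  have hcd := hcomm z c hz01 hz10 hzd hcz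
  have hcne := hne c hcQ hc1' hcd.1 hcd.2
  have hPd : ∀ y ∈ (P : Subgroup Q), (y : SLp) 0 1 = 0 ∧ (y : SLp) 1 0 = 0 := fun y hy =>
    hcomm c y hcd.1 hcd.2 hcne (congrArg (fun w : (P : Subgroup Q) => ((w : Q) : SLp))
      (Subgroup.mem_center_iff.1 hcC ⟨y, hy⟩))
  -- its normalizer centralizes it
  have hN : Subgroup.normalizer ((P : Subgroup Q) : Set Q) ≤ Subgroup.centralizer (P : Set Q) := by
    intro g hg
    have h2 : g * z' * g⁻¹ ∈ (P : Subgroup Q) := (Subgroup.mem_normalizer_iff.1 hg z').1 hzP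
    obtain ⟨a, b⟩ := hPd _ h2
    set z₂ : SLp := ((g * z' * g⁻¹ : Q) : SLp)
    have heq : (g : SLp) * z = z₂ * (g : SLp) := by simp [z₂, z']
    have e00 := congrArg (fun M : SLp => M 0 0) heq
    have e01 := congrArg (fun M : SLp => M 0 1) heq
    have e10 := congrArg (fun M : SLp => M 1 0) heq
    have e11 := congrArg (fun M : SLp => M 1 1) heq
    simp [Matrix.mul_apply, Fin.sum_univ_two, a, b, hz01, hz10] at e00 e01 e10 e11
    have hg' : (g : SLp) 0 1 = 0 ∧ (g : SLp) 1 0 = 0 := by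
      by_cases hg00 : (g : SLp) 0 0 = 0
      · exfalso
        have hdet : (g : SLp) 0 0 * (g : SLp) 1 1 - (g : SLp) 0 1 * (g : SLp) 1 0 = 1 := by
          have h' := (g : SLp).2; rwa [det_fin_two] at h'
        have hg10 : (g : SLp) 1 0 ≠ 0 := fun e => by
          rw [hg00, e, zero_mul, mul_zero, sub_zero] at hdet; exact zero_ne_one hdet
        refine no_turn hp2 hodd g.2 hg00 ?_
        by_contra hg11
        exact hzd (mul_left_cancel₀ hg10 (by
          have h3 : z₂ 1 1 = z 1 1 := mul_left_cancel₀ hg11 (by linear_combination -e11)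
          linear_combination e10 + (g : SLp) 1 0 * h3))
      · have h3 : z₂ 0 0 = z 0 0 := mul_left_cancel₀ hg00 (by linear_combination -e00)
        have h4 : (g : SLp) 0 1 = 0 := by
          by_contra h; exact hzd (mul_left_cancel₀ h (by linear_combination -e01 - (g : SLp) 0 1 * h3))
        refine ⟨h4, ?_⟩
        by_contra h
        have hg11 : (g : SLp) 1 1 ≠ 0 := fun e => by
          have hdet : (g : SLp) 0 0 * (g : SLp) 1 1 - (g : SLp) 0 1 * (g : SLp) 1 0 = 1 := by
            have h' := (g : SLp).2; rwa [det_fin_two] at h'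
          rw [h4, e, mul_zero, zero_mul, sub_zero] at hdet; exact zero_ne_one hdet
        have h5 : z₂ 1 1 = z 1 1 := mul_left_cancel₀ hg11 (by linear_combination -e11)
        exact hzd (mul_left_cancel₀ h (by linear_combination e10 + (g : SLp) 1 0 * h5))
    rw [Subgroup.mem_centralizer_iff]
    intro y hy
    obtain ⟨a', b'⟩ := hPd y hy
    refine Subtype.ext (ext4 ?_ ?_ ?_ ?_) <;>
      simp [Matrix.mul_apply, Fin.sum_univ_two, hg'.1, hg'.2, a', b'] <;> ring
  -- the transfer is invariant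
  set χ := MonoidHom.transferSylow P hN with hχ
  have hcompl := MonoidHom.ker_transferSylow_isComplement' P hN
  set σ : Q →* Q := { toFun := fun y => ⟨jc y, hJ y y.2⟩
                      map_one' := Subtype.ext (map_one jc)
                      map_mul' := fun a b => Subtype.ext (map_mul jc (a : SLp) b) } with hσ
  letI : CommGroup (P : Subgroup Q) :=
    { (inferInstance : Group (P : Subgroup Q)) with
      mul_comm := fun a b => Subtype.ext (Subgroup.mem_centralizer_iff.1
        (hN (Subgroup.le_normalizer b.2)) a a.2) }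
  have hinv : ∀ y : Q, χ (σ y) = χ y := by
    intro y
    obtain ⟨⟨k, w⟩, hkw⟩ :=
      (Subgroup.isComplement_iff_existsUnique.1 hcompl y).exists
    obtain ⟨hw01, hw10⟩ := hPd w w.2
    have hw : σ w = w := Subtype.ext (show jc ((w : Q) : SLp) = ((w : Q) : SLp) from
      ext4 (by simp) (by simp [hw01]) (by simp [hw10]) (by simp))
    have hk : χ (σ k) = 1 := by
      obtain ⟨n, hn⟩ := IsPGroup.iff_orderOf.1 P.2 (χ (σ k))
      refine orderOf_eq_one_iff.1 (Nat.eq_one_of_dvd_coprimes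
        (((Nat.Prime.coprime_iff_not_dvd hsp).2
          (MonoidHom.not_dvd_card_ker_transferSylow P hN)).pow_left n) (dvd_of_eq hn)
        (((orderOf_map_dvd χ _).trans (orderOf_map_dvd σ _)).trans
          (Subgroup.orderOf_dvd_natCard _ k.2)))
    have hk' : χ (k : Q) = 1 := MonoidHom.mem_ker.1 k.2
    rw [← hkw]
    simp only [map_mul, hw, hk, hk']
  have hker : z' ∈ χ.ker := MonoidHom.mem_ker.2 (hNF _ χ (fun y => hinv y) z')
  have hdvd := Subgroup.orderOf_dvd_natCard _ hker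
  rw [← Subgroup.orderOf_coe] at hdvd
  exact MonoidHom.not_dvd_card_ker_transferSylow P hN ((dvd_of_eq hzo.symm).trans hdvd)

/-- The bound. -/
theorem two_mul_card_le {Q : Subgroup SLp} (hodd : Odd (Nat.card Q)) (hJ : ∀ x ∈ Q, jc x ∈ Q)
    (hNF : NoInvariant Q hJ) (hup : ∃ x ∈ Q, x 1 0 ≠ 0) (hlow : ∃ x ∈ Q, x 0 1 ≠ 0) :
    2 * Nat.card Q ≤ p + 1 := by
  classical
  let line : ZMod p → ZMod p → Option (ZMod p) := fun a c => if c = 0 then none else some (a / c)
  have hline : ∀ a c a' c' : ZMod p, line a c = line a' c' → a * c' = a' * c := by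
    intro a c a' c' h
    simp only [line] at h
    split_ifs at h with h1 h2
    · rw [h1, h2, mul_zero, mul_zero]
    · rw [Option.some.injEq, div_eq_div_iff h1 (by assumption)] at h
      linear_combination h
  have hinvE : ∀ g : SLp, g⁻¹ = mk2 (g 1 1) (-(g 0 1)) (-(g 1 0)) (g 0 0) (by
      have h := g.2; rw [det_fin_two] at h; linear_combination h) := fun g =>
    inv_eq_of_mul_eq_one_right (by
      have h := g.2; rw [det_fin_two] at h
      apply ext4 <;> simp [Matrix.mul_apply, Fin.sum_univ_two] <;>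
        first | linear_combination h | ring1)
  let f : Bool × Q → Option (ZMod p) := fun x =>
    if x.1 then line ((x.2 : SLp) 0 0) ((x.2 : SLp) 1 0) else line ((x.2 : SLp) 0 1) ((x.2 : SLp) 1 1)
  -- no element exchanges the two lines
  have hswap : ∀ g ∈ Q, g 1 1 ≠ 0 ∧ g 0 0 ≠ 0 := by
    have key : ∀ g ∈ Q, g 1 1 ≠ 0 := by
      intro g hg h11
      have hdet : g 0 0 * g 1 1 - g 0 1 * g 1 0 = 1 := by
        have h' := g.2; rwa [det_fin_two] at h'
      rw [h11, mul_zero, zero_sub] at hdet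
      set v := g⁻¹ * jc g with hv
      have hvQ : v ∈ Q := Q.mul_mem (Q.inv_mem hg) (hJ g hg)
      have v01 : v 0 1 = 0 := by simp [hv, hinvE g, Matrix.mul_apply, Fin.sum_univ_two, h11]
      have v00 : v 0 0 = -1 := by
        simp [hv, hinvE g, Matrix.mul_apply, Fin.sum_univ_two, h11]; linear_combination -hdet
      have hv1 := eq_one_of_diag hp2 hodd hJ hNF hvQ v01 (diag_of_lower hp2 hodd hJ hlow hvQ v01)
      rw [hv1] at v00
      exact two_ne_zero' hp2 (by simp at v00; linear_combination v00)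
    intro g hg
    refine ⟨key g hg, fun h00 => key g⁻¹ (Q.inv_mem hg) ?_⟩
    rw [hinvE g]; simpa using h00
  have hinj : Function.Injective f := by
    rintro ⟨b, x⟩ ⟨b', y⟩ h
    set g := (x : SLp)⁻¹ * y with hg
    have hgQ : g ∈ Q := Q.mul_mem (Q.inv_mem x.2) y.2
    cases b <;> cases b' <;> simp only [f, Bool.false_eq_true, ↓reduceIte] at h <;>
      have h' := hline _ _ _ _ h
    · have hg01 : g 0 1 = 0 := by
        simp [hg, hinvE (x : SLp), Matrix.mul_apply, Fin.sum_univ_two]; linear_combination -h'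
      have := eq_one_of_diag hp2 hodd hJ hNF hgQ hg01 (diag_of_lower hp2 hodd hJ hlow hgQ hg01)
      exact Prod.ext rfl (Subtype.ext (inv_mul_eq_one.1 this))
    · exact absurd (show g 0 0 = 0 by
        simp [hg, hinvE (x : SLp), Matrix.mul_apply, Fin.sum_univ_two]; linear_combination -h')
        (hswap g hgQ).2
    · exact absurd (show g 1 1 = 0 by
        simp [hg, hinvE (x : SLp), Matrix.mul_apply, Fin.sum_univ_two]; linear_combination h')
        (hswap g hgQ).1
    · have hg10 : g 1 0 = 0 := by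
        simp [hg, hinvE (x : SLp), Matrix.mul_apply, Fin.sum_univ_two]; linear_combination h'
      have := eq_one_of_diag hp2 hodd hJ hNF hgQ (diag_of_upper hp2 hodd hJ hup hgQ hg10) hg10
      exact Prod.ext rfl (Subtype.ext (inv_mul_eq_one.1 this))
  have h := Nat.card_le_card_of_injective f hinj
  simp only [Nat.card_prod, Nat.card_eq_fintype_card, Fintype.card_bool, Fintype.card_option,
    ZMod.card] at h ⊢
  simpa [Fintype.card_prod] using h

end Cfsg.Agent.GW.Count.SLTwo
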