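import Cfsg.Agent.Lib.GW.BenderCaseDefs
import Cfsg.Agent.Lib.GW.CountSLTwo

/-!
# Coordinates on a nonabelian Sylow subgroup of the Fitting subgroup

`O_p(H) = ⟨w, b⟩ Z` with `b w b⁻¹ = w ζ`.  Conjugation gives coordinates of `O_p(H) / Z` and a
homomorphism of the core into `SL₂(p)` which turns a reflection into `diag (1, -1)`.
-/

set_option autoImplicit false
set_option linter.style.haveILetI false
set_option linter.unusedSectionVars false

namespace Cfsg.Agent.GW.Bender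

open Subgroup Cfsg.Agent.GW.Count.SLTwo
open scoped MatrixGroups

universe u

variable {G : Type u} [Group G] [Finite G]

/-- A power with exponent in `ℤ/p`. -/
def zk {p : ℕ} (ζ : G) (k : ZMod p) : G := ζ ^ k.val

/-- The exponent `k` with `x v x⁻¹ = v ζ ^ k`. -/
noncomputable def expo (p : ℕ) (ζ v x : G) : ZMod p :=
  Classical.epsilon fun k : ZMod p => x * v * x⁻¹ = v * zk ζ k

section
variable {p : ℕ} [NeZero p] {ζ : G} (ho : orderOf ζ = p)
include ho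

theorem zk_natCast (n : ℕ) : zk ζ (n : ZMod p) = ζ ^ n := by
  rw [zk, ZMod.val_natCast, ← ho, pow_mod_orderOf]

theorem zk_zero : zk ζ (0 : ZMod p) = 1 := by
  have h := zk_natCast ho 0; simpa using h

theorem zk_one : zk ζ (1 : ZMod p) = ζ := by
  have h := zk_natCast ho 1; simpa using h

theorem zk_add (a b : ZMod p) : zk ζ (a + b) = zk ζ a * zk ζ b := by
  rw [zk, zk, zk, ZMod.val_add, ← pow_add]
  conv_lhs => rw [show (a.val + b.val) % p = (a.val + b.val) % orderOf ζ by rw [ho], pow_mod_orderOf]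

theorem zk_inj {a b : ZMod p} (h : zk ζ a = zk ζ b) : a = b := by
  refine ZMod.val_injective p ?_
  exact pow_injOn_Iio_orderOf (Set.mem_Iio.2 (ho ▸ a.val_lt)) (Set.mem_Iio.2 (ho ▸ b.val_lt)) h

theorem zk_neg (a : ZMod p) : zk ζ (-a) = (zk ζ a)⁻¹ :=
  eq_inv_of_mul_eq_one_left (by rw [← zk_add ho, neg_add_cancel, zk_zero ho])

theorem zk_pow (a : ZMod p) (n : ℕ) : zk ζ a ^ n = zk ζ ((n : ZMod p) * a) := by
  induction n with
  | zero => rw [pow_zero, Nat.cast_zero, zero_mul, zk_zero ho]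
  | succ n ih => rw [pow_succ, ih, ← zk_add ho, Nat.cast_succ, add_mul, one_mul]

theorem expo_eq {v x : G} {k : ZMod p} (h : x * v * x⁻¹ = v * zk ζ k) : expo p ζ v x = k := by
  have hs := Classical.epsilon_spec (p := fun k : ZMod p => x * v * x⁻¹ = v * zk ζ k) ⟨k, h⟩
  exact zk_inj ho (mul_left_cancel (hs.symm.trans h))

end

namespace Data.ExtraData

variable {d : Data G} {p : ℕ} [Fact p.Prime] {w b ζ : G} (hx : d.ExtraData p w b ζ)

/-- The first coordinate. -/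
noncomputable def α (_ : d.ExtraData p w b ζ) (x : G) : ZMod p := -expo p ζ b x

/-- The second coordinate. -/
noncomputable def β (_ : d.ExtraData p w b ζ) (x : G) : ZMod p := expo p ζ w x

include hx

theorem w_mem : w ∈ d.P p := (hx.frame 0).le (mem_zpowers w)

theorem u_w (i : ZMod d.m) : d.u i * w * (d.u i)⁻¹ = w := by
  have h : w ∈ d.P p ⊓ centralizer ({d.u i} : Set G) := (hx.fixed_eq i) ▸ mem_zpowers w
  exact mul_inv_eq_iff_eq_mul.2 (mem_centralizer_singleton_iff.1 h.2).symm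

theorem zeta_P : ζ ∈ d.P p := d.Zc_le p hx.zeta_mem

theorem zk_Zc (k : ZMod p) : zk ζ k ∈ d.Zc p := pow_mem hx.zeta_mem _

theorem commute_Zc {x z : G} (hP : x ∈ d.P p) (hz : z ∈ d.Zc p) : Commute x z :=
  mem_centralizer_iff.1 hz.2 x hP

theorem commute_O {x z : G} {r : ℕ} (hr : r.Prime) (hr2 : r ≠ 2) (hO : x ∈ d.O) (hz : z ∈ d.Zc r) :
    Commute x z := (hx.centre r hr hr2 z hz).2 x hO

theorem u_zk (i : ZMod d.m) (k : ZMod p) : d.u i * zk ζ k * (d.u i)⁻¹ = zk ζ (-k) := by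
  rw [zk_neg hx.zeta_order]
  exact (hx.centre p hx.prime hx.ne_two _ (hx.zk_Zc k)).1 i

theorem b_conj_w : b * w * b⁻¹ = w * zk ζ (1 : ZMod p) := by rw [zk_one hx.zeta_order, hx.moved]

theorem w_conj_b : w * b * w⁻¹ = b * zk ζ (-1 : ZMod p) := by
  have h1 : b * w = w * ζ * b := mul_inv_eq_iff_eq_mul.1 hx.moved
  have h2 : Commute b ζ := hx.commute_Zc hx.b_mem hx.zeta_mem
  have h3 : Commute w ζ := hx.commute_Zc hx.w_mem hx.zeta_mem
  rw [zk_neg hx.zeta_order, zk_one hx.zeta_order, mul_inv_eq_iff_eq_mul]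
  calc w * b = w * (b * ζ) * ζ⁻¹ := by group
    _ = b * w * ζ⁻¹ := by rw [h2.eq, ← mul_assoc w ζ b, h1]
    _ = b * ζ⁻¹ * w := by rw [mul_assoc, h3.inv_right.eq, ← mul_assoc]

/-- Every element of `O_p(H)` moves the generators by powers of `ζ`. -/
theorem exists_expo {v : G} (hv : v = w ∨ v = b) {x : G} (hP : x ∈ d.P p) :
    ∃ k : ZMod p, x * v * x⁻¹ = v * zk ζ k := by
  have hvP : v ∈ d.P p := by rcases hv with rfl | rfl; exacts [hx.w_mem, hx.b_mem]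
  let K : Subgroup G :=
    { carrier := {x | Commute x ζ ∧ ∃ k : ZMod p, x * v * x⁻¹ = v * zk ζ k}
      one_mem' := ⟨Commute.one_left _, 0, by rw [zk_zero hx.zeta_order]; simp⟩
      mul_mem' := by
        rintro x y ⟨hxc, k, hk⟩ ⟨hyc, l, hl⟩
        refine ⟨hxc.mul_left hyc, k + l, ?_⟩
        calc x * y * v * (x * y)⁻¹ = x * (y * v * y⁻¹) * x⁻¹ := by group
          _ = (x * v * x⁻¹) * (x * zk ζ l * x⁻¹) := by rw [hl]; group
          _ = v * zk ζ (k + l) := by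
            rw [hk, show x * zk ζ l * x⁻¹ = zk ζ l from mul_inv_eq_iff_eq_mul.2 (hxc.pow_right _).eq,
              zk_add hx.zeta_order, mul_assoc]
      inv_mem' := by
        rintro x ⟨hxc, k, hk⟩
        refine ⟨hxc.inv_left, -k, ?_⟩
        have hc : Commute x (zk ζ k) := hxc.pow_right _
        rw [zk_neg hx.zeta_order, inv_inv]
        calc x⁻¹ * v * x = x⁻¹ * (v * zk ζ k) * (zk ζ k)⁻¹ * x := by group
          _ = v * x⁻¹ * (zk ζ k)⁻¹ * x := by rw [← hk]; group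
          _ = v * (zk ζ k)⁻¹ := by
            rw [mul_assoc v, hc.inv_left.inv_right.eq, mul_assoc, inv_mul_cancel_right] }
  have hle : d.P p ≤ K := hx.generated.trans (sup_le (sup_le (zpowers_le.2 ⟨?_, ?_⟩)
    (zpowers_le.2 ⟨?_, ?_⟩)) fun z hz => ⟨(hx.commute_Zc hx.zeta_P hz).symm, 0, ?_⟩)
  · exact (hle hP).2
  · exact hx.commute_Zc hx.w_mem hx.zeta_mem
  · rcases hv with rfl | rfl
    · exact ⟨0, by rw [zk_zero hx.zeta_order]; group⟩
    · exact ⟨-1, hx.w_conj_b⟩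
  · exact hx.commute_Zc hx.b_mem hx.zeta_mem
  · rcases hv with rfl | rfl
    · exact ⟨1, hx.b_conj_w⟩
    · exact ⟨0, by rw [zk_zero hx.zeta_order]; group⟩
  · rw [zk_zero hx.zeta_order, mul_one]
    exact mul_inv_eq_iff_eq_mul.2 (hx.commute_Zc hvP hz).symm.eq

theorem conj_w {x : G} (hP : x ∈ d.P p) : x * w * x⁻¹ = w * zk ζ (hx.β x) := by
  obtain ⟨k, hk⟩ := hx.exists_expo (Or.inl rfl) hP
  rw [β, expo_eq hx.zeta_order hk, hk]

theorem conj_b {x : G} (hP : x ∈ d.P p) : x * b * x⁻¹ = b * zk ζ (-hx.α x) := by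
  obtain ⟨k, hk⟩ := hx.exists_expo (Or.inr rfl) hP
  rw [α, expo_eq hx.zeta_order hk, neg_neg, hk]

theorem β_mul {x y : G} (hxP : x ∈ d.P p) (hyP : y ∈ d.P p) :
    hx.β (x * y) = hx.β x + hx.β y := by
  refine zk_inj hx.zeta_order (mul_left_cancel (a := w) ?_)
  rw [← hx.conj_w (mul_mem hxP hyP), zk_add hx.zeta_order, ← mul_assoc, ← hx.conj_w hxP,
    show x * y * w * (x * y)⁻¹ = x * (y * w * y⁻¹) * x⁻¹ by group, hx.conj_w hyP,
    show x * (w * zk ζ (hx.β y)) * x⁻¹ = x * w * x⁻¹ * (x * zk ζ (hx.β y) * x⁻¹) by group,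
    show x * zk ζ (hx.β y) * x⁻¹ = zk ζ (hx.β y) from
      mul_inv_eq_iff_eq_mul.2 (hx.commute_Zc hxP (hx.zk_Zc _)).eq]

theorem α_mul {x y : G} (hxP : x ∈ d.P p) (hyP : y ∈ d.P p) :
    hx.α (x * y) = hx.α x + hx.α y := by
  refine neg_injective (zk_inj hx.zeta_order (mul_left_cancel (a := b) ?_))
  rw [← hx.conj_b (mul_mem hxP hyP), neg_add, zk_add hx.zeta_order, ← mul_assoc, ← hx.conj_b hxP,
    show x * y * b * (x * y)⁻¹ = x * (y * b * y⁻¹) * x⁻¹ by group, hx.conj_b hyP,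
    show x * (b * zk ζ (-hx.α y)) * x⁻¹ = x * b * x⁻¹ * (x * zk ζ (-hx.α y) * x⁻¹) by group,
    show x * zk ζ (-hx.α y) * x⁻¹ = zk ζ (-hx.α y) from
      mul_inv_eq_iff_eq_mul.2 (hx.commute_Zc hxP (hx.zk_Zc _)).eq]

theorem coord_Zc {z : G} (hz : z ∈ d.Zc p) : hx.α z = 0 ∧ hx.β z = 0 := by
  constructor
  · rw [α, expo_eq hx.zeta_order (k := 0), neg_zero]
    rw [zk_zero hx.zeta_order, mul_one]
    exact mul_inv_eq_iff_eq_mul.2 (hx.commute_Zc hx.b_mem hz).symm.eq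
  · rw [β, expo_eq hx.zeta_order (k := 0)]
    rw [zk_zero hx.zeta_order, mul_one]
    exact mul_inv_eq_iff_eq_mul.2 (hx.commute_Zc hx.w_mem hz).symm.eq

theorem coord_w : hx.α w = 1 ∧ hx.β w = 0 := by
  constructor
  · rw [α, expo_eq hx.zeta_order hx.w_conj_b, neg_neg]
  · rw [β, expo_eq hx.zeta_order (k := 0)]
    rw [zk_zero hx.zeta_order]; group

theorem coord_b : hx.α b = 0 ∧ hx.β b = 1 := by
  constructor
  · rw [α, expo_eq hx.zeta_order (k := 0), neg_zero]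
    rw [zk_zero hx.zeta_order]; group
  · rw [β, expo_eq hx.zeta_order hx.b_conj_w]

theorem α_pow {x : G} (hP : x ∈ d.P p) (n : ℕ) : hx.α (x ^ n) = n * hx.α x := by
  induction n with
  | zero => rw [pow_zero, (hx.coord_Zc (one_mem _)).1, Nat.cast_zero, zero_mul]
  | succ n ih => rw [pow_succ, hx.α_mul (pow_mem hP n) hP, ih, Nat.cast_succ, add_mul, one_mul]

theorem β_pow {x : G} (hP : x ∈ d.P p) (n : ℕ) : hx.β (x ^ n) = n * hx.β x := by
  induction n with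
  | zero => rw [pow_zero, (hx.coord_Zc (one_mem _)).2, Nat.cast_zero, zero_mul]
  | succ n ih => rw [pow_succ, hx.β_mul (pow_mem hP n) hP, ih, Nat.cast_succ, add_mul, one_mul]

theorem coord_inv {x : G} (hP : x ∈ d.P p) : hx.α x⁻¹ = -hx.α x ∧ hx.β x⁻¹ = -hx.β x := by
  constructor <;> refine eq_neg_of_add_eq_zero_left ?_
  · rw [← hx.α_mul (inv_mem hP) hP, inv_mul_cancel, (hx.coord_Zc (one_mem _)).1]
  · rw [← hx.β_mul (inv_mem hP) hP, inv_mul_cancel, (hx.coord_Zc (one_mem _)).2]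

theorem wb_mem (i j : ℕ) : w ^ i * b ^ j ∈ d.P p :=
  mul_mem (pow_mem hx.w_mem i) (pow_mem hx.b_mem j)

theorem coord_wb (i j : ℕ) : hx.α (w ^ i * b ^ j) = i ∧ hx.β (w ^ i * b ^ j) = j := by
  have hw := pow_mem hx.w_mem i
  have hb := pow_mem hx.b_mem j
  constructor
  · rw [hx.α_mul hw hb, hx.α_pow hx.w_mem, hx.α_pow hx.b_mem, hx.coord_w.1, hx.coord_b.1]; simp
  · rw [hx.β_mul hw hb, hx.β_pow hx.w_mem, hx.β_pow hx.b_mem, hx.coord_w.2, hx.coord_b.2]; simp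

theorem mem_Zc {z : G} (hP : z ∈ d.P p) (ha : hx.α z = 0) (hb : hx.β z = 0) : z ∈ d.Zc p := by
  have hle : d.P p ≤ centralizer ({z} : Set G) := hx.generated.trans (sup_le (sup_le ?_ ?_)
    fun c hc => mem_centralizer_singleton_iff.2 (hx.commute_Zc hP hc).symm.eq)
  · exact ⟨hP, mem_centralizer_iff.2 fun y hy => mem_centralizer_singleton_iff.1 (hle hy)⟩
  · refine zpowers_le.2 (mem_centralizer_singleton_iff.2 ?_)
    have h := hx.conj_w hP
    rw [hb, zk_zero hx.zeta_order, mul_one, mul_inv_eq_iff_eq_mul] at h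
    exact h.symm
  · refine zpowers_le.2 (mem_centralizer_singleton_iff.2 ?_)
    have h := hx.conj_b hP
    rw [ha, neg_zero, zk_zero hx.zeta_order, mul_one, mul_inv_eq_iff_eq_mul] at h
    exact h.symm

theorem decomp {x : G} (hP : x ∈ d.P p) :
    ∃ z ∈ d.Zc p, x = w ^ (hx.α x).val * b ^ (hx.β x).val * z := by
  have hi := inv_mem (hx.wb_mem (hx.α x).val (hx.β x).val)
  obtain ⟨ha, hb⟩ := hx.coord_wb (hx.α x).val (hx.β x).val
  obtain ⟨ha', hb'⟩ := hx.coord_inv (hx.wb_mem (hx.α x).val (hx.β x).val)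
  refine ⟨(w ^ (hx.α x).val * b ^ (hx.β x).val)⁻¹ * x, hx.mem_Zc (mul_mem hi hP) ?_ ?_, by group⟩
  · rw [hx.α_mul hi hP, ha', ha, ZMod.natCast_zmod_val, neg_add_cancel]
  · rw [hx.β_mul hi hP, hb', hb, ZMod.natCast_zmod_val, neg_add_cancel]

/-- The commutator is the determinant. -/
theorem pairing {x v : G} (hxP : x ∈ d.P p) (hvP : v ∈ d.P p) :
    x * v * x⁻¹ = v * zk ζ (hx.α v * hx.β x - hx.β v * hx.α x) := by
  obtain ⟨z, hz, hv⟩ := hx.decomp hvP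
  set i := (hx.α v).val with hi
  set j := (hx.β v).val with hj
  have hcw : Commute w (zk ζ (hx.β x)) := hx.commute_Zc hx.w_mem (hx.zk_Zc _)
  have hcb : Commute b (zk ζ (-hx.α x)) := hx.commute_Zc hx.b_mem (hx.zk_Zc _)
  have h1 : x * v * x⁻¹ = w ^ i * zk ζ ((i : ZMod p) * hx.β x) *
      (b ^ j * zk ζ ((j : ZMod p) * -hx.α x)) * z := by
    rw [hv, show x * (w ^ i * b ^ j * z) * x⁻¹ = (x * w ^ i * x⁻¹) * (x * b ^ j * x⁻¹) *
      (x * z * x⁻¹) by group, ← conj_pow, ← conj_pow, hx.conj_w hxP, hx.conj_b hxP, hcw.mul_pow,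
      hcb.mul_pow, zk_pow hx.zeta_order, zk_pow hx.zeta_order,
      show x * z * x⁻¹ = z from mul_inv_eq_iff_eq_mul.2 (hx.commute_Zc hxP hz).eq]
  have hci : i = (hx.α v).val := hi
  rw [hi, hj, ZMod.natCast_zmod_val, ZMod.natCast_zmod_val, ← hi, ← hj] at h1
  have c1 : Commute (zk ζ (hx.α v * hx.β x)) (b ^ j) :=
    (hx.commute_Zc (pow_mem hx.b_mem j) (hx.zk_Zc _)).symm
  have c2 : ∀ k, Commute (zk ζ k) z := fun k => hx.commute_Zc ((d.Zc_le p) (hx.zk_Zc k)) hz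
  rw [h1, show hx.α v * hx.β x - hx.β v * hx.α x = hx.α v * hx.β x + hx.β v * -hx.α x by ring]
  rw [zk_add hx.zeta_order]
  calc w ^ i * zk ζ (hx.α v * hx.β x) * (b ^ j * zk ζ (hx.β v * -hx.α x)) * z
      = w ^ i * (zk ζ (hx.α v * hx.β x) * b ^ j) * zk ζ (hx.β v * -hx.α x) * z := by group
    _ = w ^ i * b ^ j * ((zk ζ (hx.α v * hx.β x) * zk ζ (hx.β v * -hx.α x)) * z) := by
      rw [c1.eq]; group
    _ = (w ^ i * b ^ j * z) * (zk ζ (hx.α v * hx.β x) * zk ζ (hx.β v * -hx.α x)) := by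
      rw [((c2 _).mul_left (c2 _)).eq]; simp only [mul_assoc]
    _ = _ := by rw [← hv]

theorem b_O : b ∈ d.O := d.P_le_O hx.ne_two hx.b_mem

theorem w_O : w ∈ d.O := d.P_le_O hx.ne_two hx.w_mem

theorem conj_mem {a x : G} (ha : a ∈ d.O) (hP : x ∈ d.P p) : a * x * a⁻¹ ∈ d.P p :=
  d.conj_mem_P (d.O_le ha) hP

/-- The action on the coordinates is linear. -/
theorem coord_conj {a x : G} (ha : a ∈ d.O) (hP : x ∈ d.P p) :
    hx.α (a * x * a⁻¹) = hx.α (a * w * a⁻¹) * hx.α x + hx.α (a * b * a⁻¹) * hx.β x ∧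
    hx.β (a * x * a⁻¹) = hx.β (a * w * a⁻¹) * hx.α x + hx.β (a * b * a⁻¹) * hx.β x := by
  obtain ⟨z, hz, hv⟩ := hx.decomp hP
  have hw := hx.conj_mem ha hx.w_mem
  have hb := hx.conj_mem ha hx.b_mem
  have h : a * x * a⁻¹ = (a * w * a⁻¹) ^ (hx.α x).val * (a * b * a⁻¹) ^ (hx.β x).val * z := by
    conv_lhs => rw [hv]
    rw [conj_pow, conj_pow]
    have hc : a * z = z * a := hx.commute_O hx.prime hx.ne_two ha hz
    calc a * (w ^ (hx.α x).val * b ^ (hx.β x).val * z) * a⁻¹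
        = a * w ^ (hx.α x).val * a⁻¹ * (a * b ^ (hx.β x).val * a⁻¹) * (a * z * a⁻¹) := by group
      _ = _ := by rw [mul_inv_eq_iff_eq_mul.2 hc]
  obtain ⟨hz1, hz2⟩ := hx.coord_Zc hz
  have hwb := mul_mem (pow_mem hw (hx.α x).val) (pow_mem hb (hx.β x).val)
  constructor
  · rw [h, hx.α_mul hwb (d.Zc_le p hz), hx.α_mul (pow_mem hw _) (pow_mem hb _), hx.α_pow hw,
      hx.α_pow hb, hz1, ZMod.natCast_zmod_val, ZMod.natCast_zmod_val]
    ring
  · rw [h, hx.β_mul hwb (d.Zc_le p hz), hx.β_mul (pow_mem hw _) (pow_mem hb _), hx.β_pow hw,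
      hx.β_pow hb, hz2, ZMod.natCast_zmod_val, ZMod.natCast_zmod_val]
    ring

theorem det_eq {a : G} (ha : a ∈ d.O) :
    hx.α (a * w * a⁻¹) * hx.β (a * b * a⁻¹) - hx.α (a * b * a⁻¹) * hx.β (a * w * a⁻¹) = 1 := by
  have h1 := hx.pairing (hx.conj_mem ha hx.b_mem) (hx.conj_mem ha hx.w_mem)
  have hc : a * ζ * a⁻¹ = ζ := mul_inv_eq_iff_eq_mul.2 (hx.commute_O hx.prime hx.ne_two ha hx.zeta_mem)
  have h2 : a * b * a⁻¹ * (a * w * a⁻¹) * (a * b * a⁻¹)⁻¹ = a * w * a⁻¹ * zk ζ (1 : ZMod p) := by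
    rw [show a * b * a⁻¹ * (a * w * a⁻¹) * (a * b * a⁻¹)⁻¹ = a * (b * w * b⁻¹) * a⁻¹ by group,
      hx.moved, show a * (w * ζ) * a⁻¹ = a * w * a⁻¹ * (a * ζ * a⁻¹) by group, hc,
      zk_one hx.zeta_order]
  have h3 := zk_inj hx.zeta_order (mul_left_cancel (h1.symm.trans h2))
  linear_combination h3

/-- The action of the core on the coordinates. -/
noncomputable def rho (hx : d.ExtraData p w b ζ) : d.O →* SL(2, ZMod p) where
  toFun a := mk2 (hx.α (a * w * (a : G)⁻¹)) (hx.α (a * b * (a : G)⁻¹))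
    (hx.β (a * w * (a : G)⁻¹)) (hx.β (a * b * (a : G)⁻¹)) (hx.det_eq a.2)
  map_one' := by
    apply ext4 <;> simp [hx.coord_w, hx.coord_b]
  map_mul' a a' := by
    obtain ⟨h1, h2⟩ := hx.coord_conj a.2 (hx.conj_mem a'.2 hx.w_mem)
    obtain ⟨h3, h4⟩ := hx.coord_conj a.2 (hx.conj_mem a'.2 hx.b_mem)
    have e : ∀ x : G, (a * a' : d.O) * x * ((a * a' : d.O) : G)⁻¹ =
        (a : G) * ((a' : G) * x * (a' : G)⁻¹) * (a : G)⁻¹ := fun x => by
      rw [Subgroup.coe_mul]; group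
    apply ext4 <;> simp only [Matrix.SpecialLinearGroup.coe_mul, Matrix.mul_apply, Fin.sum_univ_two,
      mk2_00, mk2_01, mk2_10, mk2_11, e, h1, h2, h3, h4]

theorem rho_00 (a : d.O) : hx.rho a 0 0 = hx.α (a * w * (a : G)⁻¹) := rfl
theorem rho_01 (a : d.O) : hx.rho a 0 1 = hx.α (a * b * (a : G)⁻¹) := rfl
theorem rho_10 (a : d.O) : hx.rho a 1 0 = hx.β (a * w * (a : G)⁻¹) := rfl
theorem rho_11 (a : d.O) : hx.rho a 1 1 = hx.β (a * b * (a : G)⁻¹) := rfl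

/-- The reflections turn the second coordinate around. -/
theorem coord_u (i : ZMod d.m) {x : G} (hP : x ∈ d.P p) :
    hx.α (d.u i * x * (d.u i)⁻¹) = hx.α x ∧ hx.β (d.u i * x * (d.u i)⁻¹) = -hx.β x := by
  have hu := d.conj_mem_P (d.u_mem_H i) hP
  constructor
  · refine neg_injective (zk_inj hx.zeta_order (mul_left_cancel (a := b) ?_))
    rw [← hx.conj_b hu]
    have hb : d.u i * b⁻¹ * (d.u i)⁻¹ = b := by rw [← conj_inv, hx.b_inverted, inv_inv]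
    have h := (hx.coord_inv hx.b_mem)
    calc d.u i * x * (d.u i)⁻¹ * b * (d.u i * x * (d.u i)⁻¹)⁻¹
        = d.u i * (x * ((d.u i)⁻¹ * b * d.u i) * x⁻¹) * (d.u i)⁻¹ := by group
      _ = d.u i * (x * b⁻¹ * x⁻¹) * (d.u i)⁻¹ := by
          have := hx.b_inverted i
          rw [d.u_inv] at this ⊢
          rw [this]
      _ = d.u i * (zk ζ (-hx.α x))⁻¹ * b⁻¹ * (d.u i)⁻¹ := by
          rw [← conj_inv, hx.conj_b hP, mul_inv_rev]; group
      _ = (d.u i * zk ζ (-hx.α x) * (d.u i)⁻¹)⁻¹ * (d.u i * b⁻¹ * (d.u i)⁻¹) := by group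
      _ = zk ζ (-hx.α x) * b := by rw [hx.u_zk, neg_neg, ← zk_neg hx.zeta_order, hb]
      _ = b * zk ζ (-hx.α x) := (hx.commute_Zc hx.b_mem (hx.zk_Zc _)).symm.eq
  · refine zk_inj hx.zeta_order (mul_left_cancel (a := w) ?_)
    rw [← hx.conj_w hu]
    calc d.u i * x * (d.u i)⁻¹ * w * (d.u i * x * (d.u i)⁻¹)⁻¹
        = d.u i * (x * ((d.u i)⁻¹ * w * d.u i) * x⁻¹) * (d.u i)⁻¹ := by group
      _ = d.u i * (x * w * x⁻¹) * (d.u i)⁻¹ := by
          have := hx.u_w i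
          rw [d.u_inv] at this ⊢
          rw [this]
      _ = (d.u i * w * (d.u i)⁻¹) * (d.u i * zk ζ (hx.β x) * (d.u i)⁻¹) := by
          rw [hx.conj_w hP]; group
      _ = w * zk ζ (-hx.β x) := by rw [hx.u_w, hx.u_zk]

theorem u_conj_O (i : ZMod d.m) {a : G} (ha : a ∈ d.O) : d.u i * a * (d.u i)⁻¹ ∈ d.O :=
  (mem_normalizer_iff.1 (d.H_le_normalizer_O (d.u_mem_H i)) a).1 ha

theorem rho_u (i : ZMod d.m) (a : d.O) :
    hx.rho ⟨_, hx.u_conj_O i a.2⟩ = jc (hx.rho a) := by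
  have hw : (d.u i * a * (d.u i)⁻¹) * w * (d.u i * a * (d.u i)⁻¹)⁻¹ =
      d.u i * ((a : G) * w * (a : G)⁻¹) * (d.u i)⁻¹ := by
    have h := hx.u_w i
    calc _ = d.u i * ((a : G) * ((d.u i)⁻¹ * w * d.u i) * (a : G)⁻¹) * (d.u i)⁻¹ := by group
      _ = _ := by rw [show (d.u i)⁻¹ * w * d.u i = w by rw [d.u_inv]; rwa [d.u_inv] at h]
  have hb : (d.u i * a * (d.u i)⁻¹) * b * (d.u i * a * (d.u i)⁻¹)⁻¹ =
      (d.u i * ((a : G) * b * (a : G)⁻¹) * (d.u i)⁻¹)⁻¹ := by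
    have h := hx.b_inverted i
    calc _ = d.u i * ((a : G) * ((d.u i)⁻¹ * b * d.u i) * (a : G)⁻¹) * (d.u i)⁻¹ := by group
      _ = d.u i * ((a : G) * b⁻¹ * (a : G)⁻¹) * (d.u i)⁻¹ := by
          rw [show (d.u i)⁻¹ * b * d.u i = b⁻¹ by rw [d.u_inv]; rwa [d.u_inv] at h]
      _ = _ := by group
  obtain ⟨c1, c2⟩ := hx.coord_u i (hx.conj_mem a.2 hx.w_mem)
  obtain ⟨c3, c4⟩ := hx.coord_u i (hx.conj_mem a.2 hx.b_mem)
  obtain ⟨c5, c6⟩ := hx.coord_inv (d.conj_mem_P (d.u_mem_H i) (hx.conj_mem a.2 hx.b_mem))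
  apply ext4 <;> simp only [jc_00, jc_01, jc_10, jc_11, rho_00, rho_01, rho_10, rho_11, hw, hb,
    c1, c2, c3, c4, c5, c6, neg_neg]

end Data.ExtraData

end Cfsg.Agent.GW.Bender
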