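import Cfsg.Agent.Lib.GW.BenderCaseDefs
import Cfsg.Agent.OddLocal.Coprime
import Cfsg.Agent.Lib.CharTheory.BrauerSuzuki.Complement

/-!
# The extraspecial data of the mixed case

When no abelian subgroup of the core normal in `H` meets the fixed points of the reflections, every
centre of a core is inverted and central in `O`, exactly one core `O_p(H)` is nonabelian, and it is
`⟨w, b⟩` times its centre with `w` fixed and `b` inverted.
-/

set_option autoImplicit false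
set_option linter.style.haveILetI false
set_option linter.unusedSectionVars false

namespace Cfsg.Agent.GW.Bender

open Subgroup Cfsg.Agent.Involutions Cfsg.Agent.GW.Overgroups
open scoped commutatorElement

universe u

variable {G : Type u} [Group G] [Finite G]

/-- A solvable group lies in a normal subgroup with perfect quotient. -/
theorem le_of_le_commutator_sup {K C : Subgroup G} (hK : Group.IsSolvable K) (hC : C ≤ K)
    (hn : K ≤ normalizer (C : Set G)) (h : K ≤ ⁅K, K⁆ ⊔ C) : K ≤ C := by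
  haveI := hK
  haveI : (C.subgroupOf K).Normal := normal_subgroupOf_of_le_normalizer hn
  set π := QuotientGroup.mk' (C.subgroupOf K)
  have hperf : commutator (K ⧸ C.subgroupOf K) = ⊤ := by
    rw [eq_top_iff]
    intro y _
    obtain ⟨x, rfl⟩ := QuotientGroup.mk'_surjective _ y
    have hx : (x : G) ∈ (commutator K).map K.subtype ⊔ C := by
      rw [map_subtype_commutator]
      exact h x.2
    have hle : (commutator K).map K.subtype ⊔ C = (commutator K ⊔ C.subgroupOf K).map K.subtype := by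
      rw [Subgroup.map_sup, map_subgroupOf_eq_of_le hC]
    rw [hle] at hx
    obtain ⟨x', hx', he⟩ := hx
    obtain rfl : x' = x := Subtype.ext he
    obtain ⟨c, hc, f, hf, rfl⟩ := mem_sup_of_normal_right.1 hx'
    rw [map_mul, (QuotientGroup.eq_one_iff f).2 hf |> fun e : π f = 1 => e, mul_one,
      _root_.commutator_def, ← Subgroup.map_top_of_surjective _ (QuotientGroup.mk'_surjective _),
      ← Subgroup.map_commutator]
    exact mem_map_of_mem _ hc
  haveI : Group.IsSolvable (K ⧸ C.subgroupOf K) :=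
    Group.isSolvable_of_surjective (QuotientGroup.mk'_surjective _)
  intro x hx
  by_contra hxC
  haveI : Nontrivial (K ⧸ C.subgroupOf K) :=
    ⟨π ⟨x, hx⟩, 1, fun e => hxC ((QuotientGroup.eq_one_iff (⟨x, hx⟩ : K)).1 e)⟩
  exact (Group.IsSolvable.commutator_lt_top_of_nontrivial (K ⧸ C.subgroupOf K)).ne hperf

theorem comm_mul_left {a b g : G} (h : Commute ⁅b, g⁆ a) : ⁅a * b, g⁆ = ⁅b, g⁆ * ⁅a, g⁆ := by
  rw [show ⁅a * b, g⁆ = a * ⁅b, g⁆ * a⁻¹ * ⁅a, g⁆ by simp only [commutatorElement_def]; group,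
    ← h.eq, mul_inv_cancel_right]

theorem comm_pow_left {a g : G} (h : Commute ⁅a, g⁆ a) : ∀ n : ℕ, ⁅a ^ n, g⁆ = ⁅a, g⁆ ^ n
  | 0 => by simp
  | n + 1 => by rw [pow_succ, comm_mul_left (h.pow_right n), comm_pow_left h n, ← pow_succ']

namespace Data

variable (d : Data G)

theorem conj_u_eq (h : d.Alike) (i : ZMod d.m) {x : G} (hx : x ∈ d.O) :
    d.u i * x * (d.u i)⁻¹ = d.u 0 * x * (d.u 0)⁻¹ := h i 0 x hx

theorem fixed_iff (h : d.Alike) (i : ZMod d.m) {x : G} (hx : x ∈ d.O) :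
    x ∈ centralizer ({d.u i} : Set G) ↔ x ∈ centralizer ({d.u 0} : Set G) := by
  have e := d.conj_u_eq h i hx
  constructor <;> intro hc <;> rw [mem_centralizer_singleton_iff] at hc ⊢
  · rw [← hc, mul_inv_cancel_right] at e
    exact mul_inv_eq_iff_eq_mul.1 e.symm |>.symm
  · rw [← hc, mul_inv_cancel_right] at e
    exact mul_inv_eq_iff_eq_mul.1 e |>.symm

/-- A normal subgroup of `H` in the core inverted by the reflections is central in the core. -/
theorem central_of_inverted (hal : d.Alike) (hX : d.NoFixedLinear) {M : Subgroup G} (hM : M ≤ d.O)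
    (hn : d.H ≤ normalizer (M : Set G)) (hinv : ∀ m ∈ M, d.u 0 * m * (d.u 0)⁻¹ = m⁻¹) :
    ∀ x ∈ d.O, ∀ m ∈ M, x * m = m * x := by
  set C := d.O ⊓ centralizer (M : Set G) with hC
  have hconjM : ∀ h ∈ d.H, ∀ m ∈ M, h * m * h⁻¹ ∈ M := fun h hh m hm =>
    (mem_normalizer_iff.1 (hn hh) m).1 hm
  have hnC : d.O ≤ normalizer (C : Set G) := fun x hx => mem_normalizer_fintype fun c hc =>
    mem_inf.2 ⟨mul_mem (mul_mem hx (mem_inf.1 hc).1) (inv_mem hx), mem_centralizer_iff.2 fun m hm => by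
      have h1 := mem_centralizer_iff.1 (mem_inf.1 hc).2 _ (hconjM _ (inv_mem (d.O_le hx)) m hm)
      rw [inv_inv] at h1
      calc m * (x * c * x⁻¹) = x * ((x⁻¹ * m * x) * c) * x⁻¹ := by group
        _ = x * (c * (x⁻¹ * m * x)) * x⁻¹ := by rw [h1]
        _ = x * c * x⁻¹ * m := by group⟩
  have hu : ∀ i, ∀ x ∈ d.O, ⁅x, d.u i⁆ ∈ C := by
    intro i x hx
    have hxH := d.O_le hx
    have hxu : d.u i * x * (d.u i)⁻¹ ∈ d.O :=
      (mem_normalizer_iff.1 (d.H_le_normalizer_O (d.u_mem_H i)) x).1 hx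
    have hinvi : ∀ m ∈ M, d.u i * m * (d.u i)⁻¹ = m⁻¹ := fun m hm => by
      rw [d.conj_u_eq hal i (hM hm), hinv m hm]
    refine mem_inf.2 ⟨?_, mem_centralizer_iff.2 fun m hm => ?_⟩
    · rw [show ⁅x, d.u i⁆ = x * (d.u i * x⁻¹ * (d.u i)⁻¹) by rw [commutatorElement_def]; group]
      exact mul_mem hx ((mem_normalizer_iff.1 (d.H_le_normalizer_O (d.u_mem_H i)) _).1 (inv_mem hx))
    · have heq : ∀ m' ∈ M, d.u i * x * (d.u i)⁻¹ * m' * (d.u i * x * (d.u i)⁻¹)⁻¹ = x * m' * x⁻¹ := by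
        intro m' hm'
        have e : (d.u i)⁻¹ * m' * d.u i = m'⁻¹ := by
          have := hinvi m' hm'
          rw [d.u_inv] at this ⊢
          exact this
        calc d.u i * x * (d.u i)⁻¹ * m' * (d.u i * x * (d.u i)⁻¹)⁻¹
            = d.u i * (x * ((d.u i)⁻¹ * m' * d.u i) * x⁻¹) * (d.u i)⁻¹ := by group
          _ = (x * m'⁻¹ * x⁻¹)⁻¹ := by rw [e, hinvi _ (hconjM x hxH _ (inv_mem hm'))]
          _ = x * m' * x⁻¹ := by group
      have hm' : x⁻¹ * m * x ∈ M := by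
        have := hconjM _ (inv_mem hxH) m hm
        rwa [inv_inv] at this
      have h1 := heq _ hm'
      rw [show x * (x⁻¹ * m * x) * x⁻¹ = m by group] at h1
      rw [commutatorElement_def]
      have h2 : x * d.u i * x⁻¹ * (d.u i)⁻¹ * m * (x * d.u i * x⁻¹ * (d.u i)⁻¹)⁻¹ = m := by
        calc x * d.u i * x⁻¹ * (d.u i)⁻¹ * m * (x * d.u i * x⁻¹ * (d.u i)⁻¹)⁻¹
            = x * ((d.u i * x * (d.u i)⁻¹)⁻¹ * m * (d.u i * x * (d.u i)⁻¹)) * x⁻¹ := by group
          _ = x * (x⁻¹ * m * x) * x⁻¹ := by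
              conv_lhs => rw [← h1]
              group
          _ = m := by group
      exact (mul_inv_eq_iff_eq_mul.1 h2).symm
  have hS : ⁅d.O, (d.S : Subgroup G)⁆ ≤ C := by
    rw [commutator_le]
    intro x hx s hs
    rcases d.exists_refl hs with ⟨i, rfl⟩ | ⟨i, j, rfl⟩
    · exact hu i x hx
    · rw [show ⁅x, d.u i * d.u j⁆ = ⁅x, d.u i⁆ * (d.u i * ⁅x, d.u j⁆ * (d.u i)⁻¹) by
        simp only [commutatorElement_def]; group]
      refine mul_mem (hu i x hx) ?_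
      obtain ⟨h1, h2⟩ := mem_inf.1 (hu j x hx)
      refine mem_inf.2 ⟨(mem_normalizer_iff.1 (d.H_le_normalizer_O (d.u_mem_H i)) _).1 h1,
        mem_centralizer_iff.2 fun m hm => ?_⟩
      have h3 := (Commute.conj_iff (d.u i)).2 (show Commute ⁅x, d.u j⁆ _ from
        (mem_centralizer_iff.1 h2 _ (hconjM _ (inv_mem (d.u_mem_H i)) m hm)).symm)
      rw [show d.u i * ((d.u i)⁻¹ * m * (d.u i)⁻¹⁻¹) * (d.u i)⁻¹ = m by group] at h3
      exact h3.eq.symm
  have hsol : Group.IsSolvable d.O :=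
    Coprime.isSolvable_of_le (le_refl _) (Cfsg.Agent.S0205.result d.O_odd)
  have := le_of_le_commutator_sup hsol inf_le_left hnC (hX.trans (sup_le_sup_left hS _))
  exact fun x hx m hm => (mem_centralizer_iff.1 (mem_inf.1 (this hx)).2 m hm).symm

end Data

namespace Setting

variable (d : Setting G) [IsSimpleGroup G]

/-- An abelian normal subgroup of `H` in the core is inverted and central in the core. -/
theorem inverted_of_abelian (hM : d.Mixed) (hN : d.NoAbelianFixed) {X : Subgroup G} (hX : X ≤ d.O)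
    (hab : IsMulCommutative X) (hn : d.H ≤ normalizer (X : Set G)) :
    (∀ x ∈ X, ∀ i, d.u i * x * (d.u i)⁻¹ = x⁻¹) ∧ ∀ x ∈ d.O, ∀ m ∈ X, x * m = m * x := by
  have h0 := inverts_of_inf_eq_bot (d.u_sq 0) (hn (d.u_mem_H 0)) (hN X hX hab hn)
  exact ⟨fun x hx i => by rw [d.conj_u_eq hM.alike i (hX hx)]; exact h0 x hx,
    d.central_of_inverted hM.alike hM.noFixedLinear hX hn h0⟩

theorem Zc_commutative (p : ℕ) : IsMulCommutative (d.Zc p) :=
  ⟨⟨fun a b => Subtype.ext (mem_centralizer_iff.1 (mem_inf.1 b.2).2 a (mem_inf.1 a.2).1)⟩⟩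

/-- The centres of the cores are inverted and central in the core. -/
theorem centre_inverted (hM : d.Mixed) (hN : d.NoAbelianFixed) {r : ℕ} (hr : r.Prime) (hr2 : r ≠ 2)
    {z : G} (hz : z ∈ d.Zc r) :
    (∀ i, d.u i * z * (d.u i)⁻¹ = z⁻¹) ∧ ∀ x ∈ d.O, x * z = z * x := by
  haveI : Fact r.Prime := ⟨hr⟩
  obtain ⟨h1, h2⟩ := d.inverted_of_abelian hM hN ((d.Zc_le r).trans (d.P_le_O hr2))
    (d.Zc_commutative r) (d.H_le_normalizer_Zc r)
  exact ⟨h1 z hz, fun x hx => h2 x hx z hz⟩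

variable {d} {i : ZMod d.m} {p : ℕ} {Y : Subgroup G} (f : d.Frame i p Y)

include f in
/-- Odd elements of the centralizer of `t` in the component commute. -/
theorem frame_commute {r : ℕ} (hr : r.Prime) (hr2 : r ≠ 2) (hne : d.P r ≠ ⊥) {e e' : G}
    (he : e ∈ maxPerfect (normalizer (Y : Set G))) (heo : Odd (orderOf e)) (hte : d.t * e = e * d.t)
    (he' : e' ∈ maxPerfect (normalizer (Y : Set G))) (heo' : Odd (orderOf e'))
    (hte' : d.t * e' = e' * d.t) : e * e' = e' * e := by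
  have h1 := (f.facts.torus (frame_isPSL f) d.t f.t_mem d.t_order e (mem_sup_left he) heo hte).1
    e' (mem_sup_left he') heo' hte'
  have h2 : e * e' * e⁻¹ * e'⁻¹ ∈ (⊥ : Subgroup G) := (frame_dvd f hr hr2 hne).2 ▸
    mem_inf.2 ⟨mul_mem (mul_mem (mul_mem he he') (inv_mem he)) (inv_mem he'), h1⟩
  rw [mem_bot, mul_inv_eq_one, mul_inv_eq_iff_eq_mul] at h2
  exact h2

include f in
/-- The cores at the other primes are abelian. -/
theorem frame_abelian {r : ℕ} (hr : r.Prime) (hr2 : r ≠ 2) (hrp : r ≠ p) :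
    ∀ x ∈ d.P r, ∀ y ∈ d.P r, x * y = y * x := by
  haveI : Fact r.Prime := ⟨hr⟩
  by_cases hne : d.P r = ⊥
  · intro x hx y hy
    rw [hne, mem_bot] at hx hy
    rw [hx, hy]
  set W := ⁅d.P r, d.P r⁆ with hW
  have hWP : W ≤ d.P r := commutator_le.2 fun x hx y hy =>
    mul_mem (mul_mem (mul_mem hx hy) (inv_mem hx)) (inv_mem hy)
  have hbot : W = ⊥ := by
    refine eq_bot_of_fixed f (hWP.trans (d.P_le r)) ?_ (commutator_le.2 fun x hx y hy => ?_)
    · intro h hh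
      refine mem_normalizer_fintype fun w hw => ?_
      have hle : W ≤ W.comap (MulAut.conj h).toMonoidHom := commutator_le.2 fun a ha b hb => by
        rw [mem_comap, map_commutatorElement]
        exact commutator_mem_commutator (d.conj_mem_P hh ha) (d.conj_mem_P hh hb)
      exact hle hw
    · obtain ⟨e, he, o, ho, rfl, heP, hoP, -⟩ := frame_split f hr hr2 hx (f.P_le hr hrp hx)
      obtain ⟨e', he', o', ho', rfl, heP', hoP', -⟩ := frame_split f hr hr2 hy (f.P_le hr hrp hy)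
      have c0 : Commute e e' := frame_commute f hr hr2 hne he (d.odd_of_mem_P hr2 heP)
        (d.commute_t_O (d.P_le_O hr2 heP)) he' (d.odd_of_mem_P hr2 heP')
        (d.commute_t_O (d.P_le_O hr2 heP'))
      have c1 : Commute e o' := f.facts.commute he ho'
      have c2 : Commute o e' := (f.facts.commute he' ho : Commute e' o).symm
      have c3 : Commute e o := f.facts.commute he ho
      have c4 : Commute e' o' := f.facts.commute he' ho'
      have heq : ⁅e * o, e' * o'⁆ = ⁅o, o'⁆ := by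
        rw [comm_mul_left]
        · have k1 : ⁅e, e' * o'⁆ = 1 := (c0.mul_right c1).commutator_eq
          have k2 : ⁅o, e' * o'⁆ = e' * ⁅o, o'⁆ * e'⁻¹ := by
            rw [show ⁅o, e' * o'⁆ = ⁅o, e'⁆ * (e' * ⁅o, o'⁆ * e'⁻¹) by
              simp only [commutatorElement_def]; group, c2.commutator_eq, one_mul]
          rw [k1, mul_one, k2, mul_inv_eq_iff_eq_mul]
          exact f.facts.commute he' (mul_mem (mul_mem (mul_mem ho ho') (inv_mem ho)) (inv_mem ho'))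
        · exact ((((c3.mul_right (c0.mul_right c1)).mul_right c3.inv_right).mul_right
            (c0.mul_right c1).inv_right) : Commute e (o * (e' * o') * o⁻¹ * (e' * o')⁻¹)).symm
      rw [heq]
      exact mul_mem (mul_mem (mul_mem ho ho') (inv_mem ho)) (inv_mem ho')
  intro x hx y hy
  have h1 : ⁅x, y⁆ ∈ W := commutator_mem_commutator hx hy
  rw [hbot, mem_bot] at h1
  exact commutatorElement_eq_one_iff_mul_comm.1 h1

variable (d)

/-- The second centre of `O_p(H)`. -/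
def Z2 (p : ℕ) : Subgroup G where
  carrier := {x | x ∈ d.P p ∧ ∀ y ∈ d.P p, ⁅x, y⁆ ∈ d.Zc p}
  one_mem' := ⟨one_mem _, fun y _ => by rw [commutatorElement_one_left]; exact one_mem _⟩
  mul_mem' := fun {a b} ha hb => ⟨mul_mem ha.1 hb.1, fun y hy => by
    rw [comm_mul_left (mem_centralizer_iff.1 (mem_inf.1 (hb.2 y hy)).2 a ha.1).symm]
    exact mul_mem (hb.2 y hy) (ha.2 y hy)⟩
  inv_mem' := fun {a} ha => ⟨inv_mem ha.1, fun y hy => by
    rw [show ⁅a⁻¹, y⁆ = a⁻¹ * ⁅a, y⁆⁻¹ * a by simp only [commutatorElement_def]; group,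
      mul_assoc, ← (show Commute a ⁅a, y⁆⁻¹ from
        mem_centralizer_iff.1 (inv_mem (mem_inf.1 (ha.2 y hy)).2) a ha.1).eq, inv_mul_cancel_left]
    exact inv_mem (ha.2 y hy)⟩

theorem Z2_le (p : ℕ) : d.Z2 p ≤ d.P p := fun _ h => h.1

theorem H_le_normalizer_Z2 (p : ℕ) : d.H ≤ normalizer (d.Z2 p : Set G) := by
  refine fun h hh => mem_normalizer_fintype fun x hx => ⟨d.conj_mem_P hh hx.1, fun y hy => ?_⟩
  have hy' : h⁻¹ * y * h ∈ d.P p := by
    have := d.conj_mem_P (inv_mem hh) hy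
    rwa [inv_inv] at this
  have h1 := (mem_normalizer_iff.1 (d.H_le_normalizer_Zc p hh) _).1 (hx.2 _ hy')
  rwa [show h * ⁅x, h⁻¹ * y * h⁆ * h⁻¹ = ⁅h * x * h⁻¹, y⁆ by
    simp only [commutatorElement_def]; group] at h1

theorem exists_Z2_not_Zc {p : ℕ} [Fact p.Prime]
    (hnab : ¬ ∀ x ∈ d.P p, ∀ y ∈ d.P p, x * y = y * x) : ∃ x ∈ d.Z2 p, x ∉ d.Zc p := by
  haveI := (d.P_isPGroup p).isNilpotent
  set Z := center (d.P p)
  have hne : center (d.P p) ≠ ⊤ := fun h => hnab fun x hx y hy =>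
    (congrArg Subtype.val (mem_center_iff.1 (h ▸ mem_top (⟨x, hx⟩ : d.P p)) ⟨y, hy⟩)).symm
  haveI : Nontrivial (d.P p ⧸ Z) := QuotientGroup.nontrivial_iff.2 hne
  haveI := ((d.P_isPGroup p).to_quotient Z).center_nontrivial
  obtain ⟨⟨v, hv⟩, hv1⟩ := exists_ne (1 : center (d.P p ⧸ Z))
  obtain ⟨x, rfl⟩ := QuotientGroup.mk'_surjective Z v
  refine ⟨x, ⟨x.2, fun y hy => ?_⟩, fun hxZ => hv1 (Subtype.ext ((QuotientGroup.eq_one_iff x).2 ?_))⟩
  · have h1 := mem_center_iff.1 hv (QuotientGroup.mk' Z ⟨y, hy⟩)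
    have h2 : QuotientGroup.mk' Z ⁅x, ⟨y, hy⟩⁆ = 1 := by
      rw [map_commutatorElement]; exact commutatorElement_eq_one_iff_mul_comm.2 h1.symm
    have h3 := (QuotientGroup.eq_one_iff _).1 h2
    exact mem_inf.2 ⟨mul_mem (mul_mem (mul_mem x.2 hy) (inv_mem x.2)) (inv_mem hy), mem_centralizer_iff.2
      fun g hg => congrArg Subtype.val (mem_center_iff.1 h3 ⟨g, hg⟩)⟩
  · exact mem_center_iff.2 fun g => Subtype.ext (mem_centralizer_iff.1 (mem_inf.1 hxZ).2 g g.2)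

/-- The data of the extraspecial case. -/
theorem exists_extraData (hf : d.HasCompFacts) (hM : d.Mixed) (hN : d.NoAbelianFixed) :
    ∃ (p : ℕ) (w b ζ : G), d.ExtraData p w b ζ := by
  have hcen := fun {r : ℕ} (hr : r.Prime) (hr2 : r ≠ 2) {z : G} (hz : z ∈ d.Zc r) =>
    d.centre_inverted hM hN hr hr2 hz
  -- the prime
  obtain ⟨i₀, p, hp, hp2, -, hAne⟩ : ∃ i p, p.Prime ∧ p ≠ 2 ∧
      ¬ d.P p ≤ centralizer ({d.u i} : Set G) ∧ d.P p ⊓ centralizer ({d.u i} : Set G) ≠ ⊥ := by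
    simpa [Data.Pure, not_or] using hM.not_pure
  haveI : Fact p.Prime := ⟨hp⟩
  have hPO : d.P p ≤ d.O := d.P_le_O hp2
  have hA0 : d.P p ⊓ centralizer ({d.u 0} : Set G) ≠ ⊥ := by
    intro h
    refine hAne (le_bot_iff.1 fun x hx => h ▸ mem_inf.2 ⟨(mem_inf.1 hx).1, ?_⟩)
    exact (d.fixed_iff hM.alike i₀ (hPO (mem_inf.1 hx).1)).1 (mem_inf.1 hx).2
  have hnab : ¬ ∀ x ∈ d.P p, ∀ y ∈ d.P p, x * y = y * x := fun h =>
    hA0 (hN _ hPO ⟨⟨fun a b => Subtype.ext (h _ a.2 _ b.2)⟩⟩ (d.H_le_normalizer_P p))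
  have hPne : d.P p ≠ ⊥ := fun h => hA0 (by rw [h, bot_inf_eq])
  -- central values
  have hZ : ∀ {z : G}, z ∈ d.Zc p → ∀ {g : G}, g ∈ d.P p → Commute g z := fun {z} hz {g} hg =>
    mem_centralizer_iff.1 (mem_inf.1 hz).2 g hg
  have hsymm : ∀ {x y : G}, ⁅x, y⁆ ∈ d.Zc p → ⁅y, x⁆ ∈ d.Zc p := fun {x y} h => by
    rw [← commutatorElement_inv]; exact inv_mem h
  -- a fixed element of the second centre of order `p`
  have hZ2A : d.Z2 p ⊓ centralizer ({d.u 0} : Set G) ≠ ⊥ := by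
    intro h
    have hinv := inverts_of_inf_eq_bot (d.u_sq 0) (d.H_le_normalizer_Z2 p (d.u_mem_H 0)) h
    have hc := d.central_of_inverted hM.alike hM.noFixedLinear ((d.Z2_le p).trans hPO)
      (d.H_le_normalizer_Z2 p) hinv
    obtain ⟨x, hx, hxZ⟩ := d.exists_Z2_not_Zc hnab
    exact hxZ (mem_inf.2 ⟨hx.1, mem_centralizer_iff.2 fun g hg => hc g (hPO hg) x hx⟩)
  obtain ⟨w, hw, hwo⟩ : ∃ w ∈ d.Z2 p ⊓ centralizer ({d.u 0} : Set G), orderOf w = p := by
    obtain ⟨x, hx, hx1⟩ := (Subgroup.bot_or_exists_ne_one _).resolve_left hZ2A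
    obtain ⟨k, hk⟩ := d.isPow_of_mem_P ((d.Z2_le p) (mem_inf.1 hx).1)
    obtain ⟨k, rfl⟩ : ∃ j, k = j + 1 := Nat.exists_eq_succ_of_ne_zero
      (by rintro rfl; exact hx1 (orderOf_eq_one_iff.1 hk))
    refine ⟨x ^ p ^ k, pow_mem hx _, ?_⟩
    rw [orderOf_pow' _ (pow_ne_zero _ hp.ne_zero), hk, pow_succ,
      Nat.gcd_eq_right (dvd_mul_right _ _), Nat.mul_div_cancel_left _ (pow_pos hp.pos _)]
  obtain ⟨hwZ2, hwu⟩ := mem_inf.1 hw
  have hwP : w ∈ d.P p := hwZ2.1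
  have hw1 : w ≠ 1 := fun h => hp.ne_one (by rw [← hwo, h, orderOf_one])
  have hwfix : ∀ i, zpowers w ≤ centralizer ({d.u i} : Set G) := fun i =>
    zpowers_le.2 ((d.fixed_iff hM.alike i (hPO hwP)).2 hwu)
  have frame : ∀ i, d.Frame i p (zpowers w) := fun i => d.frame_of_central hf (hM.central i) hp hp2
    (zpowers_le.2 hwP) (hwfix i) (fun h => hw1 (zpowers_eq_bot.1 h))
  have hpow : ∀ {z : G}, z ^ p = 1 → z ∈ d.Zc p → orderOf z = 1 ∨ orderOf z = p := fun h _ =>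
    (Nat.dvd_prime hp).1 (orderOf_dvd_of_pow_eq_one h)
  -- an element of order dividing `p` of the second centre moving `w`
  set T : Set G := {x | x ∈ d.Z2 p ∧ x ^ p = 1}
  set E2 : Subgroup G := closure T
  have hE2 : E2 ≤ d.Z2 p := (closure_le _).2 fun x hx => hx.1
  obtain ⟨x, ⟨hxZ2, hxp⟩, hxw⟩ : ∃ x ∈ T, ⁅x, w⁆ ≠ 1 := by
    by_contra hcon
    push Not at hcon
    have hwT : w ∈ T := ⟨hwZ2, by rw [← hwo, pow_orderOf_eq_one]⟩
    set X := E2 ⊓ centralizer (E2 : Set G) with hXdef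
    have hwX : w ∈ X := mem_inf.2 ⟨subset_closure hwT, mem_centralizer_iff.2 fun g hg => by
      have : E2 ≤ centralizer ({w} : Set G) := (closure_le _).2 fun y hy =>
        mem_centralizer_singleton_iff.2 (commutatorElement_eq_one_iff_mul_comm.1 (hcon y hy))
      exact mem_centralizer_singleton_iff.1 (this hg)⟩
    have hnX : d.H ≤ normalizer (X : Set G) := by
      intro h hh
      have hE : ∀ {g : G}, g ∈ d.H → ∀ y ∈ E2, g * y * g⁻¹ ∈ E2 := by
        intro g hg y hy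
        have hle : E2 ≤ E2.comap (MulAut.conj g).toMonoidHom := (closure_le _).2 fun z hz =>
          subset_closure ⟨(mem_normalizer_iff.1 (d.H_le_normalizer_Z2 p hg) z).1 hz.1, by
            show (g * z * g⁻¹) ^ p = 1
            rw [conj_pow, hz.2, mul_one, mul_inv_cancel]⟩
        exact hle hy
      refine mem_normalizer_fintype fun v hv => mem_inf.2 ⟨hE hh v (mem_inf.1 hv).1,
        mem_centralizer_iff.2 fun y hy => ?_⟩
      have h1 := mem_centralizer_iff.1 (mem_inf.1 hv).2 _ (hE (inv_mem hh) y hy)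
      rw [inv_inv] at h1
      calc y * (h * v * h⁻¹) = h * ((h⁻¹ * y * h) * v) * h⁻¹ := by group
        _ = h * (v * (h⁻¹ * y * h)) * h⁻¹ := by rw [h1]
        _ = h * v * h⁻¹ * y := by group
    have h1 := hN X ((inf_le_left.trans hE2).trans ((d.Z2_le p).trans hPO))
      ⟨⟨fun a b => Subtype.ext (mem_centralizer_iff.1 (mem_inf.1 b.2).2 a (mem_inf.1 a.2).1)⟩⟩ hnX
    have : w ∈ (⊥ : Subgroup G) := h1 ▸ mem_inf.2 ⟨hwX, hwu⟩
    exact hw1 (mem_bot.1 this)
  -- the inverted element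
  set ζ₀ := ⁅x, w⁆ with hζ₀
  have hζ₀Z : ζ₀ ∈ d.Zc p := hxZ2.2 w hwP
  set x' := d.u 0 * x⁻¹ * (d.u 0)⁻¹ with hx'
  have hx'Z2 : x' ∈ d.Z2 p :=
    (mem_normalizer_iff.1 (d.H_le_normalizer_Z2 p (d.u_mem_H 0)) _).1 (inv_mem hxZ2)
  set b := x * x' with hb
  have hbZ2 : b ∈ d.Z2 p := mul_mem hxZ2 hx'Z2
  have hbinv : ∀ i, d.u i * b * (d.u i)⁻¹ = b⁻¹ := by
    intro i
    rw [d.conj_u_eq hM.alike i (hPO hbZ2.1), hb, hx']
    calc d.u 0 * (x * (d.u 0 * x⁻¹ * (d.u 0)⁻¹)) * (d.u 0)⁻¹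
        = d.u 0 * x * (d.u 0 * x⁻¹ * ((d.u 0)⁻¹ * (d.u 0)⁻¹)) := by group
      _ = d.u 0 * x * (d.u 0)⁻¹ * x⁻¹ := by
          rw [d.u_inv, d.u_sq, mul_one, mul_assoc (d.u 0 * x)]
      _ = _ := by group
  have hbw : ⁅b, w⁆ = ζ₀ ^ 2 := by
    rw [hb, comm_mul_left (hZ (hx'Z2.2 w hwP) hxZ2.1).symm, sq]
    congr 1
    have h1 : ⁅x', w⁆ = d.u 0 * ⁅x⁻¹, w⁆ * (d.u 0)⁻¹ := by
      have hwc : d.u 0 * w * (d.u 0)⁻¹ = w :=
        mul_inv_eq_iff_eq_mul.2 (mem_centralizer_singleton_iff.1 hwu).symm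
      conv_lhs => rw [← hwc]
      rw [hx']; simp only [commutatorElement_def]; group
    have h2 : ⁅x⁻¹, w⁆ = ζ₀⁻¹ := by
      rw [show ⁅x⁻¹, w⁆ = x⁻¹ * ζ₀⁻¹ * x by rw [hζ₀]; simp only [commutatorElement_def]; group,
        mul_assoc, ← (hZ (inv_mem hζ₀Z) hxZ2.1).eq, inv_mul_cancel_left]
    rw [h1, h2, (hcen hp hp2 (inv_mem hζ₀Z)).1 0, inv_inv]
  have hζ₀p : ζ₀ ^ p = 1 := by
    rw [hζ₀, ← comm_pow_left (hZ hζ₀Z hxZ2.1).symm, hxp, commutatorElement_one_left]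
  have hζ₀o : orderOf ζ₀ = p := (hpow hζ₀p hζ₀Z).resolve_left fun h => hxw (orderOf_eq_one_iff.1 h)
  set ζ := ζ₀ ^ 2 with hζ
  have hζZ : ζ ∈ d.Zc p := pow_mem hζ₀Z 2
  have hζo : orderOf ζ = p := by
    rw [hζ, Nat.Coprime.orderOf_pow (by rw [hζ₀o]; exact (Nat.coprime_primes hp Nat.prime_two).2 hp2),
      hζ₀o]
  have hbw1 : ⁅b, w⁆ ≠ 1 := by
    rw [hbw]; intro h; rw [h, orderOf_one] at hζo; exact hp.ne_one hζo.symm
  have hbp : b ^ p = 1 := by
    have hc : ⁅x', x⁆ ∈ d.Zc p := hx'Z2.2 x hxZ2.1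
    have hcp : ⁅x', x⁆ ^ p = 1 := by
      rw [← comm_pow_left (hZ hc hx'Z2.1).symm, hx', conj_pow, inv_pow, hxp, inv_one, mul_one,
        mul_inv_cancel, commutatorElement_one_left]
    have h := OddLocal.Coprime.mul_pow_of_central_commutator (u := x) (v := x') (c := ⁅x', x⁆)
      (by simp only [commutatorElement_def]; group) (hZ hc hxZ2.1).symm (hZ hc hx'Z2.1).symm p
    rw [hb, h, hxp, one_mul, hx', conj_pow, inv_pow, hxp, inv_one, mul_one, mul_inv_cancel, mul_one]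
    obtain ⟨q, hq⟩ : p ∣ p.choose 2 := hp.dvd_choose_self two_ne_zero (by
      have := hp.two_le; omega)
    rw [hq, pow_mul, ← hx', hcp, one_pow]
  have hbo : orderOf b = p :=
    ((Nat.dvd_prime hp).1 (orderOf_dvd_of_pow_eq_one hbp)).resolve_left fun h => hbw1 (by
      rw [orderOf_eq_one_iff.1 h, commutatorElement_one_left])
  -- the centre is cyclic
  have hZcE : d.Zc p ≤ maxPerfect (normalizer (zpowers w : Set G)) ⊓
      centralizer ({d.t} : Set G) := fun z hz => by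
    refine mem_inf.2 ⟨frame_inverted (frame 0) hp hp2 (mem_inf.1 hz).1 ((frame 0).center_le hp hz)
      ((hcen hp hp2 hz).1 0), d.P_le p (mem_inf.1 hz).1⟩
  have hcyc : IsCyclic (d.Zc p) := by
    refine (frame 0).facts.torus_cyclic (frame_isPSL (frame 0)) d.t (frame 0).t_mem d.t_order _ hZcE
      (d.O_odd.of_dvd_nat (Subgroup.card_dvd_of_le ((d.Zc_le p).trans hPO))) (le_bot_iff.1 ?_)
    exact (le_inf (inf_le_left.trans (hZcE.trans inf_le_left)) inf_le_right).trans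
      (frame_dvd (frame 0) hp hp2 hPne).2.le
  have hline : ∀ {z : G}, z ∈ d.Zc p → z ^ p = 1 → z ∈ zpowers ζ := by
    intro z hz hzp
    have hle : zpowers ζ ≤ d.Zc p := zpowers_le.2 hζZ
    rcases hpow hzp hz with h | h
    · rw [orderOf_eq_one_iff.1 h]; exact one_mem _
    · haveI := hcyc
      have := CharTheory.BrauerSuzuki.subgroup_eq_of_card ((zpowers z).subgroupOf (d.Zc p))
        ((zpowers ζ).subgroupOf (d.Zc p)) (by
          rw [Nat.card_congr (subgroupOfEquivOfLe (zpowers_le.2 hz)).toEquiv,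
            Nat.card_congr (subgroupOfEquivOfLe hle).toEquiv, Nat.card_zpowers, Nat.card_zpowers,
            h, hζo])
      have h1 : (⟨z, hz⟩ : d.Zc p) ∈ (zpowers z).subgroupOf (d.Zc p) := mem_zpowers z
      rw [this] at h1
      exact h1
  have hexp : ∀ {a g : G}, a ∈ d.Z2 p → a ^ p = 1 → g ∈ d.P p → ⁅g, a⁆ ∈ zpowers ζ := by
    intro a g ha hap hg
    refine hline (hsymm (ha.2 g hg)) ?_
    rw [← commutatorElement_inv, inv_pow, ← comm_pow_left (hZ (ha.2 g hg) ha.1).symm, hap,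
      commutatorElement_one_left, inv_one]
  have hζmul : ∀ {g : G}, g ∈ d.P p → ∀ {a : G}, a ∈ d.Z2 p → ⁅g, a⁆ ∈ zpowers ζ → ∀ {c : G},
      c ∈ d.P p → ⁅c, a⁆ = ζ → ∃ k : ℕ, ⁅g * c ^ k, a⁆ = 1 := by
    intro g hg a ha hga c hc hca
    obtain ⟨k, hk⟩ := (mem_powers_iff_mem_zpowers).2 (inv_mem hga)
    refine ⟨k, ?_⟩
    rw [comm_mul_left (hZ (hsymm (ha.2 _ (pow_mem hc k))) hg).symm,
      comm_pow_left (hZ (hca ▸ hζZ) hc).symm, hca]
    show (fun n => ζ ^ n) k * _ = 1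
    rw [hk, inv_mul_cancel]
  -- the fixed points
  set Φ := d.P p ⊓ centralizer ({d.u 0} : Set G) with hΦ
  have hker : ∀ a ∈ Φ, ⁅a, b⁆ = 1 → a = 1 := by
    set K : Subgroup G := Φ ⊓ centralizer ({b} : Set G) with hK
    suffices hK1 : K = ⊥ by
      intro a ha hab
      have h1 : a ∈ K := mem_inf.2 ⟨ha, mem_centralizer_singleton_iff.2
        (commutatorElement_eq_one_iff_mul_comm.1 hab)⟩
      rwa [hK1, mem_bot] at h1
    by_contra hne
    haveI : (K.subgroupOf Φ).Normal := ⟨fun k hk g => by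
      rw [mem_subgroupOf] at hk ⊢
      refine mem_inf.2 ⟨SetLike.coe_mem _, ?_⟩
      obtain ⟨hkΦ, hkb⟩ := mem_inf.1 hk
      have hgP : (g : G) ∈ d.P p := (mem_inf.1 g.2).1
      have hkP : (k : G) ∈ d.P p := (mem_inf.1 hkΦ).1
      rw [mem_centralizer_singleton_iff] at hkb ⊢
      have hgb : ⁅b, (g : G)⁻¹⁆ ∈ d.Zc p := hbZ2.2 _ (inv_mem hgP)
      have hgb' : (g : G)⁻¹ * b * g = ⁅(g : G)⁻¹, b⁆ * b := by
        simp only [commutatorElement_def]; group
      have hc : Commute (k : G) ((g : G)⁻¹ * b * g) := by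
        rw [hgb']; exact (hZ (hsymm hgb) hkP).mul_right hkb
      have h1 := (Commute.conj_iff (g : G)).2 hc
      rw [show (g : G) * ((g : G)⁻¹ * b * g) * (g : G)⁻¹ = b by group] at h1
      push_cast
      exact h1.eq⟩
    haveI : Nontrivial Φ := (Subgroup.nontrivial_iff_ne_bot _).2 hA0
    have hΦp : IsPGroup p Φ := (d.P_isPGroup p).to_le inf_le_left
    haveI := hΦp.isNilpotent
    obtain ⟨⟨a, haΦ⟩, haK, ha1⟩ := (Subgroup.bot_or_exists_ne_one _).resolve_left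
      (Cores.inf_center_ne_bot (N := K.subgroupOf Φ) fun h => hne (by
        rwa [subgroupOf_eq_bot, disjoint_iff, inf_eq_left.2 inf_le_left] at h))
    obtain ⟨haK', haC⟩ := mem_inf.1 haK
    rw [mem_subgroupOf] at haK'
    have haP : a ∈ d.P p := (mem_inf.1 haΦ).1
    have hab : a * b = b * a := mem_centralizer_singleton_iff.1 (mem_inf.1 haK').2
    have fa := d.frame_of_central hf (hM.central 0) hp hp2 (zpowers_le.2 haP)
      (zpowers_le.2 (mem_inf.1 haΦ).2) (fun h => ha1 (Subtype.ext (zpowers_eq_bot.1 h)))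
    have hn : ∀ {g : G}, a * g = g * a → g ∈ normalizer (zpowers a : Set G) := fun h =>
      centralizer_le_normalizer _ (mem_centralizer_iff.2 fun y hy => by
        obtain ⟨k, rfl⟩ := mem_zpowers_iff.1 hy
        exact ((show Commute a _ from h).zpow_left k).eq)
    have hbE := frame_inverted fa hp hp2 hbZ2.1 (hn hab) (hbinv 0)
    have hwa : a * w = w * a :=
      (congrArg Subtype.val (mem_center_iff.1 haC ⟨w, mem_inf.2 ⟨hwP, hwu⟩⟩)).symm
    have hwD := frame_fixed fa hp hp2 hwP (hn hwa) fa.u_mem_B (d.u_order 0) (d.u_ne_t 0)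
      (d.commute_tu 0) (mem_centralizer_singleton_iff.1 hwu).symm
    exact hbw1 (commutatorElement_eq_one_iff_mul_comm.2 (fa.facts.commute hbE hwD))
  have hΦw : Φ ≤ zpowers w := by
    intro a ha
    have haP : a ∈ d.P p := (mem_inf.1 ha).1
    have hwb : ⁅w⁻¹, b⁆ = ζ := by
      rw [← hbw, show ⁅w⁻¹, b⁆ = w⁻¹ * ⁅b, w⁆ * w by simp only [commutatorElement_def]; group, hbw,
        mul_assoc, ← (hZ hζZ hwP).eq, inv_mul_cancel_left]
    obtain ⟨k, hk⟩ := hζmul haP hbZ2 (hexp hbZ2 hbp haP) (inv_mem hwP) hwb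
    have h1 := hker _ (mul_mem ha (pow_mem (inv_mem (mem_inf.2 ⟨hwP, hwu⟩)) k)) hk
    rw [mul_eq_one_iff_eq_inv] at h1
    rw [h1]
    exact inv_mem (pow_mem (inv_mem (mem_zpowers w)) k)
  refine ⟨p, w, b, ζ, hp, hp2, hwo, fun i => le_antisymm (fun a ha => hΦw ?_)
    (le_inf (zpowers_le.2 hwP) (hwfix i)), frame, hbZ2.1, hbo, hbinv, hζZ, hζo, ?_, ?_,
    fun r hr hr2 z hz => hcen hr hr2 hz, fun r hr hr2 hrp x hx => mem_inf.2 ⟨hx,
      mem_centralizer_iff.2 fun y hy => (frame_abelian (frame 0) hr hr2 hrp x hx y hy).symm⟩⟩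
  · exact mem_inf.2 ⟨(mem_inf.1 ha).1, (d.fixed_iff hM.alike i (hPO (mem_inf.1 ha).1)).1
      (mem_inf.1 ha).2⟩
  · rw [(hZ hζZ hwP).eq, ← hbw, commutatorElement_def]; group
  -- generation
  intro y hy
  obtain ⟨k, hk⟩ := hζmul hy hwZ2 (hexp hwZ2 (by rw [← hwo, pow_orderOf_eq_one]) hy) hbZ2.1 hbw
  set v := y * b ^ k with hv
  have hvP : v ∈ d.P p := mul_mem hy (pow_mem hbZ2.1 k)
  have hvw : v * w = w * v := commutatorElement_eq_one_iff_mul_comm.1 hk
  have hnw : ∀ {g : G}, g * w = w * g → g ∈ normalizer (zpowers w : Set G) := fun h =>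
    centralizer_le_normalizer _ (mem_centralizer_iff.2 fun y' hy' => by
      obtain ⟨n, rfl⟩ := mem_zpowers_iff.1 hy'
      exact ((show Commute _ w from h).zpow_right n).eq.symm)
  have split : ∀ g ∈ d.P p, g * w = w * g → ∃ e ∈ maxPerfect (normalizer (zpowers w : Set G)),
      ∃ o ∈ zpowers w, g = e * o ∧ e ∈ d.P p ∧ d.u 0 * e * (d.u 0)⁻¹ = e⁻¹ ∧ e * w = w * e := by
    intro g hg hgw
    obtain ⟨e, he, o, ho, rfl, heP, hoP, hinv⟩ := frame_split (frame 0) hp hp2 hg (hnw hgw)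
    refine ⟨e, he, o, hΦw (mem_inf.2 ⟨hoP, mem_centralizer_singleton_iff.2 ?_⟩), rfl, heP,
      hinv _ (frame 0).u_mem_B (d.u_order 0) (d.u_ne_t 0) (d.commute_tu 0),
      (frame 0).facts.commute he ((frame 0).le_oddPart (mem_zpowers w))⟩
    exact ((frame 0).facts.commute (frame 0).u_mem ho).symm
  obtain ⟨e, he, o, ho, hveo, heP, heu, hew⟩ := split v hvP hvw
  have heb : ⁅e, b⁆ = 1 := by
    have hc : ⁅e, b⁆ ∈ d.Zc p := hsymm (hbZ2.2 e heP)
    have hflip : ⁅e⁻¹, b⁻¹⁆ = ⁅e, b⁆ := by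
      rw [show ⁅e⁻¹, b⁻¹⁆ = e⁻¹ * b⁻¹ * ⁅e, b⁆ * (e⁻¹ * b⁻¹)⁻¹ by
        simp only [commutatorElement_def]; group, mul_inv_eq_iff_eq_mul]
      exact hZ hc (mul_mem (inv_mem heP) (inv_mem hbZ2.1))
    have h1 := (hcen hp hp2 hc).1 0
    rw [show d.u 0 * ⁅e, b⁆ * (d.u 0)⁻¹ = ⁅d.u 0 * e * (d.u 0)⁻¹, d.u 0 * b * (d.u 0)⁻¹⁆ by
      simp only [commutatorElement_def]; group, heu, hbinv 0, hflip] at h1
    exact Data.eq_one_of_odd (d.odd_of_mem_P hp2 (mem_inf.1 hc).1) h1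
  have heZ : e ∈ d.Zc p := mem_inf.2 ⟨heP, mem_centralizer_iff.2 fun g hg => by
    obtain ⟨j, hj⟩ := hζmul hg hwZ2 (hexp hwZ2 (by rw [← hwo, pow_orderOf_eq_one]) hg) hbZ2.1 hbw
    obtain ⟨e', he', o', ho', hgeo, heP', -, -⟩ := split _ (mul_mem hg (pow_mem hbZ2.1 j))
      (commutatorElement_eq_one_iff_mul_comm.1 hj)
    have c1 : Commute e e' := frame_commute (frame 0) hp hp2 hPne he (d.odd_of_mem_P hp2 heP)
      (d.commute_t_O (hPO heP)) he' (d.odd_of_mem_P hp2 heP') (d.commute_t_O (hPO heP'))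
    have c2 : Commute e o' := by
      obtain ⟨n, rfl⟩ := mem_zpowers_iff.1 ho'
      exact (show Commute e w from hew).zpow_right n
    have c3 : Commute e (b ^ j) :=
      (show Commute e b from commutatorElement_eq_one_iff_mul_comm.1 heb).pow_right j
    have h1 : Commute e (e' * o' * (b ^ j)⁻¹) := (c1.mul_right c2).mul_right c3.inv_right
    rw [← hgeo, mul_inv_cancel_right] at h1
    exact h1.eq.symm⟩
  rw [show y = e * o * (b ^ k)⁻¹ by rw [← hveo, hv, mul_inv_cancel_right]]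
  exact mul_mem (mul_mem (mem_sup_right heZ) (mem_sup_left (mem_sup_left ho)))
    (inv_mem (pow_mem (mem_sup_left (mem_sup_right (mem_zpowers b))) k))

end Setting

end Cfsg.Agent.GW.Bender
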