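import Cfsg.Agent.Lib.GW.BenderFrame

/-!
# A proper fixed part of a central class is cyclic

If the fixed points `Φ` of a central reflection on `O_p(H)` are not normal in it, then `Φ` embeds in
the torus of the component of `N(Φ)`.
-/

set_option autoImplicit false
set_option linter.style.haveILetI false

namespace Cfsg.Agent.GW.Bender

open Subgroup Cfsg.Agent.Involutions Cfsg.Agent.GW.Overgroups

universe u

variable {G : Type u} [Group G] [Finite G]

/-- A `p`-group has a proper overgroup of a proper subgroup normalizing it. -/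
theorem exists_mem_normalizer {p : ℕ} [Fact p.Prime] {P N : Subgroup G} (hP : IsPGroup p P)
    (hle : N ≤ P) (hne : ¬ P ≤ N) : ∃ y ∈ P, y ∉ N ∧ y ∈ normalizer (N : Set G) := by
  haveI := hP.isNilpotent
  have hlt : N.subgroupOf P < ⊤ := lt_top_iff_ne_top.2 fun h => hne (subgroupOf_eq_top.1 h)
  obtain ⟨y, hy, hyN⟩ := SetLike.exists_of_lt (Group.normalizerCondition_of_isNilpotent _ hlt)
  refine ⟨y, y.2, fun h => hyN (mem_subgroupOf.2 h), mem_normalizer_fintype fun z hz => ?_⟩
  have := (mem_normalizer_iff.1 hy ⟨z, hle hz⟩).1 (mem_subgroupOf.2 hz)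
  simpa [mem_subgroupOf] using this

namespace Setting

variable {d : Setting G} [IsSimpleGroup G]

/-- The fixed points of a central reflection on a core not normalizing them are cyclic. -/
theorem fixed_isCyclic (hf : d.HasCompFacts) {i : ZMod d.m} (hc : d.Central i) {p : ℕ}
    (hp : p.Prime) (hp2 : p ≠ 2) {Φ : Subgroup G}
    (hΦdef : Φ = d.P p ⊓ centralizer ({d.u i} : Set G))
    (hne : Φ ≠ ⊥) (hnle : ¬ d.P p ≤ normalizer (Φ : Set G)) : IsCyclic Φ := by
  haveI : Fact p.Prime := ⟨hp⟩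
  have hΦP : Φ ≤ d.P p := hΦdef.le.trans inf_le_left
  have f := d.frame_of_central hf hc hp hp2 hΦP (hΦdef.le.trans inf_le_right) hne
  set B := normalizer (Φ : Set G) with hBdef
  set E := maxPerfect B with hEdef
  set D := oddPart B with hDdef
  set u := d.u i with hu
  have hPne : d.P p ≠ ⊥ := fun h => hne (le_bot_iff.1 (hΦP.trans h.le))
  have hED : E ⊓ D = ⊥ := (frame_dvd f hp hp2 hPne).2
  set N := d.P p ⊓ B with hN
  obtain ⟨y, hyP, hyN, hyn⟩ := exists_mem_normalizer (d.P_isPGroup p) (N := N) inf_le_left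
    fun h => hnle (h.trans inf_le_right)
  have huN : u ∈ normalizer (N : Set G) :=
    mem_normalizer_fintype fun z hz => ⟨d.conj_mem_P (d.u_mem_H i) hz.1,
      B.mul_mem (B.mul_mem f.u_mem_B hz.2) (B.inv_mem f.u_mem_B)⟩
  -- an element inverted by the reflection outside `B`
  set w := y⁻¹ * (u * y * u⁻¹) with hw
  have hwP : w ∈ d.P p := mul_mem (inv_mem hyP) (d.conj_mem_P (d.u_mem_H i) hyP)
  have hwN : w ∉ N := by
    intro h
    obtain ⟨n, hn, hnc⟩ := Coprime.exists_fixed_in_coset (A := zpowers u) (N := N) (k := y)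
      (zpowers_le.2 huN) (by
        rw [Nat.card_zpowers, hu, d.u_order i]
        exact Nat.coprime_two_left.2 (d.O_odd.of_dvd_nat
          (Subgroup.card_dvd_of_le (inf_le_left.trans (d.P_le_O hp2)))))
      (Or.inr (Coprime.isSolvable_of_le inf_le_left (Coprime.isSolvable_of_isPGroup (d.P_isPGroup p))))
      (fun a ha => by
        obtain ⟨k, rfl⟩ := mem_zpowers_iff.1 ha
        rcases Int.even_or_odd' k with ⟨j, rfl | rfl⟩
        · rw [zpow_mul, zpow_two, d.u_sq, one_zpow]; simp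
        · rw [zpow_add, zpow_mul, zpow_two, d.u_sq, one_zpow, one_mul, zpow_one]; exact h)
    have hΦ' : y * n ∈ Φ := by
      rw [hΦdef]
      exact ⟨mul_mem hyP hn.1, mem_centralizer_singleton_iff.2
        (mem_centralizer_iff.1 hnc u (mem_zpowers u)).symm⟩
    refine hyN ⟨hyP, ?_⟩
    have := mul_mem (le_normalizer hΦ') (inv_mem hn.2)
    rwa [mul_inv_cancel_right] at this
  have hwB : w ∉ B := fun h => hwN ⟨hwP, h⟩
  have hwn : w ∈ normalizer (N : Set G) :=
    mul_mem (inv_mem hyn) (mul_mem (mul_mem huN hyn) (inv_mem huN))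
  have hwinv : u * w * u⁻¹ = w⁻¹ := by
    rw [hw, mul_inv_rev, mul_inv_rev, mul_inv_rev, inv_inv, inv_inv]
    calc u * (y⁻¹ * (u * y * u⁻¹)) * u⁻¹ = u * y⁻¹ * u * y * (u * u)⁻¹ := by group
      _ = _ := by rw [d.u_sq, hu, d.u_inv]; group
  -- the component part of `w a w⁻¹`
  set C := d.P p ⊓ E with hC
  haveI : IsCyclic C := f.facts.torus_cyclic (frame_isPSL f) d.t f.t_mem d.t_order C
    (fun x hx => ⟨hx.2, d.P_le p hx.1⟩)
    (d.O_odd.of_dvd_nat (Subgroup.card_dvd_of_le (inf_le_left.trans (d.P_le_O hp2))))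
    (le_bot_iff.1 ((inf_le_inf_right _ inf_le_right).trans hED.le))
  have hsplit : ∀ a : Φ, ∃ e : C, ∃ o ∈ D, w * a * w⁻¹ = (e : G) * o := by
    intro a
    have hmem := (mem_normalizer_iff.1 hwn (a : G)).1 ⟨hΦP a.2, le_normalizer a.2⟩
    obtain ⟨e, he, o, ho, h1, heP, -, -⟩ := frame_split f hp hp2 hmem.1 hmem.2
    exact ⟨⟨e, heP, he⟩, o, ho, h1⟩
  choose φ o ho hφ using hsplit
  have huniq : ∀ (e e' : C) (o o' : G), o ∈ D → o' ∈ D → (e : G) * o = (e' : G) * o' → e = e' := by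
    intro e e' o o' ho ho' h
    have h1 : (e' : G)⁻¹ * e = o' * o⁻¹ := by
      rw [inv_mul_eq_iff_eq_mul, ← mul_assoc, eq_mul_inv_iff_mul_eq]
      exact h
    have h2 : (e' : G)⁻¹ * e ∈ (⊥ : Subgroup G) :=
      hED ▸ mem_inf.2 ⟨E.mul_mem (E.inv_mem e'.2.2) e.2.2, h1 ▸ D.mul_mem ho' (D.inv_mem ho)⟩
    exact Subtype.ext (inv_mul_eq_one.1 (mem_bot.1 h2)).symm
  let ψ : Φ →* C := MonoidHom.mk' φ fun a b => huniq _ _ (o (a * b)) (o a * o b) (ho _)
    (mul_mem (ho a) (ho b)) (by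
      rw [← hφ, Subgroup.coe_mul, show w * ((a : G) * b) * w⁻¹ = (w * a * w⁻¹) * (w * b * w⁻¹) by
        group, hφ, hφ, Subgroup.coe_mul]
      calc (φ a : G) * o a * ((φ b : G) * o b) = (φ a : G) * (o a * φ b) * o b := by group
        _ = _ := by rw [← f.facts.commute (φ b).2.2 (ho a)]; group)
  refine isCyclic_of_injective ψ ((MonoidHom.ker_eq_bot_iff ψ).1 ?_)
  by_contra hK
  -- a central element of the kernel commutes with `w`, hence so does `Φ`
  haveI : Group.IsNilpotent Φ := ((d.P_isPGroup p).to_le hΦP).isNilpotent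
  obtain ⟨a, ha, ha1⟩ := (Subgroup.bot_or_exists_ne_one _).resolve_left
    (Cores.inf_center_ne_bot (N := ψ.ker) hK)
  have hua : ∀ x : Φ, u * x * u⁻¹ = x := fun x => mul_inv_eq_iff_eq_mul.2
    (mem_centralizer_singleton_iff.1 (hΦdef.le x.2).2).symm
  have hwa : Commute w (a : G) := by
    have h1 : w * a * w⁻¹ = o a := by
      rw [hφ, show φ a = 1 from MonoidHom.mem_ker.1 ha.1, Subgroup.coe_one, one_mul]
    have h2 : u * (w * a * w⁻¹) * u⁻¹ = w * a * w⁻¹ := by
      rw [h1, f.facts.commute f.u_mem (ho a), mul_inv_cancel_right]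
    rw [show u * (w * a * w⁻¹) * u⁻¹ = (u * w * u⁻¹) * (u * a * u⁻¹) * (u * w * u⁻¹)⁻¹ by group,
      hwinv, hua, inv_inv] at h2
    have h3 : w * w ∈ centralizer ({(a : G)} : Set G) := by
      refine mem_centralizer_singleton_iff.2 ?_
      calc w * w * a = w * (w * a * w⁻¹) * w := by group
        _ = w * (w⁻¹ * a * w) * w := by rw [h2]
        _ = a * (w * w) := by group
    exact mem_centralizer_singleton_iff.1 (mem_of_sq_mem (d.odd_of_mem_P hp2 hwP) h3)
  have ha' : (a : G) ≠ 1 := fun h => ha1 (Subtype.ext h)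
  have fa := d.frame_of_central hf hc hp hp2 (Y := zpowers (a : G))
    (zpowers_le.2 (hΦP a.2)) (zpowers_le.2 (hΦdef.le a.2).2)
    (fun h => ha' (mem_bot.1 (h ▸ mem_zpowers (a : G))))
  have hnorm : ∀ x : G, Commute x (a : G) → x ∈ normalizer (zpowers (a : G) : Set G) := fun x hx =>
    centralizer_le_normalizer _ (mem_centralizer_iff.2 fun y hy => by
      obtain ⟨k, rfl⟩ := mem_zpowers_iff.1 hy
      exact (hx.zpow_right k).eq.symm)
  have hwE := frame_inverted fa hp hp2 hwP (hnorm w hwa) hwinv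
  refine hwB (centralizer_le_normalizer _ (mem_centralizer_iff.2 fun x hx => ?_))
  have hxa : Commute x (a : G) :=
    congrArg Subtype.val (mem_center_iff.1 ha.2 ⟨x, hx⟩)
  have hxD := frame_fixed fa hp hp2 (hΦP hx) (hnorm x hxa) fa.u_mem_B (d.u_order i) (d.u_ne_t i)
    (d.commute_tu i) (mul_inv_eq_iff_eq_mul.1 (hua ⟨x, hx⟩))
  exact (fa.facts.commute hwE hxD).symm

end Setting

end Cfsg.Agent.GW.Bender
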