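import Cfsg.Agent.Lib.GW.BenderFrameDefs
import Cfsg.Agent.Lib.Coprime.PGroup
import Cfsg.Agent.Lib.Cores.Nilpotent

/-!
# Frames: subgroups with a component around a fixed point of a reflection

A frame for a reflection `u` and a prime `p` is a nontrivial `Y ≤ O_p(H)` fixed by `u` whose
normalizer has a component containing `t` and `u`.
-/

set_option autoImplicit false
set_option linter.style.haveILetI false

namespace Cfsg.Agent.GW.Bender

open Subgroup Cfsg.Agent.Involutions Cfsg.Agent.GW.Overgroups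
open scoped commutatorElement

universe u

variable {G : Type u} [Group G] [Finite G]

/-- An element of odd order lies in the cyclic group of its square. -/
theorem mem_of_sq_mem {K : Subgroup G} {e : G} (ho : Odd (orderOf e)) (h : e * e ∈ K) : e ∈ K := by
  obtain ⟨j, hj⟩ := exists_pow_eq_self_of_coprime (Nat.coprime_two_left.2 ho)
  rw [← hj, sq]
  exact pow_mem h _

/-- A subgroup normal in `B` of odd order lies in the odd core of `B`. -/
theorem le_oddPart {B Y : Subgroup G} (hle : Y ≤ B) (hn : B ≤ normalizer (Y : Set G))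
    (ho : Odd (Nat.card Y)) : Y ≤ oddPart B := by
  haveI := normal_subgroupOf_of_le_normalizer hn
  have hc : Odd (Nat.card (Y.subgroupOf B)) := by
    rwa [Nat.card_congr (subgroupOfEquivOfLe hle).toEquiv]
  intro y hy
  exact ⟨⟨y, hle hy⟩, Cores.le_oddCore hc (mem_subgroupOf.2 hy), rfl⟩

theorem odd_of_mem_oddPart {B : Subgroup G} {x : G} (hx : x ∈ oddPart B) : Odd (orderOf x) :=
  (oddPart_odd B).of_dvd_nat (Subgroup.orderOf_dvd_natCard _ hx)

namespace CompFacts

variable {B : Subgroup G} (hB : CompFacts B)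

include hB in
theorem oddPart_le_centralizer : oddPart B ≤ centralizer (maxPerfect B : Set G) :=
  hB.centralizer_eq.symm.le.trans inf_le_right

include hB in
theorem commute {e o : G} (he : e ∈ maxPerfect B) (ho : o ∈ oddPart B) : e * o = o * e :=
  mem_centralizer_iff.1 (hB.oddPart_le_centralizer ho) e he

include hB in
theorem exists_mul {x : G} (hx : x ∈ maxPerfect B ⊔ oddPart B) :
    ∃ e ∈ maxPerfect B, ∃ o ∈ oddPart B, x = e * o := by
  have hn : oddPart B ≤ normalizer (maxPerfect B : Set G) :=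
    (oddPart_le B).trans (le_normalizer_maxPerfect B)
  rw [← SetLike.mem_coe, Subgroup.coe_mul_of_right_le_normalizer_left _ _ hn] at hx
  obtain ⟨e, he, o, ho, h⟩ := hx
  exact ⟨e, he, o, ho, h.symm⟩

end CompFacts

namespace Data

variable (d : Data G)

/-- A nontrivial part of `O_p(H)` fixed by the reflection whose normalizer has a component
containing the four-group of the reflection. -/
structure Frame (i : ZMod d.m) (p : ℕ) (Y : Subgroup G) : Prop where
  prime : p.Prime
  ne_two : p ≠ 2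
  le : Y ≤ d.P p
  fixed : Y ≤ centralizer ({d.u i} : Set G)
  ne_bot : Y ≠ ⊥
  facts : CompFacts (normalizer (Y : Set G))
  t_mem : d.t ∈ maxPerfect (normalizer (Y : Set G))
  u_mem : d.u i ∈ maxPerfect (normalizer (Y : Set G))

/-- The center of the `p`-core of `H`. -/
def Zc (p : ℕ) : Subgroup G := d.P p ⊓ centralizer (d.P p : Set G)

theorem commute_t_O {x : G} (hx : x ∈ d.O) : d.t * x = x * d.t :=
  (mem_centralizer_singleton_iff.1 (d.O_le hx)).symm

theorem commute_tu (i : ZMod d.m) : d.t * d.u i = d.u i * d.t :=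
  (mem_centralizer_singleton_iff.1 (d.u_mem_H i)).symm

theorem t_mem_normalizer {Y : Subgroup G} (hY : Y ≤ d.H) : d.t ∈ normalizer (Y : Set G) :=
  centralizer_le_normalizer _ (mem_centralizer_iff.2 fun _ hx =>
    mem_centralizer_singleton_iff.1 (hY hx))

theorem odd_of_mem_P {p : ℕ} [Fact p.Prime] (hp2 : p ≠ 2) {x : G} (hx : x ∈ d.P p) :
    Odd (orderOf x) :=
  d.orderOf_odd (d.P_le_O hp2 hx)

theorem isPow_of_mem_P {p : ℕ} [Fact p.Prime] {x : G} (hx : x ∈ d.P p) : IsPow p x := by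
  obtain ⟨k, hk⟩ := IsPGroup.iff_orderOf.1 (d.P_isPGroup p) ⟨x, hx⟩
  exact ⟨k, by rwa [Subgroup.orderOf_mk] at hk⟩

theorem Zc_le (p : ℕ) : d.Zc p ≤ d.P p := inf_le_left

theorem H_le_normalizer_Zc (p : ℕ) : d.H ≤ normalizer (d.Zc p : Set G) := by
  intro h hh
  refine mem_normalizer_fintype fun z hz => ⟨d.conj_mem_P hh hz.1, mem_centralizer_iff.2 fun f hf => ?_⟩
  have h1 := mem_centralizer_iff.1 hz.2 _ (d.conj_mem_P (inv_mem hh) hf)
  rw [inv_inv] at h1
  calc f * (h * z * h⁻¹) = h * ((h⁻¹ * f * h) * z) * h⁻¹ := by group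
    _ = h * (z * (h⁻¹ * f * h)) * h⁻¹ := by rw [h1]
    _ = h * z * h⁻¹ * f := by group

theorem Zc_ne_bot {p : ℕ} [Fact p.Prime] (h : d.P p ≠ ⊥) : d.Zc p ≠ ⊥ := by
  haveI := (d.P_isPGroup p).isNilpotent
  haveI : Nontrivial (d.P p) := (Subgroup.nontrivial_iff_ne_bot _).2 h
  obtain ⟨⟨x, hxP⟩, hx, hx1⟩ := (Subgroup.bot_or_exists_ne_one _).resolve_left
    (Cores.inf_center_ne_bot (N := (⊤ : Subgroup (d.P p))) top_ne_bot)
  intro hbot
  refine hx1 (Subtype.ext ?_)
  have : x ∈ d.Zc p := ⟨hxP, mem_centralizer_iff.2 fun f hf =>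
    congrArg Subtype.val (mem_center_iff.1 hx.2 ⟨f, hf⟩)⟩
  rw [hbot, mem_bot] at this
  exact this

end Data

namespace Data.Frame

variable {d : Data G} {i : ZMod d.m} {p : ℕ} {Y : Subgroup G} (f : d.Frame i p Y)

include f in
theorem le_O : Y ≤ d.O := by
  haveI : Fact p.Prime := ⟨f.prime⟩
  exact f.le.trans (d.P_le_O f.ne_two)

include f in
theorem t_mem_B : d.t ∈ normalizer (Y : Set G) := d.t_mem_normalizer (f.le_O.trans d.O_le)

include f in
theorem u_mem_B : d.u i ∈ normalizer (Y : Set G) := maxPerfect_le _ f.u_mem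

include f in
theorem le_oddPart : Y ≤ oddPart (normalizer (Y : Set G)) :=
  Bender.le_oddPart le_normalizer le_rfl (d.O_odd.of_dvd_nat (Subgroup.card_dvd_of_le f.le_O))

include f in
theorem component_centralizes : maxPerfect (normalizer (Y : Set G)) ≤ centralizer (Y : Set G) :=
  le_centralizer_iff.1 (f.le_oddPart.trans f.facts.oddPart_le_centralizer)

include f in
theorem exists_cycle : ∃ g ∈ maxPerfect (normalizer (Y : Set G)),
    g * d.t * g⁻¹ = d.u i ∧ g * d.u i * g⁻¹ = d.t * d.u i :=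
  f.facts.exists_cycle _ f.t_mem _ f.u_mem d.t_order (d.u_order i) (d.u_ne_t i) (d.commute_tu i)

include f in
theorem center_le {r : ℕ} (hr : r.Prime) : d.Zc r ≤ normalizer (Y : Set G) := by
  haveI : Fact r.Prime := ⟨hr⟩
  haveI : Fact p.Prime := ⟨f.prime⟩
  refine le_trans (fun z hz => mem_centralizer_iff.2 fun y hy => ?_) (centralizer_le_normalizer _)
  by_cases hrp : r = p
  · subst hrp; exact mem_centralizer_iff.1 hz.2 y (f.le hy)
  · exact (d.comm_P hrp hz.1 (f.le hy)).symm

include f in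
theorem P_le {r : ℕ} (hr : r.Prime) (hrp : r ≠ p) : d.P r ≤ normalizer (Y : Set G) := by
  haveI : Fact r.Prime := ⟨hr⟩
  haveI : Fact p.Prime := ⟨f.prime⟩
  exact le_trans (fun z hz => mem_centralizer_iff.2 fun y hy => (d.comm_P hrp hz (f.le hy)).symm)
    (centralizer_le_normalizer _)

include f in
theorem inner {r : ℕ} (hr : r.Prime) (hr2 : r ≠ 2) {x : G} (hx : x ∈ d.P r)
    (hxB : x ∈ normalizer (Y : Set G)) :
    x ∈ maxPerfect (normalizer (Y : Set G)) ⊔ oddPart (normalizer (Y : Set G)) := by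
  haveI : Fact r.Prime := ⟨hr⟩
  refine f.facts.inner_part d.t f.t_mem d.t_order r hr hr2 x hxB
    (d.commute_t_O (d.P_le_O hr2 hx)) (d.isPow_of_mem_P hx) fun y _ hty hyo _ => ?_
  have hyH : y ∈ d.H := mem_centralizer_singleton_iff.2 hty.symm
  refine d.isPow_of_mem_P ?_
  rw [show x * y * x⁻¹ * y⁻¹ = x * (y * x⁻¹ * y⁻¹) by group]
  exact mul_mem hx (d.conj_mem_P hyH (inv_mem hx))

end Data.Frame

namespace Setting

variable (d : Setting G) [IsSimpleGroup G]

theorem H_ne_top : d.H ≠ ⊤ := d.maximal.1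

theorem normalizer_ne_top {Y : Subgroup G} (hY : Y ≤ d.H) (hne : Y ≠ ⊥) :
    normalizer (Y : Set G) ≠ ⊤ := by
  intro h
  haveI : Y.Normal := normalizer_eq_top_iff.1 h
  rcases IsSimpleGroup.eq_bot_or_eq_top_of_normal Y inferInstance with h1 | h1
  · exact hne h1
  · exact d.H_ne_top (top_le_iff.1 (h1.symm.le.trans hY))

/-- A nontrivial fixed part of a central class gives a frame. -/
theorem frame_of_central (hf : d.HasCompFacts) {i : ZMod d.m} (hc : d.Central i) {p : ℕ}
    (hp : p.Prime) (hp2 : p ≠ 2) {Y : Subgroup G} (hY : Y ≤ d.P p)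
    (hfix : Y ≤ centralizer ({d.u i} : Set G)) (hne : Y ≠ ⊥) : d.Frame i p Y := by
  haveI : Fact p.Prime := ⟨hp⟩
  obtain ⟨g, hg1, hg2, hga⟩ := hc
  have hP : d.P p ≠ ⊥ := fun h => hne (le_bot_iff.1 (hY.trans h.le))
  have hYO : Y ≤ d.O := hY.trans (d.P_le_O hp2)
  set B := normalizer (Y : Set G) with hBdef
  have hgB : g ∈ B := centralizer_le_normalizer _ (mem_centralizer_iff.2 fun y hy =>
    (hga y ⟨hYO hy, hfix hy⟩).symm)
  have htB : d.t ∈ B := d.t_mem_normalizer (hY.trans (d.P_le p))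
  have hut : orderOf (d.u i * d.t) = 2 := by
    refine orderOf_eq_prime ?_ fun h => d.u_ne_t i ?_
    · rw [sq, show d.u i * d.t * (d.u i * d.t) = d.u i * (d.t * d.u i) * d.t by group,
        d.commute_tu, ← mul_assoc, d.u_sq, one_mul, d.t_sq]
    · rw [mul_eq_one_iff_eq_inv, d.t_inv] at h; exact h
  have hlayer : Cfsg.layer B ≠ ⊥ := fun h => by
    have := d.t_moves_odd hp2 hP Y hY h hgB
    rw [hg1, hut] at this
    exact absurd this (by decide)
  have hB := hf B (d.normalizer_ne_top (hY.trans (d.P_le p)) hne) hlayer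
  have hutE : d.u i * d.t ∈ maxPerfect B := by
    refine hB.mem_of_two _ (hB.derived ?_) ⟨1, by rw [hut, pow_one]⟩
    have := commutator_mem_commutator hgB htB
    rwa [commutatorElement_def, hg1, d.t_inv] at this
  have htE : d.t ∈ maxPerfect B := by
    have := (mem_normalizer_iff.1 (le_normalizer_maxPerfect B hgB) _).1 hutE
    rwa [show g * (d.u i * d.t) * g⁻¹ = (g * d.u i * g⁻¹) * (g * d.t * g⁻¹) by group, hg1, hg2,
      mul_assoc, d.u_sq, mul_one] at this
  refine ⟨hp, hp2, hY, hfix, hne, hB, htE, ?_⟩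
  have := mul_mem hutE htE
  rwa [mul_assoc, d.t_sq, mul_one] at this

variable {d} {i : ZMod d.m} {p : ℕ} {Y : Subgroup G} (f : d.Frame i p Y)

include f in
/-- A normal subgroup of `H` fixed by the reflection and lying in a frame is trivial. -/
theorem eq_bot_of_fixed {W : Subgroup G} (hW : W ≤ d.H) (hn : d.H ≤ normalizer (W : Set G))
    (hD : W ≤ oddPart (normalizer (Y : Set G))) : W = ⊥ := by
  obtain ⟨g, hgE, hg1, -⟩ := f.exists_cycle
  refine d.eq_bot_of_moved hW hn (g := g) ?_ (by rw [hg1]; exact d.u_ne_t i)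
  exact centralizer_le_normalizer _ (mem_centralizer_iff.2 fun w hw =>
    (f.facts.commute hgE (hD hw)).symm)

include f in
/-- The component is of type `PSL₂(q)`. -/
theorem frame_isPSL : IsPSLType (normalizer (Y : Set G)) := by
  by_contra hA
  obtain ⟨v, hvE, hv2, hvt, htv, hvc⟩ := (f.facts.alt hA).2 d.t f.t_mem d.t_order
  haveI : Fact p.Prime := ⟨f.prime⟩
  have hvH : v ∈ d.H := mem_centralizer_singleton_iff.2 htv.symm
  have hO : d.O ≠ ⊥ := fun h => f.ne_bot (le_bot_iff.1 (f.le_O.trans h.le))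
  refine hvt (d.eq_t hO hvH hv2 (d.centralizes_O hvH (Involutions.Basic.inv_sq_one hv2) ?_))
  intro r hr hr2 x hx
  haveI : Fact r.Prime := ⟨hr⟩
  by_cases hrp : r = p
  · subst hrp
    have hQ : (Nat.card (zpowers v)).Coprime r := by
      rw [Nat.card_zpowers, hv2]
      exact (Nat.coprime_primes Nat.prime_two hr).2 (Ne.symm hr2)
    have h := Coprime.le_centralizer_of_pxq (p := r) (P := Y) (Q := zpowers v) (U := d.P r)
      ((d.P_isPGroup r).to_le f.le) hQ (d.P_isPGroup r) ?_ (f.le.trans le_normalizer)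
      (zpowers_le.2 (d.H_le_normalizer_P r hvH)) ?_
    · exact (mem_centralizer_iff.1 (h (mem_zpowers v)) x hx).symm
    · refine le_centralizer_iff.1 (zpowers_le.2 ?_)
      exact f.component_centralizes hvE
    · rintro z ⟨hzP, hzY⟩
      refine mem_centralizer_iff.2 fun y hy => ?_
      obtain ⟨k, rfl⟩ := mem_zpowers_iff.1 hy
      have hzO := d.P_le_O hr2 hzP
      exact (Commute.zpow_left (hvc z (centralizer_le_normalizer _ hzY) (d.commute_t_O hzO)
        (d.orderOf_odd hzO) : Commute v z) k).eq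
  · exact hvc x (f.P_le hr hrp hx) (d.commute_t_O (d.P_le_O hr2 hx)) (d.odd_of_mem_P hr2 hx)

include f in
/-- Decomposition of the elements of the cores of `H` normalizing a frame. -/
theorem frame_split {r : ℕ} (hr : r.Prime) (hr2 : r ≠ 2) {x : G} (hx : x ∈ d.P r)
    (hxB : x ∈ normalizer (Y : Set G)) :
    ∃ e ∈ maxPerfect (normalizer (Y : Set G)), ∃ o ∈ oddPart (normalizer (Y : Set G)),
      x = e * o ∧ e ∈ d.P r ∧ o ∈ d.P r ∧
      ∀ v ∈ normalizer (Y : Set G), orderOf v = 2 → v ≠ d.t → d.t * v = v * d.t →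
        v * e * v⁻¹ = e⁻¹ := by
  haveI : Fact r.Prime := ⟨hr⟩
  have hpsl := frame_isPSL f
  rcases f.facts.centre hpsl with hbot | hall
  swap
  · exact ⟨1, one_mem _, x, hall d.t f.t_mem d.t_order x hxB
      (d.commute_t_O (d.P_le_O hr2 hx)) (d.odd_of_mem_P hr2 hx), (one_mul x).symm, one_mem _, hx,
      fun v _ _ _ _ => by group⟩
  obtain ⟨e, he, o, ho, rfl⟩ := f.facts.exists_mul (f.inner hr hr2 hx hxB)
  have htx := d.commute_t_O (d.P_le_O hr2 hx)
  have heo : Commute e o := f.facts.commute he ho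
  have hto : Commute d.t o := f.facts.commute f.t_mem ho
  have hte : Commute d.t e := by
    have := (show Commute d.t (e * o) from htx).mul_right hto.inv_right
    rwa [mul_inv_cancel_right] at this
  have heodd : Odd (orderOf e) := by
    have hd := (heo.mul_left (Commute.refl o)).inv_right.orderOf_mul_dvd_mul_orderOf
    rw [mul_inv_cancel_right, orderOf_inv] at hd
    exact ((d.odd_of_mem_P hr2 hx).mul (odd_of_mem_oddPart ho)).of_dvd_nat hd
  have hinv : ∀ v ∈ normalizer (Y : Set G), orderOf v = 2 → v ≠ d.t → d.t * v = v * d.t →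
      v * e * v⁻¹ = e⁻¹ := by
    intro v hv hv2 hvt htv
    have h1 := (f.facts.torus hpsl d.t f.t_mem d.t_order e (mem_sup_left he) heodd hte.eq).2
      v hv hv2 hvt htv
    have h2 : v * e * v⁻¹ * e ∈ maxPerfect (normalizer (Y : Set G)) :=
      mul_mem ((mem_normalizer_iff.1 (le_normalizer_maxPerfect _ hv) e).1 he) he
    have h3 : v * e * v⁻¹ * e ∈ (⊥ : Subgroup G) := hbot ▸ ⟨h2, h1⟩
    exact eq_inv_of_mul_eq_one_left (mem_bot.1 h3)
  have heP : e ∈ d.P r := by
    refine mem_of_sq_mem heodd ?_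
    have h1 := d.conj_mem_P (d.u_mem_H i) hx
    rw [show d.u i * (e * o) * (d.u i)⁻¹ = (d.u i * e * (d.u i)⁻¹) * (d.u i * o * (d.u i)⁻¹) by
      group, hinv _ f.u_mem_B (d.u_order i) (d.u_ne_t i) (d.commute_tu i),
      f.facts.commute f.u_mem ho, mul_inv_cancel_right] at h1
    have h2 := mul_mem hx (inv_mem h1)
    rwa [mul_inv_rev, inv_inv, mul_assoc, mul_inv_cancel_left] at h2
  refine ⟨e, he, o, ho, rfl, heP, ?_, hinv⟩
  have := mul_mem (inv_mem heP) hx
  rwa [inv_mul_cancel_left] at this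

include f in
/-- Fixed points of an involution of a frame other than `t` lie in its odd core. -/
theorem frame_fixed {r : ℕ} (hr : r.Prime) (hr2 : r ≠ 2) {x : G} (hx : x ∈ d.P r)
    (hxB : x ∈ normalizer (Y : Set G)) {v : G} (hvB : v ∈ normalizer (Y : Set G))
    (hv2 : orderOf v = 2) (hvt : v ≠ d.t) (htv : d.t * v = v * d.t) (hvx : v * x = x * v) :
    x ∈ oddPart (normalizer (Y : Set G)) := by
  haveI : Fact r.Prime := ⟨hr⟩
  obtain ⟨e, he, o, ho, rfl, heP, -, hinv⟩ := frame_split f hr hr2 hx hxB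
  have h1 : v * (e * o) * v⁻¹ = e * o := mul_inv_eq_iff_eq_mul.2 hvx
  rw [show v * (e * o) * v⁻¹ = (v * e * v⁻¹) * (v * o * v⁻¹) by group, hinv v hvB hv2 hvt htv] at h1
  -- the squares of `e` lie in the odd core
  have h2 : e * e = (v * o * v⁻¹) * o⁻¹ := by
    have h3 : (e : G)⁻¹ * (v * o * v⁻¹) * o⁻¹ = e := by rw [h1, mul_inv_cancel_right]
    nth_rw 1 [← h3]
    have hc : Commute e (v * o * v⁻¹) :=
      f.facts.commute he ((mem_normalizer_iff.1
        ((le_normalizer_oddPart _) hvB) o).1 ho)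
    rw [mul_assoc, ← f.facts.commute he (inv_mem ho), ← mul_assoc, mul_assoc _ (v * o * v⁻¹) e,
      ← hc.eq, ← mul_assoc, inv_mul_cancel, one_mul]
  have he2 : e * e ∈ oddPart (normalizer (Y : Set G)) :=
    h2 ▸ mul_mem ((mem_normalizer_iff.1 (le_normalizer_oddPart _ hvB) o).1 ho) (inv_mem ho)
  exact mul_mem (mem_of_sq_mem (d.odd_of_mem_P hr2 heP) he2) ho

include f in
/-- An element inverted by the reflection lies in the component. -/
theorem frame_inverted {r : ℕ} (hr : r.Prime) (hr2 : r ≠ 2) {x : G} (hx : x ∈ d.P r)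
    (hxB : x ∈ normalizer (Y : Set G)) (hux : d.u i * x * (d.u i)⁻¹ = x⁻¹) :
    x ∈ maxPerfect (normalizer (Y : Set G)) := by
  haveI : Fact r.Prime := ⟨hr⟩
  obtain ⟨e, he, o, ho, rfl, -, hoP, hinv⟩ := frame_split f hr hr2 hx hxB
  rw [show d.u i * (e * o) * (d.u i)⁻¹ = (d.u i * e * (d.u i)⁻¹) * (d.u i * o * (d.u i)⁻¹) by group,
    hinv _ f.u_mem_B (d.u_order i) (d.u_ne_t i) (d.commute_tu i), f.facts.commute f.u_mem ho,
    mul_inv_cancel_right, f.facts.commute he ho, mul_inv_rev] at hux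
  have h1 : o = o⁻¹ := mul_left_cancel hux
  rw [Data.eq_one_of_odd (d.odd_of_mem_P hr2 hoP) h1, mul_one]
  exact he

include f in
/-- Every core of `H` meets the component. -/
theorem frame_meets {r : ℕ} (hr : r.Prime) (hr2 : r ≠ 2) (hne : d.P r ≠ ⊥) :
    ∃ e ∈ maxPerfect (normalizer (Y : Set G)), e ∈ d.P r ∧ e ≠ 1 ∧
      ∀ v ∈ normalizer (Y : Set G), orderOf v = 2 → v ≠ d.t → d.t * v = v * d.t →
        v * e * v⁻¹ = e⁻¹ := by
  haveI : Fact r.Prime := ⟨hr⟩
  by_contra hcon
  push Not at hcon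
  refine d.Zc_ne_bot hne (eq_bot_of_fixed f ((d.Zc_le r).trans (d.P_le r))
    (d.H_le_normalizer_Zc r) fun z hz => ?_)
  obtain ⟨e, he, o, ho, rfl, heP, -, hinv⟩ := frame_split f hr hr2 hz.1 (f.center_le hr hz)
  by_cases he1 : e = 1
  · rw [he1, one_mul]; exact ho
  · obtain ⟨v, hv, hv2, hvt, htv, hbad⟩ := hcon e he heP he1
    exact absurd (hinv v hv hv2 hvt htv) hbad

include f in
/-- The prime divisors of the Fitting subgroup divide the torus, and the centre is trivial. -/
theorem frame_dvd {r : ℕ} (hr : r.Prime) (hr2 : r ≠ 2) (hne : d.P r ≠ ⊥) :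
    r ∣ Nat.card (maxPerfect (normalizer (Y : Set G)) ⊓ centralizer ({d.t} : Set G) : Subgroup G) ∧
      maxPerfect (normalizer (Y : Set G)) ⊓ oddPart (normalizer (Y : Set G)) = ⊥ := by
  haveI : Fact r.Prime := ⟨hr⟩
  obtain ⟨e, he, heP, he1, hinv⟩ := frame_meets f hr hr2 hne
  have het : e ∈ centralizer ({d.t} : Set G) := d.P_le r heP
  obtain ⟨k, hk⟩ := d.isPow_of_mem_P heP
  constructor
  · have hd := Subgroup.orderOf_dvd_natCard _
      (show e ∈ maxPerfect (normalizer (Y : Set G)) ⊓ centralizer ({d.t} : Set G) from ⟨he, het⟩)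
    refine dvd_trans ?_ hd
    rw [hk]
    rcases k with _ | k
    · exact absurd (orderOf_eq_one_iff.1 hk) he1
    · exact dvd_pow_self r (Nat.succ_ne_zero k)
  · rcases f.facts.centre (frame_isPSL f) with h | h
    · exact h
    · exfalso
      have heD := h d.t f.t_mem d.t_order e (maxPerfect_le _ he)
        (mem_centralizer_singleton_iff.1 het).symm (d.odd_of_mem_P hr2 heP)
      have h1 := hinv _ f.u_mem_B (d.u_order i) (d.u_ne_t i) (d.commute_tu i)
      rw [f.facts.commute f.u_mem heD, mul_inv_cancel_right] at h1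
      exact he1 (Data.eq_one_of_odd (d.odd_of_mem_P hr2 heP) h1)

include f in
/-- An element of the Sylow 2-subgroup in the component acts on the core like the reflection. -/
theorem frame_alike {j : ZMod d.m} (hj : d.u j ∈ maxPerfect (normalizer (Y : Set G))) :
    ∀ x ∈ d.O, d.u i * x * (d.u i)⁻¹ = d.u j * x * (d.u j)⁻¹ := by
  haveI : Fact p.Prime := ⟨f.prime⟩
  have hvB : d.u j ∈ normalizer (Y : Set G) := maxPerfect_le _ hj
  set q := d.u j * d.u i with hq
  have hqS : q ∈ (d.S : Subgroup G) := mul_mem (d.u_mem j) (d.u_mem i)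
  have hqE : q ∈ maxPerfect (normalizer (Y : Set G)) := mul_mem hj f.u_mem
  have hfix : ∀ r : ℕ, r.Prime → r ≠ 2 → ∀ x ∈ d.P r, x ∈ normalizer (Y : Set G) → q * x = x * q := by
    intro r hr hr2 x hx hxB
    obtain ⟨e, he, o, ho, rfl, -, -, hinv⟩ := frame_split f hr hr2 hx hxB
    have h1 := hinv _ f.u_mem_B (d.u_order i) (d.u_ne_t i) (d.commute_tu i)
    have h2 := hinv _ hvB (d.u_order j) (d.u_ne_t j) (d.commute_tu j)
    have h3 : q * e * q⁻¹ = e := by
      rw [hq, show d.u j * d.u i * e * (d.u j * d.u i)⁻¹ =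
        d.u j * (d.u i * e * (d.u i)⁻¹) * (d.u j)⁻¹ by group, h1, ← conj_inv, h2, inv_inv]
    exact ((show Commute q e from mul_inv_eq_iff_eq_mul.1 h3).mul_right
      (f.facts.commute hqE ho : Commute q o)).eq
  have hcent : ∀ r : ℕ, r.Prime → r ≠ 2 → ∀ x ∈ d.P r, q * x = x * q := by
    intro r hr hr2 x hx
    haveI : Fact r.Prime := ⟨hr⟩
    by_cases hrp : r = p
    · subst hrp
      obtain ⟨k, hk⟩ := IsPGroup.iff_orderOf.1 d.S.2 ⟨q, hqS⟩
      rw [Subgroup.orderOf_mk] at hk
      have hQ : (Nat.card (zpowers q)).Coprime r := by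
        rw [Nat.card_zpowers, hk]
        exact ((Nat.coprime_primes Nat.prime_two hr).2 (Ne.symm hr2)).pow_left k
      have h := Coprime.le_centralizer_of_pxq (p := r) (P := Y) (Q := zpowers q) (U := d.P r)
        ((d.P_isPGroup r).to_le f.le) hQ (d.P_isPGroup r)
        (le_centralizer_iff.1 (zpowers_le.2 (f.component_centralizes hqE)))
        (f.le.trans le_normalizer) (zpowers_le.2 (d.H_le_normalizer_P r (d.S_le hqS))) ?_
      · exact (mem_centralizer_iff.1 (h (mem_zpowers q)) x hx).symm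
      · rintro z ⟨hzP, hzY⟩
        refine mem_centralizer_iff.2 fun y hy => ?_
        obtain ⟨n, rfl⟩ := mem_zpowers_iff.1 hy
        exact (Commute.zpow_left
          (hfix r hr hr2 z hzP (centralizer_le_normalizer _ hzY) : Commute q z) n).eq
    · exact hfix r hr hr2 x hx (f.P_le hr hrp hx)
  intro x hx
  have h := d.sylow_centralizes_O hqS hcent _
    ((mem_normalizer_iff.1 (d.H_le_normalizer_O (d.u_mem_H i)) x).1 hx)
  calc d.u i * x * (d.u i)⁻¹ = q * (d.u i * x * (d.u i)⁻¹) * q⁻¹ := by rw [h, mul_inv_cancel_right]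
    _ = d.u j * (d.u i * d.u i) * x * (d.u i * d.u i)⁻¹ * (d.u j)⁻¹ := by rw [hq]; group
    _ = d.u j * x * (d.u j)⁻¹ := by rw [d.u_sq]; group

include f in
/-- The class of the reflection is central if its fixed points normalize the frame. -/
theorem central_of_frame (hA : d.A i ≤ normalizer (Y : Set G)) : d.Central i := by
  obtain ⟨g, hgE, hg1, hg2⟩ := f.exists_cycle
  refine ⟨g, hg1, hg2, fun a ha => (f.facts.cycle_fixed (frame_isPSL f) d.t f.t_mem (d.u i) f.u_mem
    d.t_order (d.u_order i) (d.u_ne_t i) (d.commute_tu i) g hgE hg1 hg2 a (hA ha)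
    (d.orderOf_odd ha.1) (d.commute_t_O ha.1) (mem_centralizer_singleton_iff.1 ha.2).symm).symm⟩

end Setting

end Cfsg.Agent.GW.Bender
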