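import Mathlib
import Cfsg.Agent.Lib.Characters.Kernel

/-!
A real character that is constant on the nontrivial sections of a `2`-group commuting with an element of odd
order has that element in its kernel, unless its degree is at least twice the order of the `2`-group.
-/

set_option autoImplicit false
set_option linter.all false

namespace Cfsg.Agent.GW.S3287Four

open Cfsg.Agent.Characters
open scoped ComplexConjugate

universe u

set_option maxHeartbeats 400000 in
theorem eq_one_of_const_sections {G : Type u} [Group G] [Finite G] (T : Subgroup G) {y : G}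
    (hy : ¬ 2 ∣ orderOf y) (hcomm : ∀ v ∈ T, Commute v y) {χ : G → ℂ} (hχ : Cfsg.IsCharacter G χ)
    (hreal : ∀ g : G, χ g⁻¹ = χ g)
    (hconst : ∀ v ∈ T, v ≠ 1 → ∀ k : ℕ, χ (v * y ^ k) = χ v)
    (hdeg : ∀ d : ℕ, χ 1 = d → d < 2 * Nat.card T) : χ y = χ 1 := by
  classical
  set N := orderOf y with hN
  have hN0 : 0 < N := orderOf_pos y
  haveI : NeZero N := ⟨hN0.ne'⟩
  haveI := Fintype.ofFinite T
  obtain ⟨ω, hω⟩ : ∃ ω : ℂ, IsPrimitiveRoot ω N := ⟨_, Complex.isPrimitiveRoot_exp N hN0.ne'⟩
  let χy : ZMod N → ℂ := fun k => χ (y ^ k.val)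
  have hadd : ∀ a b : ZMod N, y ^ (a + b).val = y ^ a.val * y ^ b.val := fun a b => by
    rw [← pow_add, pow_eq_pow_iff_modEq, ← hN, ZMod.val_add]
    exact Nat.mod_modEq _ _
  -- the linear characters of the cyclic group
  let lam : ZMod N → ZMod N → ℂ := fun i k => ω ^ (i.val * k.val)
  have hlam_add : ∀ i a b, lam i (a + b) = lam i a * lam i b := fun i a b => by
    show ω ^ (i.val * (a + b).val) = ω ^ (i.val * a.val) * ω ^ (i.val * b.val)
    rw [← pow_add, ← mul_add, pow_eq_pow_mod _ hω.pow_eq_one, pow_eq_pow_mod (i.val * (a.val + b.val)) hω.pow_eq_one,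
      ZMod.val_add, Nat.mul_mod, Nat.mod_mod, ← Nat.mul_mod]
  have hlam_conj : ∀ i k, conj (lam i k) = lam i (-k) := fun i k => by
    have h1 : lam i k * lam i (-k) = 1 := by
      rw [← hlam_add, add_neg_cancel]; simp [lam]
    have h2 : ‖lam i k‖ = 1 := Complex.norm_eq_one_of_pow_eq_one
      (n := N) (by rw [← pow_mul, mul_comm, pow_mul, hω.pow_eq_one, one_pow]) hN0.ne'
    rw [← Complex.inv_eq_conj h2, inv_eq_of_mul_eq_one_right h1]
  set m : ZMod N → ℂ := fun i => (N : ℂ)⁻¹ * ∑ k : ZMod N, χy k * conj (lam i k) with hm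
  -- the sum of a nontrivial character
  have hsum : ∀ i : ZMod N, i ≠ 0 → ∑ k : ZMod N, lam i k = 0 := by
    intro i hi
    have h1 : ω ^ i.val ≠ 1 := fun e => hi (by
      rw [← ZMod.natCast_zmod_val i, ZMod.natCast_eq_zero_iff]
      exact hω.pow_eq_one_iff_dvd _ |>.1 e)
    have h2 : lam i 1 ≠ 1 := by
      show ω ^ (i.val * (1 : ZMod N).val) ≠ 1
      rcases Nat.lt_or_ge N 2 with h | h
      · exfalso
        have hN1 : N = 1 := by omega
        exact h1 (by rw [show i.val = 0 by have := ZMod.val_lt i; omega, pow_zero])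
      · haveI : Fact (1 < N) := ⟨h⟩
        rwa [ZMod.val_one, mul_one]
    have h3 : lam i 1 * ∑ k : ZMod N, lam i k = ∑ k : ZMod N, lam i k := by
      rw [Finset.mul_sum]
      exact Fintype.sum_equiv (Equiv.addLeft (1 : ZMod N)) _ _ fun k => (hlam_add i 1 k).symm
    by_contra hne
    exact h2 (mul_right_cancel₀ hne (h3.trans (one_mul _).symm))
  -- the group on which the multiplicities are read off
  let f : Multiplicative (ZMod N) × T →* G := MonoidHom.mk' (fun w => y ^ w.1.toAdd.val * (w.2 : G)) fun a b => by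
    show y ^ (a.1.toAdd + b.1.toAdd).val * ((a.2 : G) * b.2) = y ^ a.1.toAdd.val * (a.2 : G) * (y ^ b.1.toAdd.val * (b.2 : G))
    rw [hadd]
    have := ((hcomm a.2 a.2.2).pow_right b.1.toAdd.val).eq
    calc y ^ a.1.toAdd.val * y ^ b.1.toAdd.val * ((a.2 : G) * b.2)
        = y ^ a.1.toAdd.val * (y ^ b.1.toAdd.val * (a.2 : G)) * b.2 := by group
      _ = _ := by rw [← this]; group
  have hlamhom : ∀ i : ZMod N, ∃ l : Multiplicative (ZMod N) × T →* ℂ, ∀ w, l w = lam i w.1.toAdd := fun i =>
    ⟨{ toFun := fun w => lam i w.1.toAdd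
       map_one' := by simp [lam]
       map_mul' := fun a b => hlam_add i _ _ }, fun w => rfl⟩
  have hmH : ∀ i : ZMod N, i ≠ 0 → ∃ n : ℕ, m i = ((Nat.card T * n : ℕ) : ℂ) := by
    intro i hi
    obtain ⟨l, hl⟩ := hlamhom i
    obtain ⟨n, hn⟩ := classInner_char_nat (isCharacter_comp f hχ)
      (isCharacter_of_isIrr (isIrrCharacter_monoidHom l))
    refine ⟨n, ?_⟩
    rw [Cfsg.classInner, Nat.card_prod, Fintype.sum_prod_type_right,
      ← Finset.sum_erase_add _ _ (Finset.mem_univ (1 : T))] at hn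
    have h0 : ∑ x ∈ (Finset.univ : Finset T).erase 1, ∑ k : Multiplicative (ZMod N),
        χ (f (k, x)) * conj (l (k, x)) = 0 := by
      refine Finset.sum_eq_zero fun x hx => ?_
      have hx1 : (x : G) ≠ 1 := fun e => (Finset.ne_of_mem_erase hx) (Subtype.ext e)
      have e : ∀ k : Multiplicative (ZMod N), χ (f (k, x)) * conj (l (k, x)) =
          χ x * conj (lam i k.toAdd) := fun k => by
        rw [hl]
        show χ (y ^ k.toAdd.val * (x : G)) * _ = _
        rw [← ((hcomm x x.2).pow_right _).eq, hconst x x.2 hx1]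
      simp only [e, ← Finset.mul_sum, ← map_sum]
      rw [show ∑ k : Multiplicative (ZMod N), lam i k.toAdd = ∑ k : ZMod N, lam i k from
        Fintype.sum_equiv Multiplicative.toAdd _ _ fun k => rfl, hsum i hi, map_zero, mul_zero]
    simp only [Function.comp_apply] at hn
    rw [h0, zero_add] at hn
    have h1 : ∑ k : Multiplicative (ZMod N), χ (f (k, (1 : T))) * conj (l (k, (1 : T))) =
        ∑ k : ZMod N, χy k * conj (lam i k) := by
      refine Fintype.sum_equiv Multiplicative.toAdd _ _ fun k => ?_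
      rw [hl]
      show χ (y ^ k.toAdd.val * ((1 : T) : G)) * _ = _
      rw [Subgroup.coe_one, mul_one]
    rw [h1, Nat.cast_mul, show Nat.card (Multiplicative (ZMod N)) = N from Nat.card_zmod N] at hn
    have hT : (Nat.card T : ℂ) ≠ 0 := Nat.cast_ne_zero.2 Nat.card_pos.ne'
    rw [mul_inv] at hn
    rw [hm, Nat.cast_mul, ← hn]
    field_simp
  have hm0 : ∃ n : ℕ, m 0 = (n : ℂ) := by
    let f0 : Multiplicative (ZMod N) →* G := MonoidHom.mk' (fun k => y ^ k.toAdd.val) fun a b => hadd _ _
    obtain ⟨n, hn⟩ := classInner_char_nat (isCharacter_comp f0 hχ) isCharacter_one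
    refine ⟨n, ?_⟩
    rw [← hn, Cfsg.classInner, show Nat.card (Multiplicative (ZMod N)) = N from Nat.card_zmod N, hm]
    refine congrArg ((N : ℂ)⁻¹ * ·) ?_
    refine (Fintype.sum_equiv Multiplicative.toAdd _ _ fun k => ?_).symm
    simp only [Function.comp_apply, map_one, mul_one]
    show χ (y ^ k.toAdd.val) = χy k.toAdd * conj (lam 0 k.toAdd)
    simp only [lam, χy, ZMod.val_zero, zero_mul, pow_zero, map_one, mul_one]
  -- inversion
  have hinv : ∀ k : ZMod N, χy k = ∑ i : ZMod N, m i * lam i k := by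
    intro k
    have horth : ∀ j : ZMod N, ∑ i : ZMod N, lam i (k - j) = if j = k then (N : ℂ) else 0 := by
      intro j
      have hsymm : ∀ a b : ZMod N, lam a b = lam b a := fun a b => by simp [lam, mul_comm]
      simp only [hsymm _ (k - j)]
      split_ifs with h
      · subst h
        simp [lam]
      · exact hsum _ (sub_ne_zero.2 (Ne.symm h))
    have e : ∀ i j, χy j * conj (lam i j) * lam i k = χy j * lam i (k - j) := fun i j => by
      rw [hlam_conj, mul_assoc, ← hlam_add, neg_add_eq_sub]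
    simp only [hm, mul_assoc ((N : ℂ)⁻¹), Finset.sum_mul, e, ← Finset.mul_sum]
    rw [Finset.sum_comm]
    simp only [← Finset.mul_sum, horth, mul_ite, mul_zero, Finset.sum_ite_eq', Finset.mem_univ, if_true]
    rw [mul_comm (χy k), inv_mul_cancel_left₀ (Nat.cast_ne_zero.2 hN0.ne')]
  -- the multiplicities of conjugate characters agree
  have hsymm : ∀ i, m (-i) = m i := by
    intro i
    simp only [hm]
    refine congrArg ((N : ℂ)⁻¹ * ·) ?_
    refine Fintype.sum_equiv (Equiv.neg (ZMod N)) _ _ fun k => ?_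
    have e1 : χy (-k) = χy k := by
      show χ (y ^ (-k).val) = χ (y ^ k.val)
      rw [← hreal (y ^ k.val)]
      congr 1
      refine (inv_eq_of_mul_eq_one_right ?_).symm
      rw [← hadd, add_neg_cancel, ZMod.val_zero, pow_zero]
    have e2 : lam (-i) k = lam i (-k) := by
      have h1 : ω ^ ((-i).val * k.val) * ω ^ (i.val * k.val) = 1 := by
        rw [← pow_add, ← add_mul, pow_mul, (hω.pow_eq_one_iff_dvd _).2, one_pow]
        rw [← ZMod.natCast_eq_zero_iff]
        simp
      have h2 : lam i k * lam i (-k) = 1 := by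
        rw [← hlam_add, add_neg_cancel]; simp [lam]
      calc lam (-i) k = lam (-i) k * (lam i k * lam i (-k)) := by rw [h2, mul_one]
        _ = lam i (-k) := by rw [← mul_assoc]; show ω ^ _ * ω ^ _ * _ = _; rw [h1, one_mul]
    show χy k * conj (lam (-i) k) = χy (-k) * conj (lam i (-k))
    rw [e1, e2]
  -- counting
  choose! n hn using hmH
  obtain ⟨n0, hn0⟩ := hm0
  have hall : ∀ i : ZMod N, i ≠ 0 → n i = 0 := by
    intro i hi
    by_contra hne
    obtain ⟨d, hd⟩ := char_one_nat hχ
    have hd' := hdeg d hd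
    have hne' : -i ≠ i := fun e => hi (by
      have h2 : ((2 : ℕ) : ZMod N) * i = 0 := by
        push_cast
        linear_combination -e
      have hu : IsUnit ((2 : ℕ) : ZMod N) :=
        (ZMod.isUnit_iff_coprime 2 N).2 ((Nat.prime_two.coprime_iff_not_dvd).2 hy)
      exact (hu.mul_right_eq_zero).1 h2)
    have hsum1 : (d : ℂ) = ∑ j : ZMod N, m j := by
      rw [← hd, show χ 1 = χy 0 by simp [χy], hinv]
      simp [lam]
    have hkey : ∀ j, ∃ a : ℕ, m j = (a : ℂ) := fun j => by
      by_cases hj : j = 0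
      · exact ⟨n0, hj ▸ hn0⟩
      · exact ⟨_, hn j hj⟩
    choose a ha using hkey
    simp only [ha] at hsum1
    have hsum2 : d = ∑ j : ZMod N, a j := by exact_mod_cast hsum1
    have h1 : Nat.card T ≤ a i := by
      have h : (a i : ℂ) = ((Nat.card T * n i : ℕ) : ℂ) := by rw [← ha, hn i hi]
      rw [Nat.cast_inj.1 h]
      exact Nat.le_mul_of_pos_right _ (Nat.pos_of_ne_zero hne)
    have h2 : a (-i) = a i := by
      have h : (a (-i) : ℂ) = a i := by rw [← ha, ← ha, hsymm]
      exact_mod_cast h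
    have h3 : a (-i) + a i ≤ d := by
      rw [hsum2, ← Finset.sum_pair hne']
      exact Finset.sum_le_sum_of_subset (Finset.subset_univ _)
    omega
  have hy1 : χ y = χy 1 := by
    show χ y = χ (y ^ (1 : ZMod N).val)
    congr 1
    conv_lhs => rw [← pow_one y]
    rw [pow_eq_pow_iff_modEq, ← hN]
    rcases Nat.lt_or_ge N 2 with h | h
    · rw [show N = 1 by omega]; exact Nat.modEq_one
    · haveI : Fact (1 < N) := ⟨h⟩
      rw [ZMod.val_one]
  rw [hy1, show χ 1 = χy 0 by simp [χy], hinv, hinv]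
  refine Finset.sum_congr rfl fun i _ => ?_
  by_cases hi : i = 0
  · subst hi; simp [lam]
  · rw [hn i hi, hall i hi, mul_zero, Nat.cast_zero, zero_mul, zero_mul]

end Cfsg.Agent.GW.S3287Four
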