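import Mathlib
import Cfsg.Agent.Lib.CharTheory.DihedralPrincipal.OrderFormula
import Cfsg.Agent.Lib.FrobeniusSchur.Basic
import Cfsg.Agent.Lib.GW.S3287FourMult

/-!
The first non-principal character of the principal block is real and constant on the sections of the Sylow subgroup.
-/

set_option autoImplicit false
set_option linter.all false

namespace Cfsg.Agent.GW.S3287Four

open Cfsg.Agent.Blocks Cfsg.Agent.Characters Cfsg.Agent.CharTheory.DihedralPrincipal
open scoped ComplexConjugate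

universe u

variable {G : Type u} [Group G]

theorem index_centralizer_inv (g : G) :
    (Subgroup.centralizer ({g⁻¹} : Set G)).index = (Subgroup.centralizer ({g} : Set G)).index := by
  congr 1
  ext c
  rw [Subgroup.mem_centralizer_singleton_iff, Subgroup.mem_centralizer_singleton_iff]
  exact Commute.inv_right_iff

/-- Complex conjugation fixes the principal block. -/
theorem conj_mem_principalBlock [Finite G] {M : Ideal Cfsg.AlgInt} {χ : Cfsg.IrrCharacter G}
    (h : χ ∈ Cfsg.principalBlock M G) : FrobeniusSchur.conjIrr χ ∈ Cfsg.principalBlock M G := by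
  intro g
  have h' := h g⁻¹
  have e : Cfsg.centralChar (χ : G → ℂ) g⁻¹ =
      Cfsg.centralChar (FrobeniusSchur.conjIrr χ : G → ℂ) g := by
    obtain ⟨n, -, hn⟩ := irr_one_pos χ.2
    simp only [Cfsg.centralChar, FrobeniusSchur.conjIrr_coe, index_centralizer_inv,
      char_inv (irr_isCharacter χ), hn, Complex.conj_natCast]
  have e1 : Cfsg.centralChar (fun _ : G => (1 : ℂ)) g⁻¹ = Cfsg.centralChar (fun _ : G => (1 : ℂ)) g := by
    simp only [Cfsg.centralChar, index_centralizer_inv]
  rwa [e, e1] at h'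

variable [Fintype G] [Fintype (Cfsg.IrrCharacter G)]
  {P : Sylow 2 G} {σ τ : G} {m : ℕ} {M : Ideal Cfsg.AlgInt} {ζ : ℂ}
  {c1 c2 c3 : Cfsg.IrrCharacter G} {d1 d2 d3 : ℤ} {X : ℕ → Cfsg.IrrCharacter G}

theorem c1_mem (T : Principal (G := G) σ m M ζ c1 c2 c3 d1 d2 d3 X) : c1 ∈ Cfsg.principalBlock M G :=
  (T.mem _).2 (Or.inr (Or.inl rfl))

theorem c1_real (h : DihSylow P σ τ m) (hζ : IsPrimitiveRoot ζ (2 * m))
    (T : Principal (G := G) σ m M ζ c1 c2 c3 d1 d2 d3 X) (g : G) :
    (c1 : G → ℂ) g⁻¹ = (c1 : G → ℂ) g := by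
  have hm := h.two_le
  have hd0 : d1 ≠ 0 := fun e => by simpa [e] using T.sq1
  have hval : ∀ l, 0 < l → l < 2 * m → (FrobeniusSchur.conjIrr c1 : G → ℂ) (σ ^ l) = d1 := fun l h1 h2 => by
    rw [FrobeniusSchur.conjIrr_coe, T.val1 l h1 h2, map_intCast]
  have e : FrobeniusSchur.conjIrr c1 = c1 := by
    rcases (T.mem _).1 (conj_mem_principalBlock (c1_mem T)) with e | e | e | e | ⟨j, j1, j2, e⟩
    · exfalso
      refine T.ne1 (Subtype.ext (funext fun x => ?_))
      have := congrArg (fun z : Cfsg.IrrCharacter G => conj ((z : G → ℂ) x)) e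
      simp only [FrobeniusSchur.conjIrr_coe, Complex.conj_conj] at this
      simpa [trivIrr] using this
    · exact e
    · exfalso
      have e1 := hval 1 one_pos (by omega)
      have e2 := hval 2 two_pos (by omega)
      rw [e, T.val2 1 one_pos (by omega)] at e1
      rw [e, T.val2 2 two_pos (by omega)] at e2
      norm_num at e1 e2
      have h3 : d2 = d1 := by exact_mod_cast e1
      have h4 : -d2 = d1 := by exact_mod_cast e2
      omega
    · exfalso
      have e1 := hval 1 one_pos (by omega)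
      have e2 := hval 2 two_pos (by omega)
      rw [e, T.val3 1 one_pos (by omega)] at e1
      rw [e, T.val3 2 two_pos (by omega)] at e2
      norm_num at e1 e2
      have h3 : d3 = d1 := by exact_mod_cast e1
      have h4 : -d3 = d1 := by exact_mod_cast e2
      omega
    · exfalso
      have e1 := hval m (by omega) (by omega)
      rw [e, T.valX j j1 j2 m (by omega) (by omega), gv_half hζ (by omega)] at e1
      have h3 : d1 * (2 * (-1) ^ j) = d1 * 1 := by rw [mul_one]; exact_mod_cast e1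
      have h4 : (2 : ℤ) ∣ 1 := ⟨(-1) ^ j, (mul_left_cancel₀ hd0 h3).symm⟩
      omega
  have := congrArg (fun z : Cfsg.IrrCharacter G => (z : G → ℂ) g) e
  simp only [FrobeniusSchur.conjIrr_coe] at this
  rw [char_inv (irr_isCharacter c1), this]

/-- The value on a section of a nontrivial element of the Sylow subgroup. -/
theorem value_sylow (h : DihSylow P σ τ m) (hM : Cfsg.IsPModular 2 M) (hc1 : IsConj (σ ^ m) τ)
    (hc2 : IsConj (σ ^ m) (σ * τ)) {χ : Cfsg.IrrCharacter G} (hχ : χ ∈ Cfsg.principalBlock M G)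
    {v s : G} (hv : v ∈ (P : Subgroup G)) (hv1 : v ≠ 1) (hc : Commute v s) (hs : ¬ 2 ∣ orderOf s) :
    (χ : G → ℂ) (v * s) = (χ : G → ℂ) v := by
  obtain ⟨i, hi | hi⟩ := h.cases v hv
  · exact h.value_section hM (DihSylow.mem_of_pow i hi) hv1 hχ hc hs
  · have ho : orderOf v = 2 := by rw [hi]; exact h.orderOf_refl i
    obtain ⟨g, hg⟩ := isConj_iff.1 ((h.involution_conj hc1 hc2).1 ho)
    have hv' : v = g * σ ^ m * g⁻¹ := hg.symm
    have hc' : Commute (σ ^ m) (g⁻¹ * s * g) := by
      have h1 := hc.eq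
      rw [hv'] at h1
      show σ ^ m * (g⁻¹ * s * g) = g⁻¹ * s * g * σ ^ m
      calc σ ^ m * (g⁻¹ * s * g) = g⁻¹ * (g * σ ^ m * g⁻¹ * s) * g := by group
        _ = g⁻¹ * (s * (g * σ ^ m * g⁻¹)) * g := by rw [h1]
        _ = g⁻¹ * s * g * σ ^ m := by group
    have hs' : ¬ 2 ∣ orderOf (g⁻¹ * s * g) := by
      have := BlockCharsA.RegularPart.orderOf_conj' s g⁻¹
      rw [inv_inv] at this
      rwa [this]
    have key := h.value_section hM (pow_mem (Subgroup.mem_zpowers σ) m) h.J_ne_one hχ hc' hs'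
    rw [← irr_isClassFunction χ _ g, ← irr_isClassFunction χ (σ ^ m) g, ← hv'] at key
    rw [← key]
    congr 1
    rw [hv']
    group

/-- An element of odd order centralized by a large part of the Sylow subgroup is trivial. -/
theorem eq_one_of_small [IsSimpleGroup G] (h : DihSylow P σ τ m) (hM : Cfsg.IsPModular 2 M)
    (hζ : IsPrimitiveRoot ζ (2 * m)) (hc1 : IsConj (σ ^ m) τ) (hc2 : IsConj (σ ^ m) (σ * τ))
    (T : Principal (G := G) σ m M ζ c1 c2 c3 d1 d2 d3 X) (R : Subgroup G) (hR : R ≤ (P : Subgroup G))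
    (hdeg : ∀ d : ℕ, (c1 : G → ℂ) 1 = d → d < 2 * Nat.card R) {y : G} (hy : ¬ 2 ∣ orderOf y)
    (hcomm : ∀ v ∈ R, Commute v y) : y = 1 := by
  have hk : (c1 : G → ℂ) y = (c1 : G → ℂ) 1 := by
    refine eq_one_of_const_sections R hy hcomm (irr_isCharacter c1) (c1_real h hζ T) (fun v hv hv1 k => ?_) hdeg
    refine value_sylow h hM hc1 hc2 (c1_mem T) (hR hv) hv1 ((hcomm v hv).pow_right k) fun hd => hy ?_
    exact hd.trans (orderOf_pow_dvd k)
  by_contra hy1
  have hn := charKernel_normal (irr_isCharacter c1)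
  rcases IsSimpleGroup.eq_bot_or_eq_top_of_normal _ hn with e | e
  · refine hy1 (Subgroup.mem_bot.1 (e ▸ (mem_charKernel.2 hk : y ∈ charKernel (c1 : G → ℂ) (irr_isCharacter c1))))
  · have hall : ∀ x, (c1 : G → ℂ) x = (c1 : G → ℂ) 1 := fun x =>
      mem_charKernel.1 (e ▸ Subgroup.mem_top x : x ∈ charKernel (c1 : G → ℂ) (irr_isCharacter c1))
    obtain ⟨n, hn0, hn1⟩ := irr_one_pos c1.2
    have hm := h.two_le
    have h1 := T.val1 1 one_pos (by omega)
    rw [hall, hn1] at h1
    have h2 : (n : ℤ) = d1 := by exact_mod_cast h1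
    have h3 : (n : ℤ) * n = 1 := by rw [h2]; exact T.sq1
    have h4 : n = 1 := Nat.eq_one_of_mul_eq_one_right (m := n) (n := n) (by exact_mod_cast h3)
    refine T.ne1 (Subtype.ext (funext fun x => ?_))
    rw [hall, hn1, h4, Nat.cast_one]
    rfl

end Cfsg.Agent.GW.S3287Four
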