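import Cfsg.Agent.Lib.GW.Overgroups
import Cfsg.Agent.Lib.GW.BenderTrivialCores
import Cfsg.Agent.Lib.GW.StableLinear.Bender

/-!
# The maximality input of the group-theoretic half of the dihedral theorem
-/

set_option autoImplicit false
set_option linter.style.haveILetI false

namespace Cfsg.Agent.GW.Bender

open Subgroup

universe u

/-- Without bare overgroup either `H` is maximal or all fixed points are trivial. -/
theorem maximalOrTrivial : MaximalOrTrivial.{u} := fun G _ _ _ d hknown hNB =>
  Overgroups.coatom_or_trivial d hknown hNB fun _ hc => by
    by_cases hG : IsMulCommutative G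
    · exfalso
      obtain ⟨g, hg, -⟩ := d.rho 0
      rw [mul_comm' g, mul_inv_cancel_right] at hg
      exact d.u_ne_t 0 hg.symm
    · exact d.noFixedLinear_of_central_all hG hc

end Cfsg.Agent.GW.Bender
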