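import Cfsg.Agent.Lib.Coprime.Commutator
import Cfsg.Agent.Lib.Coprime.PGroup
import Cfsg.Agent.Lib.PLocal.Quadratic

/-!
# An inverted element with a cyclic fixed space

If an involution `v` inverts an element `y` of odd order prime to `p`, both normalize a `p`-group
`P`, and `C_P(v)` is cyclic, then some `y ^ k` with `0 < k ≤ p + 1` centralizes `P`.
-/

set_option autoImplicit false
set_option linter.style.haveILetI false

namespace Cfsg.Agent.GW.PowBound

open Subgroup

universe u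

section Abelian

variable {V : Type u} [CommGroup V] [Finite V] {p : ℕ} [Fact p.Prime]

theorem pow_eq_zpow_emod (hexp : ∀ v : V, v ^ p = 1) (v : V) (a : ℤ) :
    ∃ i : Fin p, v ^ a = v ^ (i : ℕ) := by
  have hp : (p : ℤ) ≠ 0 := by exact_mod_cast (Fact.out : p.Prime).ne_zero
  have h0 := Int.emod_nonneg a hp
  have h1 := Int.emod_lt_of_pos a (show (0 : ℤ) < p by exact_mod_cast (Fact.out : p.Prime).pos)
  refine ⟨⟨(a % (p : ℤ)).toNat, by omega⟩, ?_⟩
  show v ^ a = v ^ (a % (p : ℤ)).toNat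
  conv_lhs => rw [← Int.emod_add_mul_ediv a (p : ℤ), zpow_add, zpow_mul, zpow_natCast, hexp, one_zpow,
    mul_one, ← Int.toNat_of_nonneg h0, zpow_natCast]

/-- In an elementary abelian group, the orbit of a fixed vector of the involution repeats early. -/
theorem exists_fix (hexp : ∀ v : V, v ^ p = 1) {T Y : MulAut V} (hT : T * T = 1)
    (hTY : T * Y * T = Y⁻¹) (hodd : Odd (orderOf Y)) {e : V} (he : e ≠ 1) (hTe : T e = e)
    (hfix : ∀ v, T v = v → ∃ a : ℤ, v = e ^ a) :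
    ∃ k : ℕ, 0 < k ∧ k ≤ p + 1 ∧ (Y ^ k) e = e := by
  have hp := (Fact.out : p.Prime)
  -- the second power lies in the span
  have hT2 : ∀ v, T (T v) = v := fun v => by rw [← MulAut.mul_apply, hT, MulAut.one_apply]
  have hTi : T⁻¹ = T := inv_eq_of_mul_eq_one_right hT
  have hconj : ∀ n : ℕ, T * Y ^ n * T = (Y ^ n)⁻¹ := by
    intro n
    calc T * Y ^ n * T = T * Y ^ n * T⁻¹ := by rw [hTi]
      _ = (T * Y * T⁻¹) ^ n := conj_pow.symm
      _ = (Y ^ n)⁻¹ := by rw [hTi, hTY, inv_pow]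
  have hTYn : ∀ n : ℕ, T ((Y ^ n) e) = (Y ^ n)⁻¹ e := fun n => by
    conv_lhs => rw [← hTe]
    rw [← MulAut.mul_apply, ← MulAut.mul_apply, hconj]
  have hTYn' : ∀ n : ℕ, T ((Y ^ n)⁻¹ e) = (Y ^ n) e := fun n => by rw [← hTYn, hT2]
  obtain ⟨c, hc⟩ := hfix (Y e * Y⁻¹ e) (by
    have h1 := hTYn 1
    have h2 := hTYn' 1
    rw [pow_one] at h1 h2
    rw [map_mul, h1, h2, mul_comm])
  have hY2 : Y (Y e) = (Y e) ^ c * e⁻¹ := by
    have h1 := congrArg Y hc
    rw [map_mul, ← MulAut.mul_apply V Y Y⁻¹, mul_inv_cancel, MulAut.one_apply, map_zpow] at h1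
    rw [← h1, mul_inv_cancel_right]
  have hmem : ∀ i : ℕ, ∃ a b : ℤ, (Y ^ i) e = e ^ a * (Y e) ^ b := by
    intro i
    induction i with
    | zero => exact ⟨1, 0, by simp⟩
    | succ i ih =>
      obtain ⟨a, b, h⟩ := ih
      refine ⟨-b, a + c * b, ?_⟩
      rw [pow_succ', MulAut.mul_apply, h, map_mul, map_zpow, map_zpow, hY2, mul_zpow, ← zpow_mul,
        inv_zpow', zpow_add]
      ac_rfl
  -- count the multiples of the orbit
  classical
  haveI : Fintype V := Fintype.ofFinite V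
  set W : Finset V := (Finset.univ : Finset (Fin p × Fin p)).image
    fun ab => e ^ (ab.1 : ℕ) * (Y e) ^ (ab.2 : ℕ) with hW
  have hWcard : W.card ≤ p * p := by
    refine Finset.card_image_le.trans ?_
    simp
  have hinW : ∀ (i a : ℕ), ((Y ^ i) e) ^ a ∈ W := by
    intro i a
    obtain ⟨x, y, hxy⟩ := hmem i
    obtain ⟨x', hx'⟩ := pow_eq_zpow_emod hexp e (x * a)
    obtain ⟨y', hy'⟩ := pow_eq_zpow_emod hexp (Y e) (y * a)
    refine Finset.mem_image.2 ⟨(x', y'), Finset.mem_univ _, ?_⟩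
    rw [← hx', ← hy', hxy, mul_pow, zpow_mul, zpow_mul, zpow_natCast, zpow_natCast]
  have h1W : (1 : V) ∈ W := by
    have := hinW 0 0
    simpa using this
  have hne : ∀ i : ℕ, (Y ^ i) e ≠ 1 := fun i h => he ((map_eq_one_iff _ (Y ^ i).injective).1 h)
  have hord : ∀ i : ℕ, orderOf ((Y ^ i) e) = p := fun i =>
    orderOf_eq_prime (hexp _) (hne i)
  set f : Fin (p + 2) × Fin (p - 1) → V := fun ia => ((Y ^ (ia.1 : ℕ)) e) ^ ((ia.2 : ℕ) + 1) with hf
  have hnot : ¬ Function.Injective f := by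
    intro hinj
    have hsub : (Finset.univ.image f) ⊆ W.erase 1 := by
      intro v hv
      obtain ⟨⟨i, a⟩, -, rfl⟩ := Finset.mem_image.1 hv
      refine Finset.mem_erase.2 ⟨?_, hinW _ _⟩
      intro h
      have h' := orderOf_dvd_of_pow_eq_one h
      rw [hord] at h'
      have := Nat.le_of_dvd (by omega) h'
      have := a.2
      omega
    have h1 := Finset.card_le_card hsub
    rw [Finset.card_image_of_injective _ hinj, Finset.card_erase_of_mem h1W, Finset.card_univ,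
      Fintype.card_prod, Fintype.card_fin, Fintype.card_fin] at h1
    obtain ⟨q, rfl⟩ : ∃ q, p = q + 1 := ⟨p - 1, by have := hp.pos; omega⟩
    rw [Nat.add_sub_cancel] at h1
    have := hp.two_le
    have h2 : (q + 1 + 2) * q = q * q + 3 * q := by ring
    have h3 : (q + 1) * (q + 1) = q * q + 2 * q + 1 := by ring
    omega
  obtain ⟨⟨i, a⟩, ⟨j, b⟩, hij, hne'⟩ := Function.not_injective_iff.1 hnot
  simp only [hf] at hij
  -- two different orbit points
  have hij' : (i : ℕ) ≠ j := by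
    intro h
    rw [h] at hij
    have h' : ((a : ℕ) + 1) % p = ((b : ℕ) + 1) % p := by
      have h1 := pow_eq_pow_iff_modEq.1 hij
      rw [hord] at h1
      exact h1
    have ha := a.2
    have hb := b.2
    rw [Nat.mod_eq_of_lt (by omega), Nat.mod_eq_of_lt (by omega)] at h'
    exact hne' (Prod.ext (Fin.ext h) (Fin.ext (show (a : ℕ) = b by omega)))
  -- a later point is a multiple of an earlier one
  obtain ⟨k, hk0, hk1, l, hl⟩ : ∃ k : ℕ, 0 < k ∧ k ≤ p + 1 ∧ ∃ l : ℤ, (Y ^ k) e = e ^ l := by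
    have key : ∀ (i j : Fin (p + 2)) (a b : ℕ), (i : ℕ) < j → a < p - 1 →
        ((Y ^ (j : ℕ)) e) ^ (a + 1) = ((Y ^ (i : ℕ)) e) ^ (b + 1) →
        ∃ k : ℕ, 0 < k ∧ k ≤ p + 1 ∧ ∃ l : ℤ, (Y ^ k) e = e ^ l := by
      intro i j a b hlt ha h
      refine ⟨(j : ℕ) - i, by omega, by have := j.2; omega, ?_⟩
      have hY : Y ^ (j : ℕ) = Y ^ (i : ℕ) * Y ^ ((j : ℕ) - i) := by
        rw [← pow_add, Nat.add_sub_cancel' hlt.le]
      rw [hY, MulAut.mul_apply, ← map_pow (Y ^ (i : ℕ)), ← map_pow (Y ^ (i : ℕ))] at h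
      have h' := (Y ^ (i : ℕ)).injective h
      obtain ⟨m, hm⟩ := exists_pow_eq_self_of_coprime (x := (Y ^ ((j : ℕ) - i)) e) (n := a + 1) (by
        rw [hord, Nat.coprime_comm]
        exact (hp.coprime_iff_not_dvd).2 fun hd => by
          have := Nat.le_of_dvd (by omega) hd
          omega)
      exact ⟨(((b + 1) * m : ℕ) : ℤ), by rw [zpow_natCast, pow_mul, ← h', hm]⟩
    rcases lt_or_gt_of_ne hij' with h | h
    · exact key i j b a h b.2 hij.symm
    · exact key j i a b h a.2 hij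
  refine ⟨k, hk0, hk1, ?_⟩
  -- the multiple is a sign, so a fixed point by odd order
  have hinv : (Y ^ k)⁻¹ e = e ^ l := by rw [← hTYn, hl, map_zpow, hTe]
  have h2 : (Y ^ (2 * k)) e = e := by
    rw [two_mul, pow_add, MulAut.mul_apply, hl, ← hinv, ← MulAut.mul_apply, mul_inv_cancel,
      MulAut.one_apply]
  have hfixpow : ∀ n : ℕ, ((Y ^ (2 * k)) ^ n) e = e := fun n => by
    induction n with
    | zero => rfl
    | succ n ih => rw [pow_succ, MulAut.mul_apply, h2, ih]
  obtain ⟨n, hn⟩ := hodd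
  have hk : Y ^ k = (Y ^ (2 * k)) ^ (n + 1) := by
    rw [← pow_mul, show 2 * k * (n + 1) = orderOf Y * k + k by rw [hn]; ring, pow_add, pow_mul,
      pow_orderOf_eq_one, one_pow, one_mul]
  rw [hk]
  exact hfixpow _

/-- An automorphism inverted by an involution with cyclic fixed space, fixing that space, is
trivial. -/
theorem eq_one_of_fix (hp2 : p ≠ 2) (hexp : ∀ v : V, v ^ p = 1) {T Z : MulAut V} (hT : T * T = 1)
    (hTZ : T * Z * T = Z⁻¹) (hodd : Odd (orderOf Z)) (hcop : (orderOf Z).Coprime p) {e : V}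
    (hZe : Z e = e) (hfix : ∀ v, T v = v → ∃ a : ℤ, v = e ^ a) : Z = 1 := by
  have hfix' : ∀ v, T v = v → Z v = v := by
    intro v hv
    obtain ⟨a, rfl⟩ := hfix v hv
    rw [map_zpow, hZe]
  have hZi : Z⁻¹ * T = T * Z := by rw [← hTZ, mul_assoc, hT, mul_one]
  have hTZ' : T * Z⁻¹ = Z * T := by
    rw [← hTZ, ← mul_assoc, ← mul_assoc, hT, one_mul]
  -- the square moves every vector by a fixed vector
  have hstep : ∀ v, ∃ f, Z f = f ∧ (Z ^ 2) v = v * f := by
    intro v
    have hminus : ∀ u, T u = u⁻¹ → ∃ f, Z f = f ∧ (Z ^ 2) u = u * f := by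
      intro u hu
      have hw : T (Z u * (Z⁻¹ u)⁻¹) = Z u * (Z⁻¹ u)⁻¹ := by
        have a1 : T (Z u) = (Z⁻¹ u)⁻¹ := by
          rw [← MulAut.mul_apply, ← hZi, MulAut.mul_apply, hu, map_inv]
        have a2 : T (Z⁻¹ u) = (Z u)⁻¹ := by
          rw [← MulAut.mul_apply, hTZ', MulAut.mul_apply, hu, map_inv]
        rw [map_mul, map_inv, a1, a2, inv_inv, mul_comm]
      refine ⟨_, hfix' _ hw, ?_⟩
      have h := hfix' _ hw
      rw [map_mul, map_inv, ← MulAut.mul_apply, ← MulAut.mul_apply V Z Z⁻¹, mul_inv_cancel,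
        MulAut.one_apply] at h
      rw [← h, pow_two, mul_comm u, inv_mul_cancel_right]
    obtain ⟨g, hg, hgv⟩ : ∃ g, T g = g⁻¹ ∧ ∃ w, T w = w ∧ v ^ 2 = w * g := by
      refine ⟨v * (T v)⁻¹, ?_, v * T v, ?_, ?_⟩
      · rw [map_mul, map_inv, ← MulAut.mul_apply, hT, MulAut.one_apply, mul_inv_rev, inv_inv]
      · rw [map_mul, ← MulAut.mul_apply, hT, MulAut.one_apply, mul_comm]
      · rw [pow_two]
        exact (by simp [mul_comm, mul_left_comm] : v * v = (v * T v) * (v * (T v)⁻¹))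
    obtain ⟨w, hw, hvw⟩ := hgv
    obtain ⟨f, hf, hgf⟩ := hminus g hg
    -- halve
    obtain ⟨j, hj⟩ := ((Fact.out : p.Prime).odd_of_ne_two hp2)
    have hhalf : ∀ x : V, (x ^ 2) ^ (j + 1) = x := fun x => by
      rw [← pow_mul, show 2 * (j + 1) = p + 1 by omega, pow_succ, hexp, one_mul]
    refine ⟨f ^ (j + 1), by rw [map_pow, hf], ?_⟩
    conv_lhs => rw [← hhalf v]
    have hw2 : (Z ^ 2) w = w := by rw [pow_two Z, MulAut.mul_apply, hfix' w hw, hfix' w hw]
    rw [map_pow, hvw, map_mul, hgf, hw2, ← mul_assoc, mul_pow, ← hvw, hhalf]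
  have hfpow : ∀ n : ℕ, ∀ f, Z f = f → (Z ^ n) f = f := by
    intro n f hf
    induction n with
    | zero => rfl
    | succ m ih => rw [pow_succ, MulAut.mul_apply, hf, ih]
  have h1 : Z ^ (2 * p) = 1 := by
    refine MulEquiv.ext fun v => ?_
    obtain ⟨f, hf, hv⟩ := hstep v
    have hiter : ∀ n : ℕ, ((Z ^ 2) ^ n) v = v * f ^ n := by
      intro n
      induction n with
      | zero => simp
      | succ n ih =>
        rw [pow_succ, MulAut.mul_apply, hv, map_mul, ih, ← pow_mul, hfpow _ f hf, pow_succ, mul_assoc]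
    rw [pow_mul, hiter, hexp, mul_one, MulAut.one_apply]
  obtain ⟨m, hm⟩ := exists_pow_eq_self_of_coprime (x := Z) (n := 2 * p)
    (Nat.Coprime.mul_left (Nat.coprime_two_left.2 hodd) hcop.symm)
  rw [← hm, h1, one_pow]

end Abelian

variable {G : Type u} [Group G] [Finite G]

/-- Some small power of the inverted element centralizes the `p`-group. -/
theorem exists_pow_centralizes {p : ℕ} [hp : Fact p.Prime] (hp2 : p ≠ 2) {P : Subgroup G}
    (hP : IsPGroup p P) {v y : G} (hv : v * v = 1) (hvN : v ∈ normalizer (P : Set G))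
    (hyN : y ∈ normalizer (P : Set G)) (hvy : v * y * v⁻¹ = y⁻¹) (hodd : Odd (orderOf y))
    (hcop : (orderOf y).Coprime p) (hcyc : IsCyclic ↥(P ⊓ centralizer ({v} : Set G))) :
    ∃ k, 0 < k ∧ k ≤ p + 1 ∧ ∀ x ∈ P, y ^ k * x = x * y ^ k := by
  haveI : Group.IsNilpotent P := hP.isNilpotent
  haveI : (frattini P).Normal := inferInstance
  letI : CommGroup (P ⧸ frattini P) :=
    { (inferInstance : Group (P ⧸ frattini P)) with
      mul_comm := fun a b => by
        obtain ⟨a, rfl⟩ := QuotientGroup.mk'_surjective _ a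
        obtain ⟨b, rfl⟩ := QuotientGroup.mk'_surjective _ b
        rw [← commutatorElement_eq_one_iff_mul_comm, ← map_commutatorElement]
        exact (QuotientGroup.eq_one_iff _).mpr (Coprime.commutator_le_frattini P
          (commutator_mem_commutator (mem_top a) (mem_top b))) }
  have hexp : ∀ w : P ⧸ frattini P, w ^ p = 1 := fun w => by
    obtain ⟨w, rfl⟩ := QuotientGroup.mk'_surjective _ w
    rw [← map_pow]
    exact (QuotientGroup.eq_one_iff _).mpr (Solvable.Basics.pow_mem_frattini hP _)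
  let φ : ↥(normalizer (P : Set G)) →* MulAut (P ⧸ frattini P) := MonoidHom.mk'
    (fun h => QuotientGroup.congr _ _ (P.normalizerMonoidHom h)
      (characteristic_iff_map_eq.mp inferInstance _))
    (fun a b => MulEquiv.ext fun w => by
      obtain ⟨w, rfl⟩ := QuotientGroup.mk'_surjective _ w
      rw [map_mul]; rfl)
  have hφ : ∀ (h : ↥(normalizer (P : Set G))) (a : P) (ha : (h : G) * a * (h : G)⁻¹ ∈ P),
      φ h (QuotientGroup.mk a) = QuotientGroup.mk ⟨_, ha⟩ := fun h a ha => rfl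
  set T := φ ⟨v, hvN⟩ with hTdef
  set Y := φ ⟨y, hyN⟩ with hYdef
  have hT : T * T = 1 := by
    rw [hTdef, ← map_mul, ← map_one φ]
    exact congrArg φ (Subtype.ext hv)
  have hTY : T * Y * T = Y⁻¹ := by
    rw [hTdef, hYdef, ← map_mul, ← map_mul, ← map_inv]
    refine congrArg φ (Subtype.ext ?_)
    show v * y * v = y⁻¹
    conv_lhs => arg 2; rw [← inv_eq_of_mul_eq_one_right hv]
    exact hvy
  have hYdvd : orderOf Y ∣ orderOf y := by
    rw [hYdef, ← Subgroup.orderOf_mk y hyN]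
    exact orderOf_map_dvd φ _
  have hYodd : Odd (orderOf Y) := hodd.of_dvd_nat hYdvd
  have hfix : ∀ w : P ⧸ frattini P, T w = w →
      ∃ x : P, (x : G) ∈ P ⊓ centralizer ({v} : Set G) ∧ QuotientGroup.mk x = w := by
    intro w hw
    obtain ⟨a, rfl⟩ := QuotientGroup.mk_surjective w
    have ha : v * a * v⁻¹ ∈ P := (mem_normalizer_iff.1 hvN a).1 a.2
    rw [hTdef, hφ _ _ ha, QuotientGroup.eq] at hw
    set Φ := (frattini P).map P.subtype with hΦ
    have hPΦ : P ≤ normalizer (Φ : Set G) :=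
      le_normalizer_of_normal_subgroupOf (hK := by
        rw [hΦ, Subgroup.subgroupOf, comap_map_eq_self_of_injective P.subtype_injective]
        infer_instance) (map_subtype_le _)
    have hvΦ : zpowers v ≤ normalizer (Φ : Set G) := by
      rw [zpowers_le]
      have hle : ∀ b ∈ Φ, v * b * v⁻¹ ∈ Φ := by
        rintro _ ⟨b, hb, rfl⟩
        refine ⟨P.normalizerMonoidHom ⟨v, hvN⟩ b, ?_, rfl⟩
        have := characteristic_iff_map_eq.mp (inferInstance : (frattini P).Characteristic)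
          (P.normalizerMonoidHom ⟨v, hvN⟩)
        exact this ▸ mem_map_of_mem (P.normalizerMonoidHom ⟨v, hvN⟩).toMonoidHom hb
      refine mem_normalizer_iff.2 fun b => ⟨hle b, fun hb => ?_⟩
      have := hle _ hb
      rwa [inv_eq_of_mul_eq_one_right hv, show v * (v * b * v) * v = (v * v) * b * (v * v) by
        simp only [mul_assoc], hv, one_mul, mul_one] at this
    obtain ⟨k, hk⟩ := IsPGroup.iff_card.1 hP
    have hv2 : Nat.card (zpowers v) ∣ 2 := by
      rw [Nat.card_zpowers]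
      exact orderOf_dvd_of_pow_eq_one (by rw [pow_two, hv])
    have hmem : ((⟨v * a * v⁻¹, ha⟩ : P) : G)⁻¹ * a ∈ Φ := ⟨_, hw, rfl⟩
    obtain ⟨c, hc, hac⟩ := Coprime.exists_fixed_mod (A := zpowers v) (K := P) (N := Φ) (k := (a : G))
      (by
        rw [hk]
        exact (((Nat.coprime_primes Nat.prime_two hp.out).2 (Ne.symm hp2)).coprime_dvd_left hv2).pow_right k)
      (Or.inr inferInstance) (map_subtype_le _) hPΦ hvΦ a.2 (by
        intro g hg
        obtain ⟨n, rfl⟩ := mem_zpowers_iff.1 hg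
        rcases Int.even_or_odd n with ⟨r, rfl⟩ | ⟨r, rfl⟩
        · rw [← two_mul, zpow_mul, zpow_two, hv, one_zpow]
          simp [one_mem]
        · rw [zpow_add, zpow_mul, zpow_two, hv, one_zpow, one_mul, zpow_one]
          have h1 := inv_mem hmem
          rw [mul_inv_rev, inv_inv] at h1
          have h2 := (mem_normalizer_iff.1 (hPΦ a.2) _).1 h1
          simpa [mul_assoc] using h2)
    refine ⟨⟨c, hc.1⟩, ⟨hc.1, ?_⟩, QuotientGroup.eq.2 ?_⟩
    · exact centralizer_le (by simp) hc.2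
    · have h1 := inv_mem hac
      rw [mul_inv_rev, inv_inv] at h1
      obtain ⟨b, hb, hbe⟩ := h1
      have : b = (⟨c, hc.1⟩ : P)⁻¹ * a := Subtype.ext hbe
      exact this ▸ hb
  obtain ⟨⟨g, hg⟩, hgen⟩ := hcyc.exists_generator
  set e : P ⧸ frattini P := QuotientGroup.mk ⟨g, hg.1⟩ with hedef
  have hTe : T e = e := by
    have hga : v * g * v⁻¹ = g := mul_inv_eq_iff_eq_mul.2 (mem_centralizer_singleton_iff.1 hg.2).symm
    have hm : v * g * v⁻¹ ∈ P := by rw [hga]; exact hg.1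
    rw [hedef, hTdef, hφ _ _ hm]
    exact congrArg QuotientGroup.mk (Subtype.ext hga)
  have hfix' : ∀ w, T w = w → ∃ a : ℤ, w = e ^ a := by
    intro w hw
    obtain ⟨x, hx, rfl⟩ := hfix w hw
    obtain ⟨a, ha⟩ := mem_zpowers_iff.1 (hgen ⟨x, hx⟩)
    refine ⟨a, ?_⟩
    rw [hedef, ← QuotientGroup.mk_zpow]
    refine congrArg QuotientGroup.mk (Subtype.ext ?_)
    simpa using (congrArg Subtype.val ha).symm
  obtain ⟨k, hk0, hk1, hke⟩ : ∃ k : ℕ, 0 < k ∧ k ≤ p + 1 ∧ (Y ^ k) e = e := by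
    by_cases he : e = 1
    · exact ⟨1, one_pos, by omega, by rw [he, map_one]⟩
    · exact exists_fix hexp hT hTY hYodd he hTe hfix'
  have hTi : T⁻¹ = T := inv_eq_of_mul_eq_one_right hT
  have hTZ : T * Y ^ k * T = (Y ^ k)⁻¹ := by
    calc T * Y ^ k * T = T * Y ^ k * T⁻¹ := by rw [hTi]
      _ = (T * Y * T⁻¹) ^ k := conj_pow.symm
      _ = (Y ^ k)⁻¹ := by rw [hTi, hTY, inv_pow]
  have hZdvd : orderOf (Y ^ k) ∣ orderOf y := (orderOf_pow_dvd k).trans hYdvd
  have hZ : Y ^ k = 1 := eq_one_of_fix hp2 hexp hT hTZ (hodd.of_dvd_nat hZdvd)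
    (hcop.coprime_dvd_left hZdvd) hke hfix'
  refine ⟨k, hk0, hk1, fun x hx => ?_⟩
  have hyk : y ^ k ∈ normalizer (P : Set G) := pow_mem hyN k
  have htriv : ∀ (a : ↥(normalizer (P : Set G))), φ a = 1 → ∀ w ∈ P,
      (a : G) * w * (a : G)⁻¹ * w⁻¹ ∈ (frattini P).map P.subtype := by
    intro a ha w hw
    have hm : (a : G) * w * (a : G)⁻¹ ∈ P := (mem_normalizer_iff.1 a.2 w).1 hw
    have h1 := congrArg (fun f : MulAut (P ⧸ frattini P) => f (QuotientGroup.mk ⟨w, hw⟩)) ha
    simp only [hφ a ⟨w, hw⟩ hm, MulAut.one_apply] at h1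
    rw [QuotientGroup.eq] at h1
    have h2 := (inferInstance : (frattini P).Normal).conj_mem _ (inv_mem h1) ⟨w, hw⟩
    refine ⟨_, h2, ?_⟩
    simp only [Subgroup.coe_subtype, Subgroup.coe_mul, Subgroup.coe_inv, mul_inv_rev, inv_inv]
    group
  have hker : φ ⟨y ^ k, hyk⟩ = 1 := by
    rw [show (⟨y ^ k, hyk⟩ : ↥(normalizer (P : Set G))) = ⟨y, hyN⟩ ^ k from rfl, map_pow, ← hYdef, hZ]
  obtain ⟨j, hj⟩ := IsPGroup.iff_card.1 (hP.to_subgroup (frattini P))
  have hle := Coprime.le_centralizer_of_frattini (A := zpowers (y ^ k)) (K := P) (zpowers_le.2 hyk)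
    (by
      rw [hj, Nat.card_zpowers]
      exact (hcop.coprime_dvd_left (orderOf_pow_dvd k)).pow_right j)
    (by
      intro a ha w hw
      obtain ⟨n, rfl⟩ := mem_zpowers_iff.1 ha
      exact htriv (⟨y ^ k, hyk⟩ ^ n) (by rw [map_zpow, hker, one_zpow]) w hw)
  exact (mem_centralizer_iff.1 (hle (mem_zpowers _)) x hx).symm

end Cfsg.Agent.GW.PowBound
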