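import Cfsg.Agent.Lib.GW.BenderFourWrap
import Cfsg.Agent.Lib.GW.StableLinear.Input

/-!
# The pure case with a dihedral Sylow 2-subgroup of order eight

Either every class of three-cycles is central, or some odd core is centralized by one reflection
and inverted by the next.  If only one of the two four-groups has such a core, the fixed points
are in a ratio of at least three and the character bound applies.  If both have one, an element of
the core centralizing the Sylow subgroup would centralize and move the same core.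
-/

set_option autoImplicit false
set_option linter.style.haveILetI false
set_option linter.unusedSectionVars false

namespace Cfsg.Agent.GW.Bender

open Subgroup Cfsg.Agent.Involutions
open scoped commutatorElement

universe u

variable {G : Type u} [Group G] [Finite G]

namespace Data

variable (d : Data G)

/-- The rotation by one step. -/
abbrev turn : G := ((d.e.symm (DihedralGroup.r 1) : (d.S : Subgroup G)) : G)

theorem turn_mem : d.turn ∈ (d.S : Subgroup G) := SetLike.coe_mem _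

theorem u_mul_u_succ (i : ZMod d.m) : d.u i * d.u (i + 1) = d.turn := by
  rw [u, u, DihedralSylow.refl, DihedralSylow.refl, ← Subgroup.coe_mul, ← map_mul,
    DihedralGroup.sr_mul_sr, add_sub_cancel_left]

theorem u_add_two (h4 : d.m = 4) (i : ZMod d.m) : d.u (i + 2) = d.t * d.u i := by
  have key : ∀ n, n = 4 → ∀ i : ZMod n, (DihedralGroup.sr (i + 2) : DihedralGroup n) =
      DihedralGroup.r (DihedralEmbedding.half n) * DihedralGroup.sr i := by
    rintro n rfl i; revert i; decide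
  show ((d.e.symm (DihedralGroup.sr (i + 2)) : (d.S : Subgroup G)) : G) = _
  rw [key _ h4 i, map_mul, Subgroup.coe_mul]
  rfl

theorem turn_sq (h4 : d.m = 4) : d.turn * d.turn = d.t := by
  have key : ∀ n, n = 4 → (DihedralGroup.r 1 * DihedralGroup.r 1 : DihedralGroup n) =
      DihedralGroup.r (DihedralEmbedding.half n) := by
    rintro n rfl; decide
  rw [turn, ← Subgroup.coe_mul, ← map_mul, key _ h4]
  rfl

theorem turn_conj_u (h4 : d.m = 4) (i : ZMod d.m) :
    d.turn * d.u i * d.turn⁻¹ = d.t * d.u i := by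
  have key : ∀ n, n = 4 → ∀ i : ZMod n,
      (DihedralGroup.r 1 * DihedralGroup.sr i * (DihedralGroup.r 1)⁻¹ : DihedralGroup n) =
        DihedralGroup.r (DihedralEmbedding.half n) * DihedralGroup.sr i := by
    rintro n rfl i; revert i; decide
  have := congrArg (fun z => ((d.e.symm z : (d.S : Subgroup G)) : G)) (key _ h4 i)
  simp only [map_mul, map_inv, Subgroup.coe_mul, Subgroup.coe_inv] at this
  exact this

theorem commute_t_of_mem_O {x : G} (hx : x ∈ d.O) : Commute d.t x :=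
  (mem_centralizer_singleton_iff.1 (d.O_le hx) : Commute x d.t).symm

theorem turn_sq_commute (h4 : d.m = 4) {x : G} (hx : x ∈ d.O) :
    Commute (d.turn * d.turn) x := (d.turn_sq h4).symm ▸ d.commute_t_of_mem_O hx

/-- Conjugation by the rotation preserves the fixed points of a reflection. -/
theorem turn_mem_A (h4 : d.m = 4) {i : ZMod d.m} {x : G} (hx : x ∈ d.A i) :
    d.turn * x * d.turn⁻¹ ∈ d.A i := by
  have hO : d.turn * x * d.turn⁻¹ ∈ d.O :=
    (mem_normalizer_iff.1 (d.H_le_normalizer_O (d.S_le d.turn_mem)) x).1 hx.1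
  refine ⟨hO, mem_centralizer_singleton_iff.2 ?_⟩
  have h1 : Commute (d.turn * x * d.turn⁻¹) (d.t * d.u i) := by
    rw [← d.turn_conj_u h4 i]
    exact (Commute.conj_iff d.turn).2 (mem_centralizer_singleton_iff.1 hx.2)
  have h2 := (d.commute_t_of_mem_O hO).symm.mul_right h1
  rwa [← mul_assoc, d.t_sq, one_mul] at h2

/-- An element commuting with the rotation and one reflection commutes with the Sylow subgroup. -/
theorem commute_of_turn (h4 : d.m = 4) (i : ZMod d.m) {a : G} (ha : Commute a (d.u i))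
    (hσ : Commute a d.turn) : ∀ s ∈ (d.S : Subgroup G), a * s = s * a := by
  intro s hs
  obtain ⟨l, hl | hl⟩ := (d.dihSylow_of_four h4 i).cases s hs
  · rw [hl]; exact (hσ.pow_right l).eq
  · rw [hl]; exact ((hσ.pow_right l).mul_right ha).eq

/-- Half of the commutator corrects an element of the core to a fixed point. -/
theorem exists_half_commutator {s x : G} (hs : s ∈ (d.S : Subgroup G)) (hx : x ∈ d.O)
    (hss : Commute (s * s) x) :
    ∃ b ∈ zpowers (x * s * x⁻¹ * s⁻¹), b ∈ d.O ∧ Commute (b⁻¹ * x) s := by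
  set c := x * s * x⁻¹ * s⁻¹ with hc
  have hcO : c ∈ d.O := by
    rw [hc, show x * s * x⁻¹ * s⁻¹ = x * (s * x⁻¹ * s⁻¹) by group]
    exact mul_mem hx ((mem_normalizer_iff.1 (d.H_le_normalizer_O (d.S_le hs)) _).1 (inv_mem hx))
  obtain ⟨k, hk⟩ := d.orderOf_odd hcO
  set b := c ^ (k + 1) with hb
  have hbb : b * b = c := by
    rw [hb, ← pow_add, show k + 1 + (k + 1) = orderOf c + 1 by omega, pow_succ, pow_orderOf_eq_one,
      one_mul]
  have hsc : s * c * s⁻¹ = c⁻¹ := by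
    calc s * c * s⁻¹ = s * x * s⁻¹ * ((s * s) * x⁻¹ * (s * s)⁻¹) := by rw [hc]; group
      _ = s * x * s⁻¹ * x⁻¹ := by rw [hss.inv_right.eq, mul_inv_cancel_right]
      _ = c⁻¹ := by rw [hc]; group
  have hsb : s * b * s⁻¹ = b⁻¹ := by rw [hb, ← conj_pow, hsc, inv_pow]
  have hsx : s * x * s⁻¹ = (b * b)⁻¹ * x := by rw [hbb, hc]; group
  refine ⟨b, pow_mem (mem_zpowers _) _, pow_mem hcO _, ?_⟩
  have h1 : s * (b⁻¹ * x) * s⁻¹ = b⁻¹ * x := by
    calc s * (b⁻¹ * x) * s⁻¹ = (s * b * s⁻¹)⁻¹ * (s * x * s⁻¹) := by group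
      _ = b⁻¹ * x := by rw [hsb, hsx]; group
  exact (mul_inv_eq_iff_eq_mul.1 h1).symm

/-- The commutator of a fixed point with the rotation is a fixed point. -/
theorem commutator_mem_A (h4 : d.m = 4) {i : ZMod d.m} {a : G} (ha : a ∈ d.A i) :
    a * d.turn * a⁻¹ * d.turn⁻¹ ∈ d.A i := by
  rw [show a * d.turn * a⁻¹ * d.turn⁻¹ = a * (d.turn * a⁻¹ * d.turn⁻¹) by group]
  exact mul_mem ha (d.turn_mem_A h4 (inv_mem ha))

/-- A core centralized by a reflection and inverted by the next. -/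
structure SplitCore (i : ZMod d.m) (p : ℕ) : Prop where
  prime : p.Prime
  ne_two : p ≠ 2
  ne_bot : d.P p ≠ ⊥
  cent : ∀ x ∈ d.P p, d.u i * x * (d.u i)⁻¹ = x
  inv : ∀ x ∈ d.P p, d.u (i + 1) * x * (d.u (i + 1))⁻¹ = x⁻¹

/-- Either all fixed points of a reflection commute with the Sylow subgroup, or a core is split. -/
theorem fixed_or_split (hp : d.Pure) (h4 : d.m = 4) (i : ZMod d.m) :
    (∀ a ∈ d.A i, ∀ s ∈ (d.S : Subgroup G), a * s = s * a) ∨ ∃ p, d.SplitCore i p := by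
  by_cases hall : ∀ a ∈ d.A i, Commute a d.turn
  · exact Or.inl fun a ha => d.commute_of_turn h4 i (mem_centralizer_singleton_iff.1 ha.2) (hall a ha)
  push Not at hall
  obtain ⟨a, ha, hna⟩ := hall
  right
  set c := a * d.turn * a⁻¹ * d.turn⁻¹ with hc
  obtain ⟨hcO, hcF⟩ := d.commutator_mem_fitting hp ha.1 d.turn_mem
  have hc1 : c ≠ 1 := fun e => hna (by
    rw [hc, mul_inv_eq_one, mul_inv_eq_iff_eq_mul] at e
    exact e)
  have hcA : c ∈ d.A i := d.commutator_mem_A h4 ha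
  have hsc : d.turn * c * d.turn⁻¹ = c⁻¹ := by
    calc d.turn * c * d.turn⁻¹ =
        d.turn * a * d.turn⁻¹ * ((d.turn * d.turn) * a⁻¹ * (d.turn * d.turn)⁻¹) := by rw [hc]; group
      _ = d.turn * a * d.turn⁻¹ * a⁻¹ := by
          rw [(d.turn_sq_commute h4 ha.1).inv_right.eq, mul_inv_cancel_right]
      _ = c⁻¹ := by rw [hc]; group
  obtain ⟨r, hr, hrd⟩ := Nat.exists_prime_and_dvd (mt orderOf_eq_one_iff.1 hc1)
  haveI : Fact r.Prime := ⟨hr⟩
  have hr2 : r ≠ 2 := fun e => by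
    subst e
    exact Nat.not_even_iff_odd.2 (d.orderOf_odd hcO) (even_iff_two_dvd.2 hrd)
  set z := c ^ (orderOf c / r) with hz
  have hzo : orderOf z = r := by rw [hz, orderOf_pow_orderOf_div (orderOf_pos c).ne' hrd]
  have hz1 : z ≠ 1 := fun e => by rw [e, orderOf_one] at hzo; exact hr.one_lt.ne hzo
  have hzP : z ∈ d.P r := d.mem_P_of_fitting (x := ⟨c, d.O_le hcO⟩ ^ (orderOf c / r)) (k := 1)
    (pow_mem hcF _) (by rw [← Subgroup.orderOf_coe, SubmonoidClass.coe_pow, ← hz, hzo, pow_one])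
  have hzodd : Odd (orderOf z) := by rw [hzo]; exact hr.odd_of_ne_two hr2
  have hzσ : d.turn * z * d.turn⁻¹ = z⁻¹ := by rw [hz, ← conj_pow, hsc, inv_pow]
  have hzu : d.u i * z * (d.u i)⁻¹ = z :=
    mul_inv_eq_iff_eq_mul.2 (mem_centralizer_singleton_iff.1 (pow_mem hcA _ : z ∈ d.A i).2).symm
  have hu : ∀ x ∈ d.P r, d.u i * x * (d.u i)⁻¹ = x := by
    rcases d.scalar_refl hp i hr hr2 with h | h
    · exact h
    · exact absurd (eq_one_of_odd hzodd (hzu.symm.trans (h z hzP))) hz1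
  refine ⟨r, hr, hr2, fun e => hz1 (mem_bot.1 (e ▸ hzP)), hu, ?_⟩
  rcases d.scalar_refl hp (i + 1) hr hr2 with h | h
  · refine absurd (eq_one_of_odd hzodd ?_) hz1
    rw [← d.u_mul_u_succ i, show d.u i * d.u (i + 1) * z * (d.u i * d.u (i + 1))⁻¹ =
      d.u i * (d.u (i + 1) * z * (d.u (i + 1))⁻¹) * (d.u i)⁻¹ by group, h z hzP, hzu] at hzσ
    exact hzσ
  · exact h

variable {d} {i : ZMod d.m} {p : ℕ}

theorem SplitCore.le_A (f : d.SplitCore i p) : d.P p ≤ d.A i := fun x hx => by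
  haveI : Fact p.Prime := ⟨f.prime⟩
  exact ⟨d.P_le_O f.ne_two hx,
    mem_centralizer_singleton_iff.2 (mul_inv_eq_iff_eq_mul.1 (f.cent x hx)).symm⟩

theorem SplitCore.commute_P (f : d.SplitCore i p) {x y : G} (hx : x ∈ d.P p) (hy : y ∈ d.P p) :
    Commute x y := by
  have h1 : (x * y)⁻¹ = x⁻¹ * y⁻¹ := by
    rw [← f.inv _ (mul_mem hx hy), ← f.inv x hx, ← f.inv y hy]; group
  rw [mul_inv_rev] at h1
  have := congrArg (fun z : G => z⁻¹) h1
  simp only [mul_inv_rev, inv_inv] at this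
  exact this

/-- An element of a split core fixed by the next reflection is trivial. -/
theorem SplitCore.eq_one (f : d.SplitCore i p) {x : G} (hx : x ∈ d.P p)
    (hv : Commute x (d.u (i + 1))) : x = 1 := by
  haveI : Fact p.Prime := ⟨f.prime⟩
  refine eq_one_of_odd (d.orderOf_odd (d.P_le_O f.ne_two hx)) ?_
  rw [← f.inv x hx, ← hv.eq, mul_inv_cancel_right]

/-- The elements of the core are fixed points up to centralizers of a split core. -/
theorem SplitCore.exists_decomp (f : d.SplitCore i p) {x : G} (hx : x ∈ d.O) :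
    ∃ b, (∀ y ∈ d.P p, b * y = y * b) ∧ b⁻¹ * x ∈ d.A i := by
  obtain ⟨b, hb, hbO, hbu⟩ := d.exists_half_commutator (d.u_mem i) hx
    (by rw [d.u_sq]; exact Commute.one_left _)
  refine ⟨b, fun y hy => ?_, (mul_mem (inv_mem hbO) hx : b⁻¹ * x ∈ d.O), mem_centralizer_singleton_iff.2 hbu⟩
  have hc : x * d.u i * x⁻¹ * (d.u i)⁻¹ ∈ centralizer (d.P p : Set G) := by
    refine mem_centralizer_iff.2 fun w hw => (mul_inv_eq_iff_eq_mul.1 ?_).symm
    have h1 : (d.u i)⁻¹ * w * d.u i = w := by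
      conv_lhs => rw [← f.cent w hw]
      group
    have h2 : x⁻¹ * w * x ∈ d.P p := by
      have := d.conj_mem_P (inv_mem (d.O_le hx)) hw
      rwa [inv_inv] at this
    calc x * d.u i * x⁻¹ * (d.u i)⁻¹ * w * (x * d.u i * x⁻¹ * (d.u i)⁻¹)⁻¹
        = x * (d.u i * (x⁻¹ * ((d.u i)⁻¹ * w * d.u i) * x) * (d.u i)⁻¹) * x⁻¹ := by group
      _ = w := by rw [h1, f.cent _ h2]; group
  exact (mem_centralizer_iff.1 (zpowers_le.2 hc hb) y hy).symm

/-- A subgroup of a split core normalized by the fixed points is normalized by `H`. -/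
theorem SplitCore.H_le_normalizer (f : d.SplitCore i p) (hp : d.Pure) {K : Subgroup G}
    (hK : K ≤ d.P p) (hA : d.A i ≤ normalizer (K : Set G)) : d.H ≤ normalizer (K : Set G) := by
  intro h hh
  obtain ⟨o, ho, s, hs, rfl⟩ := d.exists_mul hh
  refine mem_normalizer_fintype fun y hy => ?_
  have hsy : s * y * s⁻¹ ∈ K := by
    rcases d.scalar_mem hp hs f.prime f.ne_two with e | e
    · rw [e y (hK hy)]; exact hy
    · rw [e y (hK hy)]; exact inv_mem hy
  obtain ⟨b, hb, hbo⟩ := f.exists_decomp ho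
  have h1 : b⁻¹ * o * (s * y * s⁻¹) * (b⁻¹ * o)⁻¹ ∈ K :=
    (mem_normalizer_iff.1 (hA hbo) _).1 hsy
  have h2 : o * s * y * (o * s)⁻¹ = b * (b⁻¹ * o * (s * y * s⁻¹) * (b⁻¹ * o)⁻¹) * b⁻¹ := by group
  rw [h2, hb _ (hK h1), mul_inv_cancel_right]
  exact h1

end Data

namespace Setting

variable (d : Setting G) [IsSimpleGroup G]

/-- A split core meets its conjugate under an element moving `t` to the reflection trivially. -/
theorem eq_one_of_mem_conj (hp : d.Pure) (h4 : d.m = 4) {i : ZMod d.m} {p : ℕ}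
    (f : d.SplitCore i p) {h : G} (ht : h * d.t * h⁻¹ = d.u i)
    (hA : ∀ x ∈ d.A i, h⁻¹ * x * h ∈ d.A i) {x : G} (hx : x ∈ d.P p) (hxh : h⁻¹ * x * h ∈ d.P p) :
    x = 1 := by
  set K := d.P p ⊓ (d.P p).map (MulAut.conj h).toMonoidHom with hK
  set K' := K.map (MulAut.conj h⁻¹).toMonoidHom with hK'
  have hnP : d.A i ≤ normalizer (d.P p : Set G) :=
    inf_le_left.trans (d.O_le.trans (d.H_le_normalizer_P p))
  have hnP' : d.A i ≤ normalizer ((d.P p).map (MulAut.conj h).toMonoidHom : Set G) := by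
    refine fun a ha => mem_normalizer_fintype ?_
    rintro _ ⟨y, hy, rfl⟩
    refine ⟨h⁻¹ * a * h * y * (h⁻¹ * a * h)⁻¹, d.conj_mem_P (d.O_le (hA a ha).1) hy, ?_⟩
    simp only [MulEquiv.coe_toMonoidHom, MulAut.conj_apply]
    group
  have hK'P : K' ≤ d.P p := by
    rintro _ ⟨y, ⟨-, z, hz, rfl⟩, rfl⟩
    simp only [MulEquiv.coe_toMonoidHom, MulAut.conj_apply]
    rwa [show h⁻¹ * (h * z * h⁻¹) * h⁻¹⁻¹ = z by group]
  have hnK : d.A i ≤ normalizer (K : Set G) :=
    (le_inf hnP hnP').trans inf_normalizer_le_normalizer_inf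
  by_contra hx1
  have hxK : x ∈ K := ⟨hx, ⟨h⁻¹ * x * h, hxh, by
    simp only [MulEquiv.coe_toMonoidHom, MulAut.conj_apply]; group⟩⟩
  have hK1 : K ≠ ⊥ := fun e => hx1 (mem_bot.1 (e ▸ hxK))
  have hNK := d.normalizer_eq (inf_le_left.trans (d.P_le p))
    (f.H_le_normalizer hp inf_le_left hnK) hK1
  -- the conjugate rotation normalizes `K` and fixes the reflection
  set g := h⁻¹ * d.turn * h with hg
  have hgH : g * d.t * g⁻¹ ≠ d.t := fun e => by
    have h1 : d.turn * d.u i * d.turn⁻¹ = d.u i := by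
      rw [← ht]
      calc d.turn * (h * d.t * h⁻¹) * d.turn⁻¹ = h * (g * d.t * g⁻¹) * h⁻¹ := by rw [hg]; group
        _ = h * d.t * h⁻¹ := by rw [e]
    rw [d.turn_conj_u h4] at h1
    have := mul_right_cancel (h1.trans (one_mul _).symm)
    exact Involutions.Basic.ne_one d.t_order this
  have hturn : d.turn ∈ normalizer (K : Set G) := hNK.symm ▸ d.S_le d.turn_mem
  have hgK' : g ∈ normalizer (K' : Set G) := by
    refine mem_normalizer_fintype ?_
    rintro _ ⟨y, hy, rfl⟩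
    refine ⟨d.turn * y * d.turn⁻¹, (mem_normalizer_iff.1 hturn y).1 hy, ?_⟩
    simp only [MulEquiv.coe_toMonoidHom, MulAut.conj_apply, hg]
    group
  have hnK' : d.A i ≤ normalizer (K' : Set G) := by
    refine fun a ha => mem_normalizer_fintype ?_
    rintro _ ⟨y, hy, rfl⟩
    have ha' : h * a * h⁻¹ ∈ d.A i := by
      let f' : d.A i → d.A i := fun z => ⟨h⁻¹ * z * h, hA z z.2⟩
      have hf' : Function.Injective f' := fun a b e => Subtype.ext (mul_left_cancel
        (mul_right_cancel (congrArg Subtype.val e : h⁻¹ * (a : G) * h = h⁻¹ * b * h)))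
      obtain ⟨z, hz⟩ := Finite.injective_iff_surjective.1 hf' ⟨a, ha⟩
      have hz' : h⁻¹ * (z : G) * h = a := congrArg Subtype.val hz
      rw [← hz', show h * (h⁻¹ * (z : G) * h) * h⁻¹ = z by group]
      exact z.2
    refine ⟨h * a * h⁻¹ * y * (h * a * h⁻¹)⁻¹, (mem_normalizer_iff.1 (hnK ha') y).1 hy, ?_⟩
    simp only [MulEquiv.coe_toMonoidHom, MulAut.conj_apply]
    group
  have hK'1 : K' = ⊥ :=
    d.eq_bot_of_moved (hK'P.trans (d.P_le p)) (f.H_le_normalizer hp hK'P hnK') hgK' hgH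
  exact hK1 ((map_eq_bot_iff_of_injective _ (MulAut.conj h⁻¹).injective).1 hK'1)

/-- Two split cores of opposite signs: the conjugate of the first is faithful on the second. -/
theorem eq_one_of_centralizes_split (hp : d.Pure) {i : ZMod d.m} {p q : ℕ}
    (f : d.SplitCore i p) (hq : q.Prime) (hq2 : q ≠ 2) (hQ : d.P q ≠ ⊥)
    (hQi : ∀ x ∈ d.P q, d.u i * x * (d.u i)⁻¹ = x⁻¹) {g : G} (hg1 : g * d.t * g⁻¹ = d.u i)
    (hg2 : g * d.u i * g⁻¹ = d.t * d.u i) {z : G} (hz : z ∈ d.P p)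
    (hzQ : ∀ x ∈ d.P q, g * z * g⁻¹ * x = x * (g * z * g⁻¹)) : z = 1 := by
  haveI : Fact q.Prime := ⟨hq⟩
  set K := d.P p ⊓ (centralizer (d.P q : Set G)).comap (MulAut.conj g).toMonoidHom with hK
  have hnA : d.A i ≤ normalizer (K : Set G) := fun a ha => mem_normalizer_fintype fun y hy =>
    ⟨d.conj_mem_P (d.O_le ha.1) hy.1, by
      show g * (a * y * a⁻¹) * g⁻¹ ∈ centralizer (d.P q : Set G)
      have ha' := d.rho_mem_A hg1 hg2 ha
      refine mem_centralizer_iff.2 fun w hw => ?_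
      have hw' : (g * a * g⁻¹)⁻¹ * w * (g * a * g⁻¹) ∈ d.P q := by
        have := d.conj_mem_P (inv_mem (d.O_le ha'.1)) hw
        rwa [inv_inv] at this
      have hy' : Commute (g * y * g⁻¹) ((g * a * g⁻¹)⁻¹ * w * (g * a * g⁻¹)) :=
        (mem_centralizer_iff.1 (show g * y * g⁻¹ ∈ centralizer (d.P q : Set G) from hy.2) _ hw').symm
      have := (Commute.conj_iff (g * a * g⁻¹)).2 hy'
      rw [show g * a * g⁻¹ * ((g * a * g⁻¹)⁻¹ * w * (g * a * g⁻¹)) * (g * a * g⁻¹)⁻¹ = w by group,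
        show g * a * g⁻¹ * (g * y * g⁻¹) * (g * a * g⁻¹)⁻¹ = g * (a * y * a⁻¹) * g⁻¹ by group] at this
      exact this.eq.symm⟩
  by_contra hz1
  have hzK : z ∈ K := ⟨hz, mem_centralizer_iff.2 fun x hx => (hzQ x hx).symm⟩
  have hK1 : K ≠ ⊥ := fun e => hz1 (mem_bot.1 (e ▸ hzK))
  have hN := d.normalizer_eq (inf_le_left.trans (d.P_le p))
    (f.H_le_normalizer hp inf_le_left hnA) hK1
  obtain ⟨x, hx, hx1⟩ := (Subgroup.bot_or_exists_ne_one _).resolve_left hQ
  have hxN : g⁻¹ * x * g ∈ normalizer (K : Set G) := by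
    refine centralizer_le_normalizer _ (mem_centralizer_iff.2 fun y hy => ?_)
    have h1 : x * (g * y * g⁻¹) = g * y * g⁻¹ * x := mem_centralizer_iff.1 hy.2 x hx
    calc y * (g⁻¹ * x * g) = g⁻¹ * (g * y * g⁻¹ * x) * g := by group
      _ = g⁻¹ * x * g * y := by rw [← h1]; group
  rw [hN] at hxN
  refine hx1 (Data.eq_one_of_odd (d.orderOf_odd (d.P_le_O hq2 hx)) ?_)
  rw [← hQi x hx]
  have h2 : Commute (g⁻¹ * x * g) d.t := mem_centralizer_singleton_iff.1 hxN
  have h3 := (Commute.conj_iff g).2 h2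
  rw [hg1, show g * (g⁻¹ * x * g) * g⁻¹ = x by group] at h3
  exact (mul_inv_eq_iff_eq_mul.2 h3.eq.symm).symm

/-- Half commutators: from a conjugate of a split core into the core centralizing `S`. -/
theorem exists_fixed_of_conj (hp : d.Pure) (h4 : d.m = 4) {i : ZMod d.m} {p : ℕ}
    (f : d.SplitCore i p) {g : G} (hg1 : g * d.t * g⁻¹ = d.u i)
    (hg2 : g * d.u i * g⁻¹ = d.t * d.u i) {z : G} (hz : z ∈ d.P p) :
    g * z * g⁻¹ * d.turn * (g * z * g⁻¹)⁻¹ * d.turn⁻¹ ∈ d.P p ∧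
    ∃ b ∈ d.P p, b⁻¹ * (g * z * g⁻¹) ∈ d.O ∧
      (∀ s ∈ (d.S : Subgroup G), b⁻¹ * (g * z * g⁻¹) * s = s * (b⁻¹ * (g * z * g⁻¹))) ∧
      ∀ x ∈ d.P p, b⁻¹ * (g * z * g⁻¹) * x = x * (b⁻¹ * (g * z * g⁻¹)) := by
  haveI : Fact p.Prime := ⟨f.prime⟩
  set y := g * z * g⁻¹ with hy
  set c := y * d.turn * y⁻¹ * d.turn⁻¹ with hc
  have hyA : y ∈ d.A i := d.rho_mem_A hg1 hg2 (f.le_A hz)
  have hgA : ∀ x ∈ d.A i, g⁻¹ * x * g ∈ d.A i := fun x hx => by
    have := (mem_normalizer_iff.1 (inv_mem (d.rho_normalizes_A hg1 hg2)) x).1 hx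
    rwa [inv_inv] at this
  -- the conjugate commutes with the core
  have hcomm : ∀ x ∈ d.P p, Commute y x := fun x hx => by
    have e1 : y * x * y⁻¹ * x⁻¹ ∈ d.P p :=
      mul_mem (d.conj_mem_P (d.O_le hyA.1) hx) (inv_mem hx)
    have e2 : g⁻¹ * (y * x * y⁻¹ * x⁻¹) * g ∈ d.P p := by
      rw [show g⁻¹ * (y * x * y⁻¹ * x⁻¹) * g =
        z * ((g⁻¹ * x * g) * z⁻¹ * (g⁻¹ * x * g)⁻¹) by rw [hy]; group]
      exact mul_mem hz (d.conj_mem_P (d.O_le (hgA x (f.le_A hx)).1) (inv_mem hz))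
    have := d.eq_one_of_mem_conj hp h4 f hg1 hgA e1 e2
    exact mul_inv_eq_iff_eq_mul.1 (mul_inv_eq_one.1 this)
  -- the commutator with the rotation is a `p`-element
  obtain ⟨hcO, hcF⟩ := d.commutator_mem_fitting hp hyA.1 d.turn_mem
  have hcP : c ∈ d.P p := by
    set P' := (d.P p).map (MulAut.conj g).toMonoidHom
    set P'' := (d.P p).map (MulAut.conj (d.turn * g)).toMonoidHom
    have hyP' : y ∈ P' := ⟨z, hz, rfl⟩
    have hP''A : P'' ≤ d.A i := by
      rintro _ ⟨w, hw, rfl⟩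
      simp only [MulEquiv.coe_toMonoidHom, MulAut.conj_apply]
      rw [show d.turn * g * w * (d.turn * g)⁻¹ = d.turn * (g * w * g⁻¹) * d.turn⁻¹ by group]
      exact d.turn_mem_A h4 (d.rho_mem_A hg1 hg2 (f.le_A hw))
    have hn : P'' ≤ normalizer (P' : Set G) := fun a ha => by
      refine mem_normalizer_fintype ?_
      rintro _ ⟨w, hw, rfl⟩
      refine ⟨g⁻¹ * a * g * w * (g⁻¹ * a * g)⁻¹,
        d.conj_mem_P (d.O_le (hgA a (hP''A ha)).1) hw, ?_⟩
      simp only [MulEquiv.coe_toMonoidHom, MulAut.conj_apply]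
      group
    have hW : IsPGroup p ↥(P' ⊔ P'') :=
      ((d.P_isPGroup p).map _).to_sup_of_normal_left' ((d.P_isPGroup p).map _) hn
    have hcW : c ∈ P' ⊔ P'' := by
      rw [hc, show y * d.turn * y⁻¹ * d.turn⁻¹ = y * (d.turn * y⁻¹ * d.turn⁻¹) by group]
      refine mul_mem (mem_sup_left hyP') (mem_sup_right ⟨z⁻¹, inv_mem hz, ?_⟩)
      simp only [MulEquiv.coe_toMonoidHom, MulAut.conj_apply, hy]
      group
    obtain ⟨k, hk⟩ := IsPGroup.iff_orderOf.1 hW ⟨c, hcW⟩
    rw [Subgroup.orderOf_mk] at hk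
    exact d.mem_P_of_fitting (x := ⟨c, d.O_le hcO⟩) hcF (k := k) (by rw [Subgroup.orderOf_mk, hk])
  obtain ⟨b, hbc, hbO, hbσ⟩ := d.exists_half_commutator d.turn_mem hyA.1
    (d.turn_sq_commute h4 hyA.1)
  have hbP : b ∈ d.P p := zpowers_le.2 hcP hbc
  refine ⟨hcP, b, hbP, mul_mem (inv_mem hbO) hyA.1, d.commute_of_turn h4 i ?_ hbσ, fun x hx => ?_⟩
  · exact mem_centralizer_singleton_iff.1 (mul_mem (inv_mem (f.le_A hbP)) hyA).2
  · exact (((f.commute_P hbP hx).inv_left).mul_left (hcomm x hx)).eq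

/-- Split cores of opposite signs cannot both occur. -/
theorem false_of_split_pair (hp : d.Pure) (h4 : d.m = 4) {i : ZMod d.m} {p q : ℕ}
    (f : d.SplitCore i p) (f' : d.SplitCore (i + 1) q) : False := by
  haveI : Fact p.Prime := ⟨f.prime⟩
  haveI : Fact q.Prime := ⟨f'.prime⟩
  have hQi : ∀ x ∈ d.P q, d.u i * x * (d.u i)⁻¹ = x⁻¹ := fun x hx => by
    have h1 := f'.inv x hx
    rw [add_assoc, show (1 : ZMod d.m) + 1 = 2 by norm_num, d.u_add_two h4] at h1
    have hO : d.u i * x * (d.u i)⁻¹ ∈ d.O := (mem_normalizer_iff.1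
      (d.H_le_normalizer_O (d.u_mem_H i)) x).1 (d.P_le_O f'.ne_two hx)
    rw [← h1, show d.t * d.u i * x * (d.t * d.u i)⁻¹ = d.t * (d.u i * x * (d.u i)⁻¹) * d.t⁻¹ by
      group, (d.commute_t_of_mem_O hO).eq, mul_inv_cancel_right]
  obtain ⟨g, hg1, hg2⟩ := d.rho i
  obtain ⟨g', hg1', hg2'⟩ := d.rho (i + 1)
  -- an element centralizing `S` and `P q` that moves `P p`
  obtain ⟨z', hz', hz'1⟩ := (Subgroup.bot_or_exists_ne_one _).resolve_left f'.ne_bot
  obtain ⟨-, b', hb', ha'O, ha'S, ha'Q⟩ := d.exists_fixed_of_conj hp h4 f' hg1' hg2' hz'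
  set a := b'⁻¹ * (g' * z' * g'⁻¹) with ha
  have hmove : ¬ ∀ x ∈ d.P p, a * x = x * a := fun hall => hz'1
    (d.eq_one_of_centralizes_split hp f' f.prime f.ne_two f.ne_bot f.inv hg1' hg2' hz'
      fun x hx => by
        have hb : Commute b' x := by
          by_cases e : q = p
          · subst e; exact f'.commute_P hb' hx
          · exact d.comm_P e hb' hx
        have h3 := hb.mul_left (hall x hx : Commute a x)
        rwa [ha, mul_inv_cancel_left] at h3)
  have haA : a ∈ d.A i := ⟨ha'O, mem_centralizer_singleton_iff.2 (ha'S _ (d.u_mem i))⟩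
  have haσ : Commute a d.turn := ha'S _ d.turn_mem
  -- it centralizes the conjugate of `P p`
  have hag : ∀ z ∈ d.P p, Commute a (g * z * g⁻¹) := fun z hz => by
    have hg3 : g⁻¹ * a * g ∈ d.A i := by
      have := (mem_normalizer_iff.1 (inv_mem (d.rho_normalizes_A hg1 hg2)) a).1 haA
      rwa [inv_inv] at this
    have hw : z * (g⁻¹ * a * g) * z⁻¹ * (g⁻¹ * a * g)⁻¹ ∈ d.P p := by
      rw [show z * (g⁻¹ * a * g) * z⁻¹ * (g⁻¹ * a * g)⁻¹ =
        z * ((g⁻¹ * a * g) * z⁻¹ * (g⁻¹ * a * g)⁻¹) by group]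
      exact mul_mem hz (d.conj_mem_P (d.O_le hg3.1) (inv_mem hz))
    have h1 := d.eq_one_of_centralizes_split hp f f'.prime f'.ne_two f'.ne_bot hQi hg1 hg2 hw
      fun x hx => by
        have hy : g * z * g⁻¹ ∈ d.H := d.O_le (d.rho_mem_A hg1 hg2 (f.le_A hz)).1
        have hx' : (g * z * g⁻¹)⁻¹ * x * (g * z * g⁻¹) ∈ d.P q := by
          have := d.conj_mem_P (inv_mem hy) hx
          rwa [inv_inv] at this
        have e1 := (Commute.conj_iff (g * z * g⁻¹)).2 (ha'Q _ hx' : Commute a _)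
        rw [show g * z * g⁻¹ * ((g * z * g⁻¹)⁻¹ * x * (g * z * g⁻¹)) * (g * z * g⁻¹)⁻¹ = x by
          group] at e1
        have e2 := e1.mul_left (Commute.inv_left (ha'Q x hx))
        rw [show g * (z * (g⁻¹ * a * g) * z⁻¹ * (g⁻¹ * a * g)⁻¹) * g⁻¹ =
          g * z * g⁻¹ * a * (g * z * g⁻¹)⁻¹ * a⁻¹ by group]
        exact e2.eq
    have h2 := congrArg (fun w => g * w * g⁻¹) h1
    simp only [mul_one, mul_inv_cancel] at h2
    rw [show g * (z * (g⁻¹ * a * g) * z⁻¹ * (g⁻¹ * a * g)⁻¹) * g⁻¹ =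
      g * z * g⁻¹ * a * (g * z * g⁻¹)⁻¹ * a⁻¹ by group, mul_inv_eq_one, mul_inv_eq_iff_eq_mul] at h2
    exact h2.symm
  -- every element of `P p` is a commutator of the conjugate with the rotation
  let F : d.P p → d.P p := fun z =>
    ⟨_, (d.exists_fixed_of_conj hp h4 f hg1 hg2 z.2).1⟩
  have hσg : d.turn * d.u i * d.turn⁻¹ = d.t * d.u i := d.turn_conj_u h4 i
  have hgA : ∀ x ∈ d.A i, g⁻¹ * x * g ∈ d.A i := fun x hx => by
    have := (mem_normalizer_iff.1 (inv_mem (d.rho_normalizes_A hg1 hg2)) x).1 hx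
    rwa [inv_inv] at this
  have hFi : Function.Injective F := by
    intro z w e
    have e1 := mul_right_cancel (congrArg Subtype.val e : g * (z : G) * g⁻¹ * d.turn *
      (g * z * g⁻¹)⁻¹ * d.turn⁻¹ = g * w * g⁻¹ * d.turn * (g * w * g⁻¹)⁻¹ * d.turn⁻¹)
    set v := (w : G)⁻¹ * z with hv
    have hvσ : g * v * g⁻¹ * d.turn = d.turn * (g * v * g⁻¹) := by
      calc g * v * g⁻¹ * d.turn
          = (g * w * g⁻¹)⁻¹ * (g * z * g⁻¹ * d.turn * (g * z * g⁻¹)⁻¹) * (g * z * g⁻¹) := by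
            rw [hv]; group
        _ = d.turn * (g * v * g⁻¹) := by rw [e1, hv]; group
    have ht : g⁻¹ * d.turn * g * d.t * (g⁻¹ * d.turn * g)⁻¹ = d.u i := by
      calc g⁻¹ * d.turn * g * d.t * (g⁻¹ * d.turn * g)⁻¹
          = g⁻¹ * (d.turn * (g * d.t * g⁻¹) * d.turn⁻¹) * g := by group
        _ = g⁻¹ * (g * d.u i * g⁻¹) * g := by rw [hg1, hσg, hg2]
        _ = d.u i := by group
    have h1 := d.eq_one_of_mem_conj hp h4 f ht (fun x hx => ?_)
      (mul_mem (inv_mem w.2) z.2 : v ∈ d.P p) (by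
        rw [show (g⁻¹ * d.turn * g)⁻¹ * v * (g⁻¹ * d.turn * g) =
          g⁻¹ * (d.turn⁻¹ * (g * v * g⁻¹ * d.turn)) * g by group, hvσ, inv_mul_cancel_left,
          show g⁻¹ * (g * v * g⁻¹) * g = v by group]
        exact mul_mem (inv_mem w.2) z.2)
    · exact Subtype.ext (inv_mul_eq_one.1 h1).symm
    · rw [show (g⁻¹ * d.turn * g)⁻¹ * x * (g⁻¹ * d.turn * g) =
        g⁻¹ * (d.turn⁻¹ * (g * x * g⁻¹) * d.turn) * g by group]
      refine hgA _ ?_
      have hy := d.rho_mem_A hg1 hg2 hx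
      rw [show d.turn⁻¹ * (g * x * g⁻¹) * d.turn = d.turn * (g * x * g⁻¹) * d.turn⁻¹ from ?_]
      · exact d.turn_mem_A h4 hy
      · calc d.turn⁻¹ * (g * x * g⁻¹) * d.turn
            = d.turn * ((d.turn * d.turn)⁻¹ * (g * x * g⁻¹) * (d.turn * d.turn)) * d.turn⁻¹ := by
              group
          _ = _ := by rw [(d.turn_sq_commute h4 hy.1).inv_left.eq, inv_mul_cancel_right]
  refine hmove fun x hx => ?_
  obtain ⟨z, hz⟩ := Finite.injective_iff_surjective.1 hFi ⟨x, hx⟩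
  have hzx : g * (z : G) * g⁻¹ * d.turn * (g * z * g⁻¹)⁻¹ * d.turn⁻¹ = x := congrArg Subtype.val hz
  rw [← hzx]
  exact ((((hag z z.2).mul_right haσ).mul_right (hag z z.2).inv_right).mul_right haσ.inv_right).eq

/-- The pure case with a Sylow 2-subgroup of order eight: no fixed linear character. -/
theorem noFixedLinear_of_pure_four (hp : d.Pure) (h4 : d.m = 4) : d.NoFixedLinear := by
  by_cases hA0 : ∀ a ∈ d.O, (∀ s ∈ (d.S : Subgroup G), a * s = s * a) → a = 1
  · -- the core is generated by commutators with the Sylow subgroup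
    intro x hx
    have hmem : ∀ {s y : G}, s ∈ (d.S : Subgroup G) → y ∈ d.O →
        ∀ {b : G}, b ∈ zpowers (y * s * y⁻¹ * s⁻¹) → b ∈ ⁅d.O, (d.S : Subgroup G)⁆ :=
      fun hs hy _ hb => zpowers_le.2 (by
        rw [← commutatorElement_def]; exact commutator_mem_commutator hy hs) hb
    obtain ⟨b, hb, hbO, hbu⟩ := d.exists_half_commutator (d.u_mem 0) hx
      (by rw [d.u_sq]; exact Commute.one_left _)
    have hy : b⁻¹ * x ∈ d.A 0 := ⟨(mul_mem (inv_mem hbO) hx : b⁻¹ * x ∈ d.O), mem_centralizer_singleton_iff.2 hbu⟩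
    obtain ⟨b', hb', hb'O, hb'σ⟩ := d.exists_half_commutator d.turn_mem hy.1
      (d.turn_sq_commute h4 hy.1)
    have hb'A : b' ∈ d.A 0 := zpowers_le.2 (d.commutator_mem_A h4 hy) hb'
    have h1 : b'⁻¹ * (b⁻¹ * x) = 1 := hA0 _ (mul_mem (inv_mem hb'O) hy.1)
      (d.commute_of_turn h4 0
        (mem_centralizer_singleton_iff.1 (mul_mem (inv_mem hb'A) hy).2) hb'σ)
    refine mem_sup_right ?_
    rw [show x = b * b' by rw [inv_mul_eq_one.1 h1, mul_inv_cancel_left]]
    exact mul_mem (hmem (d.u_mem 0) hx hb) (hmem d.turn_mem hy.1 hb')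
  push Not at hA0
  obtain ⟨a, haO, haS, ha1⟩ := hA0
  refine d.toData.noFixedLinear_of_central_all d.not_commutative fun i => ?_
  rcases d.fixed_or_split hp h4 i with h | ⟨p, f⟩
  · exact d.central_of_rotation (d.conj_t (d.S_le d.turn_mem)) (d.turn_conj_u h4 i)
      fun x hx => (h x hx _ d.turn_mem).symm
  exfalso
  rcases d.fixed_or_split hp h4 (i + 1) with h | ⟨q, f'⟩
  swap
  · exact d.false_of_split_pair hp h4 f f'
  haveI : Fact p.Prime := ⟨f.prime⟩
  refine d.toData.false_of_card_le d.not_commutative h4 i (Or.inl ?_) (d.orderOf_odd haO) ha1 haS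
  let F : d.P p × d.A (i + 1) → d.A i := fun z => ⟨(z.1 : G) * z.2, mul_mem (f.le_A z.1.2)
    ⟨z.2.2.1, mem_centralizer_singleton_iff.2 (h _ z.2.2 _ (d.u_mem i))⟩⟩
  have hF : Function.Injective F := by
    intro z w e
    have e1 : (z.1 : G) * z.2 = w.1 * w.2 := congrArg Subtype.val e
    have h2 : (w.1 : G)⁻¹ * z.1 = w.2 * (z.2 : G)⁻¹ := by
      rw [inv_mul_eq_iff_eq_mul, ← mul_assoc, ← e1, mul_inv_cancel_right]
    have h3 : (w.1 : G)⁻¹ * z.1 = 1 := f.eq_one (mul_mem (inv_mem w.1.2) z.1.2) (by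
      rw [h2]
      exact (mem_centralizer_singleton_iff.1 (mul_mem w.2.2 (inv_mem z.2.2)).2))
    exact Prod.ext (Subtype.ext (inv_mul_eq_one.1 h3).symm)
      (Subtype.ext (mul_inv_eq_one.1 (h2 ▸ h3)).symm)
  have h3 : 3 ≤ Nat.card (d.P p) := by
    obtain ⟨k, hk⟩ := IsPGroup.iff_card.1 (d.P_isPGroup p)
    have hk0 : k ≠ 0 := fun e => f.ne_bot (by rw [e, pow_zero, card_eq_one] at hk; exact hk)
    rw [hk]
    have := f.prime.two_le
    have := f.ne_two
    exact le_trans (show 3 ≤ p by omega) (Nat.le_self_pow hk0 p)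
  have h4' := Nat.card_le_card_of_injective F hF
  rw [Nat.card_prod] at h4'
  exact le_trans (Nat.mul_le_mul_right _ h3) h4'

end Setting

/-- The pure case with a Sylow 2-subgroup of order eight. -/
theorem pureEightInput : PureEightInput.{u} := fun _ _ _ _ d _ h4 hp =>
  d.noFixedLinear_of_pure_four hp h4

end Cfsg.Agent.GW.Bender
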