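import Cfsg.Agent.Lib.GW.PerfectReduction
import Cfsg.Agent.Lib.Components.MaximalPair
import Cfsg.Agent.Lib.Components.Balance
import Cfsg.Agent.Lib.Cores.Fitting

/-!
# The dihedral Sylow theorem: setting for the group-theoretic half

`H` is the centralizer of the central involution, assumed maximal, `O` its odd core, `P p` the
`p`-core of `H`.
-/

set_option autoImplicit false
set_option linter.style.haveILetI false

namespace Cfsg.Agent.GW.Bender

open Subgroup Cfsg.Agent.Involutions

universe u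

variable {G : Type u} [Group G] [Finite G]

/-- A dihedral Sylow 2-subgroup, with elements permuting the involutions of each four-group
cyclically. -/
structure Data (G : Type u) [Group G] [Finite G] where
  S : Sylow 2 G
  m : ℕ
  two_le : 2 ≤ m
  e : (S : Subgroup G) ≃* DihedralGroup m
  rho : ∀ i : ZMod m, ∃ g : G, g * DihedralSylow.z S e * g⁻¹ = DihedralSylow.refl S e i ∧
    g * DihedralSylow.refl S e i * g⁻¹ = DihedralSylow.z S e * DihedralSylow.refl S e i
namespace Data

variable (d : Data G)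

/-- The central involution. -/
abbrev t : G := DihedralSylow.z d.S d.e

/-- The reflections. -/
abbrev u (i : ZMod d.m) : G := DihedralSylow.refl d.S d.e i

/-- The centralizer of the central involution. -/
abbrev H : Subgroup G := centralizer ({d.t} : Set G)

/-- The odd core of `H`. -/
def O : Subgroup G := (Cfsg.oddCore d.H).map d.H.subtype

/-- The `p`-core of `H`. -/
abbrev P (p : ℕ) : Subgroup G := Components.MaximalPair.core p d.H

/-- The fixed points of a reflection on the core. -/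
def A (i : ZMod d.m) : Subgroup G := d.O ⊓ centralizer ({d.u i} : Set G)

/-- The core has no nontrivial linear character fixed by the Sylow 2-subgroup. -/
def NoFixedLinear : Prop := d.O ≤ ⁅d.O, d.O⁆ ⊔ ⁅d.O, (d.S : Subgroup G)⁆

theorem dvd : 2 ∣ d.m := DihedralSylow.two_dvd d.S d.e d.two_le

theorem ne_zero : d.m ≠ 0 := by have := d.two_le; omega

theorem t_order : orderOf d.t = 2 := DihedralSylow.orderOf_z d.S d.e d.dvd d.ne_zero

theorem t_sq : d.t * d.t = 1 := by rw [← sq, ← d.t_order, pow_orderOf_eq_one]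

theorem t_mem : d.t ∈ (d.S : Subgroup G) := SetLike.coe_mem _

theorem u_mem (i : ZMod d.m) : d.u i ∈ (d.S : Subgroup G) := SetLike.coe_mem _

theorem u_order (i : ZMod d.m) : orderOf (d.u i) = 2 := by
  rw [u, DihedralSylow.refl, Subgroup.orderOf_coe, MulEquiv.orderOf_eq, DihedralGroup.orderOf_sr]

theorem u_sq (i : ZMod d.m) : d.u i * d.u i = 1 := by rw [← sq, ← d.u_order i, pow_orderOf_eq_one]

theorem u_inv (i : ZMod d.m) : (d.u i)⁻¹ = d.u i := inv_eq_of_mul_eq_one_right (d.u_sq i)

theorem t_inv : d.t⁻¹ = d.t := inv_eq_of_mul_eq_one_right d.t_sq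

theorem u_ne_t (i : ZMod d.m) : d.u i ≠ d.t := fun h => by
  have := d.e.symm.injective (Subtype.ext h :
    d.e.symm (DihedralGroup.sr i) = d.e.symm (DihedralGroup.r _))
  cases this

theorem S_le : (d.S : Subgroup G) ≤ d.H := fun s hs =>
  mem_centralizer_singleton_iff.2 (mul_inv_eq_iff_eq_mul.1 (DihedralSylow.z_conj d.S d.e d.dvd hs))

theorem t_mem_H : d.t ∈ d.H := d.S_le d.t_mem

theorem u_mem_H (i : ZMod d.m) : d.u i ∈ d.H := d.S_le (d.u_mem i)

theorem conj_t {h : G} (hh : h ∈ d.H) : h * d.t * h⁻¹ = d.t :=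
  mul_inv_eq_iff_eq_mul.2 (mem_centralizer_singleton_iff.1 hh)

theorem solvable_H : Group.IsSolvable d.H :=
  PerfectReduction.isSolvable_centralizer d.S d.e d.two_le d.t_order

theorem O_le : d.O ≤ d.H := map_subtype_le _

theorem H_le_normalizer_O : d.H ≤ normalizer (d.O : Set G) := by
  haveI : (Cfsg.oddCore d.H).Normal := Cores.pPrimeCore_normal 2
  exact Components.MaximalPair.le_normalizer_map_of_normal d.H (Cfsg.oddCore d.H)

theorem O_odd : Odd (Nat.card d.O) := by
  rw [O, card_map_of_injective d.H.subtype_injective]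
  exact Cores.oddCore_odd

theorem orderOf_odd {x : G} (hx : x ∈ d.O) : Odd (orderOf x) :=
  d.O_odd.of_dvd_nat (Subgroup.orderOf_dvd_natCard _ hx)

/-- An element of odd order equal to its inverse is trivial. -/
theorem eq_one_of_odd {x : G} (hx : Odd (orderOf x)) (h : x = x⁻¹) : x = 1 := by
  have h2 : x ^ 2 = 1 := by rw [sq]; nth_rw 2 [h]; exact mul_inv_cancel x
  have := orderOf_dvd_of_pow_eq_one h2
  rcases (Nat.dvd_prime Nat.prime_two).1 this with h1 | h1
  · exact orderOf_eq_one_iff.1 h1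
  · rw [h1] at hx; exact absurd hx (by decide)

/-- The Sylow 2-subgroup covers `H` modulo its core. -/
theorem exists_mul {h : G} (hh : h ∈ d.H) : ∃ o ∈ d.O, ∃ s ∈ (d.S : Subgroup G), h = o * s := by
  haveI : Fact (Nat.Prime 2) := ⟨Nat.prime_two⟩
  obtain ⟨P, N, hN, hc⟩ := DihedralSylow.centralizer_complement d.S d.e d.two_le d.t_order
  haveI := hN
  set R : Sylow 2 d.H := d.S.subtype d.S_le
  have hidx : N.index = Nat.card (R : Subgroup d.H) := by
    rw [hc.symm.index_eq_card, R.card_eq_multiplicity, P.card_eq_multiplicity]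
  have hcard : Nat.card N * Nat.card (R : Subgroup d.H) = Nat.card d.H := by
    rw [← hidx]; exact N.card_mul_index
  obtain ⟨k, hk⟩ := IsPGroup.iff_card.1 R.2
  have hodd : Odd (Nat.card N) := by
    rw [Nat.odd_iff]
    by_contra hne
    have hdiv : 2 ^ (k + 1) ∣ Nat.card d.H := by
      rw [← hcard, hk, pow_succ, mul_comm]
      exact mul_dvd_mul (by omega) dvd_rfl
    have hmult := R.card_eq_multiplicity
    rw [hk] at hmult
    have hfac := (Nat.prime_two.pow_dvd_iff_le_factorization Nat.card_pos.ne').1 hdiv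
    have := Nat.pow_right_injective le_rfl hmult
    omega
  have hcompl : N.IsComplement' (R : Subgroup d.H) := isComplement'_of_coprime hcard
    (by rw [hk]; exact (Nat.coprime_two_right.2 hodd).pow_right k)
  obtain ⟨⟨n, s⟩, hns⟩ := (isComplement_iff_existsUnique.1 hcompl ⟨h, hh⟩).exists
  exact ⟨n.1, ⟨n.1, Cores.le_oddCore hodd n.2, rfl⟩, s.1, s.2, (congrArg Subtype.val hns).symm⟩

/-- The odd elements of `H` lie in the core. -/
theorem mem_O_of_odd {h : G} (hh : h ∈ d.H) (ho : Odd (orderOf h)) : h ∈ d.O := by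
  haveI : Fact (Nat.Prime 2) := ⟨Nat.prime_two⟩
  haveI : (Cfsg.oddCore d.H).Normal := Cores.pPrimeCore_normal 2
  set π := QuotientGroup.mk' (Cfsg.oddCore d.H)
  obtain ⟨o, ⟨o', ho', rfl⟩, s, hs, he⟩ := d.exists_mul hh
  have hπ : π ⟨h, hh⟩ = π ⟨s, d.S_le hs⟩ := by
    rw [show (⟨h, hh⟩ : d.H) = o' * ⟨s, d.S_le hs⟩ from Subtype.ext he, map_mul,
      (QuotientGroup.eq_one_iff o').2 ho' |> fun e : π o' = 1 => e, one_mul]
  have h1 : orderOf (π ⟨h, hh⟩) ∣ orderOf h := by
    rw [← Subgroup.orderOf_mk h hh]; exact orderOf_map_dvd π _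
  obtain ⟨k, hk⟩ := IsPGroup.iff_orderOf.1 d.S.2 ⟨s, hs⟩
  have h2 : orderOf (π ⟨h, hh⟩) ∣ 2 ^ k := by
    rw [hπ, ← hk, Subgroup.orderOf_mk, ← Subgroup.orderOf_mk s (d.S_le hs)]
    exact orderOf_map_dvd π _
  have h3 : π ⟨h, hh⟩ = 1 := orderOf_eq_one_iff.1
    (Nat.eq_one_of_dvd_coprimes ((Nat.coprime_two_right.2 ho).pow_right k) h1 h2)
  exact ⟨⟨h, hh⟩, (QuotientGroup.eq_one_iff _).1 h3, rfl⟩

theorem layer_H : Cfsg.layer d.H = ⊥ := by
  haveI := d.solvable_H
  exact Components.Balance.layer_eq_bot_of_isSolvable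

theorem genFitting_H : Cfsg.generalizedFittingSubgroup d.H = Cfsg.fittingSubgroup d.H := by
  rw [Cfsg.generalizedFittingSubgroup, d.layer_H, bot_sup_eq]

theorem P_isPGroup (p : ℕ) : IsPGroup p (d.P p) := Components.MaximalPair.core_isPGroup p d.H

theorem P_le (p : ℕ) : d.P p ≤ d.H := map_subtype_le _

theorem H_le_normalizer_P (p : ℕ) : d.H ≤ normalizer (d.P p : Set G) :=
  Components.MaximalPair.le_normalizer_core p d.H

theorem conj_mem_P {p : ℕ} {h x : G} (hh : h ∈ d.H) (hx : x ∈ d.P p) : h * x * h⁻¹ ∈ d.P p :=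
  (mem_normalizer_iff.1 (d.H_le_normalizer_P p hh) x).1 hx

theorem P_le_O {p : ℕ} [hp : Fact p.Prime] (hp2 : p ≠ 2) : d.P p ≤ d.O := by
  intro x hx
  refine d.mem_O_of_odd (d.P_le p hx) ?_
  obtain ⟨k, hk⟩ := IsPGroup.iff_orderOf.1 (d.P_isPGroup p) ⟨x, hx⟩
  rw [orderOf_mk] at hk
  rw [hk]
  exact (hp.out.odd_of_ne_two hp2).pow

theorem t_mem_pCore : (⟨d.t, d.t_mem_H⟩ : d.H) ∈ Cfsg.pCore 2 d.H := by
  haveI : Fact (Nat.Prime 2) := ⟨Nat.prime_two⟩
  haveI : (zpowers (⟨d.t, d.t_mem_H⟩ : d.H)).Normal := by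
    refine ⟨fun x hx g => ?_⟩
    obtain ⟨k, rfl⟩ := mem_zpowers_iff.1 hx
    rw [← conj_zpow, show g * ⟨d.t, d.t_mem_H⟩ * g⁻¹ = (⟨d.t, d.t_mem_H⟩ : d.H) from
      Subtype.ext (d.conj_t g.2)]
    exact zpow_mem (mem_zpowers _) _
  refine Cores.le_pCore (IsPGroup.of_card (n := 1) ?_) (mem_zpowers _)
  rw [Nat.card_zpowers, Subgroup.orderOf_mk, d.t_order, pow_one]

/-- No proper overgroup of `H` is free of components: the case of the theorem of Bender and
Glauberman. -/
def NoBareOvergroup : Prop :=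
  ∀ K : Subgroup G, d.H < K → K ≠ ⊤ → Cfsg.generalizedFittingSubgroup K ≠ Cfsg.fittingSubgroup K


/-- The rotation of a four-group acts on the fixed points of the reflection. -/
theorem rho_mem_A {i : ZMod d.m} {g : G} (h1 : g * d.t * g⁻¹ = d.u i)
    (h2 : g * d.u i * g⁻¹ = d.t * d.u i) {x : G} (hx : x ∈ d.A i) : g * x * g⁻¹ ∈ d.A i := by
  have c1 : Commute x d.t := mem_centralizer_singleton_iff.1 (d.O_le hx.1)
  have c2 : Commute x (d.u i) := mem_centralizer_singleton_iff.1 hx.2
  have e1 : Commute (g * x * g⁻¹) (d.u i) := by rw [← h1]; exact (Commute.conj_iff g).2 c1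
  have e2 : Commute (g * x * g⁻¹) (d.t * d.u i) := by rw [← h2]; exact (Commute.conj_iff g).2 c2
  have e3 : Commute (g * x * g⁻¹) d.t := by
    have := e2.mul_right e1
    rwa [mul_assoc d.t, d.u_sq, mul_one] at this
  refine ⟨d.mem_O_of_odd (mem_centralizer_singleton_iff.2 e3) ?_, mem_centralizer_singleton_iff.2 e1⟩
  rw [Involutions.Basic.orderOf_conj]
  exact d.orderOf_odd hx.1

end Data

/-- The centralizer of the central involution is maximal. -/
structure Setting (G : Type u) [Group G] [Finite G] extends Data G where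
  maximal : IsCoatom (centralizer ({DihedralSylow.z S e} : Set G))

namespace Setting

variable (d : Setting G)

include d in
theorem not_commutative : ¬ IsMulCommutative G := fun _ => d.maximal.1
  (eq_top_iff.2 fun x _ => mem_centralizer_singleton_iff.2 (mul_comm' x d.t))

variable [IsSimpleGroup G]

theorem normalizer_eq {Y : Subgroup G} (hY : Y ≤ d.H) (hn : d.H ≤ normalizer (Y : Set G))
    (h1 : Y ≠ ⊥) : normalizer (Y : Set G) = d.H :=
  Components.MaximalPair.normalizer_eq_of_coatom d.maximal hY hn h1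

/-- An element moving the central involution normalizes no normal subgroup of `H`. -/
theorem eq_bot_of_moved {Y : Subgroup G} (hY : Y ≤ d.H) (hn : d.H ≤ normalizer (Y : Set G))
    {g : G} (hg : g ∈ normalizer (Y : Set G)) (hgt : g * d.t * g⁻¹ ≠ d.t) : Y = ⊥ := by
  by_contra h1
  rw [d.normalizer_eq hY hn h1] at hg
  exact hgt (d.conj_t hg)

end Setting

end Cfsg.Agent.GW.Bender
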