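import Cfsg.Agent.Lib.GW.BenderStableBasic
import Cfsg.Agent.Lib.GW.BenderPowBound

/-!
# The mixed case: all classes are central and all reflections act alike on the core
-/

set_option autoImplicit false
set_option linter.style.haveILetI false

namespace Cfsg.Agent.GW.Bender

open Subgroup Cfsg.Agent.Involutions Cfsg.Agent.GW.Overgroups
open scoped commutatorElement

universe u

variable {G : Type u} [Group G] [Finite G]

namespace Setting

variable {d : Setting G} [IsSimpleGroup G]

/-- Two central classes without common fixed points: impossible beside a nontrivial fixed part. -/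
theorem no_common_false (hf : d.HasCompFacts) {i j : ZMod d.m} (hi : d.Central i) (hj : d.Central j)
    (hq : d.CommPair i j)
    (hno : ∀ r : ℕ, r.Prime → r ≠ 2 → ∀ x ∈ d.P r, d.u i * x = x * d.u i →
      d.u j * x = x * d.u j → x = 1)
    {p : ℕ} (hp : p.Prime) (hp2 : p ≠ 2) (hne : d.P p ⊓ centralizer ({d.u i} : Set G) ≠ ⊥) :
    False := by
  haveI : Fact p.Prime := ⟨hp⟩
  set Φ := d.P p ⊓ centralizer ({d.u i} : Set G) with hΦ
  have f := d.frame_of_central hf hi hp hp2 (Y := Φ) inf_le_left inf_le_right hne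
  set B := normalizer (Φ : Set G) with hB
  set v := d.u j with hv
  have hvB : v ∈ B := d.conj_mem_fixed hq hp2
  have hvE : v ∉ maxPerfect B := by
    intro h
    refine hne ((eq_bot_iff_forall _).2 fun x hx => ?_)
    exact hno p hp hp2 x hx.1 (mem_centralizer_singleton_iff.1 hx.2).symm
      (mem_centralizer_iff.1 (f.component_centralizes h) x hx).symm
  obtain ⟨g, y, -, -, -, hyO, hyinv, hybig, hyco⟩ := outer_torus f hvB hvE
  set y' := g⁻¹ * y * g
  have hy'o : Odd (orderOf y') := d.orderOf_odd hyO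
  have hPp : d.P p ≠ ⊥ := fun h => hne (le_bot_iff.1 (hΦ.le.trans (inf_le_left.trans h.le)))
  -- the other cores are inverted
  have hoth : ∀ r : ℕ, r.Prime → r ≠ 2 → r ≠ p → ∀ x ∈ d.P r, y' * x = x * y' := by
    intro r hr hr2 hrp
    refine d.centralizes_of_scalar (j := j) (Or.inr fun x hx => ?_) (d.O_le hyO) hyinv hy'o
    haveI : Fact r.Prime := ⟨hr⟩
    obtain ⟨e, he, o, ho, rfl, -, hoP, hinv⟩ := frame_split f hr hr2 hx (f.P_le hr hrp hx)
    have huo : d.u i * o = o * d.u i := f.facts.commute f.u_mem ho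
    have hR : d.P r ⊓ centralizer ({d.u i} : Set G) ⊓ centralizer ({v} : Set G) = ⊥ :=
      (eq_bot_iff_forall _).2 fun z hz => hno r hr hr2 z hz.1.1
        (mem_centralizer_singleton_iff.1 hz.1.2).symm (mem_centralizer_singleton_iff.1 hz.2).symm
    have hvo : v * o * v⁻¹ = o⁻¹ :=
      inverts_of_inf_eq_bot (d.u_sq j) (d.conj_mem_fixed hq hr2) hR o
        ⟨hoP, mem_centralizer_singleton_iff.2 huo.symm⟩
    calc v * (e * o) * v⁻¹ = (v * e * v⁻¹) * (v * o * v⁻¹) := by group
      _ = e⁻¹ * o⁻¹ := by rw [hinv v hvB (d.u_order j) (d.u_ne_t j) (d.commute_tu j), hvo]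
      _ = (e * o)⁻¹ := by rw [← mul_inv_rev, f.facts.commute he ho]
  set Ψ := d.P p ⊓ centralizer ({v} : Set G) with hΨ
  obtain ⟨k, hk0, hk, hky⟩ : ∃ k, 0 < k ∧ k ≤ p + 1 ∧ ∀ x ∈ d.P p, y' ^ k * x = x * y' ^ k := by
    by_cases hΨ0 : Ψ = ⊥
    · refine ⟨1, one_pos, by omega, ?_⟩
      rw [pow_one]
      exact d.centralizes_of_scalar (j := j)
        (Or.inr (inverts_of_inf_eq_bot (d.u_sq j) (d.H_le_normalizer_P p (d.u_mem_H j)) hΨ0))
        (d.O_le hyO) hyinv hy'o
    · have hcyc : IsCyclic Ψ := by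
        refine fixed_isCyclic hf hj hp hp2 rfl hΨ0 fun hle => hne ?_
        have fj := d.frame_of_central hf hj hp hp2 (Y := Ψ) inf_le_left inf_le_right hΨ0
        have hui : d.u i ∈ normalizer (Ψ : Set G) := d.conj_mem_fixed hq.symm hp2
        -- then the first reflection inverts the whole core
        have hinv : ∀ x ∈ d.P p, d.u i * x * (d.u i)⁻¹ = x⁻¹ := by
          intro x hx
          obtain ⟨e, he, o, ho, rfl, -, hoP, hinv⟩ := frame_split fj hp hp2 hx (hle hx)
          have hvo : v * o = o * v := fj.facts.commute fj.u_mem ho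
          have hR : Ψ ⊓ centralizer ({d.u i} : Set G) = ⊥ :=
            (eq_bot_iff_forall _).2 fun z hz => hno p hp hp2 z hz.1.1
              (mem_centralizer_singleton_iff.1 hz.2).symm (mem_centralizer_singleton_iff.1 hz.1.2).symm
          have huo : d.u i * o * (d.u i)⁻¹ = o⁻¹ :=
            inverts_of_inf_eq_bot (d.u_sq i) hui hR o ⟨hoP, mem_centralizer_singleton_iff.2 hvo.symm⟩
          calc d.u i * (e * o) * (d.u i)⁻¹
              = (d.u i * e * (d.u i)⁻¹) * (d.u i * o * (d.u i)⁻¹) := by group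
            _ = e⁻¹ * o⁻¹ := by
                rw [hinv _ hui (d.u_order i) (d.u_ne_t i) (d.commute_tu i), huo]
            _ = (e * o)⁻¹ := by rw [← mul_inv_rev, fj.facts.commute he ho]
        refine (eq_bot_iff_forall _).2 fun x hx => Data.eq_one_of_odd (d.odd_of_mem_P hp2 hx.1) ?_
        rw [← hinv x hx.1, ← mem_centralizer_singleton_iff.1 hx.2, mul_inv_cancel_right]
      exact PowBound.exists_pow_centralizes hp2 (d.P_isPGroup p) (d.u_sq j)
        (d.H_le_normalizer_P p (d.u_mem_H j)) (d.H_le_normalizer_P p (d.O_le hyO)) hyinv hy'o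
        (hyco p hp hp2 hPp) hcyc
  have h1 : y' ^ k = 1 := by
    refine d.eq_one_of_centralizes (pow_mem hyO k) (fun r hr hr2 x hx => ?_) fun r hr hr2 hr0 =>
      (hyco r hr hr2 hr0).coprime_dvd_left (orderOf_pow_dvd k)
    by_cases hrp : r = p
    · exact hky x (hrp ▸ hx)
    · exact (Commute.pow_left (hoth r hr hr2 hrp x hx : Commute y' x) k).eq
  have := Nat.le_of_dvd hk0 (orderOf_dvd_of_pow_eq_one h1)
  omega

/-- Two central classes commuting on the core act alike. -/
theorem alike_of_central_pair (hf : d.HasCompFacts) {i j : ZMod d.m} (hi : d.Central i)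
    (hj : d.Central j) (hq : d.CommPair i j) : d.AlikePair i j := by
  by_cases hcom : ∃ r : ℕ, r.Prime ∧ r ≠ 2 ∧
      d.P r ⊓ centralizer ({d.u i} : Set G) ⊓ centralizer ({d.u j} : Set G) ≠ ⊥
  · obtain ⟨r, hr, hr2, hne⟩ := hcom
    have fi := d.frame_of_central hf hi hr hr2
      (Y := d.P r ⊓ centralizer ({d.u i} : Set G) ⊓ centralizer ({d.u j} : Set G))
      (inf_le_left.trans inf_le_left) (inf_le_left.trans inf_le_right) hne
    exact frame_alike fi (d.frame_of_central hf hj hr hr2 (inf_le_left.trans inf_le_left)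
      inf_le_right hne).u_mem
  · push Not at hcom
    have hno : ∀ r : ℕ, r.Prime → r ≠ 2 → ∀ x ∈ d.P r, d.u i * x = x * d.u i →
        d.u j * x = x * d.u j → x = 1 := fun r hr hr2 x hx h1 h2 => by
      have : x ∈ (⊥ : Subgroup G) := hcom r hr hr2 ▸ ⟨⟨hx, mem_centralizer_singleton_iff.2 h1.symm⟩,
        mem_centralizer_singleton_iff.2 h2.symm⟩
      exact this
    by_cases hz : ∀ r : ℕ, r.Prime → r ≠ 2 → d.P r ⊓ centralizer ({d.u i} : Set G) = ⊥ ∧
        d.P r ⊓ centralizer ({d.u j} : Set G) = ⊥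
    · refine d.alike_of_cores fun r hr hr2 x hx => ?_
      rw [inverts_of_inf_eq_bot (d.u_sq i) (d.H_le_normalizer_P r (d.u_mem_H i)) (hz r hr hr2).1 x hx,
        inverts_of_inf_eq_bot (d.u_sq j) (d.H_le_normalizer_P r (d.u_mem_H j)) (hz r hr hr2).2 x hx]
    · push Not at hz
      obtain ⟨r, hr, hr2, hne⟩ := hz
      exfalso
      by_cases h1 : d.P r ⊓ centralizer ({d.u i} : Set G) = ⊥
      · exact no_common_false hf hj hi hq.symm (fun r hr hr2 x hx a b => hno r hr hr2 x hx b a)
          hr hr2 (hne h1)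
      · exact no_common_false hf hi hj hq hno hr hr2 h1

/-- The other class, when the Sylow 2-subgroup has order eight. -/
theorem four_case (hf : d.HasCompFacts) {i j : ZMod d.m} (hi : d.Central i)
    (hr4 : d.u j * d.u i * (d.u j * d.u i) = d.t)
    (hrefl : ∀ k, d.u k = d.u i ∨ d.u k = d.t * d.u i ∨ d.u k = d.u j ∨ d.u k = d.t * d.u j)
    {p : ℕ} (hp : p.Prime) (hp2 : p ≠ 2) (hne : d.P p ⊓ centralizer ({d.u i} : Set G) ≠ ⊥) :
    d.AlikePair i j ∨ d.Central j := by
  haveI : Fact p.Prime := ⟨hp⟩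
  by_contra hcon
  push Not at hcon
  obtain ⟨hna, hnc⟩ := hcon
  have hq' : d.CommPair j i := fun x hx => by rw [hr4]; exact d.commute_t_O hx
  have hq : d.CommPair i j := hq'.symm
  set v := d.u j with hv
  set Φ := d.P p ⊓ centralizer ({d.u i} : Set G) with hΦ
  have f := d.frame_of_central hf hi hp hp2 (Y := Φ) inf_le_left inf_le_right hne
  have hvB : v ∈ normalizer (Φ : Set G) := d.conj_mem_fixed hq hp2
  have hvE : v ∉ maxPerfect (normalizer (Φ : Set G)) := fun h => hna (frame_alike f h)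
  -- some fixed part of the other reflection
  obtain ⟨r₀, hr₀, hr₀2, hX⟩ : ∃ r : ℕ, r.Prime ∧ r ≠ 2 ∧
      d.P r ⊓ centralizer ({v} : Set G) ≠ ⊥ := by
    by_contra hall
    push Not at hall
    obtain ⟨g, y, -, -, -, hyO, hyinv, hybig, hyco⟩ := outer_torus f hvB hvE
    have h1 := d.eq_one_of_centralizes hyO (fun r hr hr2 =>
      d.centralizes_of_scalar (j := j) (Or.inr (inverts_of_inf_eq_bot (d.u_sq j)
        (d.H_le_normalizer_P r (d.u_mem_H j)) (hall r hr hr2))) (d.O_le hyO) hyinv (d.orderOf_odd hyO))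
      fun r hr hr2 h0 => hyco r hr hr2 h0
    rw [h1, orderOf_one] at hybig
    omega
  haveI : Fact r₀.Prime := ⟨hr₀⟩
  set X := d.P r₀ ⊓ centralizer ({v} : Set G) with hXdef
  have hXP : X ≤ d.P r₀ := inf_le_left
  have hXO : X ≤ d.O := hXP.trans (d.P_le_O hr₀2)
  have hnle : ¬ d.P r₀ ≤ centralizer ({v} : Set G) := by
    intro hle
    have hP0 : d.P r₀ ≠ ⊥ := fun h => hX (le_bot_iff.1 (hXP.trans h.le))
    obtain ⟨e, -, heP, he1, hinv⟩ := frame_meets f hr₀ hr₀2 hP0
    have h1 := hinv v hvB (d.u_order j) (d.u_ne_t j) (d.commute_tu j)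
    rw [← mem_centralizer_singleton_iff.1 (hle heP), mul_inv_cancel_right] at h1
    exact he1 (Data.eq_one_of_odd (d.odd_of_mem_P hr₀2 heP) h1)
  have hlayer : Cfsg.layer (normalizer (X : Set G) : Subgroup G) ≠ ⊥ := fun h =>
    hnle (d.centralizes_of_no_component hr₀2 j hX h)
  set B' := normalizer (X : Set G) with hB'
  have hB := hf B' (d.normalizer_ne_top (hXO.trans d.O_le) hX) hlayer
  have hvB' : v ∈ B' := centralizer_le_normalizer _ (mem_centralizer_iff.2 fun x hx =>
    mem_centralizer_singleton_iff.1 hx.2)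
  have huB' : d.u i ∈ B' := d.conj_mem_fixed hq.symm hr₀2
  have htB' : d.t ∈ B' := d.t_mem_normalizer (hXO.trans d.O_le)
  have htE : d.t ∈ maxPerfect B' := by
    refine hB.mem_of_two _ (hB.derived ?_) ⟨1, by rw [d.t_order, pow_one]⟩
    have := commutator_mem_commutator hvB' huB'
    rwa [commutatorElement_def, hv, d.u_inv, d.u_inv, mul_assoc, hr4] at this
  have hvE' : v ∉ maxPerfect B' := fun h => hnc (central_of_frame
    (⟨hr₀, hr₀2, hXP, inf_le_right, hX, hB, htE, h⟩ : d.Frame j r₀ X) (d.A_le_normalizer_fixed j r₀))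
  -- the Sylow subgroup lies in `B'` and meets the component in a four-group
  have hSB : (d.S : Subgroup G) ≤ B' := by
    intro s hs
    have hk : ∀ k, d.u k ∈ B' := fun k => by
      rcases hrefl k with h | h | h | h <;> rw [h]
      exacts [huB', mul_mem htB' huB', hvB', mul_mem htB' hvB']
    rcases d.exists_refl hs with ⟨k, rfl⟩ | ⟨k, l, rfl⟩
    exacts [hk k, mul_mem (hk k) (hk l)]
  have huE' : d.u i ∈ maxPerfect B' := by
    haveI : Fact (Nat.Prime 2) := ⟨Nat.prime_two⟩
    obtain ⟨w, hwE, hw2, hwt, htw⟩ := hB.exists_inner d.t htE d.t_order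
    have hZ : IsPGroup 2 ↥(zpowers d.t ⊔ zpowers w) := by
      refine (IsPGroup.of_card (n := 1) (by rw [Nat.card_zpowers, d.t_order, pow_one])).to_sup_of_normal_left'
        (IsPGroup.of_card (n := 1) (by rw [Nat.card_zpowers, hw2, pow_one]))
        (zpowers_le.2 (centralizer_le_normalizer _ (mem_centralizer_iff.2 fun x hx => ?_)))
      obtain ⟨n, rfl⟩ := mem_zpowers_iff.1 hx
      exact (Commute.zpow_left (htw : Commute d.t w) n).eq
    have hle : zpowers d.t ⊔ zpowers w ≤ B' :=
      sup_le (zpowers_le.2 htB') (zpowers_le.2 (maxPerfect_le _ hwE))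
    obtain ⟨Q, hQ⟩ := (hZ.comap_of_injective B'.subtype B'.subtype_injective).exists_le_sylow
    obtain ⟨c, hc⟩ := MulAction.exists_smul_eq B' Q (d.S.subtype hSB)
    have hmem : ∀ z ∈ zpowers d.t ⊔ zpowers w, (c : G) * z * (c : G)⁻¹ ∈ (d.S : Subgroup G) := by
      intro z hz
      have h1 : MulAut.conj c (⟨z, hle hz⟩ : B') ∈ ((c • Q : Sylow 2 B') : Subgroup B') :=
        Subgroup.smul_mem_pointwise_smul _ (MulAut.conj c) _ (hQ (mem_comap.2 hz))
      rw [hc] at h1
      exact h1
    have hcE : ∀ z ∈ maxPerfect B', (c : G) * z * (c : G)⁻¹ ∈ maxPerfect B' := fun z hz =>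
      (mem_normalizer_iff.1 (le_normalizer_maxPerfect B' c.2) z).1 hz
    obtain ⟨z, hzV, hzE, hz2, hzt⟩ : ∃ z, z ∈ zpowers d.t ⊔ zpowers w ∧ z ∈ maxPerfect B' ∧
        orderOf z = 2 ∧ (c : G) * z * (c : G)⁻¹ ≠ d.t := by
      by_cases h : (c : G) * d.t * (c : G)⁻¹ = d.t
      · exact ⟨w, mem_sup_right (mem_zpowers w), hwE, hw2, fun h' =>
          hwt (mul_left_cancel (mul_right_cancel (h'.trans h.symm)))⟩
      · exact ⟨d.t, mem_sup_left (mem_zpowers _), htE, d.t_order, h⟩
    rcases d.involution_cases (hmem z hzV) (by rw [Involutions.Basic.orderOf_conj, hz2]) with h | ⟨k, hk⟩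
    · exact absurd h hzt
    · have hkE : d.u k ∈ maxPerfect B' := hk ▸ hcE z hzE
      rcases hrefl k with h | h | h | h <;> rw [h] at hkE
      · exact hkE
      · have := mul_mem htE hkE; rwa [← mul_assoc, d.t_sq, one_mul] at this
      · exact absurd hkE hvE'
      · exact absurd (by have := mul_mem htE hkE; rwa [← mul_assoc, d.t_sq, one_mul] at this) hvE'
  have hXD : X ≤ oddPart B' :=
    Bender.le_oddPart le_normalizer le_rfl (d.O_odd.of_dvd_nat (Subgroup.card_dvd_of_le hXO))
  have f' : d.Frame i r₀ X := ⟨hr₀, hr₀2, hXP, fun x hx => mem_centralizer_singleton_iff.2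
    (hB.commute huE' (hXD hx)).symm, hX, hB, htE, huE'⟩
  obtain ⟨g, y, hg, hyE, hyv, hyO, hyinv, hybig, hyco⟩ := outer_torus f' hvB' hvE'
  set y' := g⁻¹ * y * g with hy'
  -- `y'` centralizes every core
  have h1 : y' = 1 := by
    refine d.eq_one_of_centralizes hyO (fun r hr hr2 => ?_) fun r hr hr2 h0 => hyco r hr hr2 h0
    haveI : Fact r.Prime := ⟨hr⟩
    by_cases hXr : d.P r ⊓ centralizer ({v} : Set G) = ⊥
    · exact d.centralizes_of_scalar (j := j) (Or.inr (inverts_of_inf_eq_bot (d.u_sq j)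
        (d.H_le_normalizer_P r (d.u_mem_H j)) hXr)) (d.O_le hyO) hyinv (d.orderOf_odd hyO)
    set Xr := d.P r ⊓ centralizer ({v} : Set G) with hXrdef
    have hXrB : Xr ≤ B' := by
      by_cases h : r = r₀
      · subst h; exact le_normalizer
      · exact inf_le_left.trans (f'.P_le hr h)
    have hXrD : ∀ x ∈ Xr, x ∈ oddPart B' := fun x hx => frame_fixed f' hr hr2 hx.1 (hXrB hx) hvB'
      (d.u_order j) (d.u_ne_t j) (d.commute_tu j) (mem_centralizer_singleton_iff.1 hx.2).symm
    have fr := d.frame_of_central hf hi hr hr2 (Y := Xr) inf_le_left (fun x hx =>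
      mem_centralizer_singleton_iff.2 (hB.commute huE' (hXrD x hx)).symm) hXr
    have hEle : maxPerfect B' ≤ maxPerfect (normalizer (Xr : Set G)) :=
      le_maxPerfect (le_trans (le_centralizer_iff.1 fun x hx => hB.oddPart_le_centralizer (hXrD x hx))
        (centralizer_le_normalizer _)) (maxPerfect_perfect B')
    have hvBr : v ∈ normalizer (Xr : Set G) := centralizer_le_normalizer _
      (mem_centralizer_iff.2 fun x hx => mem_centralizer_singleton_iff.1 hx.2)
    have hvEr : v ∉ maxPerfect (normalizer (Xr : Set G)) := fun h => hna (frame_alike fr h)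
    obtain ⟨_, -, -, -, -, -, hlast⟩ := fr.facts.outer d.t fr.t_mem d.t_order v hvBr hvEr
      (d.u_order j) (d.commute_tu j)
    have hPr : d.P r ≠ ⊥ := fun h => hXr (by rw [hXrdef, h, bot_inf_eq])
    obtain ⟨hdvd, hED⟩ := frame_dvd fr hr hr2 hPr
    set U := Xr.map (MulAut.conj g⁻¹).toMonoidHom with hU
    have hUH : U ≤ d.H := by
      rintro _ ⟨x, hx, rfl⟩
      refine mem_centralizer_singleton_iff.2 ?_
      have h := (Commute.conj_iff g⁻¹).2 (mem_centralizer_singleton_iff.1 hx.2 : Commute x v)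
      rw [inv_inv, show g⁻¹ * v * g = d.t by rw [show v = g * d.t * g⁻¹ from hg.symm]; group] at h
      simpa using h.eq
    have hyU : zpowers y' ≤ centralizer (U : Set G) := by
      rw [zpowers_le]
      refine mem_centralizer_iff.2 ?_
      rintro _ ⟨x, hx, rfl⟩
      have h := (Commute.conj_iff g⁻¹).2 (hB.commute hyE (hXrD x hx) : Commute y x)
      rw [inv_inv] at h
      simpa [hy'] using h.eq.symm
    have hQ : (Nat.card (zpowers y')).Coprime r := by
      rw [Nat.card_zpowers]; exact hyco r hr hr2 hPr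
    intro x hx
    refine (mem_centralizer_iff.1 (Coprime.le_centralizer_of_pxq (p := r) (P := U) (Q := zpowers y')
      (U := d.P r) (((d.P_isPGroup r).to_le inf_le_left).map _) hQ (d.P_isPGroup r)
      (le_centralizer_iff.1 hyU) (hUH.trans (d.H_le_normalizer_P r))
      (zpowers_le.2 (d.H_le_normalizer_P r (d.O_le hyO))) ?_ (mem_zpowers y')) x hx).symm
    rintro z ⟨hzP, hzU⟩
    refine mem_centralizer_iff.2 fun a ha => ?_
    obtain ⟨n, rfl⟩ := mem_zpowers_iff.1 ha
    refine (Commute.zpow_left (?_ : Commute y' z) n).eq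
    -- pull back into the normalizer of `Xr`
    set w := g * z * g⁻¹ with hw
    have hwB : w ∈ normalizer (Xr : Set G) := centralizer_le_normalizer _
      (mem_centralizer_iff.2 fun x hx => by
        have h := mem_centralizer_iff.1 hzU _ ⟨x, hx, rfl⟩
        simp only [MulEquiv.coe_toMonoidHom, MulAut.conj_apply, inv_inv] at h
        calc x * w = g * (g⁻¹ * x * g * z) * g⁻¹ := by rw [hw]; group
          _ = g * (z * (g⁻¹ * x * g)) * g⁻¹ := by rw [h]
          _ = w * x := by rw [hw]; group)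
    set c := y * w * y⁻¹ * w⁻¹ with hc
    have hcE : c ∈ maxPerfect (normalizer (Xr : Set G)) := by
      rw [hc, show y * w * y⁻¹ * w⁻¹ = y * (w * y⁻¹ * w⁻¹) by group]
      exact mul_mem (hEle hyE) ((mem_normalizer_iff.1 (le_normalizer_maxPerfect _ hwB) _).1
        (inv_mem (hEle hyE)))
    have hvw : Commute v w := by
      have h := (Commute.conj_iff g).2 ((mem_centralizer_singleton_iff.1 (d.P_le r hzP)) : Commute z d.t)
      rw [show g * d.t * g⁻¹ = v from hg] at h
      exact h.symm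
    have hvc : v * c = c * v :=
      ((((show Commute v y from hyv).mul_right hvw).mul_right
        (show Commute v y from hyv).inv_right).mul_right hvw.inv_right).eq
    have hcpow : IsPow r c := by
      have hcP : y' * z * y'⁻¹ * z⁻¹ ∈ d.P r :=
        mul_mem (d.conj_mem_P (d.O_le hyO) hzP) (inv_mem hzP)
      obtain ⟨n, hn⟩ := d.isPow_of_mem_P hcP
      refine ⟨n, ?_⟩
      rw [hc, hw, show y * (g * z * g⁻¹) * y⁻¹ * (g * z * g⁻¹)⁻¹ =
        g * (y' * z * y'⁻¹ * z⁻¹) * g⁻¹ by rw [hy']; group, Involutions.Basic.orderOf_conj, hn]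
    have hc1 : c ∈ (⊥ : Subgroup G) :=
      hED ▸ mem_inf.2 ⟨hcE, (hlast r hr hr2 hdvd).2 c hcE hvc hcpow⟩
    rw [mem_bot, hc, mul_inv_eq_one, mul_inv_eq_iff_eq_mul] at hc1
    have h := (Commute.conj_iff g⁻¹).2 (hc1 : Commute y w)
    rw [inv_inv, hw, show g⁻¹ * (g * z * g⁻¹) * g = z by group] at h
    exact h
  rw [h1, orderOf_one] at hybig
  have := hr₀.two_le
  omega

end Setting

end Cfsg.Agent.GW.Bender
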