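import Cfsg.Agent.Lib.GW.BenderFixedCyclic

/-!
# The action of the Sylow 2-subgroup on the core in the mixed case: tools

Transfer of central classes, and the element of the outer torus carried into the core.
-/

set_option autoImplicit false
set_option linter.style.haveILetI false

namespace Cfsg.Agent.GW.Bender

open Subgroup Cfsg.Agent.Involutions Cfsg.Agent.GW.Overgroups

universe u

variable {G : Type u} [Group G] [Finite G]

namespace Data

variable (d : Data G)

/-- Two reflections induce the same automorphism of the core. -/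
def AlikePair (i j : ZMod d.m) : Prop :=
  ∀ x ∈ d.O, d.u i * x * (d.u i)⁻¹ = d.u j * x * (d.u j)⁻¹

/-- The product of two reflections has square centralizing the core. -/
def CommPair (i j : ZMod d.m) : Prop :=
  ∀ x ∈ d.O, d.u i * d.u j * (d.u i * d.u j) * x = x * (d.u i * d.u j * (d.u i * d.u j))

theorem CommPair.symm {d : Data G} {i j : ZMod d.m} (h : d.CommPair i j) : d.CommPair j i := by
  intro x hx
  have h1 : Commute (d.u i * d.u j * (d.u i * d.u j)) x := h x hx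
  have e : (d.u i * d.u j * (d.u i * d.u j))⁻¹ = d.u j * d.u i * (d.u j * d.u i) := by
    simp only [mul_inv_rev, d.u_inv]
  exact e ▸ h1.inv_left.eq

/-- Reflections commuting on the core preserve each other's fixed points. -/
theorem conj_fixed {i j : ZMod d.m} (h : d.CommPair i j) {x : G} (hx : x ∈ d.O)
    (hix : x ∈ centralizer ({d.u i} : Set G)) :
    d.u j * x * (d.u j)⁻¹ ∈ centralizer ({d.u i} : Set G) := by
  set y := d.u j * x * (d.u j)⁻¹ with hydef
  have hy : y ∈ d.O := (mem_normalizer_iff.1 (d.H_le_normalizer_O (d.u_mem_H j)) x).1 hx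
  refine mem_centralizer_singleton_iff.2 (mul_inv_eq_iff_eq_mul.1 ?_).symm
  set s := d.u i * d.u j * (d.u i * d.u j) with hs
  have h1 : s * y * s⁻¹ = y := mul_inv_eq_iff_eq_mul.2 (h y hy)
  have hxx : d.u i * x * (d.u i)⁻¹ = x := mul_inv_eq_iff_eq_mul.2 (mem_centralizer_singleton_iff.1 hix).symm
  calc d.u i * y * (d.u i)⁻¹
      = d.u i * d.u j * (d.u i * x * (d.u i)⁻¹) * (d.u j)⁻¹ * (d.u i)⁻¹ := by
        rw [hxx, hydef]; group
    _ = d.u i * d.u j * d.u i * ((d.u j * d.u j) * x * (d.u j * d.u j)⁻¹) *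
          (d.u i * d.u j * d.u i)⁻¹ := by rw [d.u_sq]; group
    _ = s * y * s⁻¹ := by rw [hs, hydef]; group
    _ = y := h1

theorem conj_mem_fixed {i j : ZMod d.m} (h : d.CommPair i j) {p : ℕ} [Fact p.Prime] (hp2 : p ≠ 2) :
    d.u j ∈ normalizer ((d.P p ⊓ centralizer ({d.u i} : Set G) : Subgroup G) : Set G) :=
  mem_normalizer_fintype fun _ hx =>
    ⟨d.conj_mem_P (d.u_mem_H j) hx.1, d.conj_fixed h (d.P_le_O hp2 hx.1) hx.2⟩

/-- The core of the fixed points of a reflection is normalized by all its fixed points. -/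
theorem A_le_normalizer_fixed (i : ZMod d.m) (p : ℕ) :
    d.A i ≤ normalizer ((d.P p ⊓ centralizer ({d.u i} : Set G) : Subgroup G) : Set G) := fun _ ha =>
  mem_normalizer_fintype fun _ hx => mem_inf.2 ⟨d.conj_mem_P (d.O_le ha.1) hx.1,
    mul_mem (mul_mem ha.2 hx.2) (inv_mem ha.2)⟩

/-- Equal actions on the cores give equal actions on the core. -/
theorem alike_of_cores {i j : ZMod d.m}
    (h : ∀ p : ℕ, p.Prime → p ≠ 2 → ∀ x ∈ d.P p,
      d.u i * x * (d.u i)⁻¹ = d.u j * x * (d.u j)⁻¹) : d.AlikePair i j := by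
  intro x hx
  have hc := d.sylow_centralizes_O (mul_mem (d.u_mem i) (d.u_mem j)) (fun p hp hp2 f hf => ?_) x hx
  · have h1 : d.u i * d.u j * x * (d.u i * d.u j)⁻¹ = x := mul_inv_eq_iff_eq_mul.2 hc
    calc d.u i * x * (d.u i)⁻¹
        = d.u i * (d.u i * d.u j * x * (d.u i * d.u j)⁻¹) * (d.u i)⁻¹ := by rw [h1]
      _ = (d.u i * d.u i) * (d.u j * x * (d.u j)⁻¹) * (d.u i * d.u i)⁻¹ := by group
      _ = d.u j * x * (d.u j)⁻¹ := by rw [d.u_sq]; group
  · refine mul_inv_eq_iff_eq_mul.1 ?_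
    calc d.u i * d.u j * f * (d.u i * d.u j)⁻¹ = d.u i * (d.u j * f * (d.u j)⁻¹) * (d.u i)⁻¹ := by group
      _ = d.u i * (d.u i * f * (d.u i)⁻¹) * (d.u i)⁻¹ := by rw [h p hp hp2 f hf]
      _ = (d.u i * d.u i) * f * (d.u i * d.u i)⁻¹ := by group
      _ = f := by rw [d.u_sq]; group

/-- Central classes are permuted by the Sylow 2-subgroup. -/
theorem central_conj {i j : ZMod d.m} (hc : d.Central i) {s : G} (hs : s ∈ (d.S : Subgroup G))
    (hj : s * d.u i * s⁻¹ = d.u j) : d.Central j := by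
  obtain ⟨g, h1, h2, ha⟩ := hc
  have hst : s * d.t * s⁻¹ = d.t := d.conj_t (d.S_le hs)
  have hst' : s⁻¹ * d.t * s = d.t := by
    calc s⁻¹ * d.t * s = s⁻¹ * (s * d.t * s⁻¹) * s := by rw [hst]
      _ = d.t := by group
  have hj' : s⁻¹ * d.u j * s = d.u i := by rw [← hj]; group
  refine ⟨s * g * s⁻¹, ?_, ?_, fun a haj => ?_⟩
  · calc s * g * s⁻¹ * d.t * (s * g * s⁻¹)⁻¹ = s * (g * (s⁻¹ * d.t * s) * g⁻¹) * s⁻¹ := by group
      _ = d.u j := by rw [hst', h1, hj]
  · calc s * g * s⁻¹ * d.u j * (s * g * s⁻¹)⁻¹ = s * (g * (s⁻¹ * d.u j * s) * g⁻¹) * s⁻¹ := by group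
      _ = (s * d.t * s⁻¹) * (s * d.u i * s⁻¹) := by rw [hj', h2]; group
      _ = d.t * d.u j := by rw [hst, hj]
  · have hsa : s⁻¹ * a * s ∈ d.A i := by
      refine ⟨?_, ?_⟩
      · have := (mem_normalizer_iff.1 (d.H_le_normalizer_O (inv_mem (d.S_le hs))) a).1 haj.1
        rwa [inv_inv] at this
      · refine mem_centralizer_singleton_iff.2 ?_
        have h3 := (Commute.conj_iff s⁻¹).2
          (mem_centralizer_singleton_iff.1 haj.2 : Commute a (d.u j))
        rw [inv_inv, hj'] at h3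
        exact h3.eq
    have h3 := (Commute.conj_iff s).2 (ha _ hsa : Commute g (s⁻¹ * a * s))
    rw [show s * (s⁻¹ * a * s) * s⁻¹ = a by group] at h3
    exact h3.eq

/-- The class of `t * u` is central with the class of `u`. -/
theorem central_t_mul {i j : ZMod d.m} (hc : d.Central i) (hj : d.u j = d.t * d.u i) :
    d.Central j := by
  obtain ⟨g, h1, h2, ha⟩ := hc
  have h3 : g * (d.t * d.u i) * g⁻¹ = d.t := by
    calc g * (d.t * d.u i) * g⁻¹ = (g * d.t * g⁻¹) * (g * d.u i * g⁻¹) := by group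
      _ = d.t := by rw [h1, h2, d.commute_tu, ← mul_assoc, d.u_sq, one_mul]
  refine ⟨g * g, ?_, ?_, fun a haj => ?_⟩
  · rw [hj, show g * g * d.t * (g * g)⁻¹ = g * (g * d.t * g⁻¹) * g⁻¹ by group, h1, h2]
  · rw [hj, show g * g * (d.t * d.u i) * (g * g)⁻¹ = g * (g * (d.t * d.u i) * g⁻¹) * g⁻¹ by group,
      h3, h1, ← mul_assoc, d.t_sq, one_mul]
  · have hai : a ∈ d.A i := by
      refine ⟨haj.1, mem_centralizer_singleton_iff.2 ?_⟩
      have e : Commute a (d.t * d.u i) := hj ▸ mem_centralizer_singleton_iff.1 haj.2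
      have := (show Commute a d.t from (d.commute_t_O haj.1).symm).mul_right e
      rwa [← mul_assoc, d.t_sq, one_mul] at this
    have c1 : Commute g a := ha a hai
    exact (c1.mul_left c1).eq

/-- An element inverted by a scalar involution centralizes. -/
theorem centralizes_of_scalar {p : ℕ} {j : ZMod d.m} (hs : d.Scalar p (d.u j)) {y : G}
    (hyH : y ∈ d.H) (hy : d.u j * y * (d.u j)⁻¹ = y⁻¹) (ho : Odd (orderOf y)) :
    ∀ x ∈ d.P p, y * x = x * y := by
  intro x hx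
  have hyx := d.conj_mem_P hyH hx
  have h2 : y⁻¹ * x * y = y * x * y⁻¹ := by
    have e : d.u j * (y * x * y⁻¹) * (d.u j)⁻¹ =
        (d.u j * y * (d.u j)⁻¹) * (d.u j * x * (d.u j)⁻¹) * (d.u j * y * (d.u j)⁻¹)⁻¹ := by group
    rcases hs with h | h
    · rw [h _ hyx, h x hx, hy, inv_inv] at e
      exact e.symm
    · rw [h _ hyx, h x hx, hy, inv_inv] at e
      calc y⁻¹ * x * y = (y⁻¹ * x⁻¹ * y)⁻¹ := by group
        _ = y * x * y⁻¹ := by rw [← e, inv_inv]
  have h3 : y * y ∈ centralizer ({x} : Set G) := by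
    refine mem_centralizer_singleton_iff.2 ?_
    calc y * y * x = y * (y * x * y⁻¹) * y := by group
      _ = y * (y⁻¹ * x * y) * y := by rw [h2]
      _ = x * (y * y) := by group
  exact mem_centralizer_singleton_iff.1 (mem_of_sq_mem ho h3)

/-- An element of the core centralizing its odd cores, of order prime to them, is trivial. -/
theorem eq_one_of_centralizes {z : G} (hz : z ∈ d.O)
    (hc : ∀ p : ℕ, p.Prime → p ≠ 2 → ∀ x ∈ d.P p, z * x = x * z)
    (hco : ∀ p : ℕ, p.Prime → p ≠ 2 → d.P p ≠ ⊥ → (orderOf z).Coprime p) : z = 1 := by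
  by_contra h1
  obtain ⟨r, hr, hrd⟩ := Nat.exists_prime_and_dvd (mt orderOf_eq_one_iff.1 h1)
  haveI : Fact r.Prime := ⟨hr⟩
  have hr2 : r ≠ 2 := fun h => by
    subst h
    exact absurd (even_iff_two_dvd.2 hrd) (Nat.not_even_iff_odd.2 (d.orderOf_odd hz))
  set k := orderOf z / r
  have hord : orderOf (z ^ k) = r := by
    rw [orderOf_pow_orderOf_div (orderOf_pos z).ne' hrd]
  have hzr : z ^ k ∈ d.P r := d.mem_P_of_fitting (x := ⟨z, d.O_le hz⟩ ^ k) (k := 1)
    (pow_mem (d.mem_fitting hz hc) _) (by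
      rw [← Subgroup.orderOf_coe, SubmonoidClass.coe_pow, hord, pow_one])
  have hne : d.P r ≠ ⊥ := fun h => by
    rw [h, mem_bot] at hzr
    rw [hzr, orderOf_one] at hord
    exact hr.one_lt.ne hord
  exact hr.one_lt.ne' (Nat.eq_one_of_dvd_one ((hco r hr hr2 hne) ▸ Nat.dvd_gcd hrd dvd_rfl))

end Data

namespace Setting

variable {d : Setting G} [IsSimpleGroup G] {i : ZMod d.m} {p : ℕ} {Y : Subgroup G}
  (f : d.Frame i p Y)

include f in
/-- An outer reflection of a frame: an element of the outer torus, and its conjugate in the core. -/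
theorem outer_torus {j : ZMod d.m} (hjB : d.u j ∈ normalizer (Y : Set G))
    (hjE : d.u j ∉ maxPerfect (normalizer (Y : Set G))) :
    ∃ g y : G, g * d.t * g⁻¹ = d.u j ∧ y ∈ maxPerfect (normalizer (Y : Set G)) ∧
      d.u j * y = y * d.u j ∧ g⁻¹ * y * g ∈ d.O ∧
      d.u j * (g⁻¹ * y * g) * (d.u j)⁻¹ = (g⁻¹ * y * g)⁻¹ ∧ p + 1 < orderOf (g⁻¹ * y * g) ∧
      (∀ r : ℕ, r.Prime → r ≠ 2 → d.P r ≠ ⊥ → (orderOf (g⁻¹ * y * g)).Coprime r) := by
  haveI : Fact p.Prime := ⟨f.prime⟩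
  set v := d.u j with hv
  obtain ⟨g, hg1, hg2⟩ := d.rho j
  obtain ⟨y, hyE, hyv, hty, hyo, hyc, hylast⟩ := f.facts.outer d.t f.t_mem d.t_order v hjB hjE
    (d.u_order j) (d.commute_tu j)
  have hord : orderOf (g⁻¹ * y * g) = orderOf y := by
    have := Involutions.Basic.orderOf_conj g⁻¹ y
    rwa [inv_inv] at this
  have hvt : g⁻¹ * v * g = d.t := by rw [show v = g * d.t * g⁻¹ from hg1.symm]; group
  have hgtv : g⁻¹ * d.t * g = d.t * v := by
    have h : g * (d.t * v) * g⁻¹ = d.t := by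
      calc g * (d.t * v) * g⁻¹ = (g * d.t * g⁻¹) * (g * v * g⁻¹) := by group
        _ = v * (d.t * v) := by rw [show g * d.t * g⁻¹ = v from hg1, show g * v * g⁻¹ = d.t * v from hg2]
        _ = d.t := by rw [hv, d.commute_tu, ← mul_assoc, d.u_sq, one_mul]
    calc g⁻¹ * d.t * g = g⁻¹ * (g * (d.t * v) * g⁻¹) * g := by rw [h]
      _ = _ := by group
  have hyH : g⁻¹ * y * g ∈ d.H := by
    have h := (Commute.conj_iff g⁻¹).2 (hyv.symm : Commute y v)
    rw [inv_inv, hvt] at h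
    exact mem_centralizer_singleton_iff.2 h.eq
  have hyO : g⁻¹ * y * g ∈ d.O := d.mem_O_of_odd hyH (by rw [hord]; exact hyo)
  have hPp : d.P p ≠ ⊥ := fun h => f.ne_bot (le_bot_iff.1 (f.le.trans h.le))
  refine ⟨g, y, hg1, hyE, hyv, hyO, ?_, ?_, fun r hr hr2 hne => ?_⟩
  · have h1 : (d.t * v) * (g⁻¹ * y * g) * (d.t * v)⁻¹ = (g⁻¹ * y * g)⁻¹ := by
      rw [← hgtv]
      calc g⁻¹ * d.t * g * (g⁻¹ * y * g) * (g⁻¹ * d.t * g)⁻¹ = g⁻¹ * (d.t * y * d.t⁻¹) * g := by group
        _ = _ := by rw [hty]; group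
    have h2 : d.t * (v * (g⁻¹ * y * g) * v⁻¹) * d.t⁻¹ = v * (g⁻¹ * y * g) * v⁻¹ :=
      mul_inv_eq_iff_eq_mul.2
        (d.commute_t_O ((mem_normalizer_iff.1 (d.H_le_normalizer_O (d.u_mem_H j)) _).1 hyO))
    rw [← h1, ← h2]; group
  · rw [hord]; exact (hylast p f.prime f.ne_two (frame_dvd f f.prime f.ne_two hPp).1).1
  · rw [hord]; exact hyc.coprime_dvd_right (frame_dvd f hr hr2 hne).1

end Setting

end Cfsg.Agent.GW.Bender
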