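import Cfsg.Agent.Lib.GW.BenderStableMain
import Cfsg.Agent.Lib.GW.BenderTrivialCores

/-!
# The stability input of the assembly
-/

set_option autoImplicit false

namespace Cfsg.Agent.GW.Bender

universe u

theorem mixedStable : MixedStable.{u} :=
  fun _ _ _ _ _ _ hf hnp => Setting.stable hf hnp

end Cfsg.Agent.GW.Bender
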