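import Cfsg.Agent.Lib.GW.BenderStable

/-!
# The mixed case: existence of a central class, and the conclusion on the action of the Sylow subgroup
-/

set_option autoImplicit false
set_option linter.style.haveILetI false

namespace Cfsg.Agent.GW.Bender

open Subgroup Cfsg.Agent.Involutions Cfsg.Agent.GW.Overgroups
open scoped commutatorElement

universe u

variable {G : Type u} [Group G] [Finite G]

theorem zmod_two_cases {m : ℕ} (h : m = 2) (a b : ZMod m) :
    b = a ∨ b = a + DihedralEmbedding.half m := by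
  subst h; revert a b; decide

theorem zmod_four_cases {m : ℕ} (h : m = 4) (a b : ZMod m) :
    b = a ∨ b = a + DihedralEmbedding.half m ∨ b = a + 1 ∨ b = a + 1 + DihedralEmbedding.half m := by
  subst h; revert a b; decide

namespace Data

variable (d : Data G)

/-- The rotations of the Sylow 2-subgroup. -/
def srot (q : ZMod d.m) : G := ((d.e.symm (DihedralGroup.r q) : (d.S : Subgroup G)) : G)

theorem srot_mem (q : ZMod d.m) : d.srot q ∈ (d.S : Subgroup G) := SetLike.coe_mem _

theorem srot_mul (a b : ZMod d.m) : d.srot a * d.srot b = d.srot (a + b) := by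
  rw [srot, srot, srot, ← Subgroup.coe_mul, ← map_mul, DihedralGroup.r_mul_r]

theorem srot_inv (a : ZMod d.m) : (d.srot a)⁻¹ = d.srot (-a) := by
  rw [srot, srot, ← Subgroup.coe_inv, ← map_inv, DihedralGroup.inv_r]

theorem srot_half : d.srot (DihedralEmbedding.half d.m) = d.t := rfl

theorem refl_mul (i j : ZMod d.m) : d.u i * d.u j = d.srot (j - i) := by
  rw [srot, u, u, DihedralSylow.refl, DihedralSylow.refl, ← Subgroup.coe_mul, ← map_mul,
    DihedralGroup.sr_mul_sr]

theorem srot_conj (a i : ZMod d.m) : d.srot a * d.u i * (d.srot a)⁻¹ = d.u (i - (a + a)) :=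
  DihedralSylow.refl_conj d.S d.e a i

theorem half_neg : -DihedralEmbedding.half d.m = DihedralEmbedding.half d.m :=
  neg_eq_of_add_eq_zero_left (DihedralEmbedding.half_add_half d.dvd)

theorem t_mul_refl (i : ZMod d.m) : d.t * d.u i = d.u (i + DihedralEmbedding.half d.m) := by
  rw [← d.srot_half, srot, u, u, DihedralSylow.refl, DihedralSylow.refl, ← Subgroup.coe_mul,
    ← map_mul, DihedralGroup.r_mul_sr, sub_eq_add_neg, d.half_neg]

theorem commPair_iff {i j : ZMod d.m} :
    d.CommPair i j ↔ ∀ x ∈ d.O, d.srot (j - i + (j - i)) * x = x * d.srot (j - i + (j - i)) := by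
  unfold CommPair
  rw [d.refl_mul, d.srot_mul]

theorem alikePair_iff {i j : ZMod d.m} :
    d.AlikePair i j ↔ ∀ x ∈ d.O, d.srot (j - i) * x = x * d.srot (j - i) := by
  constructor
  · intro h x hx
    refine mul_inv_eq_iff_eq_mul.1 ?_
    rw [← d.refl_mul]
    calc d.u i * d.u j * x * (d.u i * d.u j)⁻¹ = d.u i * (d.u j * x * (d.u j)⁻¹) * (d.u i)⁻¹ := by
          group
      _ = d.u i * (d.u i * x * (d.u i)⁻¹) * (d.u i)⁻¹ := by rw [h x hx]
      _ = (d.u i * d.u i) * x * (d.u i * d.u i)⁻¹ := by group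
      _ = x := by rw [d.u_sq]; group
  · intro h x hx
    have h1 : d.srot (j - i) * x * (d.srot (j - i))⁻¹ = x := mul_inv_eq_iff_eq_mul.2 (h x hx)
    rw [← d.refl_mul] at h1
    calc d.u i * x * (d.u i)⁻¹ = d.u i * (d.u i * d.u j * x * (d.u i * d.u j)⁻¹) * (d.u i)⁻¹ := by
          rw [h1]
      _ = (d.u i * d.u i) * (d.u j * x * (d.u j)⁻¹) * (d.u i * d.u i)⁻¹ := by group
      _ = d.u j * x * (d.u j)⁻¹ := by rw [d.u_sq]; group

/-- A reflection is conjugate in `H` to every involution of `H` other than `t`. -/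
theorem exists_conj_refl_two {v : G} (hv : v ∈ d.H) (hv2 : orderOf v = 2) (hvt : v ≠ d.t) :
    ∃ h ∈ d.H, ∃ k, h * v * h⁻¹ = d.u k := by
  haveI : Fact (Nat.Prime 2) := ⟨Nat.prime_two⟩
  have hvH : IsPGroup 2 (zpowers (⟨v, hv⟩ : d.H)) := IsPGroup.of_card (n := 1) (by
    rw [Nat.card_zpowers, Subgroup.orderOf_mk, hv2, pow_one])
  obtain ⟨Q, hQ⟩ := hvH.exists_le_sylow
  obtain ⟨h, hh⟩ := MulAction.exists_smul_eq d.H Q (d.S.subtype d.S_le)
  have hmem : (h : G) * v * (h : G)⁻¹ ∈ (d.S : Subgroup G) := by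
    have h1 : MulAut.conj h (⟨v, hv⟩ : d.H) ∈ ((h • Q : Sylow 2 d.H) : Subgroup d.H) :=
      Subgroup.smul_mem_pointwise_smul _ (MulAut.conj h) _ (hQ (mem_zpowers _))
    rw [hh] at h1
    exact h1
  rcases d.involution_cases hmem (by rw [Involutions.Basic.orderOf_conj, hv2]) with h1 | ⟨k, h1⟩
  · refine absurd ?_ hvt
    have h3 := d.conj_t (inv_mem h.2)
    rw [inv_inv] at h3
    calc v = (h : G)⁻¹ * ((h : G) * v * (h : G)⁻¹) * (h : G) := by group
      _ = d.t := by rw [h1, h3]
  · exact ⟨h, h.2, k, h1⟩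

end Data

namespace Setting

variable {d : Setting G} [IsSimpleGroup G]

/-- The central involution lies in the component of a mixed reflection. -/
theorem t_mem_component {i : ZMod d.m} {p : ℕ} [Fact p.Prime] (hp2 : p ≠ 2)
    (hB : CompFacts (normalizer ((d.P p ⊓ centralizer ({d.u i} : Set G) : Subgroup G) : Set G))) :
    d.t ∈ maxPerfect (normalizer ((d.P p ⊓ centralizer ({d.u i} : Set G) : Subgroup G) : Set G)) := by
  set Φ := d.P p ⊓ centralizer ({d.u i} : Set G)
  have htB : d.t ∈ normalizer (Φ : Set G) := d.t_mem_normalizer (inf_le_left.trans (d.P_le p))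
  by_cases hm : d.m = 2
  · refine hB.mem_of_four (fun h8 => ?_) _ htB d.t_order
    haveI : Fact (Nat.Prime 2) := ⟨Nat.prime_two⟩
    have hS := d.S.card_eq_multiplicity
    rw [Nat.card_congr d.e.toEquiv, DihedralGroup.nat_card, hm] at hS
    have h3 := (Nat.prime_two.pow_dvd_iff_le_factorization Nat.card_pos.ne').1
      (show 2 ^ 3 ∣ Nat.card G from h8)
    have h4 := Nat.pow_le_pow_right two_pos h3
    omega
  · obtain ⟨q, hq, -⟩ := d.exists_rotation
      (DihedralSylow.four_dvd d.S d.e (lt_of_le_of_ne d.two_le (Ne.symm hm))) i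
    set r := ((d.e.symm (DihedralGroup.r q) : (d.S : Subgroup G)) : G) with hr
    have hrH : r ∈ d.H := d.S_le (SetLike.coe_mem _)
    have hrB : r ∈ normalizer (Φ : Set G) := mem_normalizer_fintype fun x hx => by
      refine mem_inf.2 ⟨d.conj_mem_P hrH hx.1, mem_centralizer_singleton_iff.2 ?_⟩
      have h1 : Commute (r * x * r⁻¹) (d.t * d.u i) :=
        hq ▸ (Commute.conj_iff r).2 (mem_centralizer_singleton_iff.1 hx.2 : Commute x (d.u i))
      have h2 : Commute (r * x * r⁻¹) d.t :=
        mem_centralizer_singleton_iff.1 (d.P_le p (d.conj_mem_P hrH hx.1))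
      have h3 := h2.mul_right h1
      rwa [← mul_assoc, d.t_sq, one_mul] at h3
    have huB : d.u i ∈ normalizer (Φ : Set G) := centralizer_le_normalizer _
      (mem_centralizer_iff.2 fun x hx => mem_centralizer_singleton_iff.1 hx.2)
    refine hB.mem_of_two _ (hB.derived ?_) ⟨1, by rw [d.t_order, pow_one]⟩
    have := commutator_mem_commutator hrB huB
    rwa [commutatorElement_def, hq, mul_inv_cancel_right] at this

/-- In the mixed case some class is central. -/
theorem exists_central (hf : d.HasCompFacts) (hnp : ¬ d.Pure) :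
    ∃ (i : ZMod d.m) (p : ℕ), p.Prime ∧ p ≠ 2 ∧ d.P p ⊓ centralizer ({d.u i} : Set G) ≠ ⊥ ∧
      d.Central i := by
  obtain ⟨i₁, p, hp, hp2, h1, h2⟩ : ∃ (i : ZMod d.m) (p : ℕ), p.Prime ∧ p ≠ 2 ∧
      ¬ d.P p ≤ centralizer ({d.u i} : Set G) ∧ d.P p ⊓ centralizer ({d.u i} : Set G) ≠ ⊥ := by
    unfold Data.Pure at hnp
    push Not at hnp
    exact hnp
  haveI : Fact p.Prime := ⟨hp⟩
  haveI : NeZero d.m := ⟨d.ne_zero⟩
  classical
  let mixed := Finset.univ.filter fun k : ZMod d.m =>
    ¬ d.P p ≤ centralizer ({d.u k} : Set G) ∧ d.P p ⊓ centralizer ({d.u k} : Set G) ≠ ⊥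
  obtain ⟨i, hi, hmax⟩ := Finset.exists_max_image mixed
    (fun k => Nat.card (d.P p ⊓ centralizer ({d.u k} : Set G) : Subgroup G))
    ⟨i₁, Finset.mem_filter.2 ⟨Finset.mem_univ _, h1, h2⟩⟩
  obtain ⟨-, hnle, hne⟩ := Finset.mem_filter.1 hi
  set Φ := d.P p ⊓ centralizer ({d.u i} : Set G) with hΦ
  set B := normalizer (Φ : Set G) with hBdef
  have hΦH : Φ ≤ d.H := inf_le_left.trans (d.P_le p)
  have hB := hf B (d.normalizer_ne_top hΦH hne) fun h =>
    hnle (d.centralizes_of_no_component hp2 i hne h)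
  have htE : d.t ∈ maxPerfect B := t_mem_component hp2 hB
  by_cases huE : d.u i ∈ maxPerfect B
  · exact ⟨i, p, hp, hp2, hne, central_of_frame
      (⟨hp, hp2, inf_le_left, inf_le_right, hne, hB, htE, huE⟩ : d.Frame i p Φ)
      (d.A_le_normalizer_fixed i p)⟩
  -- an inner involution fixes more
  have hpsl : IsPSLType B := by
    by_contra hA
    exact huE ((hB.alt hA).1 _ (centralizer_le_normalizer _ (mem_centralizer_iff.2 fun x hx =>
      mem_centralizer_singleton_iff.1 hx.2)) (d.u_order i))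
  obtain ⟨v, hvE, hv2, hvt, htv⟩ := hB.exists_inner d.t htE d.t_order
  have hvH : v ∈ d.H := mem_centralizer_singleton_iff.2 htv.symm
  have hPne : d.P p ≠ ⊥ := fun h => hne (le_bot_iff.1 (hΦ.le.trans (inf_le_left.trans h.le)))
  have hvP : ¬ d.P p ≤ centralizer ({v} : Set G) := by
    intro hle
    obtain ⟨g, hgE, hg1, -⟩ := hB.exists_cycle d.t htE v hvE d.t_order hv2 hvt htv
    refine d.Zc_ne_bot hPne (d.eq_bot_of_moved ((d.Zc_le p).trans (d.P_le p))
      (d.H_le_normalizer_Zc p) (g := g) ?_ (by rw [hg1]; exact hvt))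
    refine centralizer_le_normalizer _ (mem_centralizer_iff.2 fun z hz => ?_)
    have hzP : z ∈ d.P p := hz.1
    have hzB : z ∈ B := centralizer_le_normalizer _ (mem_centralizer_iff.2 fun x hx =>
      mem_centralizer_iff.1 hz.2 x hx.1)
    have htz := d.commute_t_O (d.P_le_O hp2 hzP)
    have hzs := hB.inner_part d.t htE d.t_order p hp hp2 z hzB htz (d.isPow_of_mem_P hzP)
      fun y _ hty _ _ => by
        refine d.isPow_of_mem_P ?_
        rw [show z * y * z⁻¹ * y⁻¹ = z * (y * z⁻¹ * y⁻¹) by group]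
        exact mul_mem hzP (d.conj_mem_P (mem_centralizer_singleton_iff.2 hty.symm) (inv_mem hzP))
    exact (hB.commute hgE (hB.four_fixed hpsl d.t htE v hvE d.t_order hv2 hvt htv z hzs
      (d.odd_of_mem_P hp2 hzP) htz (mem_centralizer_singleton_iff.1 (hle hzP)).symm)).symm
  obtain ⟨h, hh, k, hk⟩ := d.exists_conj_refl_two hvH hv2 hvt
  set Φk := d.P p ⊓ centralizer ({d.u k} : Set G) with hΦk
  have hΦD : Φ ≤ oddPart B := Bender.le_oddPart le_normalizer le_rfl
    (d.O_odd.of_dvd_nat (Subgroup.card_dvd_of_le (inf_le_left.trans (d.P_le_O hp2))))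
  have hmap : Φ.map (MulAut.conj h).toMonoidHom ≤ Φk := by
    rintro _ ⟨x, hx, rfl⟩
    refine mem_inf.2 ⟨d.conj_mem_P hh hx.1, mem_centralizer_singleton_iff.2 ?_⟩
    have h3 := (Commute.conj_iff h).2 (hB.commute hvE (hΦD hx) : Commute v x)
    rw [hk] at h3
    exact h3.symm.eq
  have hnle' : ¬ d.P p ≤ centralizer ({d.u k} : Set G) := by
    intro hle
    refine hvP fun x hx => mem_centralizer_singleton_iff.2 ?_
    have h3 := (Commute.conj_iff h⁻¹).2
      (mem_centralizer_singleton_iff.1 (hle (d.conj_mem_P hh hx)) : Commute (h * x * h⁻¹) (d.u k))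
    rw [inv_inv, show h⁻¹ * (h * x * h⁻¹) * h = x by group,
      show h⁻¹ * d.u k * h = v by rw [← hk]; group] at h3
    exact h3.eq
  have hne' : Φk ≠ ⊥ := fun h0 => hne <| (map_eq_bot_iff_of_injective _
    (MulAut.conj h).injective).1 (le_bot_iff.1 (hmap.trans h0.le))
  have heq : Φ.map (MulAut.conj h).toMonoidHom = Φk := by
    refine eq_of_le_of_card_ge hmap ?_
    rw [card_map_of_injective (f := (MulAut.conj h).toMonoidHom) (MulAut.conj h).injective]
    exact hmax k (Finset.mem_filter.2 ⟨Finset.mem_univ _, hnle', hne'⟩)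
  set Bk := normalizer (Φk : Set G) with hBkdef
  have hBk := hf Bk (d.normalizer_ne_top (inf_le_left.trans (d.P_le p)) hne') fun h0 =>
    hnle' (d.centralizes_of_no_component hp2 k hne' h0)
  have hEk : (maxPerfect B).map (MulAut.conj h).toMonoidHom ≤ maxPerfect Bk := by
    refine le_maxPerfect ?_ (by rw [← map_commutator, maxPerfect_perfect])
    rintro _ ⟨x, hx, rfl⟩
    refine centralizer_le_normalizer _ (mem_centralizer_iff.2 ?_)
    rw [← heq]
    rintro _ ⟨z, hz, rfl⟩
    exact (((Commute.conj_iff h).2 (hB.commute hx (hΦD hz) : Commute x z)).symm).eq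
  refine ⟨k, p, hp, hp2, hne', central_of_frame (⟨hp, hp2, inf_le_left, inf_le_right, hne', hBk,
    hEk ⟨d.t, htE, d.conj_t hh⟩, hEk ⟨v, hvE, hk⟩⟩ : d.Frame k p Φk) (d.A_le_normalizer_fixed k p)⟩

/-- All classes are central. -/
theorem central_all (hf : d.HasCompFacts) (hnp : ¬ d.Pure) : ∀ j, d.Central j := by
  obtain ⟨i, p, hp, hp2, hne, hi⟩ := exists_central hf hnp
  haveI : NeZero d.m := ⟨d.ne_zero⟩
  have hsame : ∀ a, d.Central (i - (a + a)) := fun a =>
    d.central_conj hi (d.srot_mem a) (d.srot_conj a i)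
  have hparity : ∀ k : ℕ, ∀ i' : ZMod d.m, d.Central i' → d.Central (i' + ((k + k : ℕ) : ZMod d.m)) := by
    intro k i' hi'
    have := d.central_conj hi' (d.srot_mem (-(k : ZMod d.m))) (d.srot_conj _ i')
    rwa [show i' - (-(k : ZMod d.m) + -(k : ZMod d.m)) = i' + ((k + k : ℕ) : ZMod d.m) by
      push_cast; ring] at this
  have hrot : ∀ c : ZMod d.m, c + c = DihedralEmbedding.half d.m →
      (∀ x ∈ d.O, d.srot c * x = x * d.srot c) → ∀ j, d.Central j := by
    intro c hc hcx j
    refine d.central_of_rotation (r := d.srot c) (d.conj_t (d.S_le (d.srot_mem c))) ?_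
      fun a ha => hcx a ha.1
    rw [d.srot_conj, hc, d.t_mul_refl, sub_eq_add_neg, d.half_neg]
  by_cases hm2 : d.m = 2
  · intro j
    have hcases := zmod_two_cases hm2 i j
    rcases hcases with rfl | rfl
    · exact hi
    · exact d.central_t_mul hi (d.t_mul_refl i).symm
  obtain ⟨c, hc⟩ := DihedralSylow.four_dvd d.S d.e (lt_of_le_of_ne d.two_le (Ne.symm hm2))
  have hcc : (c : ZMod d.m) + (c : ZMod d.m) = DihedralEmbedding.half d.m := by
    rw [DihedralEmbedding.half, ← Nat.cast_add]; congr 1; omega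
  have hpow : ∃ k, d.m = 2 ^ k := by
    haveI : Fact (Nat.Prime 2) := ⟨Nat.prime_two⟩
    obtain ⟨k, hk⟩ := IsPGroup.iff_card.1 d.S.2
    rw [Nat.card_congr d.e.toEquiv, DihedralGroup.nat_card] at hk
    obtain ⟨l, -, hl⟩ := (Nat.dvd_prime_pow Nat.prime_two).1 (Dvd.intro_left 2 hk)
    exact ⟨l, hl⟩
  by_cases hm4 : d.m = 4
  · have hc1 : c = 1 := by omega
    subst hc1
    rw [Nat.cast_one] at hcc
    set j := i + 1 with hj
    have hr4 : d.u j * d.u i * (d.u j * d.u i) = d.t := by
      rw [d.refl_mul, d.srot_mul, ← d.srot_half]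
      congr 1
      rw [hj, ← d.half_neg, ← hcc]; ring
    have hrefl : ∀ k, d.u k = d.u i ∨ d.u k = d.t * d.u i ∨ d.u k = d.u j ∨ d.u k = d.t * d.u j := by
      intro k
      have hcases := zmod_four_cases hm4 i k
      rcases hcases with rfl | rfl | rfl | rfl
      exacts [Or.inl rfl, Or.inr (Or.inl (d.t_mul_refl i).symm), Or.inr (Or.inr (Or.inl rfl)),
        Or.inr (Or.inr (Or.inr (d.t_mul_refl _).symm))]
    rcases four_case hf hi hr4 hrefl hp hp2 hne with h | h
    · refine hrot 1 hcc ?_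
      have h' := (d.alikePair_iff).1 h
      rwa [hj, add_sub_cancel_left] at h'
    · intro k
      rcases hrefl k with e | e | e | e
      · exact d.central_conj hi (one_mem _) (by rw [one_mul, inv_one, mul_one, e])
      · exact d.central_t_mul hi e
      · exact d.central_conj h (one_mem _) (by rw [one_mul, inv_one, mul_one, e])
      · exact d.central_t_mul h e
  · obtain ⟨k, hk⟩ := hpow
    have h8 : 8 ∣ d.m := by
      have h2 := d.two_le
      match k, hk with
      | 0, hk => omega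
      | 1, hk => omega
      | 2, hk => omega
      | k + 3, hk => exact ⟨2 ^ k, by rw [hk, pow_add]; ring⟩
    obtain ⟨b, hb⟩ : ∃ b, c = b + b := ⟨c / 2, by omega⟩
    have hj : d.Central (i + (c : ZMod d.m)) := by rw [hb]; exact hparity b i hi
    have hq : d.CommPair i (i + (c : ZMod d.m)) := by
      rw [d.commPair_iff, add_sub_cancel_left, hcc, d.srot_half]
      exact fun x hx => d.commute_t_O hx
    refine hrot _ hcc ?_
    have h' := (d.alikePair_iff).1 (alike_of_central_pair hf hi hj hq)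
    rwa [add_sub_cancel_left] at h'

/-- All reflections act alike on the core. -/
theorem alike_all (hf : d.HasCompFacts) (hc : ∀ j, d.Central j) : d.Alike := by
  haveI : NeZero d.m := ⟨d.ne_zero⟩
  haveI : Fact (Nat.Prime 2) := ⟨Nat.prime_two⟩
  have key : ∀ k : ℕ, ∀ i j : ZMod d.m, (2 ^ k : ℕ) • (j - i) = 0 → d.AlikePair i j := by
    intro k
    induction k with
    | zero =>
      intro i j h x _
      rw [pow_zero, one_nsmul, sub_eq_zero] at h
      rw [h]
    | succ k ih =>
      intro i j h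
      refine alike_of_central_pair hf (hc i) (hc j) (d.commPair_iff.2 ?_)
      have h' := d.alikePair_iff.1 (ih i (i + (j - i + (j - i))) (by
        rwa [add_sub_cancel_left, ← two_nsmul, ← mul_nsmul', ← pow_succ]))
      rwa [add_sub_cancel_left] at h'
  intro i j
  obtain ⟨k, hk⟩ := IsPGroup.iff_card.1 d.S.2
  rw [Nat.card_congr d.e.toEquiv, DihedralGroup.nat_card] at hk
  refine key k i j ?_
  rw [← hk, mul_nsmul', two_nsmul]
  simp [nsmul_eq_mul]

/-- The action of the Sylow 2-subgroup in the mixed case. -/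
theorem stable (hf : d.HasCompFacts) (hnp : ¬ d.Pure) : (∀ i, d.Central i) ∧ d.Alike :=
  ⟨central_all hf hnp, alike_all hf (central_all hf hnp)⟩

end Setting

end Cfsg.Agent.GW.Bender
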