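import Cfsg.Agent.Lib.GW.ComponentFacts
import Cfsg.Agent.Lib.GW.OvergroupsBasic
import Cfsg.Agent.Lib.Involutions.DihedralSylow
import Cfsg.Agent.Lib.Coprime.Action

/-!
# Two outer involutions of a subgroup with a component

`L` is a proper subgroup with a component, `E` its largest perfect subgroup, `t` and `u` commuting
involutions of `L` moving `O(L)`, in a group with dihedral Sylow 2-subgroups.
-/

set_option autoImplicit false
set_option linter.style.haveILetI false
set_option linter.unusedSectionVars false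

namespace Cfsg.Agent.GW.Component

open Subgroup Cfsg.Agent.GW.Overgroups Cfsg.Agent.GW.Cons
open scoped commutatorElement

universe u v

/-- The action on the quotient by the odd core. -/
def quotOddAut (A : Type u) [Group A] [Finite A] :
    MulAut A →* MulAut (A ⧸ Cfsg.oddCore A) where
  toFun σ := QuotientGroup.congr (Cfsg.oddCore A) (Cfsg.oddCore A) σ
    (PLocal.Cores.map_pPrimeCore_equiv σ)
  map_one' := by
    ext x
    induction x using QuotientGroup.induction_on
    rfl
  map_mul' σ τ := by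
    ext x
    induction x using QuotientGroup.induction_on
    rfl

variable {G : Type u} [Group G] [Finite G]

/-- Three independent commuting involutions do not occur in a section with odd kernel. -/
theorem no_three (S : Sylow 2 G) {m : ℕ} (hm : 2 ≤ m) (e : (S : Subgroup G) ≃* DihedralGroup m)
    {X : Type v} [Group X] {H : Subgroup G} (f : H →* X) (hker : Odd (Nat.card f.ker)) {a b c : H}
    (ha : f a * f a = 1) (hb : f b * f b = 1) (hc : f c * f c = 1) (hab : Commute (f a) (f b))
    (hac : Commute (f a) (f c)) (hbc : Commute (f b) (f c)) (ha1 : f a ≠ 1) (hb1 : f b ≠ 1)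
    (hne : f a ≠ f b) (hc1 : f c ≠ 1) (hca : f c ≠ f a) (hcb : f c ≠ f b)
    (hcab : f c ≠ f a * f b) : False := by
  classical
  haveI : Fact (Nat.Prime 2) := ⟨Nat.prime_two⟩
  set A := closure ({f a, f b, f c} : Set X) with hAdef
  have hgen : ∀ x ∈ ({f a, f b, f c} : Set X), x * x = 1 ∧ ∀ y ∈ ({f a, f b, f c} : Set X), x * y = y * x := by
    intro x hx
    refine ⟨?_, fun y hy => ?_⟩
    · rcases hx with rfl | rfl | rfl <;> assumption
    · rcases hx with rfl | rfl | rfl <;> rcases hy with rfl | rfl | rfl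
      exacts [rfl, hab.eq, hac.eq, hab.eq.symm, rfl, hbc.eq, hac.eq.symm, hbc.eq.symm, rfl]
  haveI hAc : IsMulCommutative A := isMulCommutative_closure fun x hx => (hgen x hx).2
  have hsq : ∀ x ∈ A, x * x = 1 := by
    intro x hx
    induction hx using Subgroup.closure_induction with
    | mem y hy => exact (hgen y hy).1
    | one => exact one_mul 1
    | mul p q hp hq h1 h2 =>
      have hpq : q * p = p * q := congrArg Subtype.val (hAc.is_comm.comm (⟨q, hq⟩ : A) ⟨p, hp⟩)
      rw [mul_assoc, ← mul_assoc q p q, hpq, mul_assoc p q q, h2, mul_one, h1]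
    | inv p _ h1 => rw [← mul_inv_rev, h1, inv_one]
  have hA : IsPGroup 2 A := fun x => ⟨1, Subtype.ext (by
    rw [pow_one, SubmonoidClass.coe_pow, pow_two, hsq x x.2, OneMemClass.coe_one])⟩
  set g : A.comap f →* A := f.subgroupComap A
  have hg : Function.Surjective g := by
    intro x
    have hr : A ≤ f.range := (closure_le _).2 (by
      rintro _ (rfl | rfl | rfl) <;> exact ⟨_, rfl⟩)
    obtain ⟨y, hy⟩ := hr x.2
    exact ⟨⟨y, show f y ∈ A from hy ▸ x.2⟩, Subtype.ext hy⟩
  obtain ⟨P⟩ := (inferInstance : Nonempty (Sylow 2 (A.comap f)))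
  haveI : Finite A := Finite.of_surjective g hg
  have htop : (P : Subgroup (A.comap f)).map g = ⊤ := by
    rw [← Sylow.coe_mapSurjective hg]
    exact ((P.mapSurjective hg).is_maximal' (hA.to_subgroup ⊤) le_top).symm
  set h : (P : Subgroup (A.comap f)) →* A := g.comp (P : Subgroup (A.comap f)).subtype
  have hinj : Function.Injective h := by
    rw [injective_iff_map_eq_one]
    intro x hx
    obtain ⟨k, hk⟩ := IsPGroup.iff_orderOf.1 P.isPGroup' x
    have hxk : ((x : A.comap f) : H) ∈ f.ker := congrArg Subtype.val hx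
    have hd := Subgroup.orderOf_dvd_natCard _ hxk
    rw [Subgroup.orderOf_coe, Subgroup.orderOf_coe, hk] at hd
    exact orderOf_eq_one_iff.1 (hk.trans
      (Nat.eq_one_of_dvd_coprimes ((Nat.coprime_two_left.2 hker).pow_left k) dvd_rfl hd))
  let ι : (P : Subgroup (A.comap f)) →* G :=
    H.subtype.comp ((A.comap f).subtype.comp (P : Subgroup (A.comap f)).subtype)
  have hι : Function.Injective ι :=
    H.subtype_injective.comp ((A.comap f).subtype_injective.comp (Subgroup.subtype_injective _))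
  obtain ⟨φ, hφ⟩ := Involutions.DihedralSylow.exists_embedding (S := S)
    (P.isPGroup'.of_surjective ι.rangeRestrict ι.rangeRestrict_surjective) e
  have hcard := Involutions.DihedralEmbedding.card_le_four (φ.comp ι.rangeRestrict)
    (hφ.comp (MonoidHom.rangeRestrict_injective_iff.2 hι))
    (Involutions.DihedralSylow.two_dvd S e hm) (by omega)
    (fun x => hinj (by rw [map_mul, map_one]; exact Subtype.ext (hsq _ (h x).2)))
  have hbij : Function.Bijective h := ⟨hinj, fun x => by
    obtain ⟨y, hy, hyx⟩ := htop.symm ▸ mem_top x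
    exact ⟨⟨y, hy⟩, hyx⟩⟩
  rw [Nat.card_congr (Equiv.ofBijective h hbij)] at hcard
  let T : Finset X := {1, f a, f b, f a * f b, f c}
  have hTA : ∀ x ∈ T, x ∈ A := by
    have h1 : f a ∈ A := subset_closure (by simp)
    have h2 : f b ∈ A := subset_closure (by simp)
    have h3 : f c ∈ A := subset_closure (by simp)
    intro x hx
    simp only [T, Finset.mem_insert, Finset.mem_singleton] at hx
    rcases hx with rfl | rfl | rfl | rfl | rfl
    exacts [one_mem _, h1, h2, mul_mem h1 h2, h3]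
  have hT : T.card = 5 := by
    have e1 : f a * f b ≠ 1 := fun h => hne (by
      rw [← mul_one (f a), ← hb, ← mul_assoc, h, one_mul])
    simp only [T]
    rw [Finset.card_insert_of_notMem, Finset.card_insert_of_notMem, Finset.card_insert_of_notMem,
      Finset.card_insert_of_notMem, Finset.card_singleton]
    · simp [Ne.symm hcab]
    · simp [hb1, ha1, Ne.symm hcb]
    · simp [ha1, hb1, hne, Ne.symm hca]
    · simp [Ne.symm ha1, Ne.symm hb1, Ne.symm e1, Ne.symm hc1]
  have h5 : Nat.card T ≤ Nat.card A :=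
    Nat.card_le_card_of_injective (fun x => (⟨x, hTA x x.2⟩ : A))
      fun x y hxy => Subtype.ext (congrArg Subtype.val hxy :)
  rw [Nat.card_eq_fintype_card, Fintype.card_coe, hT] at h5
  omega

/-- Two commuting involutions in a group of type `PSL₂(q)` or `A₇`. -/
theorem exists_four {Q : Type v} [Group Q] (h : IsType Q) :
    ∃ a b : Q, orderOf a = 2 ∧ orderOf b = 2 ∧ a ≠ b ∧ Commute a b := by
  have key : ∀ {Q' : Type} [Group Q'] (e : Q ≃* Q') (a b : Q'), orderOf a = 2 → orderOf b = 2 → a ≠ b →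
      Commute a b → ∃ a b : Q, orderOf a = 2 ∧ orderOf b = 2 ∧ a ≠ b ∧ Commute a b :=
    fun e a b ha hb hab hc => ⟨e.symm a, e.symm b, by rw [MulEquiv.orderOf_eq, ha],
      by rw [MulEquiv.orderOf_eq, hb], e.symm.injective.ne hab, hc.map e.symm.toMonoidHom⟩
  rcases h with ⟨F, i1, i2, hodd, -, ⟨e⟩⟩ | ⟨⟨e⟩⟩
  · obtain ⟨a, b, ha, hb, hab, hc, -, -⟩ :=
      field_four (F := F) (Classical.SylowSL2.two_ne_zero_of_odd hodd) (RingEquiv.refl F)
    exact key e a b ha hb hab hc
  · obtain ⟨a, b, haA, hbA, ha, hb, hab, hc, -, -⟩ :=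
      alt_seven_four (σ := (1 : Equiv.Perm (Fin 7))) (one_mul 1)
    exact key e ⟨a, haA⟩ ⟨b, hbA⟩ (by rw [Subgroup.orderOf_mk, ha]) (by rw [Subgroup.orderOf_mk, hb])
      (fun h => hab (Subtype.mk.inj h)) (Subtype.ext hc.eq)

/-- What is used about a pair of involutions moving the odd core of `L`. -/
structure Pair (L : Subgroup G) (t u : G) : Prop where
  odd_le : oddPart L ≤ centralizer (maxPerfect L : Set G)
  tu_mem : t * u ∈ maxPerfect L
  exists_conj : ∃ e ∈ maxPerfect L, e * t * e⁻¹ = u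
  mem_of_fixed : ∀ x ∈ maxPerfect L, Odd (orderOf x) → Commute x t → Commute x u → x ∈ oddPart L
  mem_of_fixed_coset : ∀ x ∈ L, ∀ y ∈ L, Odd (orderOf x) → Odd (orderOf y) → Commute x t →
    Commute x u → Commute y t → Commute y u → x⁻¹ * y ∈ maxPerfect L → x⁻¹ * y ∈ oddPart L
  mem_of_generate : ∀ x ∈ L,
    (∀ y ∈ maxPerfect L, Commute y t → x * y * x⁻¹ * y⁻¹ ∈ oddPart L) →
    (∀ y ∈ maxPerfect L, Commute y u → x * y * x⁻¹ * y⁻¹ ∈ oddPart L) → x ∈ oddPart L
  inner : ∀ x ∈ L, Odd (orderOf x) → t * x * t⁻¹ = x⁻¹ → x ∈ maxPerfect L ⊔ oddPart L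
  coprime : ∀ x ∈ maxPerfect L ⊔ oddPart L, ∀ y ∈ maxPerfect L ⊔ oddPart L, ∀ r : ℕ, r.Prime →
    r ≠ 2 → orderOf x = r → orderOf y = r → Commute x t → Commute y (t * u) →
    x ∈ oddPart L ∨ y ∈ oddPart L
  cross : ∀ x ∈ maxPerfect L ⊔ oddPart L, ∀ y ∈ maxPerfect L ⊔ oddPart L, Odd (orderOf x) →
    Odd (orderOf y) → Commute x t → Commute y u → Commute x y → x ∈ oddPart L ∨ y ∈ oddPart L

/-- Elements of a join with a normalized subgroup. -/
theorem mem_sup_of_le_normalizer {A B : Subgroup G} (h : A ≤ normalizer (B : Set G)) {x : G}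
    (hx : x ∈ A ⊔ B) : ∃ a ∈ A, ∃ b ∈ B, a * b = x := by
  have := coe_mul_of_left_le_normalizer_right A B h
  obtain ⟨a, ha, b, hb, hab⟩ := Set.mem_mul.1 (this.le (SetLike.mem_coe.2 hx) :)
  exact ⟨a, ha, b, hb, hab⟩

theorem pair (S : Sylow 2 G) {m : ℕ} (hm : 2 ≤ m) (eS : (S : Subgroup G) ≃* DihedralGroup m)
    (hknown : KnownProper G) {L : Subgroup G} (hL : L ≠ ⊤) (hlay : Cfsg.layer ↥L ≠ ⊥) {t u : G}
    (htL : t ∈ L) (huL : u ∈ L) (ht : orderOf t = 2) (hu : orderOf u = 2) (hne : t ≠ u)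
    (htu : Commute t u) (hOt : t ∉ centralizer (oddPart L : Set G))
    (hOu : u ∉ centralizer (oddPart L : Set G)) : Pair L t u := by
  have hgfit : Cfsg.generalizedFittingSubgroup L ≠ Cfsg.fittingSubgroup L := fun h => by
    refine hlay (eq_bot_iff.2 (sSup_le fun C hC => absurd ?_ (Components.Basic.component_not_le_of_isSolvable hC
      (H := Cfsg.fittingSubgroup L) ?_)))
    · exact (Components.Fitting.layer_le_genFitting.trans' (le_sSup hC)).trans h.le
    · haveI : Group.IsNilpotent (Cfsg.fittingSubgroup L) := Cores.fittingSubgroup_isNilpotent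
      infer_instance
  classical
  obtain ⟨hE1, hOE, hOL⟩ := component_structure hknown hL hgfit
  set E := maxPerfect L with hEdef
  set O := oddPart L with hOdef
  have hEperf : ⁅E, E⁆ = E := maxPerfect_perfect L
  have hEL : E ≤ L := maxPerfect_le L
  have hEn : L ≤ normalizer (E : Set G) := le_normalizer_maxPerfect L
  have hEt : E ≠ ⊤ := fun h => hL (top_le_iff.1 (h.symm.le.trans hEL))
  have htype : IsType (E ⧸ Cfsg.oddCore E) := hknown E hEt hE1 hEperf
  haveI := isType_simple htype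
  haveI : (Cfsg.oddCore E).Normal := Cores.pPrimeCore_normal 2
  set π := QuotientGroup.mk' (Cfsg.oddCore E) with hπ
  have hπsurj : Function.Surjective π := QuotientGroup.mk'_surjective _
  -- the centre of the quotient
  have hZ : ∀ q : E ⧸ Cfsg.oddCore E, (∀ p, p * q = q * p) → q = 1 := by
    intro q hq
    have hqZ : q ∈ center (E ⧸ Cfsg.oddCore E) := mem_center_iff.2 hq
    rcases IsSimpleGroup.eq_bot_or_eq_top_of_normal (center (E ⧸ Cfsg.oddCore E)) inferInstance with
      h | h
    · rwa [h, mem_bot] at hqZ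
    · obtain ⟨a, b, ha, hb, hab, -⟩ := exists_four htype
      exfalso
      have hbot : (⊤ : Subgroup (E ⧸ Cfsg.oddCore E)) = ⊥ := by
        have hp : ⁅(⊤ : Subgroup E), (⊤ : Subgroup E)⁆ = ⊤ := by
          apply Subgroup.map_injective E.subtype_injective
          rw [map_commutator, ← MonoidHom.range_eq_map, E.range_subtype]
          exact hEperf
        rw [← map_top_of_surjective π hπsurj, ← hp, map_commutator, map_top_of_surjective π hπsurj,
          commutator_eq_bot_iff_le_centralizer]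
        exact fun x _ => mem_centralizer_iff.2 fun y _ =>
          (mem_center_iff.1 (h ▸ mem_top x) y)
      have := hbot ▸ mem_top a
      rw [mem_bot] at this
      rw [this, orderOf_one] at ha
      omega
  have hπO : ∀ x : E, (x : G) ∈ O → π x = 1 := fun x hx => hZ _ fun p => by
    obtain ⟨y, rfl⟩ := hπsurj p
    rw [← map_mul, ← map_mul]
    exact congrArg π (Subtype.ext (mem_centralizer_iff.1 (hOL hx) y y.2))
  -- `C_L(E) = O(L)`
  set D := oddPart E with hDdef
  have hDodd : Odd (Nat.card D) := oddPart_odd E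
  have hDn : L ≤ normalizer (D : Set G) := fun x hx => mem_normalizer_oddPart (hEn hx)
  haveI hDnorm : (D.subgroupOf L).Normal := normal_subgroupOf_of_le_normalizer hDn
  have hπD : ∀ x : E, π x = 1 ↔ (x : G) ∈ D := fun x => by
    rw [hπ, QuotientGroup.mk'_apply, QuotientGroup.eq_one_iff, hDdef, oddPart]
    exact (mem_map_iff_mem E.subtype_injective).symm
  set C := L ⊓ centralizer (E : Set G) with hCdef
  have hCodd : Odd (Nat.card C) := by
    rw [← Nat.not_even_iff_odd, even_iff_two_dvd]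
    intro hdvd
    haveI : Fact (Nat.Prime 2) := ⟨Nat.prime_two⟩
    obtain ⟨⟨z, hzL, hzC⟩, hz⟩ := exists_prime_orderOf_dvd_card' (G := C) 2 hdvd
    replace hz : orderOf z = 2 := (Subgroup.orderOf_mk z _).symm.trans hz
    obtain ⟨qa, qb, hqa, hqb, hqab, hqc⟩ := exists_four htype
    obtain ⟨a, rfl⟩ := hπsurj qa
    obtain ⟨b, rfl⟩ := hπsurj qb
    set f := QuotientGroup.mk' (D.subgroupOf L)
    have hfker : Odd (Nat.card f.ker) := by
      rw [QuotientGroup.ker_mk', Nat.card_congr (subgroupOfEquivOfLe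
        ((oddPart_le E).trans hEL)).toEquiv]
      exact hDodd
    have hfπ : ∀ x y : E, π x = π y → f (Subgroup.inclusion hEL x) = f (Subgroup.inclusion hEL y) := by
      intro x y hxy
      refine QuotientGroup.eq.2 ?_
      rw [mem_subgroupOf]
      exact (hπD (x⁻¹ * y)).1 (by rw [map_mul, map_inv, hxy, inv_mul_cancel])
    have hfπ' : ∀ x y : E, f (Subgroup.inclusion hEL x) = f (Subgroup.inclusion hEL y) → π x = π y := by
      intro x y hxy
      have := QuotientGroup.eq.1 hxy
      rw [mem_subgroupOf] at this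
      exact inv_mul_eq_one.1 (((map_mul π _ _).symm.trans ((hπD (x⁻¹ * y)).2 this)) |> fun h => by
        rwa [map_inv] at h)
    have hsqz : f ⟨z, hzL⟩ * f ⟨z, hzL⟩ = 1 := by
      rw [← map_mul, show (⟨z, hzL⟩ : L) * ⟨z, hzL⟩ = 1 from Subtype.ext (Involutions.Basic.inv_sq_one hz),
        map_one]
    have hsq : ∀ x : E, orderOf (π x) = 2 → f (Subgroup.inclusion hEL x) * f (Subgroup.inclusion hEL x) = 1 := by
      intro x hx
      rw [← map_mul, ← map_mul, ← map_one f, ← map_one (Subgroup.inclusion hEL)]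
      exact hfπ _ _ (by rw [map_mul, Involutions.Basic.inv_sq_one hx, map_one])
    have hzc : ∀ x : E, Commute (f (Subgroup.inclusion hEL x)) (f ⟨z, hzL⟩) := fun x => by
      show _ * _ = _ * _
      rw [← map_mul, ← map_mul]
      exact congrArg f (Subtype.ext (mem_centralizer_iff.1 hzC x x.2))
    -- `z` is not congruent to an element of `E`
    have hzE : ∀ x : E, f ⟨z, hzL⟩ ≠ f (Subgroup.inclusion hEL x) := by
      intro x hx
      have h1 := QuotientGroup.eq.1 hx
      rw [mem_subgroupOf] at h1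
      have hzE : z ∈ E := by
        have h2 := mul_mem (show (x : G) ∈ E from x.2) (inv_mem (oddPart_le E h1))
        simpa using h2
      have h3 : π ⟨z, hzE⟩ = 1 := hZ _ fun p => by
        obtain ⟨y, rfl⟩ := hπsurj p
        rw [← map_mul, ← map_mul]
        exact congrArg π (Subtype.ext (mem_centralizer_iff.1 hzC y y.2))
      have h4 := Subgroup.orderOf_dvd_natCard _ ((hπD _).1 h3)
      rw [hz] at h4
      exact (Nat.not_even_iff_odd.2 hDodd) (even_iff_two_dvd.2 h4)
    refine no_three S hm eS f hfker (a := Subgroup.inclusion hEL a) (b := Subgroup.inclusion hEL b)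
      (c := ⟨z, hzL⟩) (hsq a hqa) (hsq b hqb) hsqz ?_ (hzc a) (hzc b) ?_ ?_ ?_ ?_ (hzE a) (hzE b) ?_
    · show _ * _ = _ * _
      rw [← map_mul, ← map_mul, ← map_mul, ← map_mul]
      exact hfπ _ _ (by rw [map_mul, map_mul, hqc.eq])
    · intro h
      rw [← map_one f, ← map_one (Subgroup.inclusion hEL)] at h
      rw [hfπ' _ _ h, map_one, orderOf_one] at hqa; omega
    · intro h
      rw [← map_one f, ← map_one (Subgroup.inclusion hEL)] at h
      rw [hfπ' _ _ h, map_one, orderOf_one] at hqb; omega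
    · exact fun h => hqab (hfπ' _ _ h)
    · intro h
      exact hzE 1 (by rw [h, map_one, map_one])
    · rw [← map_mul, ← map_mul]; exact hzE (a * b)
  have hCO : C ≤ O := by
    have hCn : L ≤ normalizer (C : Set G) := fun x hx => by
      rw [mem_normalizer_iff]
      intro y
      simp only [hCdef, mem_inf]
      refine and_congr (mem_normalizer_iff.1 (le_normalizer hx) y) ?_
      exact mem_normalizer_iff.1
        (PLocal.Offender.le_normalizer_centralizer hEn hx) y
    haveI : (C.subgroupOf L).Normal := normal_subgroupOf_of_le_normalizer hCn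
    rw [hOdef, oddPart, ← map_subgroupOf_eq_of_le (show C ≤ L from inf_le_left)]
    refine map_mono (PLocal.Cores.le_pPrimeCore ?_)
    rw [Nat.card_congr (subgroupOfEquivOfLe (show C ≤ L from inf_le_left)).toEquiv]
    exact Nat.coprime_two_right.2 hCodd
  -- the action
  set act : L →* MulAut (E ⧸ Cfsg.oddCore E) :=
    (quotOddAut E).comp (E.normalizerMonoidHom.comp (Subgroup.inclusion hEn)) with hact
  have hact_mk : ∀ (x : L) (y : E), act x (π y) =
      π ⟨(x : G) * y * (x : G)⁻¹, (mem_normalizer_iff.1 (hEn x.2) y).1 y.2⟩ := fun x y => rfl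
  have hact1 : ∀ x : L, act x = 1 ↔ (x : G) ∈ O := by
    intro x
    constructor
    · intro hx
      refine hCO ⟨x.2, ?_⟩
      have h1 : ⁅E, zpowers (x : G)⁆ = ⊥ := by
        refine Components.Basic.commutator_eq_bot_of_perfect hEperf ?_
        rw [commutator_eq_bot_iff_le_centralizer]
        refine le_trans ?_ hOE
        refine commutator_le.2 ?_
        rintro y hy _ ⟨n, rfl⟩
        have hn : act (x ^ n) = 1 := by rw [map_zpow, hx, one_zpow]
        have h2 := congrArg (fun σ : MulAut (E ⧸ Cfsg.oddCore E) => σ (π ⟨y, hy⟩)) hn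
        simp only [MulAut.one_apply] at h2
        rw [hact_mk] at h2
        have h3 := (hπD (⟨y, hy⟩ * (⟨((x ^ n : L) : G) * y * ((x ^ n : L) : G)⁻¹,
          (mem_normalizer_iff.1 (hEn (x ^ n).2) y).1 hy⟩ : E)⁻¹)).1 (by
            rw [map_mul, map_inv, h2, mul_inv_cancel])
        simpa [commutatorElement_def, mul_assoc] using h3
      rw [commutator_comm, commutator_eq_bot_iff_le_centralizer] at h1
      exact h1 (mem_zpowers (x : G))
    · intro hx
      refine MulEquiv.ext fun q => ?_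
      obtain ⟨y, rfl⟩ := hπsurj q
      rw [hact_mk, MulAut.one_apply]
      exact congrArg π (Subtype.ext (mul_inv_eq_iff_eq_mul.2
        (mem_centralizer_iff.1 (hOL hx) y y.2).symm))
  have hact_in : ∀ (y : E), act (Subgroup.inclusion hEL y) = MulAut.conj (π y) := by
    intro y
    refine MulEquiv.ext fun q => ?_
    obtain ⟨z, rfl⟩ := hπsurj q
    rw [hact_mk, MulAut.conj_apply, ← map_inv, ← map_mul, ← map_mul]
    rfl
  have hEO : E ≤ normalizer (O : Set G) := hEL.trans (le_normalizer_oddPart L)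
  have hinner : ∀ (x : L), (∃ q, act x = MulAut.conj q) ↔ (x : G) ∈ E ⊔ O := by
    intro x
    constructor
    · rintro ⟨q, hq⟩
      obtain ⟨y, rfl⟩ := hπsurj q
      have h1 : act ((Subgroup.inclusion hEL y)⁻¹ * x) = 1 := by
        rw [map_mul, map_inv, hact_in, hq, inv_mul_cancel]
      have h2 := (hact1 _).1 h1
      simpa using mul_mem_sup y.2 h2
    · intro hx
      obtain ⟨y, hy, o, ho, hyo⟩ : ∃ y ∈ E, ∃ o ∈ O, y * o = x :=
        mem_sup_of_le_normalizer hEO hx
      refine ⟨π ⟨y, hy⟩, ?_⟩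
      rw [show x = Subgroup.inclusion hEL ⟨y, hy⟩ * ⟨o, oddPart_le L ho⟩ from Subtype.ext hyo.symm,
        map_mul, (hact1 ⟨o, oddPart_le L ho⟩).2 ho, mul_one, hact_in]
  -- the two involutions
  set α := act ⟨t, htL⟩ with hα
  set β := act ⟨u, huL⟩ with hβ
  have hsq2 : ∀ {x : G} (hxL : x ∈ L), orderOf x = 2 → act ⟨x, hxL⟩ * act ⟨x, hxL⟩ = 1 :=
    fun hxL hx => by
      rw [← map_mul, show (⟨_, hxL⟩ : L) * ⟨_, hxL⟩ = 1 from
        Subtype.ext (Involutions.Basic.inv_sq_one hx), map_one]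
  have hout : ∀ {x : G} (hxL : x ∈ L), orderOf x = 2 → x ∉ centralizer (O : Set G) →
      ∀ q, act ⟨x, hxL⟩ ≠ MulAut.conj q := by
    intro x hxL hx hxO q hq
    obtain ⟨y, hy, o, ho, hyo⟩ : ∃ y ∈ E, ∃ o ∈ O, y * o = x :=
      mem_sup_of_le_normalizer hEO ((hinner ⟨x, hxL⟩).1 ⟨q, hq⟩)
    have hc : Commute o y := (mem_centralizer_iff.1 (hOL ho) y hy).symm
    have ho2 : o * o ∈ E := by
      have h1 : y * y * (o * o) = 1 := by
        rw [← hc.mul_mul_mul_comm, hyo, Involutions.Basic.inv_sq_one hx]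
      rw [show o * o = (y * y)⁻¹ * (y * y * (o * o)) by group, h1, mul_one]
      exact inv_mem (mul_mem hy hy)
    have hoE : o ∈ E := by
      obtain ⟨j, hj⟩ := exists_pow_eq_self_of_coprime (x := o)
        (Nat.coprime_two_left.2 ((oddPart_odd L).of_dvd_nat (Subgroup.orderOf_dvd_natCard _ ho)))
      rw [← hj, pow_two]
      exact pow_mem ho2 j
    refine hxO (mem_centralizer_iff.2 fun w hw => ?_)
    rw [← hyo]
    exact (mem_centralizer_iff.1 (hOL hw) _ (mul_mem hy hoE)).symm
  have hoα := hout htL ht hOt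
  have hoβ := hout huL hu hOu
  have hαβ : Commute α β := by
    show _ * _ = _ * _
    rw [hα, hβ, ← map_mul, ← map_mul]
    exact congrArg act (Subtype.ext htu.eq)
  have hαne : α ≠ β := by
    intro h
    have h1 : act (⟨t, htL⟩ * ⟨u, huL⟩) = 1 := by rw [map_mul, ← hα, ← hβ, h, hsq2 huL hu]
    have h2 := Subgroup.orderOf_dvd_natCard _ ((hact1 _).1 h1)
    rw [show orderOf ((⟨t, htL⟩ * ⟨u, huL⟩ : L) : G) = 2 from orderOf_eq_prime (by
      rw [Subgroup.coe_mul, pow_two, htu.symm.mul_mul_mul_comm, Involutions.Basic.inv_sq_one ht,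
        Involutions.Basic.inv_sq_one hu, one_mul]) (fun h => hne (by
      rw [Subgroup.coe_mul] at h
      rw [← mul_one t, ← Involutions.Basic.inv_sq_one hu, ← mul_assoc, h, one_mul]))] at h2
    exact (Nat.not_even_iff_odd.2 (oddPart_odd L)) (even_iff_two_dvd.2 h2)
  have hnoF : ∀ {x : G} (hxL : x ∈ L), orderOf x = 2 → x ∉ centralizer (O : Set G) →
      NoFour (act ⟨x, hxL⟩) := by
    intro x hxL hx hxO p q hp hq hpq hpqc hxp hxq
    have ho := hout hxL hx hxO
    obtain ⟨a, rfl⟩ := hπsurj p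
    obtain ⟨b, rfl⟩ := hπsurj q
    have hker : Odd (Nat.card act.ker) := by
      refine (oddPart_odd L).of_dvd_nat ?_
      rw [← card_map_of_injective (K := act.ker) L.subtype_injective]
      refine card_dvd_of_le ?_
      rintro _ ⟨w, hw, rfl⟩
      exact (hact1 w).1 hw
    have hcomm : ∀ y : E, act ⟨x, hxL⟩ (π y) = π y →
        Commute (act (Subgroup.inclusion hEL y)) (act ⟨x, hxL⟩) := fun y hy => by
      rw [hact_in]
      refine MulEquiv.ext fun w => ?_
      simp only [MulAut.mul_apply, MulAut.conj_apply, map_mul, map_inv, hy]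
    have hinj : ∀ y z : E, act (Subgroup.inclusion hEL y) = act (Subgroup.inclusion hEL z) → π y = π z := by
      intro y z h
      rw [hact_in, hact_in] at h
      refine (inv_mul_eq_one.1 (hZ ((π z)⁻¹ * π y) fun w => ?_)).symm
      have h' := congrArg (fun σ : MulAut (E ⧸ Cfsg.oddCore E) => σ w) h
      simp only [MulAut.conj_apply] at h'
      calc w * ((π z)⁻¹ * π y) = (π z)⁻¹ * (π z * w * (π z)⁻¹) * π y := by group
        _ = (π z)⁻¹ * (π y * w * (π y)⁻¹) * π y := by rw [h']
        _ = _ := by group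
    refine no_three S hm eS act hker (a := Subgroup.inclusion hEL a) (b := Subgroup.inclusion hEL b)
      (c := ⟨x, hxL⟩) ?_ ?_ (hsq2 hxL hx) ?_ (hcomm a hxp) (hcomm b hxq) ?_ ?_ ?_ ?_ ?_ ?_ ?_
    · rw [hact_in, ← map_mul, Involutions.Basic.inv_sq_one hp, map_one]
    · rw [hact_in, ← map_mul, Involutions.Basic.inv_sq_one hq, map_one]
    · show _ * _ = _ * _
      rw [hact_in, hact_in, ← map_mul, hpqc.eq, map_mul]
    · intro h
      rw [← map_one act, ← map_one (Subgroup.inclusion hEL)] at h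
      rw [hinj _ _ h, map_one, orderOf_one] at hp; omega
    · intro h
      rw [← map_one act, ← map_one (Subgroup.inclusion hEL)] at h
      rw [hinj _ _ h, map_one, orderOf_one] at hq; omega
    · exact fun h => hpq (hinj _ _ h)
    · exact fun h => ho 1 (h.trans (map_one _).symm)
    · exact fun h => ho _ (h.trans (hact_in a))
    · exact fun h => ho _ (h.trans (hact_in b))
    · intro h
      rw [hact_in, hact_in, ← map_mul] at h
      exact ho _ h
  have hNα := hnoF htL ht hOt
  have hNβ := hnoF huL hu hOu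
  -- only `PSL₂(q)` remains
  rcases htype with ⟨F, iF, iT, hodd, h3, ⟨e⟩⟩ | ⟨⟨e⟩⟩
  swap
  · exact (alt_seven_false (α := MulAut.congr e α) (by rw [← map_mul, hsq2 htL ht, map_one])
      (noFour_congr e hNα)).elim
  set c := MulAut.congr e
  set Φ : L →* MulAut (Matrix.ProjectiveSpecialLinearGroup (Fin 2) F) := c.toMonoidHom.comp act
  set ρ := e.toMonoidHom.comp π
  have hρ : Function.Surjective ρ := e.surjective.comp hπsurj
  have hΦ1 : ∀ x : L, Φ x = 1 ↔ (x : G) ∈ O := fun x =>
    (map_eq_one_iff c c.injective).trans (hact1 x)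
  have hΦ_mk : ∀ (x : L) (y : E), Φ x (ρ y) =
      ρ ⟨(x : G) * y * (x : G)⁻¹, (mem_normalizer_iff.1 (hEn x.2) y).1 y.2⟩ := fun x y => by
    show e (act x (e.symm (e (π y)))) = e (π _)
    rw [e.symm_apply_apply, hact_mk]
  have hcc : ∀ q, c (MulAut.conj q) = MulAut.conj (e q) := fun q => MulEquiv.ext fun w => by
    show e (q * e.symm w * q⁻¹) = e q * w * (e q)⁻¹
    rw [map_mul, map_mul, map_inv, e.apply_symm_apply]
  have hΦin : ∀ y : E, Φ (Subgroup.inclusion hEL y) = MulAut.conj (ρ y) := fun y => by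
    show c (act _) = _
    rw [hact_in, hcc]; rfl
  have hΦinner : ∀ x : L, (x : G) ∈ E ⊔ O → ∃ q, Φ x = MulAut.conj q := fun x hx => by
    obtain ⟨q, hq⟩ := (hinner x).2 hx
    exact ⟨e q, by show c (act x) = _; rw [hq, hcc]⟩
  have hout' : ∀ {γ : MulAut (E ⧸ Cfsg.oddCore E)}, (∀ q, γ ≠ MulAut.conj q) →
      ∀ q, c γ ≠ MulAut.conj q := fun h q hq => h (e.symm q) (c.injective (by
        rw [hcc, e.apply_symm_apply, hq]))
  obtain ⟨d⟩ := exists_diag (α := Φ ⟨t, htL⟩) (β := Φ ⟨u, huL⟩) hodd h3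
    (by show c α * c α = 1; rw [← map_mul, hsq2 htL ht, map_one])
    (by show c β * c β = 1; rw [← map_mul, hsq2 huL hu, map_one]) (hαβ.map c.toMonoidHom)
    (c.injective.ne hαne) (noFour_congr e hNα) (noFour_congr e hNβ) (hout' hoα) (hout' hoβ)
  have hinjC : Function.Injective (MulAut.conj : Matrix.ProjectiveSpecialLinearGroup (Fin 2) F →* _) := by
    haveI : IsSimpleGroup (Matrix.ProjectiveSpecialLinearGroup (Fin 2) F) :=
      Classical.Linear.isSimpleGroup_PSL_fin le_rfl fun _ => h3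
    exact AutPSL.LocalBalance.conj_injective le_rfl
  have hfix : ∀ {z : G} (hzL : z ∈ L) (x : L) (q), Φ x = MulAut.conj q → Commute (x : G) z →
      Φ ⟨z, hzL⟩ q = q := by
    intro z hzL x q hq hxz
    apply hinjC
    have h1 : Φ ⟨z, hzL⟩ * Φ x = Φ x * Φ ⟨z, hzL⟩ := by
      rw [← map_mul, ← map_mul]; exact congrArg Φ (Subtype.ext hxz.eq.symm)
    refine MulEquiv.ext fun w => ?_
    have h2 := congrArg (fun σ : MulAut _ => σ ((Φ ⟨z, hzL⟩)⁻¹ w)) h1
    simp only [MulAut.mul_apply, MulAut.apply_inv_self, hq, MulAut.conj_apply, map_mul, map_inv] at h2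
    simpa [MulAut.conj_apply] using h2
  have htuL : t * u ∈ L := mul_mem htL huL
  have hprod : Φ ⟨t * u, htuL⟩ = Φ ⟨t, htL⟩ * Φ ⟨u, huL⟩ := by
    rw [← map_mul]; rfl
  have hordq : ∀ (x : L) (q), Φ x = MulAut.conj q → orderOf q ∣ orderOf (x : G) := fun x q hq => by
    rw [← orderOf_injective _ hinjC q, ← hq, Subgroup.orderOf_coe]
    exact orderOf_map_dvd Φ x
  have htuE : t * u ∈ E := by
    obtain ⟨q, hq⟩ := d.inner_mul
    obtain ⟨y, rfl⟩ := hρ q
    have h1 : Φ ((Subgroup.inclusion hEL y)⁻¹ * ⟨t * u, htuL⟩) = 1 := by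
      rw [map_mul, map_inv, hΦin, hprod, hq, inv_mul_cancel]
    have h2 := (hΦ1 _).1 h1
    have htu2 : (t * u) * (t * u) = 1 := by
      rw [htu.symm.mul_mul_mul_comm, Involutions.Basic.inv_sq_one ht, Involutions.Basic.inv_sq_one hu,
        one_mul]
    set o := (y : G)⁻¹ * (t * u) with ho
    have hoO : o ∈ O := h2
    have hc : Commute o (y : G) := (mem_centralizer_iff.1 (hOL hoO) y y.2).symm
    have hoE : o ∈ E := by
      have h4 : o * o ∈ E := by
        have h5 : (y : G) * y * (o * o) = 1 := by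
          rw [← hc.mul_mul_mul_comm, show (y : G) * o = t * u by rw [ho]; group, htu2]
        rw [show o * o = ((y : G) * y)⁻¹ * ((y : G) * y * (o * o)) by group, h5, mul_one]
        exact inv_mem (mul_mem y.2 y.2)
      obtain ⟨j, hj⟩ := exists_pow_eq_self_of_coprime (x := o)
        (Nat.coprime_two_left.2 ((oddPart_odd L).of_dvd_nat (Subgroup.orderOf_dvd_natCard _ hoO)))
      rw [← hj, pow_two]
      exact pow_mem h4 j
    have := mul_mem y.2 hoE
    rwa [ho, mul_inv_cancel_left] at this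
  have hlift : ∀ {z : G} (hzL : z ∈ L), orderOf z = 2 → ∀ q, Φ ⟨z, hzL⟩ q = q →
      ∃ y : E, ρ y = q ∧ Commute (y : G) z := by
    intro z hzL hz q hq
    obtain ⟨y, rfl⟩ := hρ q
    rw [hΦ_mk] at hq
    have hn : z ∈ normalizer (D : Set G) := hDn hzL
    have hz1 : (⟨z * y * z⁻¹, (mem_normalizer_iff.1 (hEn hzL) y).1 y.2⟩ : E)⁻¹ * y ∈ Cfsg.oddCore E :=
      QuotientGroup.eq.1 (e.injective hq)
    obtain ⟨n, hn', hc⟩ := Coprime.exists_fixed_in_coset (A := zpowers z) (N := D) (k := (y : G))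
      (zpowers_le.2 hn) (by rw [Nat.card_zpowers, hz]; exact Nat.coprime_two_left.2 hDodd)
      (Or.inr (oddPart_solvable E)) (fun a ha => by
        rcases (mem_zpowers_iff_mem_range_orderOf.1 ha |> Finset.mem_image.1) with ⟨i, hi, rfl⟩
        rw [Finset.mem_range, hz] at hi
        interval_cases i
        · simp
        · rw [pow_one]
          have h1 : ((⟨z * y * z⁻¹, (mem_normalizer_iff.1 (hEn hzL) y).1 y.2⟩ : E)⁻¹ * y)⁻¹ ∈
              Cfsg.oddCore E := inv_mem hz1
          exact ⟨_, h1, by simp [mul_assoc]⟩)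
    refine ⟨y * ⟨n, oddPart_le E hn'⟩, ?_, ?_⟩
    · rw [map_mul, show ρ ⟨n, oddPart_le E hn'⟩ = 1 from by
        show e (π _) = 1
        rw [(hπD _).2 hn', map_one], mul_one]
    · exact (mem_centralizer_iff.1 hc z (mem_zpowers z)).symm
  refine ⟨hOL, htuE, ?_, ?_, ?_, ?_, ?_, ?_, ?_⟩
  · -- the involutions are conjugate under `E`
    obtain ⟨q, hq⟩ := d.exists_conj
    obtain ⟨y, rfl⟩ := hρ q
    set o := u * ((y : G) * t * (y : G)⁻¹) with ho
    have hoO : o ∈ O := (hΦ1 (⟨u, huL⟩ * (Subgroup.inclusion hEL y * ⟨t, htL⟩ *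
      (Subgroup.inclusion hEL y)⁻¹))).1 (by
        rw [map_mul, map_mul, map_mul, map_inv, hΦin, hq]
        show c β * c β = 1
        rw [← map_mul, hsq2 huL hu, map_one])
    have hu2 := Involutions.Basic.inv_sq_one hu
    have hv : ((y : G) * t * (y : G)⁻¹) * ((y : G) * t * (y : G)⁻¹) = 1 := by
      rw [show (y : G) * t * (y : G)⁻¹ * ((y : G) * t * (y : G)⁻¹) = y * (t * t) * (y : G)⁻¹ by group,
        Involutions.Basic.inv_sq_one ht, mul_one, mul_inv_cancel]
    have hinv : u * o * u = o⁻¹ := by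
      rw [eq_inv_iff_mul_eq_one, ho]
      simp only [mul_assoc] at hv ⊢
      rw [← mul_assoc u u, hu2, one_mul, ← mul_assoc u u, hu2, one_mul]
      exact hv
    have hoE : o ∈ E := by
      have h2 : t⁻¹ * (y : G) * t ∈ E := (mem_normalizer_iff''.1 (hEn htL) y).1 y.2
      have := mul_mem (mul_mem htuE h2) (inv_mem y.2)
      rw [htu.eq] at this
      simpa [ho, mul_assoc] using this
    obtain ⟨j, hj⟩ := exists_pow_eq_self_of_coprime (x := o)
      (Nat.coprime_two_left.2 ((oddPart_odd L).of_dvd_nat (Subgroup.orderOf_dvd_natCard _ hoO)))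
    refine ⟨o ^ j * y, mul_mem (pow_mem hoE j) y.2, ?_⟩
    have h1 : o ^ j * o ^ j = o := by rwa [← pow_add, ← two_mul, pow_mul]
    have h2 : u * o ^ j * u = (o ^ j)⁻¹ := by
      have hui : u⁻¹ = u := inv_eq_of_mul_eq_one_right hu2
      have h := conj_pow (a := u) (b := o) (i := j)
      rw [hui, hinv, inv_pow] at h
      exact h.symm
    calc o ^ j * y * t * (o ^ j * y)⁻¹ = o ^ j * ((y : G) * t * (y : G)⁻¹) * (o ^ j)⁻¹ := by group
      _ = o ^ j * (u * o) * (o ^ j)⁻¹ := by rw [ho, ← mul_assoc u u, hu2, one_mul]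
      _ = u * (u * o ^ j * u) * (o * (o ^ j)⁻¹) := by
        simp only [mul_assoc]; rw [← mul_assoc u u, hu2, one_mul]
      _ = u := by rw [h2]; nth_rw 2 [← h1]; group
  · -- fixed by both
    intro x hxE hx hxt hxu
    have hxL := hEL hxE
    have hq := hΦin ⟨x, hxE⟩
    have ho : Odd (orderOf (ρ ⟨x, hxE⟩)) := hx.of_dvd_nat (hordq _ _ hq)
    have h1 := d.inverts (hfix htL _ _ hq hxt) ho
    rw [hfix huL _ _ hq hxu] at h1
    have h2 : ρ ⟨x, hxE⟩ = 1 := eq_one_of_odd_of_sq ho (eq_inv_iff_mul_eq_one.1 h1)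
    exact (hΦ1 ⟨x, hxL⟩).1 (hq.trans (by rw [h2, map_one]))
  · -- cosets fixed by both
    intro x hxL y hyL hox hoy hxt hxu hyt hyu hxy
    have hw := hΦin ⟨_, hxy⟩
    set w : L := Subgroup.inclusion hEL ⟨_, hxy⟩
    have hwt : Commute (w : G) t := hxt.inv_left.mul_left hyt
    have hwu : Commute (w : G) u := hxu.inv_left.mul_left hyu
    refine (hΦ1 w).1 ?_
    rcases d.four (hfix htL _ _ hw hwt) (hfix huL _ _ hw hwu) with h | h
    · rw [hw, h, map_one]
    · exfalso
      rw [← hprod] at h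
      have hΦw : Φ w = Φ ⟨t * u, htuL⟩ := hw.trans h
      have hcx : Commute (Φ ⟨x, hxL⟩) (Φ w) := by
        rw [hΦw]
        show _ * _ = _ * _
        rw [← map_mul, ← map_mul]
        exact congrArg Φ (Subtype.ext (hxt.mul_right hxu).eq)
      have hy : Φ ⟨y, hyL⟩ = Φ ⟨x, hxL⟩ * Φ w := by
        rw [← map_mul]
        exact congrArg Φ (Subtype.ext (by simp [w]))
      have h2 : orderOf (Φ w) = 2 := orderOf_eq_prime (by
        rw [hΦw, ← map_pow, show (⟨t * u, htuL⟩ : L) ^ 2 = 1 from Subtype.ext (by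
          rw [SubmonoidClass.coe_pow, pow_two, htu.symm.mul_mul_mul_comm, Involutions.Basic.inv_sq_one ht,
            Involutions.Basic.inv_sq_one hu, one_mul, OneMemClass.coe_one]), map_one]) (fun h1 => by
        rw [hΦw, hprod] at h1
        refine d.ne (mk_eq_of_gA ?_)
        rw [← d.eg, ← d.eh]
        refine eq_of_mul_eq_one_sq ?_ h1
        show c β * c β = 1
        rw [← map_mul, hsq2 huL hu, map_one])
      have h3 : orderOf (Φ w) ∣ orderOf x * orderOf y := by
        refine orderOf_dvd_of_pow_eq_one ?_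
        have h4 : (Φ ⟨x, hxL⟩ * Φ w) ^ (orderOf x * orderOf y) = 1 := by
          rw [← hy, ← map_pow, show (⟨y, hyL⟩ : L) ^ (orderOf x * orderOf y) = 1 from Subtype.ext (by
            rw [SubmonoidClass.coe_pow, mul_comm, pow_mul, pow_orderOf_eq_one, one_pow,
              OneMemClass.coe_one]), map_one]
        rw [hcx.mul_pow, ← map_pow, show (⟨x, hxL⟩ : L) ^ (orderOf x * orderOf y) = 1 from Subtype.ext (by
            rw [SubmonoidClass.coe_pow, pow_mul, pow_orderOf_eq_one, one_pow, OneMemClass.coe_one]),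
          map_one, one_mul] at h4
        exact h4
      exact (Nat.not_even_iff_odd.2 (hox.mul hoy)) (even_iff_two_dvd.2 (h2 ▸ h3))
  · -- generation
    intro x hxL hxt hxu
    have hone : ∀ y : E, x * y * x⁻¹ * (y : G)⁻¹ ∈ O → Φ ⟨x, hxL⟩ (ρ y) = ρ y := fun y h => by
      rw [hΦ_mk]
      refine congrArg e (mul_inv_eq_one.1 ?_)
      rw [← map_inv, ← map_mul]
      exact hπO _ (by simpa [mul_assoc] using h)
    refine (hΦ1 ⟨x, hxL⟩).1 (d.eq_one_of_fix (fun q hq => ?_) fun q hq => ?_)
    · obtain ⟨y, rfl, hy⟩ := hlift htL ht q hq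
      exact hone y (hxt y y.2 hy)
    · obtain ⟨y, rfl, hy⟩ := hlift huL hu q hq
      exact hone y (hxu y y.2 hy)
  · -- inner
    intro x hxL hox hxt
    obtain ⟨q, hq⟩ := Diag.inner_of_inverted (δ := Φ ⟨t, htL⟩) (γ := Φ ⟨x, hxL⟩)
      (hox.of_dvd_nat ((orderOf_map_dvd Φ _).trans (Subgroup.orderOf_mk x hxL).dvd)) (by
        rw [← map_inv, ← map_inv, ← map_mul, ← map_mul]
        exact congrArg Φ (Subtype.ext hxt))
    refine (hinner ⟨x, hxL⟩).1 ⟨e.symm q, c.injective ?_⟩
    rw [hcc, e.apply_symm_apply]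
    exact hq
  all_goals
    intro x hx y hy
    have hxL : x ∈ L := sup_le hEL (oddPart_le L) hx
    have hyL : y ∈ L := sup_le hEL (oddPart_le L) hy
    obtain ⟨p, hp⟩ := hΦinner ⟨x, hxL⟩ hx
    obtain ⟨q, hq⟩ := hΦinner ⟨y, hyL⟩ hy
    have hmem : ∀ {z : G} (hzL : z ∈ L) {w}, Φ ⟨z, hzL⟩ = MulAut.conj w → w = 1 → z ∈ O :=
      fun hzL w hw h1 => (hΦ1 ⟨_, hzL⟩).1 (by rw [hw, h1, map_one])
  · intro r hr hr2 hox hoy hxt hyv
    by_contra hno
    have hord : ∀ {z : G} (hzL : z ∈ L) {w}, Φ ⟨z, hzL⟩ = MulAut.conj w → z ∉ O → orderOf z = r →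
        orderOf w = r := fun hzL w hw hz hzr => by
      have h1 := hordq _ _ hw
      rw [hzr] at h1
      exact ((Nat.dvd_prime hr).1 h1).resolve_left fun h => hz (hmem hzL hw (orderOf_eq_one_iff.1 h))
    refine d.coprime (hfix htL _ _ hp hxt) ?_ hr hr2 (hord hxL hp (fun h => hno (Or.inl h)) hox)
      (hord hyL hq (fun h => hno (Or.inr h)) hoy)
    rw [← hprod]
    exact hfix htuL _ _ hq hyv
  · intro hox hoy hxt hyu hxy
    by_contra hno
    refine d.cross (hfix htL _ _ hp hxt) (hfix huL _ _ hq hyu) (hox.of_dvd_nat (hordq _ _ hp))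
      (hoy.of_dvd_nat (hordq _ _ hq)) (fun h => hno (Or.inl (hmem hxL hp h)))
      (fun h => hno (Or.inr (hmem hyL hq h))) (hinjC.eq_iff.1 ?_)
    rw [map_mul, map_mul, ← hp, ← hq, ← map_mul, ← map_mul]
    exact congrArg Φ (Subtype.ext hxy.eq)
where
  eq_of_mul_eq_one_sq {M : Type} [Group M] {a b : M} (hb : b * b = 1) (h : a * b = 1) : a = b := by
    rw [← mul_one a, ← hb, ← mul_assoc, h, one_mul]

end Cfsg.Agent.GW.Component
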