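import Cfsg.Agent.Lib.GW.ConsPSLGenerate

/-!
Elements of odd order commuting with the diagonal involutions of `PGL(2, q)`.
-/

set_option autoImplicit false
set_option linter.unusedSectionVars false

namespace Cfsg.Agent.GW.Component

open Matrix Cfsg.Agent.Forms Cfsg.Agent.GW.Cons
open scoped MatrixGroups

universe u

variable {F : Type u} [Field F] [Fintype F]

local notation "PP" => Matrix.ProjGenLinGroup (Fin 2) F
local notation "mk'" => Matrix.ProjGenLinGroup.mk (n := Fin 2) (R := F)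
local notation "M2" => Matrix (Fin 2) (Fin 2) F

theorem eq_one_of_odd_of_sq {P : Type*} [Group P] {x : P} (ho : Odd (orderOf x)) (h : x * x = 1) :
    x = 1 := by
  have h2 := orderOf_dvd_of_pow_eq_one (show x ^ 2 = 1 by rw [pow_two, h])
  rcases (Nat.dvd_prime Nat.prime_two).1 h2 with h1 | h1
  · exact orderOf_eq_one_iff.1 h1
  · rw [h1] at ho; exact absurd ho (by decide)

theorem sq_matrix (A : M2) : A * A = A.trace • A - A.det • (1 : M2) := by
  ext i j
  fin_cases i <;> fin_cases j <;>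
    simp [Matrix.mul_apply, Fin.sum_univ_two, Matrix.det_fin_two, Matrix.trace_fin_two] <;> ring

/-- A diagonal involution is not scalar. -/
theorem not_scalar {g : GL (Fin 2) F} (hd : ¬ IsSquare (g : M2).det) (c : F) :
    (g : M2) ≠ c • (1 : M2) := fun hc => hd ⟨c, by
  rw [hc, Matrix.det_smul, Fintype.card_fin, Matrix.det_one]; ring⟩

/-- The commutant of a nonscalar matrix of trace zero. -/
theorem span_of_commute {g : M2} (h2 : (2 : F) ≠ 0) (ht : g.trace = 0)
    (hns : ∀ c : F, g ≠ c • (1 : M2)) {k : M2} (h : g * k = k * g) :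
    ∃ a b : F, k = a • (1 : M2) + b • g := by
  rw [Matrix.trace_fin_two] at ht
  have h00 := congrFun (congrFun h 0) 0
  have h01 := congrFun (congrFun h 0) 1
  have h10 := congrFun (congrFun h 1) 0
  simp [Matrix.mul_apply, Fin.sum_univ_two] at h00 h01 h10
  by_cases hb : g 0 1 = 0
  · by_cases hc : g 1 0 = 0
    · have ha : g 0 0 ≠ 0 := fun e => hns 0 (by
        ext i j
        fin_cases i <;> fin_cases j <;> simp [hb, hc, e]
        linear_combination ht - e)
      have k01 : k 0 1 = 0 := (mul_eq_zero.1 (show (2 * g 0 0) * k 0 1 = 0 by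
        linear_combination h01 + k 0 1 * ht + (k 0 0 - k 1 1) * hb)).resolve_left (mul_ne_zero h2 ha)
      have k10 : k 1 0 = 0 := (mul_eq_zero.1 (show (2 * g 0 0) * k 1 0 = 0 by
        linear_combination -h10 + k 1 0 * ht + (k 0 0 - k 1 1) * hc)).resolve_left (mul_ne_zero h2 ha)
      refine ⟨(k 0 0 + k 1 1) / 2, (k 0 0 - k 1 1) / (2 * g 0 0), ?_⟩
      have e2 : g 1 1 = -g 0 0 := by linear_combination ht
      ext i j
      fin_cases i <;> fin_cases j <;> simp [hb, hc, k01, k10, e2] <;> field_simp <;> ring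
    · refine ⟨k 1 1 - (k 1 0 / g 1 0) * g 1 1, k 1 0 / g 1 0, ?_⟩
      ext i j
      fin_cases i <;> fin_cases j <;> simp <;> field_simp
      · linear_combination h10
      · linear_combination -h00
  · refine ⟨k 0 0 - (k 0 1 / g 0 1) * g 0 0, k 0 1 / g 0 1, ?_⟩
    ext i j
    fin_cases i <;> fin_cases j <;> simp <;> field_simp
    · linear_combination h00
    · linear_combination h01

theorem det_ne_zero_gl (g : GL (Fin 2) F) : (g : M2).det ≠ 0 :=
  ((Matrix.isUnit_iff_isUnit_det _).1 g.isUnit).ne_zero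

/-- Odd elements of the centralizer of a diagonal involution lie in its torus. -/
theorem odd_form (h2 : (2 : F) ≠ 0) {g k : GL (Fin 2) F} (ht : (g : M2).trace = 0)
    (hns : ∀ c : F, (g : M2) ≠ c • (1 : M2)) (hc : Commute (mk' k) (mk' g))
    (ho : Odd (orderOf (mk' k))) :
    ∃ a b : F, (k : M2) = a • (1 : M2) + b • (g : M2) ∧ (g : M2) * k = (k : M2) * g ∧
      (mk' k ≠ 1 → a ≠ 0 ∧ b ≠ 0) := by
  by_cases hk1 : mk' k = 1
  · obtain ⟨c, hc1⟩ := DicksonPGL.mk_eq_one_smul.1 hk1
    exact ⟨c, 0, by rw [hc1, zero_smul, add_zero], by simp [hc1], fun h => absurd hk1 h⟩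
  have hm : mk' (k * g) = mk' (g * k) := by rw [map_mul, map_mul]; exact hc.eq
  obtain ⟨r, -, hr⟩ := smul_of_mk_eq hm
  rw [Units.val_mul, Units.val_mul] at hr
  have hrr : r * r = 1 := by
    have hd := congrArg Matrix.det hr
    rw [Matrix.det_mul, Matrix.det_smul, Fintype.card_fin, Matrix.det_mul] at hd
    refine mul_right_cancel₀ (mul_ne_zero (det_ne_zero_gl k) (det_ne_zero_gl g)) ?_
    linear_combination -hd
  rcases mul_self_eq_one_iff.1 hrr with rfl | rfl
  · rw [one_smul] at hr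
    obtain ⟨a, b, hab⟩ := span_of_commute h2 ht hns hr
    refine ⟨a, b, hab, hr, fun h1 => ⟨fun e => h1 ?_, fun e => h1 ?_⟩⟩
    · refine eq_one_of_odd_of_sq ho ?_
      rw [← map_mul, DicksonPGL.mk_eq_one_smul]
      refine ⟨b * b * -(g : M2).det, ?_⟩
      rw [Units.val_mul, hab, e, zero_smul, zero_add, smul_mul_smul_comm, sq_matrix, ht, zero_smul,
        zero_sub, smul_neg, smul_smul, ← neg_smul]
      congr 1; ring
    · rw [DicksonPGL.mk_eq_one_smul]
      exact ⟨a, by rw [hab, e, zero_smul, add_zero]⟩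
  · exfalso
    refine hk1 (eq_one_of_odd_of_sq ho ?_)
    have htk : (k : M2).trace = 0 := by
      have e : (((g⁻¹ : GL (Fin 2) F) : M2) * ((g : M2) * k)).trace =
          (((g⁻¹ : GL (Fin 2) F) : M2) * ((-1 : F) • ((k : M2) * g))).trace := by rw [hr]
      rw [mul_smul_comm, Matrix.trace_smul, ← mul_assoc, ← Units.val_mul, inv_mul_cancel, Units.val_one,
        one_mul, Matrix.trace_mul_comm, mul_assoc, ← Units.val_mul, mul_inv_cancel, Units.val_one,
        mul_one, smul_eq_mul, neg_one_mul] at e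
      exact (mul_eq_zero.1 (show (2 : F) * (k : M2).trace = 0 by linear_combination e)).resolve_left h2
    rw [← map_mul, DicksonPGL.mk_eq_one_smul]
    exact ⟨-(k : M2).det, by rw [Units.val_mul, sq_matrix, htk, zero_smul, zero_sub, neg_smul]⟩

/-- An anticommuting involution inverts the torus. -/
theorem inverted (h2 : (2 : F) ≠ 0) {g h k : GL (Fin 2) F} (ht : (g : M2).trace = 0)
    (hd : ¬ IsSquare (g : M2).det) (hanti : (g : M2) * h = -((h : M2) * g))
    (hc : Commute (mk' k) (mk' g)) (ho : Odd (orderOf (mk' k))) :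
    mk' h * mk' k * (mk' h)⁻¹ = (mk' k)⁻¹ := by
  obtain ⟨a, b, hk, -, -⟩ := odd_form h2 ht (not_scalar hd) hc ho
  refine eq_inv_of_mul_eq_one_left ?_
  rw [← map_inv, ← map_mul, ← map_mul, ← map_mul, DicksonPGL.mk_eq_one_smul]
  have hhk : (h : M2) * k = (a • (1 : M2) - b • (g : M2)) * h := by
    rw [hk, mul_add, sub_mul, mul_smul_comm, mul_smul_comm, smul_mul_assoc, smul_mul_assoc, mul_one,
      one_mul, hanti, smul_neg, sub_neg_eq_add]
  refine ⟨a * a + b * b * (g : M2).det, ?_⟩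
  rw [Units.val_mul, Units.val_mul, Units.val_mul, hhk, mul_assoc _ (h : M2), ← Units.val_mul h h⁻¹,
    mul_inv_cancel, Units.val_one, mul_one, hk, sub_mul, mul_add, mul_add, smul_mul_smul_comm,
    smul_mul_smul_comm, smul_mul_smul_comm, smul_mul_smul_comm, mul_one, one_mul, mul_one,
    sq_matrix, ht, zero_smul, zero_sub, smul_neg, smul_smul, add_smul, mul_comm b a]
  abel

/-- Torus elements of anticommuting involutions do not commute. -/
theorem cross (h2 : (2 : F) ≠ 0) {g h k k' : GL (Fin 2) F} (htg : (g : M2).trace = 0)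
    (hth : (h : M2).trace = 0) (hdg : ¬ IsSquare (g : M2).det) (hdh : ¬ IsSquare (h : M2).det)
    (hanti : (g : M2) * h = -((h : M2) * g))
    (hc : Commute (mk' k) (mk' g)) (ho : Odd (orderOf (mk' k))) (h1 : mk' k ≠ 1)
    (hc' : Commute (mk' k') (mk' h)) (ho' : Odd (orderOf (mk' k'))) (h1' : mk' k' ≠ 1) :
    ¬ Commute (mk' k) (mk' k') := by
  intro hkk
  obtain ⟨a, b, hk, -, hab⟩ := odd_form h2 htg (not_scalar hdg) hc ho
  obtain ⟨a', b', hk', -, hab'⟩ := odd_form h2 hth (not_scalar hdh) hc' ho'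
  obtain ⟨ha, hb⟩ := hab h1
  obtain ⟨ha', hb'⟩ := hab' h1'
  have hm : mk' (k * k') = mk' (k' * k) := by rw [map_mul, map_mul]; exact hkk.eq
  obtain ⟨r, -, hr⟩ := smul_of_mk_eq hm
  rw [Units.val_mul, Units.val_mul] at hr
  have hr1 : r = 1 := by
    have e : (((k'⁻¹ : GL (Fin 2) F) : M2) * ((k' : M2) * k)).trace =
        (((k'⁻¹ : GL (Fin 2) F) : M2) * (r • ((k : M2) * (k' : M2)))).trace := by rw [hr]
    rw [mul_smul_comm, Matrix.trace_smul, ← mul_assoc, ← Units.val_mul, inv_mul_cancel, Units.val_one,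
      one_mul, Matrix.trace_mul_comm _ ((k : M2) * (k' : M2)), mul_assoc, ← Units.val_mul, mul_inv_cancel,
      Units.val_one, mul_one, smul_eq_mul] at e
    have htk : (k : M2).trace = 2 * a := by
      rw [hk, Matrix.trace_add, Matrix.trace_smul, Matrix.trace_smul, htg, Matrix.trace_one,
        Fintype.card_fin]
      simp [mul_comm]
    have hz : (r - 1) * (k : M2).trace = 0 := by linear_combination -e
    rw [htk] at hz
    exact sub_eq_zero.1 ((mul_eq_zero.1 hz).resolve_right (mul_ne_zero h2 ha))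
  rw [hr1, one_smul, hk, hk'] at hr
  simp only [mul_add, add_mul, mul_smul_comm, smul_mul_assoc, mul_one, one_mul, smul_smul] at hr
  have hgh : (2 * (b * b')) • ((g : M2) * h) = 0 := by
    have h4 := sub_eq_zero.2 hr.symm
    rw [← h4, show ((h : M2) * g) = -((g : M2) * h) by rw [hanti, neg_neg]]
    module
  refine Units.ne_zero (g * h) ?_
  rw [Units.val_mul]
  exact (smul_eq_zero.1 hgh).resolve_left (mul_ne_zero h2 (mul_ne_zero hb hb'))

/-- The two kinds of tori have coprime orders. -/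
theorem coprime (hodd : Odd (Fintype.card F)) (hq : 3 < Fintype.card F) {g h k k' : GL (Fin 2) F}
    (htg : (g : M2).trace = 0) (hdg : ¬ IsSquare (g : M2).det)
    (hanti : (g : M2) * h = -((h : M2) * g)) (hghL : mk' g * mk' h ∈ DicksonPGL.L F)
    (hc : Commute (mk' k) (mk' g)) (hkL : mk' k ∈ DicksonPGL.L F)
    (hc' : Commute (mk' k') (mk' g * mk' h)) (hk'L : mk' k' ∈ DicksonPGL.L F)
    {r : ℕ} (hr : r.Prime) (hr2 : r ≠ 2) (ho : orderOf (mk' k) = r) (ho' : orderOf (mk' k') = r) :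
    False := by
  have h2 : (2 : F) ≠ 0 := Classical.SylowSL2.two_ne_zero_of_odd hodd
  have hro : Odd r := hr.odd_of_ne_two hr2
  obtain ⟨X, a₀, b₀, -, hX, hss, -⟩ := exists_axis h2 hq hdg htg
  obtain ⟨-, -, hcg⟩ := DicksonPGL.torus_facts hss
  have hTg := DicksonPGL.gcd_mul_torus_inf_L hss
  have hgcd : Nat.gcd 2 (Fintype.card F - 1) = 2 := by
    obtain ⟨j, hj⟩ := hodd
    exact Nat.gcd_eq_left (Nat.dvd_of_mod_eq_zero (by omega))
  rw [hgcd] at hTg
  set m := Nat.card (DicksonPGL.torus X ⊓ DicksonPGL.L F : Subgroup PP) with hm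
  -- the torus of `g` has odd order in `PSL`
  have hmodd : ¬ 2 ∣ m := by
    intro hdvd
    obtain ⟨⟨w, hwT, hwL⟩, hw⟩ := exists_prime_orderOf_dvd_card' (G := (DicksonPGL.torus X ⊓
      DicksonPGL.L F : Subgroup PP)) 2 hdvd
    replace hw : orderOf w = 2 := (Subgroup.orderOf_mk w _).symm.trans hw
    obtain ⟨w, hwc, rfl⟩ := hwT
    obtain ⟨a, b, hab⟩ := DicksonPGL.commutant hss (DicksonPGL.mem_cen.1 hwc)
    have hab' : (w : M2) = (a + b * a₀) • (1 : M2) + (b * b₀) • (g : M2) := by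
      rw [hab, hX, smul_add, smul_smul, smul_smul, add_smul, add_assoc]
    have hw1 : mk' w ≠ 1 := fun e => by simp [e] at hw
    have hww : mk' (w * w) = 1 := by
      rw [map_mul, ← pow_two]; exact orderOf_dvd_iff_pow_eq_one.1 hw.dvd
    obtain ⟨e, he⟩ := DicksonPGL.mk_eq_one_smul.1 hww
    set A := a + b * a₀
    set B := b * b₀
    rw [Units.val_mul, hab', mul_add, add_mul, add_mul, smul_mul_smul_comm, smul_mul_smul_comm,
      smul_mul_smul_comm, smul_mul_smul_comm, mul_one, one_mul, mul_one, sq_matrix, htg, zero_smul,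
      zero_sub, smul_neg, smul_smul] at he
    have hB : B ≠ 0 := fun eB => hw1 (DicksonPGL.mk_eq_one_smul.2
      ⟨A, by rw [hab', eB, zero_smul, add_zero]⟩)
    have hA : A = 0 := by
      by_contra hA
      refine not_scalar hdg ((2 * A * B)⁻¹ * (e - A * A + B * B * (g : M2).det)) ?_
      have h4 := sub_eq_zero.2 he
      rw [← smul_smul, eq_inv_smul_iff₀ (mul_ne_zero (mul_ne_zero h2 hA) hB), ← sub_eq_zero, ← h4]
      module
    rw [hA, zero_smul, zero_add] at hab'
    have hweq : mk' g = mk' w := mk_eq_of_smul hB hab'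
    exact hdg (DicksonPGL.mk_mem_L.1 (hweq ▸ hwL :))
  have hkr : r ∣ m := by
    rw [← ho]
    refine Subgroup.orderOf_dvd_natCard _ (Subgroup.mem_inf.2 ⟨?_, hkL⟩)
    obtain ⟨a, b, -, hkg, -⟩ := odd_form h2 htg (not_scalar hdg) hc (ho ▸ hro)
    refine DicksonPGL.mk_mem_torus.2 (DicksonPGL.mem_cen.2 ?_)
    rw [hX, mul_add, add_mul, mul_smul_comm, mul_smul_comm, smul_mul_assoc, smul_mul_assoc, mul_one,
      one_mul, hkg]
  -- the torus of the product has even order in `PSL`
  rw [← map_mul] at hghL hc'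
  obtain ⟨l, hl⟩ := DicksonPGL.mk_mem_L.1 hghL
  have hl0 : l ≠ 0 := fun e => det_ne_zero_gl (g * h) (by rw [hl, e, mul_zero])
  have htgh : ((g * h : GL (Fin 2) F) : M2).trace = 0 := by
    have e : ((g : M2) * h).trace = -((g : M2) * h).trace := by
      conv_lhs => rw [hanti, Matrix.trace_neg, Matrix.trace_mul_comm]
    rw [Units.val_mul]
    exact (mul_eq_zero.1 (show (2 : F) * ((g : M2) * h).trace = 0 by linear_combination e)).resolve_left h2
  let Y : SL(2, F) := ⟨l⁻¹ • ((g * h : GL (Fin 2) F) : M2), by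
    rw [Matrix.det_smul, Fintype.card_fin, hl]; field_simp⟩
  have htY : (Y : M2).trace = 0 := by
    show (l⁻¹ • ((g * h : GL (Fin 2) F) : M2)).trace = 0
    rw [Matrix.trace_smul, htgh, smul_zero]
  have hYns : ∀ c : F, (Y : M2) ≠ c • (1 : M2) := by
    intro c hc0
    have hc2 : c = 0 := by
      have e := congrArg Matrix.trace hc0
      rw [htY, Matrix.trace_smul, Matrix.trace_one, Fintype.card_fin] at e
      exact (smul_eq_zero.1 e.symm).resolve_right (by simpa using h2)
    have hd : (Y : M2).det = 1 := Y.2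
    rw [hc0, hc2, zero_smul, Matrix.det_zero] at hd
    exact zero_ne_one hd
  have hssY : DicksonPGL.Semisimple Y := by
    refine ⟨hYns, fun h4 => ?_⟩
    rw [htY, zero_mul] at h4
    exact mul_ne_zero h2 h2 (by linear_combination -h4)
  have hghns : ∀ c : F, ((g * h : GL (Fin 2) F) : M2) ≠ c • (1 : M2) := fun c hc0 =>
    hYns (l⁻¹ * c) (by show l⁻¹ • ((g * h : GL (Fin 2) F) : M2) = _; rw [hc0, smul_smul])
  obtain ⟨-, -, hcY⟩ := DicksonPGL.torus_facts hssY
  have hTY := DicksonPGL.gcd_mul_torus_inf_L hssY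
  rw [hgcd] at hTY
  set m' := Nat.card (DicksonPGL.torus Y ⊓ DicksonPGL.L F : Subgroup PP)
  have hm'even : 2 ∣ m' := by
    have hmk : mk' (Matrix.SpecialLinearGroup.toGL Y) = mk' (g * h) :=
      (mk_eq_of_smul (inv_ne_zero hl0) rfl).symm
    have hne : mk' (g * h) ≠ 1 := fun e => by
      obtain ⟨c, hc0⟩ := DicksonPGL.mk_eq_one_smul.1 e
      exact hghns c hc0
    have hord : orderOf (mk' (g * h)) = 2 := by
      refine orderOf_eq_prime ?_ hne
      rw [pow_two, ← map_mul, DicksonPGL.mk_eq_one_smul]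
      exact ⟨-((g * h : GL (Fin 2) F) : M2).det, by
        rw [Units.val_mul (g * h), sq_matrix, htgh, zero_smul, zero_sub, neg_smul]⟩
    rw [← hord]
    exact Subgroup.orderOf_dvd_natCard _ (Subgroup.mem_inf.2
      ⟨hmk ▸ DicksonPGL.self_mem_torus, hghL⟩)
  have hk'r : r ∣ m' := by
    rw [← ho']
    refine Subgroup.orderOf_dvd_natCard _ (Subgroup.mem_inf.2 ⟨?_, hk'L⟩)
    obtain ⟨a, b, -, hkg, -⟩ := odd_form h2 htgh hghns hc' (ho' ▸ hro)
    refine DicksonPGL.mk_mem_torus.2 (DicksonPGL.mem_cen.2 ?_)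
    show (k' : M2) * (l⁻¹ • _) = (l⁻¹ • _) * (k' : M2)
    rw [mul_smul_comm, smul_mul_assoc, hkg]
  obtain ⟨j, hj⟩ := hm'even
  obtain ⟨i, hi⟩ : Odd m := Nat.odd_iff.2 (Nat.two_dvd_ne_zero.1 hmodd)
  obtain ⟨w, hw⟩ := hodd
  have hdiff : m' = m + 1 ∨ m = m' + 1 := by rcases hcg with e | e <;> rcases hcY with e' | e' <;> omega
  have h1 : r ∣ 1 := by
    rcases hdiff with e | e
    · exact (Nat.dvd_add_right hkr).1 (e ▸ hk'r)
    · exact (Nat.dvd_add_right hk'r).1 (e ▸ hkr)
  exact hr.one_lt.ne' (Nat.dvd_one.1 h1)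

end Cfsg.Agent.GW.Component
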