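import Mathlib
import Cfsg.Agent.Lib.AutPSL.Out
import Cfsg.Agent.Lib.AutPSL.Diag
import Cfsg.Agent.Lib.AutPSL.Speiser
import Cfsg.Agent.Lib.AutPSL.LocalBalance
import Cfsg.Agent.Lib.PSLBinary.Invol

/-!
# Involutory automorphisms of `PSL₂(q)`, `q` odd, fixing an involution

The centralisers of an inner and of an outer diagonal involution, as needed for the overgroups of
an involution centraliser in a group with dihedral Sylow 2-subgroups.
-/

set_option autoImplicit false
set_option linter.style.haveILetI false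
set_option linter.unusedSectionVars false

namespace Cfsg.Agent.GW.OvergroupsPSL

open Matrix
open scoped MatrixGroups
open Cfsg.Agent.AutPSL

universe u

variable {F : Type u} [Field F]

local notation "M2" => Matrix (Fin 2) (Fin 2) F
local notation "PG" => Matrix.ProjectiveSpecialLinearGroup (Fin 2) F
local notation "π" => Forms.KleinPSL.pi F
local notation "gA" => AutPSL.Basic.gAut (n := 2) (F := F)
local notation "fA" => AutPSL.Basic.fAut (n := 2) (F := F)

/-! ### Matrices of size two -/

/-- Two matrices commuting with a non-scalar one commute. -/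
theorem comm_trans {G X Y : M2} (hG : ¬ (G 0 1 = 0 ∧ G 1 0 = 0 ∧ G 0 0 = G 1 1))
    (hX : G * X = X * G) (hY : G * Y = Y * G) : X * Y = Y * X := by
  have a00 := congrFun (congrFun hX 0) 0
  have a01 := congrFun (congrFun hX 0) 1
  have a10 := congrFun (congrFun hX 1) 0
  have b00 := congrFun (congrFun hY 0) 0
  have b01 := congrFun (congrFun hY 0) 1
  have b10 := congrFun (congrFun hY 1) 0
  simp [Matrix.mul_apply, Fin.sum_univ_two] at a00 a01 a10 b00 b01 b10
  obtain ⟨hp, hq, hr⟩ : X 0 1 * Y 1 0 - Y 0 1 * X 1 0 = 0 ∧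
      (X 0 0 - X 1 1) * Y 0 1 - X 0 1 * (Y 0 0 - Y 1 1) = 0 ∧
      X 1 0 * (Y 0 0 - Y 1 1) - Y 1 0 * (X 0 0 - X 1 1) = 0 := by
    rcases not_and_or.1 hG with h | h
    · have hq : (X 0 0 - X 1 1) * Y 0 1 - X 0 1 * (Y 0 0 - Y 1 1) = 0 :=
        (mul_eq_zero.1 (show G 0 1 * _ = 0 by
          linear_combination X 0 1 * b01 - Y 0 1 * a01)).resolve_left h
      refine ⟨(mul_eq_zero.1 (show G 0 1 * _ = 0 by
        linear_combination X 0 1 * b00 - Y 0 1 * a00)).resolve_left h, hq,
        (mul_eq_zero.1 (show G 0 1 * _ = 0 by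
          linear_combination (Y 0 0 - Y 1 1) * a00 - (X 0 0 - X 1 1) * b00 -
            G 1 0 * hq)).resolve_left h⟩
    rcases not_and_or.1 h with h | h
    · have hp : X 0 1 * Y 1 0 - Y 0 1 * X 1 0 = 0 :=
        (mul_eq_zero.1 (show G 1 0 * _ = 0 by
          linear_combination X 1 0 * b00 - Y 1 0 * a00)).resolve_left h
      exact ⟨hp, (mul_eq_zero.1 (show G 1 0 * _ = 0 by
        linear_combination Y 0 1 * a10 - X 0 1 * b10 - (G 0 0 - G 1 1) * hp)).resolve_left h,
        (mul_eq_zero.1 (show G 1 0 * _ = 0 by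
          linear_combination X 1 0 * b10 - Y 1 0 * a10)).resolve_left h⟩
    · have h' : G 0 0 - G 1 1 ≠ 0 := sub_ne_zero.2 h
      exact ⟨(mul_eq_zero.1 (show (G 0 0 - G 1 1) * _ = 0 by
        linear_combination (X 0 0 - X 1 1) * b00 + Y 1 0 * a01 + Y 0 1 * a10)).resolve_left h',
        (mul_eq_zero.1 (show (G 0 0 - G 1 1) * _ = 0 by
          linear_combination (X 0 0 - X 1 1) * b01 - (Y 0 0 - Y 1 1) * a01)).resolve_left h',
        (mul_eq_zero.1 (show (G 0 0 - G 1 1) * _ = 0 by
          linear_combination (X 0 0 - X 1 1) * b10 - (Y 0 0 - Y 1 1) * a10)).resolve_left h'⟩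
  ext i j
  fin_cases i <;> fin_cases j <;> simp [Matrix.mul_apply, Fin.sum_univ_two]
  · linear_combination hp
  · linear_combination hq
  · linear_combination hr
  · linear_combination -hp

/-- Cayley–Hamilton for a matrix with trace zero. -/
theorem mul_self_of_trace (X : M2) (h : X 0 0 + X 1 1 = 0) : X * X = (-X.det) • (1 : M2) := by
  ext i j
  fin_cases i <;> fin_cases j <;> simp [Matrix.mul_apply, Fin.sum_univ_two, det_fin_two]
  · linear_combination X 0 0 * h
  · linear_combination X 0 1 * h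
  · linear_combination X 1 0 * h
  · linear_combination X 1 1 * h

/-- A matrix anticommuting with an invertible one has trace zero. -/
theorem trace_of_anti (h2 : (2 : F) ≠ 0) (g : GL (Fin 2) F) {X : M2}
    (h : (g : M2) * X = -(X * (g : M2))) : X 0 0 + X 1 1 = 0 := by
  have e : ((g⁻¹ : GL (Fin 2) F) : M2) * ((g : M2) * X) = X := by
    rw [← mul_assoc, Units.inv_mul, one_mul]
  have e' := congrArg Matrix.trace e
  rw [h, mul_neg, trace_neg, trace_mul_comm, mul_assoc, Units.mul_inv, mul_one] at e'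
  rw [trace_fin_two] at e'
  refine (mul_eq_zero.1 (show (2 : F) * (X 0 0 + X 1 1) = 0 from ?_)).resolve_left h2
  linear_combination -e'

theorem coe_toGL (s : SL(2, F)) : ((Matrix.SpecialLinearGroup.toGL s : GL (Fin 2) F) : M2) = s :=
  rfl

theorem scalar_apply' (c : F) : Matrix.scalar (Fin 2) c = c • (1 : M2) := by
  rw [Matrix.scalar_apply, smul_one_eq_diagonal]

theorem mem_center_iff (g : GL (Fin 2) F) :
    g ∈ Subgroup.center (GL (Fin 2) F) ↔ ∃ c : F, (g : M2) = c • (1 : M2) := by
  rw [Matrix.GeneralLinearGroup.mem_center_iff_val_mem_range_scalar]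
  constructor
  · rintro ⟨c, hc⟩; exact ⟨c, by rw [← hc, scalar_apply']⟩
  · rintro ⟨c, hc⟩; exact ⟨c, by rw [hc, scalar_apply']⟩

theorem not_scalar {g : GL (Fin 2) F} (hg : g ∉ Subgroup.center (GL (Fin 2) F)) :
    ¬ ((g : M2) 0 1 = 0 ∧ (g : M2) 1 0 = 0 ∧ (g : M2) 0 0 = (g : M2) 1 1) := by
  rintro ⟨h1, h2, h3⟩
  refine hg ((mem_center_iff g).2 ⟨(g : M2) 0 0, ?_⟩)
  ext i j
  fin_cases i <;> fin_cases j <;> simp [h1, h2, h3]

variable [Fintype F]

/-! ### Lifts -/

theorem gAut_pi (g : GL (Fin 2) F) (X : SL(2, F)) : gA g (π X) = π (AutPSL.Basic.conjSL g X) := rfl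

theorem conj_pi (A : SL(2, F)) :
    MulAut.conj (π A) = gA (Matrix.SpecialLinearGroup.toGL A) :=
  AutPSL.Frame.conj_mk_eq_gAut A

theorem gAut_fix_cases {g : GL (Fin 2) F} {X : SL(2, F)} (h : gA g (π X) = π X) :
    (g : M2) * X = (X : M2) * g ∨ (g : M2) * X = -((X : M2) * g) := by
  rw [gAut_pi] at h
  rcases Forms.KleinPSL.pi_eq_iff.1 h with h' | h'
  · left
    have e := congrArg Subtype.val h'
    rw [AutPSL.Basic.conjSL_coe] at e
    conv_rhs => rw [← e]
    rw [mul_assoc ((g : M2) * (X : M2)), Units.inv_mul, mul_one]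
  · right
    have e := congrArg Subtype.val h'
    rw [AutPSL.Basic.conjSL_coe, Matrix.SpecialLinearGroup.coe_neg] at e
    rw [← neg_mul, ← e, mul_assoc ((g : M2) * (X : M2)), Units.inv_mul, mul_one]

variable (h2 : (2 : F) ≠ 0)

include h2 in
theorem orderOf_pi_of_trace {X : SL(2, F)} (h : (X : M2) 0 0 + (X : M2) 1 1 = 0) :
    orderOf (π X) = 2 := by
  refine (Forms.KleinPSL.orderOf_pi_eq_two h2).2 (Subtype.ext ?_)
  rw [Matrix.SpecialLinearGroup.coe_mul, mul_self_of_trace _ h, X.2,
    Matrix.SpecialLinearGroup.coe_neg, Matrix.SpecialLinearGroup.coe_one, neg_smul, one_smul]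

include h2 in
/-- An element of odd order fixed by `gAut g` lifts to one commuting with `g`. -/
theorem comm_of_fix {g : GL (Fin 2) F} {X : SL(2, F)} (h : gA g (π X) = π X)
    (ho : Odd (orderOf (π X))) : (g : M2) * X = (X : M2) * g := by
  refine (gAut_fix_cases h).resolve_right fun h' => ?_
  rw [orderOf_pi_of_trace h2 (trace_of_anti h2 g h')] at ho
  exact absurd ho (by decide)

include h2 in
/-- If `g` anticommutes with `A` and `X` commutes with `A`, then `gAut g` inverts `π X`. -/
theorem inverts {g : GL (Fin 2) F} (A : SL(2, F)) (hgA : (g : M2) * A = -((A : M2) * g))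
    {X : SL(2, F)} (hX : (A : M2) * X = (X : M2) * A) (h1 : gA g * gA g = 1) :
    gA g (π X) = (π X)⁻¹ := by
  set γ : GL (Fin 2) F := g * Matrix.SpecialLinearGroup.toGL X with hγ
  have hAγ : ((Matrix.SpecialLinearGroup.toGL A : GL (Fin 2) F) : M2) * (γ : M2) =
      -((γ : M2) * ((Matrix.SpecialLinearGroup.toGL A : GL (Fin 2) F) : M2)) := by
    simp only [hγ, Units.val_mul, coe_toGL]
    rw [mul_assoc (g : M2), ← hX, ← mul_assoc (g : M2), hgA, neg_mul, neg_neg, mul_assoc]
  have hsq := mul_self_of_trace _ (trace_of_anti h2 _ hAγ)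
  have h2' : gA γ * gA γ = 1 := by
    rw [← map_mul, AutPSL.Out.gAut_eq_one_iff le_rfl, mem_center_iff]
    exact ⟨_, by rw [Units.val_mul]; exact hsq⟩
  rw [hγ, map_mul, ← conj_pi] at h2'
  set β := gA g
  have key : MulAut.conj (β (π X) * π X) = 1 := by
    have e : β * MulAut.conj (π X) * β = MulAut.conj (β (π X)) := by
      refine MulEquiv.ext fun y => ?_
      have hb : β (β y) = y := DFunLike.congr_fun h1 y
      simp [MulAut.mul_apply, hb]
    rw [map_mul, ← e]
    simp only [mul_assoc] at h2' ⊢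
    exact h2'
  have hinj : Function.Injective (MulAut.conj : PG →* MulAut PG) :=
    AutPSL.LocalBalance.conj_injective le_rfl
  have h0 : β (π X) * π X = 1 := hinj (key.trans (map_one _).symm)
  exact eq_inv_of_mul_eq_one_left h0

/-! ### The field part -/

/-- The projection of an automorphism to the field automorphisms, with its properties. -/
theorem exists_field_hom :
    ∃ ψ : MulAut PG →* (F ≃+* F), (∀ x, ψ (MulAut.conj x) = 1) ∧
      (∀ β, ψ β = 1 → ∃ g, β = gA g) ∧ ∀ a b, ψ a * ψ b = ψ b * ψ a := by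
  obtain ⟨ψ, -, hker⟩ := AutPSL.Out.exists_proj_two (F := F)
  refine ⟨ψ, fun x => ?_, fun β hβ => ?_, fun a b => ?_⟩
  · obtain ⟨X, rfl⟩ := Forms.KleinPSL.pi_surjective x
    rw [conj_pi, ← MonoidHom.mem_ker, hker]
    exact ⟨_, rfl⟩
  · rw [← MonoidHom.mem_ker, hker] at hβ
    obtain ⟨g, hg⟩ := hβ
    exact ⟨g, hg.symm⟩
  · obtain ⟨p, hc⟩ := CharP.exists F
    haveI := hc
    haveI : Fact p.Prime := ⟨CharP.char_is_prime F p⟩
    obtain ⟨f, -, hf⟩ := FiniteField.card F p
    obtain ⟨e⟩ := AutPSL.Out.exists_ringAut_equiv (F := F) hf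
    exact e.injective (by rw [map_mul, map_mul, mul_comm])

/-- A diagonal automorphism of odd order is inner. -/
theorem inner_of_odd {g : GL (Fin 2) F} (ho : Odd (orderOf (gA g))) :
    ∃ x, gA g = MulAut.conj x := by
  have h : gA (g * g) ∈ Cfsg.Inn PG := (AutPSL.Diag.gAut_mem_inn_iff le_rfl _).2
    ⟨Matrix.GeneralLinearGroup.det g, by
      rw [Units.val_mul, det_mul, sq, Matrix.GeneralLinearGroup.val_det_apply]⟩
  obtain ⟨k, hk⟩ := ho
  have he : gA g = gA (g * g) ^ (k + 1) := by
    rw [map_mul, ← sq, ← pow_mul, show 2 * (k + 1) = orderOf (gA g) + 1 by rw [hk]; ring, pow_succ,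
      pow_orderOf_eq_one, one_mul]
  have hm : gA g ∈ Cfsg.Inn PG := he ▸ Subgroup.pow_mem _ h _
  obtain ⟨x, hx⟩ := hm
  exact ⟨x, hx.symm⟩

include h2 in
/-- An involutory automorphism with a non-trivial field part centralises a four-group. -/
theorem exists_four_fixed {β : MulAut PG} (ψ : MulAut PG →* (F ≃+* F))
    (hψ : ∀ α, ψ α = 1 ↔ ∃ g, α = gA g) (hb : β * β = 1) (hne : ψ β ≠ 1) :
    ∃ x y : PG, orderOf x = 2 ∧ orderOf y = 2 ∧ x ≠ y ∧ Commute x y ∧ β x = x ∧ β y = y := by
  classical
  obtain ⟨g, σ, hgσ⟩ := AutPSL.Out.exists_decomp_two β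
  have hσ1 : σ ≠ 1 := fun h => hne ((hψ β).2 ⟨g, by rw [hgσ, h, map_one, mul_one]⟩)
  have hbb : gA (g * AutPSL.Main.fieldGL σ g) * fA (σ * σ) = 1 := by
    rw [map_mul, map_mul, ← hb, hgσ, mul_assoc (gA g), ← mul_assoc (gA (AutPSL.Main.fieldGL σ g)),
      ← AutPSL.Main.fAut_mul_gAut]
    simp only [mul_assoc]
  obtain ⟨hσσ, hcen⟩ := AutPSL.Out.mul_field_eq_one le_rfl hbb
  have ho : orderOf σ = 2 := orderOf_eq_prime (by rw [sq, hσσ]) hσ1
  obtain ⟨l, hl⟩ := (mem_center_iff _).1 hcen
  rw [Units.val_mul] at hl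
  have hl0 : l ≠ 0 := fun h => by
    have := (g * AutPSL.Main.fieldGL σ g).isUnit
    rw [Units.val_mul, hl, h, zero_smul] at this
    exact not_isUnit_zero this
  have hσl : σ l = l := by
    have h1 := congrArg (fun X : M2 => X.map σ) hl
    simp only [Matrix.map_mul] at h1
    rw [AutPSL.Main.fieldGL_coe, Matrix.map_map] at h1
    have hid : (σ : F → F) ∘ σ = id := funext fun x => DFunLike.congr_fun hσσ x
    rw [hid, Matrix.map_id] at h1
    have h3 : ((g : M2).map σ) * (g : M2) = l • (1 : M2) := by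
      have e : ((g⁻¹ : GL (Fin 2) F) : M2) * ((g : M2) * (g : M2).map σ) * (g : M2) =
          l • (1 : M2) := by
        rw [show ((g : M2) * (g : M2).map σ) = l • (1 : M2) from hl, Matrix.mul_smul, mul_one,
          Matrix.smul_mul, Units.inv_mul]
      rw [← mul_assoc, Units.inv_mul, one_mul] at e
      exact e
    rw [h3] at h1
    have := congrFun (congrFun h1 0) 0
    simpa using this.symm
  obtain ⟨c, hc⟩ := AutPSL.Speiser.nrm_surjective σ (Units.mk0 l hl0) hσl
  have hc' : (c : F) * σ (c : F) = l := by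
    have e := hc
    rw [AutPSL.Speiser.nrm, ho, Finset.prod_range_succ, Finset.prod_range_one, pow_zero, pow_one] at e
    simpa using e
  -- the scalar correction
  let s : GL (Fin 2) F := Matrix.GeneralLinearGroup.mkOfDetNeZero ((c : F)⁻¹ • (1 : M2)) (by simp)
  have hs : s ∈ Subgroup.center (GL (Fin 2) F) := (mem_center_iff s).2 ⟨(c : F)⁻¹, rfl⟩
  have hA : AutPSL.Speiser.twist σ (s * g) (orderOf σ) = 1 := by
    rw [ho, AutPSL.Speiser.twist_succ', AutPSL.Speiser.twist_one, pow_one]
    apply Units.ext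
    rw [Units.val_mul, Units.val_one, AutPSL.Main.fieldGL_coe, Units.val_mul]
    change ((c : F)⁻¹ • (1 : M2)) * (g : M2) *
      (((c : F)⁻¹ • (1 : M2)) * (g : M2)).map σ = 1
    rw [Matrix.smul_mul, one_mul, Matrix.map_smul' (σ : F → F) _ _ (map_mul σ), Matrix.smul_mul,
      Matrix.mul_smul, smul_smul, show (g : M2) * (g : M2).map σ = l • (1 : M2) from hl, smul_smul,
      map_inv₀, ← mul_inv, hc', inv_mul_cancel₀ hl0, one_smul]
  obtain ⟨B, hB⟩ := AutPSL.Speiser.speiser σ (s * g) hA
  have hβ : β = gA B * fA σ * (gA B)⁻¹ := by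
    have e1 : gA (s * g) = gA g := by
      rw [map_mul, (AutPSL.Out.gAut_eq_one_iff le_rfl s).2 hs, one_mul]
    rw [hgσ, ← e1, hB, map_mul, map_inv, mul_assoc, mul_assoc]
    congr 1
    rw [inv_mul_eq_iff_eq_mul, ← mul_assoc, ← AutPSL.Main.fAut_mul_gAut, mul_inv_cancel_right]
  -- a four-group over the prime field
  obtain ⟨p, hcp⟩ := CharP.exists F
  haveI := hcp
  haveI : Fact p.Prime := ⟨CharP.char_is_prime F p⟩
  obtain ⟨a, b, hab⟩ := ZMod.sq_add_sq p (-1)
  set a' : F := ZMod.castHom dvd_rfl F a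
  set b' : F := ZMod.castHom dvd_rfl F b
  have hab' : a' * a' + b' * b' = -1 := by
    have := congrArg (ZMod.castHom (dvd_refl p) F) hab
    rw [map_add, map_pow, map_pow, map_neg, map_one] at this
    linear_combination this
  have hfix : ∀ z : ZMod p, σ (ZMod.castHom dvd_rfl F z) = ZMod.castHom dvd_rfl F z := fun z =>
    DFunLike.congr_fun (Subsingleton.elim (σ.toRingHom.comp (ZMod.castHom dvd_rfl F))
      (ZMod.castHom dvd_rfl F)) z
  let P : SL(2, F) := ⟨Forms.KleinSL2.aM a' b', by rw [Forms.KleinSL2.det_aM, hab', neg_neg]⟩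
  have hP : P * P = -1 := Subtype.ext (by
    rw [Matrix.SpecialLinearGroup.coe_mul, Matrix.SpecialLinearGroup.coe_neg,
      Matrix.SpecialLinearGroup.coe_one]
    change Forms.KleinSL2.aM a' b' * Forms.KleinSL2.aM a' b' = _
    rw [Forms.KleinSL2.aM_mul_self, hab', neg_smul, one_smul])
  have hanti : P * Forms.KleinSL2.jSL = -(Forms.KleinSL2.jSL * P) := Subtype.ext (by
    rw [Matrix.SpecialLinearGroup.coe_mul, Matrix.SpecialLinearGroup.coe_neg,
      Matrix.SpecialLinearGroup.coe_mul]
    exact Forms.KleinSL2.aM_mul_J a' b')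
  have hfP : fA σ (π P) = π P := by
    refine congrArg QuotientGroup.mk (Subtype.ext ?_)
    change (Forms.KleinSL2.aM a' b').map σ = Forms.KleinSL2.aM a' b'
    ext i j
    fin_cases i <;> fin_cases j <;> simp [Forms.KleinSL2.aM, map_neg] <;>
      first | exact hfix a | exact hfix b
  have hfJ : fA σ (π Forms.KleinSL2.jSL) = π Forms.KleinSL2.jSL := by
    refine congrArg QuotientGroup.mk (Subtype.ext ?_)
    change (Forms.KleinSL2.cM (0 : F) 1).map σ = Forms.KleinSL2.cM 0 1
    ext i j
    fin_cases i <;> fin_cases j <;> simp [Forms.KleinSL2.cM]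
  refine ⟨gA B (π P), gA B (π Forms.KleinSL2.jSL), ?_, ?_, ?_, ?_, ?_, ?_⟩
  · rw [MulEquiv.orderOf_eq, Forms.KleinPSL.orderOf_pi_eq_two h2]; exact hP
  · rw [MulEquiv.orderOf_eq, Forms.KleinPSL.orderOf_pi_eq_two h2]; exact Forms.KleinSL2.jSL_sq
  · intro he
    have he' := (gA B).injective he
    rcases Forms.KleinPSL.pi_eq_iff.1 he' with h | h <;> rw [h] at hanti
    · exact Forms.KleinPSL.ne_neg_self h2 _ hanti
    · rw [neg_mul, mul_neg, neg_neg] at hanti
      exact Forms.KleinPSL.ne_neg_self h2 _ hanti.symm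
  · have hc'' : Commute (π P) (π Forms.KleinSL2.jSL) := by
      show π P * π Forms.KleinSL2.jSL = π Forms.KleinSL2.jSL * π P
      rw [← map_mul, hanti, Forms.KleinPSL.pi_neg, map_mul]
    exact hc''.map (gA B).toMonoidHom
  · rw [hβ, MulAut.mul_apply, MulAut.mul_apply, MulAut.inv_def, MulEquiv.symm_apply_apply, hfP]
  · rw [hβ, MulAut.mul_apply, MulAut.mul_apply, MulAut.inv_def, MulEquiv.symm_apply_apply, hfJ]

/-! ### Involutions fixing an involution -/

include h2 in
/-- An involution commuting with the involution `t` inverts the odd-order elements of `C(t)`. -/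
theorem inner_inverts {t b x : PG} (ht : orderOf t = 2) (hb : orderOf b = 2) (hbt : b ≠ t)
    (hc : Commute b t) (hx : Commute x t) (ho : Odd (orderOf x)) : b * x * b⁻¹ = x⁻¹ := by
  obtain ⟨A, rfl⟩ := Forms.KleinPSL.pi_surjective t
  obtain ⟨B, rfl⟩ := Forms.KleinPSL.pi_surjective b
  obtain ⟨X, rfl⟩ := Forms.KleinPSL.pi_surjective x
  have hX := comm_of_fix h2 (g := Matrix.SpecialLinearGroup.toGL A) (X := X) (by
    rw [← conj_pi, MulAut.conj_apply, ← hx.eq, mul_inv_cancel_right]) ho
  have han : A * B = -(B * A) := PSLBinary.anti h2 hb ht hbt hc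
  have hgA : ((Matrix.SpecialLinearGroup.toGL B : GL (Fin 2) F) : M2) * A =
      -((A : M2) * ((Matrix.SpecialLinearGroup.toGL B : GL (Fin 2) F) : M2)) := by
    simp only [coe_toGL]
    rw [← Matrix.SpecialLinearGroup.coe_mul, ← Matrix.SpecialLinearGroup.coe_mul, han,
      Matrix.SpecialLinearGroup.coe_neg, neg_neg]
  have h1 : gA (Matrix.SpecialLinearGroup.toGL B) * gA (Matrix.SpecialLinearGroup.toGL B) = 1 := by
    rw [← conj_pi, ← map_mul, Forms.KleinPSL.mul_self_of_order_two hb, map_one]
  have := inverts h2 A hgA hX h1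
  rw [← conj_pi, MulAut.conj_apply] at this
  exact this

/-- The situation of an outer diagonal involution fixing an involution. -/
structure Frame (g : GL (Fin 2) F) (A : SL(2, F)) : Prop where
  sq : A * A = -1
  anti : (g : M2) * A = -((A : M2) * g)
  trace : (g : M2) 0 0 + (g : M2) 1 1 = 0
  nonsq : ¬ ∃ c : F, c * c = (g : M2).det
  ncent : g ∉ Subgroup.center (GL (Fin 2) F)
  invol : gA g * gA g = 1

include h2 in
theorem exists_frame {β : MulAut PG} {t : PG} (ht : orderOf t = 2) (g : GL (Fin 2) F)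
    (hg : β = gA g) (hb : orderOf β = 2) (hinn : β ∉ Cfsg.Inn PG) (hfix : β t = t) :
    ∃ A : SL(2, F), π A = t ∧ Frame g A := by
  subst hg
  obtain ⟨A, rfl⟩ := Forms.KleinPSL.pi_surjective t
  have hA := (Forms.KleinPSL.orderOf_pi_eq_two h2).1 ht
  have hinv : gA g * gA g = 1 := by
    have := pow_orderOf_eq_one (gA g)
    rwa [hb, sq] at this
  have hns : ¬ ∃ c : F, c * c = (g : M2).det := by
    rintro ⟨c, hc⟩
    have hc0 : c ≠ 0 := fun h => by
      rw [h, mul_zero] at hc
      exact (Matrix.GeneralLinearGroup.det g).ne_zero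
        (by rw [Matrix.GeneralLinearGroup.val_det_apply]; exact hc.symm)
    exact hinn ((AutPSL.Diag.gAut_mem_inn_iff le_rfl g).2 ⟨Units.mk0 c hc0, by
      rw [Units.val_mk0, sq, hc]⟩)
  have hnc : g ∉ Subgroup.center (GL (Fin 2) F) := fun h => by
    rw [(AutPSL.Out.gAut_eq_one_iff le_rfl g).2 h, orderOf_one] at hb
    exact absurd hb (by decide)
  obtain ⟨l, hl⟩ := (mem_center_iff _).1 ((AutPSL.Out.gAut_eq_one_iff le_rfl (g * g)).1
    (by rw [map_mul, hinv]))
  rw [Units.val_mul] at hl
  have htr : (g : M2) 0 0 + (g : M2) 1 1 = 0 := by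
    by_contra hne
    apply not_scalar hnc
    have e01 := congrFun (congrFun hl 0) 1
    have e10 := congrFun (congrFun hl 1) 0
    have e00 := congrFun (congrFun hl 0) 0
    have e11 := congrFun (congrFun hl 1) 1
    simp [Matrix.mul_apply, Fin.sum_univ_two] at e01 e10 e00 e11
    refine ⟨?_, ?_, ?_⟩
    · exact (mul_eq_zero.1 (show (g : M2) 0 1 * ((g : M2) 0 0 + (g : M2) 1 1) = 0 by
        linear_combination e01)).resolve_right hne
    · exact (mul_eq_zero.1 (show (g : M2) 1 0 * ((g : M2) 0 0 + (g : M2) 1 1) = 0 by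
        linear_combination e10)).resolve_right hne
    · exact sub_eq_zero.1 ((mul_eq_zero.1 (show ((g : M2) 0 0 - (g : M2) 1 1) *
        ((g : M2) 0 0 + (g : M2) 1 1) = 0 by linear_combination e00 - e11)).resolve_right hne)
  refine ⟨A, rfl, hA, ?_, htr, hns, hnc, hinv⟩
  refine (gAut_fix_cases hfix).resolve_left fun hcom => hns ?_
  -- commuting traceless matrices are proportional
  have hAt : (A : M2) 0 0 + (A : M2) 1 1 = 0 := by
    have hAA := congrArg Subtype.val hA
    rw [Matrix.SpecialLinearGroup.coe_mul, Matrix.SpecialLinearGroup.coe_neg,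
      Matrix.SpecialLinearGroup.coe_one] at hAA
    have hd := PSLBinary.sl2_det A
    have e01 := congrFun (congrFun hAA 0) 1
    have e00 := congrFun (congrFun hAA 0) 0
    have e11 := congrFun (congrFun hAA 1) 1
    simp [Matrix.mul_apply, Fin.sum_univ_two] at e01 e00 e11
    refine mul_self_eq_zero.1 ?_
    linear_combination e00 + e11 + 2 * hd
  obtain ⟨k, hk⟩ : ∃ k : F, (g : M2) = k • (A : M2) := by
    have a00 := congrFun (congrFun hcom 0) 0
    have a01 := congrFun (congrFun hcom 0) 1
    have a10 := congrFun (congrFun hcom 1) 0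
    simp [Matrix.mul_apply, Fin.sum_univ_two] at a00 a01 a10
    have g11 : (g : M2) 1 1 = -((g : M2) 0 0) := by linear_combination htr
    have A11 : (A : M2) 1 1 = -((A : M2) 0 0) := by linear_combination hAt
    rw [g11, A11] at a01 a10
    by_cases hy : (A : M2) 0 1 = 0
    · have hx : (A : M2) 0 0 ≠ 0 := fun h => by
        have hd := PSLBinary.sl2_det A
        rw [hy, h, zero_mul, zero_mul, sub_zero] at hd
        exact zero_ne_one hd
      refine ⟨(g : M2) 0 0 / (A : M2) 0 0, ?_⟩
      ext i j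
      fin_cases i <;> fin_cases j <;> simp [g11, A11, hx] <;> field_simp
      · refine mul_left_cancel₀ h2 ?_
        linear_combination -a01
      · refine mul_left_cancel₀ h2 ?_
        linear_combination a10
    · refine ⟨(g : M2) 0 1 / (A : M2) 0 1, ?_⟩
      ext i j
      fin_cases i <;> fin_cases j <;> simp [g11, A11, hy] <;> field_simp
      · refine mul_left_cancel₀ h2 ?_
        linear_combination a01
      · linear_combination -a00
      · refine mul_left_cancel₀ h2 ?_
        linear_combination a01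
  exact ⟨k, by rw [hk, det_smul, A.2, Fintype.card_fin, mul_one, sq]⟩

include h2 in
/-- An outer diagonal involution fixing `t` inverts the odd-order elements of `C(t)`. -/
theorem Frame.inverts {g : GL (Fin 2) F} {A : SL(2, F)} (h : Frame g A) {x : PG}
    (hx : Commute x (π A)) (ho : Odd (orderOf x)) : gA g x = x⁻¹ := by
  obtain ⟨X, rfl⟩ := Forms.KleinPSL.pi_surjective x
  have hX := comm_of_fix h2 (g := Matrix.SpecialLinearGroup.toGL A) (X := X) (by
    rw [← conj_pi, MulAut.conj_apply, ← hx.eq, mul_inv_cancel_right]) ho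
  exact OvergroupsPSL.inverts h2 A h.anti hX h.invol

include h2 in
/-- Commuting odd-order elements fixed by `β` and by `t β` respectively: one is trivial. -/
theorem Frame.rigid {g : GL (Fin 2) F} {A : SL(2, F)} (h : Frame g A) {x y : PG}
    (hx : gA g x = x) (hxo : Odd (orderOf x)) (hy : π A * gA g y * (π A)⁻¹ = y)
    (hyo : Odd (orderOf y)) (hc : Commute x y) : x = 1 ∨ y = 1 := by
  obtain ⟨X, rfl⟩ := Forms.KleinPSL.pi_surjective x
  obtain ⟨Y, rfl⟩ := Forms.KleinPSL.pi_surjective y
  by_contra hne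
  push Not at hne
  obtain ⟨hX1, hY1⟩ := hne
  have hgX := comm_of_fix h2 hx hxo
  set g' : GL (Fin 2) F := Matrix.SpecialLinearGroup.toGL A * g with hg'
  have hgY := comm_of_fix h2 (g := g') (X := Y) (by
    rw [hg', map_mul, ← conj_pi, MulAut.mul_apply, MulAut.conj_apply]; exact hy) hyo
  rw [hg', Units.val_mul, coe_toGL] at hgY
  have hXY : (X : M2) * Y = (Y : M2) * X := by
    rcases Forms.KleinPSL.comm_cases hc with e | e
    · exact congrArg Subtype.val e
    · exfalso
      have e' := congrArg Subtype.val e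
      rw [Matrix.SpecialLinearGroup.coe_mul, Matrix.SpecialLinearGroup.coe_neg,
        Matrix.SpecialLinearGroup.coe_mul] at e'
      have := orderOf_pi_of_trace h2 (trace_of_anti h2 (Matrix.SpecialLinearGroup.toGL X)
        (X := (Y : M2)) e')
      rw [this] at hyo
      exact absurd hyo (by decide)
  have hXn := PSLBinary.pi_ne_one.1 hX1
  have hYn := PSLBinary.pi_ne_one.1 hY1
  have hgYc : (g : M2) * Y = (Y : M2) * g := comm_trans hXn hgX.symm hXY
  have hcc : ((A : M2) * g) * (g : M2) = (g : M2) * ((A : M2) * g) :=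
    comm_trans hYn hgY.symm hgYc.symm
  have hAgg : ((A : M2) * g) * (g : M2) = 0 := by
    have e2 : (g : M2) * ((A : M2) * g) = -(((A : M2) * g) * (g : M2)) := by
      rw [← mul_assoc, h.anti, neg_mul]
    rw [e2] at hcc
    ext i j
    have := congrFun (congrFun hcc i) j
    rw [Matrix.neg_apply] at this
    refine (mul_eq_zero.1 (show (2 : F) * _ = 0 by linear_combination this)).resolve_left h2
  have hu : IsUnit (((A : M2) * g) * (g : M2)) :=
    ((Matrix.SpecialLinearGroup.toGL A * g) * g).isUnit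
  rw [hAgg] at hu
  exact not_isUnit_zero hu

omit [Fintype F] in
/-- The rational parametrisation of `x² + d y² = 1`. -/
theorem param_det (d s : F) (hs : 1 + d * (s * s) ≠ 0) :
    ((1 - d * (s * s)) / (1 + d * (s * s))) * ((1 - d * (s * s)) / (1 + d * (s * s))) +
      d * ((2 * s / (1 + d * (s * s))) * (2 * s / (1 + d * (s * s)))) = 1 := by
  rw [div_mul_div_comm, div_mul_div_comm, mul_div_assoc', ← add_div, div_eq_one_iff_eq (mul_ne_zero hs hs)]
  ring

include h2 in
/-- The elements fixed by an outer diagonal involution contain a group of odd order larger than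
every group of odd order in `C(t)`. -/
theorem Frame.exists_big (h3 : 3 < Fintype.card F) {g : GL (Fin 2) F} {A : SL(2, F)}
    (h : Frame g A) :
    ∃ W : Subgroup PG, Odd (Nat.card W) ∧ (∀ w ∈ W, gA g w = w) ∧
      ∀ U : Subgroup PG, Odd (Nat.card U) → U ≤ Subgroup.centralizer ({π A} : Set PG) →
        Nat.card U < Nat.card W := by
  classical
  let C : Subgroup SL(2, F) :=
    { carrier := {X | (g : M2) * X = (X : M2) * g}
      one_mem' := by simp
      mul_mem' := fun {a b} ha hb => by
        simp only [Set.mem_ofPred_eq, Matrix.SpecialLinearGroup.coe_mul] at ha hb ⊢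
        rw [← mul_assoc, ha, mul_assoc, hb, mul_assoc]
      inv_mem' := fun {a} ha => by
        simp only [Set.mem_ofPred_eq] at ha ⊢
        calc (g : M2) * ((a⁻¹ : SL(2, F)) : M2) =
            ((a⁻¹ * a : SL(2, F)) : M2) * ((g : M2) * ((a⁻¹ : SL(2, F)) : M2)) := by
              rw [inv_mul_cancel, Matrix.SpecialLinearGroup.coe_one, one_mul]
          _ = ((a⁻¹ : SL(2, F)) : M2) * ((g : M2) * ((a * a⁻¹ : SL(2, F)) : M2)) := by
              rw [Matrix.SpecialLinearGroup.coe_mul, Matrix.SpecialLinearGroup.coe_mul,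
                mul_assoc ((a⁻¹ : SL(2, F)) : M2), ← mul_assoc (a : M2), ← ha]
              simp only [mul_assoc]
          _ = _ := by rw [mul_inv_cancel, Matrix.SpecialLinearGroup.coe_one, mul_one] }
  set W : Subgroup PG := C.map π
  have hfix : ∀ w ∈ W, gA g w = w := by
    rintro _ ⟨X, hX, rfl⟩
    rw [gAut_pi]
    refine congrArg π (Subtype.ext ?_)
    rw [AutPSL.Basic.conjSL_coe, show (g : M2) * (X : M2) = (X : M2) * g from hX, mul_assoc,
      Units.mul_inv, mul_one]
  have hodd : Odd (Nat.card W) := by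
    rw [Nat.odd_iff]
    by_contra hne
    haveI : Fact (Nat.Prime 2) := ⟨Nat.prime_two⟩
    obtain ⟨⟨_, Z, hZ, rfl⟩, hw⟩ :=
      exists_prime_orderOf_dvd_card' (G := W) 2 (by omega)
    replace hw : orderOf (π Z) = 2 := (orderOf_injective W.subtype W.subtype_injective _).trans hw
    have hZZ := congrArg Subtype.val ((Forms.KleinPSL.orderOf_pi_eq_two h2).1 hw)
    rw [Matrix.SpecialLinearGroup.coe_mul, Matrix.SpecialLinearGroup.coe_neg,
      Matrix.SpecialLinearGroup.coe_one] at hZZ
    -- `Z` is a multiple of `g`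
    have hd := PSLBinary.sl2_det Z
    have e00 := congrFun (congrFun hZZ 0) 0
    have e11 := congrFun (congrFun hZZ 1) 1
    simp [Matrix.mul_apply, Fin.sum_univ_two] at e00 e11
    have hZt : (Z : M2) 0 0 + (Z : M2) 1 1 = 0 := mul_self_eq_zero.1 (by
      linear_combination e00 + e11 + 2 * hd)
    have c00 := congrFun (congrFun (show (g : M2) * (Z : M2) = (Z : M2) * g from hZ) 0) 0
    have c01 := congrFun (congrFun (show (g : M2) * (Z : M2) = (Z : M2) * g from hZ) 0) 1
    have c10 := congrFun (congrFun (show (g : M2) * (Z : M2) = (Z : M2) * g from hZ) 1) 0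
    simp [Matrix.mul_apply, Fin.sum_univ_two] at c00 c01 c10
    set a := (g : M2) 0 0
    set b := (g : M2) 0 1
    set c := (g : M2) 1 0
    set x := (Z : M2) 0 0
    set y := (Z : M2) 0 1
    set z := (Z : M2) 1 0
    have g11 : (g : M2) 1 1 = -a := by linear_combination h.trace
    have Z11 : (Z : M2) 1 1 = -x := by linear_combination hZt
    rw [g11, Z11] at c01 c10
    rw [Z11] at hd
    have k1 : a * y = b * x := mul_left_cancel₀ h2 (by linear_combination c01)
    have k2 : a * z = c * x := mul_left_cancel₀ h2 (by linear_combination -c10)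
    have hdet : (g : M2).det = -(a * a + b * c) := by rw [det_fin_two, g11]; ring
    by_cases ha : a = 0
    · have hb0 : b ≠ 0 := fun h0 => h.nonsq ⟨0, by rw [hdet, ha, h0]; ring⟩
      have hc0 : c ≠ 0 := fun h0 => h.nonsq ⟨0, by rw [hdet, ha, h0]; ring⟩
      have hx0 : x = 0 := by
        rw [ha, zero_mul] at k1
        exact (mul_eq_zero.1 k1.symm).resolve_left hb0
      refine h.nonsq ⟨b / y, ?_⟩
      have hy0 : y ≠ 0 := fun h0 => by rw [hx0, h0] at hd; simp at hd
      rw [hdet, ha]
      field_simp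
      linear_combination -(b ^ 2) * hd - b * y * c00 - b ^ 2 * x * hx0
    · refine h.nonsq ⟨a / x, ?_⟩
      have hx0 : x ≠ 0 := fun h0 => by
        rw [h0, mul_zero] at k1 k2
        rw [(mul_eq_zero.1 k1).resolve_left ha, (mul_eq_zero.1 k2).resolve_left ha, h0] at hd
        simp at hd
      rw [hdet]
      field_simp
      linear_combination -(a ^ 2) * hd - a * z * k1 - b * x * k2
  -- the lower bound for `W`
  have hd0 : (g : M2).det ≠ 0 := fun h0 => h.nonsq ⟨0, by rw [h0, mul_zero]⟩
  set d := (g : M2).det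
  have hgg := mul_self_of_trace _ h.trace
  let pt : {s : F // 1 + d * (s * s) ≠ 0} → C := fun s =>
    ⟨⟨((1 - d * (s.1 * s.1)) / (1 + d * (s.1 * s.1))) • (1 : M2) +
        (2 * s.1 / (1 + d * (s.1 * s.1))) • (g : M2), by
      rw [det_fin_two]
      simp only [Matrix.add_apply, Matrix.smul_apply, smul_eq_mul, Matrix.one_apply_eq, ne_eq,
        Fin.zero_ne_one, not_false_eq_true, Matrix.one_apply_ne, mul_zero, mul_one,
        zero_add, one_ne_zero]
      have hdd : d = (g : M2) 0 0 * (g : M2) 1 1 - (g : M2) 0 1 * (g : M2) 1 0 := det_fin_two _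
      refine Eq.trans ?_ (param_det d s.1 s.2)
      linear_combination ((1 - d * (s.1 * s.1)) / (1 + d * (s.1 * s.1))) *
          (2 * s.1 / (1 + d * (s.1 * s.1))) * h.trace -
        (2 * s.1 / (1 + d * (s.1 * s.1))) * (2 * s.1 / (1 + d * (s.1 * s.1))) * hdd⟩, by
      show (g : M2) * _ = _ * (g : M2)
      simp [mul_add, add_mul]⟩
  have hinj : Function.Injective pt := by
    intro s s' e
    have e' := congrArg (fun X : C => ((X : SL(2, F)) : M2)) e
    simp only [pt] at e'
    apply Subtype.ext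
    have hg := not_scalar h.ncent
    have key : (2 * s.1 / (1 + d * (s.1 * s.1))) = (2 * s'.1 / (1 + d * (s'.1 * s'.1))) ∧
        ((1 - d * (s.1 * s.1)) / (1 + d * (s.1 * s.1))) =
          ((1 - d * (s'.1 * s'.1)) / (1 + d * (s'.1 * s'.1))) := by
      have a00 := congrFun (congrFun e' 0) 0
      have a01 := congrFun (congrFun e' 0) 1
      have a10 := congrFun (congrFun e' 1) 0
      have a11 := congrFun (congrFun e' 1) 1
      simp at a00 a01 a10 a11
      have hb : (2 * s.1 / (1 + d * (s.1 * s.1))) = (2 * s'.1 / (1 + d * (s'.1 * s'.1))) := by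
        rcases not_and_or.1 hg with h' | h'
        · exact a01.resolve_right h'
        rcases not_and_or.1 h' with h'' | h''
        · exact a10.resolve_right h''
        · exact mul_right_cancel₀ (sub_ne_zero.2 h'') (by linear_combination a00 - a11)
      exact ⟨hb, by rw [hb] at a00; linear_combination a00⟩
    obtain ⟨k1, k2⟩ := key
    have h1 := s.2
    have h1' := s'.2
    rw [div_eq_div_iff h1 h1'] at k1 k2
    have k3 : s.1 * s.1 = s'.1 * s'.1 := by
      refine mul_left_cancel₀ (mul_ne_zero h2 hd0) ?_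
      linear_combination -k2
    rw [← k3] at k1
    exact mul_left_cancel₀ h2 (mul_right_cancel₀ h1 k1)
  have hcard : Fintype.card F ≤ Nat.card C + 2 := by
    have h1 := Nat.card_le_card_of_injective pt hinj
    have h2' : (Finset.univ.filter fun s : F => ¬ (1 + d * (s * s) ≠ 0)).card ≤ 2 := by
      by_cases hex : ∃ s₀ : F, 1 + d * (s₀ * s₀) = 0
      · obtain ⟨s₀, hs₀⟩ := hex
        refine (Finset.card_le_card (t := {s₀, -s₀}) fun s hs => ?_).trans Finset.card_le_two
        simp only [ne_eq, not_not, Finset.mem_filter, Finset.mem_univ, true_and] at hs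
        simp only [Finset.mem_insert, Finset.mem_singleton]
        exact mul_self_eq_mul_self_iff.1 (mul_left_cancel₀ hd0 (by linear_combination hs - hs₀))
      · push Not at hex
        rw [Finset.filter_eq_empty_iff.2 fun s _ => not_not.2 (hex s), Finset.card_empty]
        exact Nat.zero_le _
    have h3' := Finset.card_filter_add_card_filter_not (s := (Finset.univ : Finset F))
      (fun s : F => 1 + d * (s * s) ≠ 0)
    rw [Finset.card_univ] at h3'
    rw [Nat.card_eq_fintype_card, Fintype.card_subtype] at h1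
    omega
  have hCW : Nat.card C ≤ 2 * Nat.card W := by
    let f : C →* W := (π).subgroupMap C
    have hf : Function.Surjective f := (π).subgroupMap_surjective C
    rw [← f.ker.card_mul_index, Subgroup.index_ker, MonoidHom.range_eq_top.2 hf, Subgroup.card_top]
    refine Nat.mul_le_mul_right _ ((Nat.card_le_card_of_injective
      (fun x : f.ker => (⟨((x : C) : SL(2, F)), by
        have := congrArg Subtype.val (MonoidHom.mem_ker.1 x.2)
        exact Forms.KleinPSL.pi_eq_one.1 this⟩ : {X : SL(2, F) // X = 1 ∨ X = -1})) fun x y e =>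
        Subtype.ext (Subtype.ext (congrArg Subtype.val e :))).trans ?_)
    rw [Nat.card_eq_fintype_card, Fintype.card_subtype]
    exact (Finset.card_le_card (t := {1, -1}) fun X hX => by simpa using hX).trans Finset.card_le_two
  refine ⟨W, hodd, hfix, fun U hU hUC => ?_⟩
  have hct : Nat.card (Subgroup.centralizer ({π A} : Set PG)) = Nat.card (Forms.KleinSL2.Circ F 1) :=
    PSLBinary.natCard_centralizer_invol h2 ((Forms.KleinPSL.orderOf_pi_eq_two h2).2 h.sq)
  have hdvd := Subgroup.card_dvd_of_le hUC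
  rw [hct] at hdvd
  have hq : Fintype.card F % 2 = 1 := by
    refine FiniteField.odd_card_of_char_ne_two fun hc' => h2 ?_
    haveI := ringChar.of_eq hc'
    exact CharTwo.two_eq_zero
  obtain ⟨e1, e3⟩ := Forms.KleinSL2.natCard_circ_one h2
  have h4 : 4 * Nat.card U ∣ Nat.card (Forms.KleinSL2.Circ F 1) := by
    refine Nat.Coprime.mul_dvd_of_dvd_of_dvd ?_ ?_ hdvd
    · exact (Nat.coprime_two_left.2 hU).pow_left 2
    · rcases (show Fintype.card F % 4 = 1 ∨ Fintype.card F % 4 = 3 by omega) with h' | h'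
      · rw [e1 h']; omega
      · rw [e3 h']; omega
  have hle := Nat.le_of_dvd (by
    rcases (show Fintype.card F % 4 = 1 ∨ Fintype.card F % 4 = 3 by omega) with h' | h'
    · rw [e1 h']; omega
    · rw [e3 h']; omega) h4
  have hUp : 0 < Nat.card U := Nat.card_pos
  have hle2 : Nat.card (Forms.KleinSL2.Circ F 1) ≤ Fintype.card F + 1 := by
    rcases (show Fintype.card F % 4 = 1 ∨ Fintype.card F % 4 = 3 by omega) with h' | h'
    · rw [e1 h']; omega
    · rw [e3 h']
  omega

end Cfsg.Agent.GW.OvergroupsPSL
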