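import Cfsg.Agent.Lib.GW.ConsFourGroup
import Cfsg.Agent.Lib.GW.ComponentTorus
import Cfsg.Agent.Lib.GW.OvergroupsPSL

/-!
A pair of commuting outer involutory automorphisms of `PSL(2, q)` fixing no four-group.
-/

set_option autoImplicit false
set_option linter.unusedSectionVars false

namespace Cfsg.Agent.GW.Component

open Matrix Cfsg.Agent.Forms Cfsg.Agent.AutPSL.Basic Cfsg.Agent.GW.Cons
open scoped MatrixGroups

universe u

variable {F : Type u} [Field F] [Fintype F]

local notation "PG" => Matrix.ProjectiveSpecialLinearGroup (Fin 2) F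
local notation "PP" => Matrix.ProjGenLinGroup (Fin 2) F
local notation "mk'" => Matrix.ProjGenLinGroup.mk (n := Fin 2) (R := F)
local notation "M2" => Matrix (Fin 2) (Fin 2) F
local notation "toP" => Matrix.ProjectiveSpecialLinearGroup.toPGL (n := Fin 2) (R := F)
local notation "gA" => AutPSL.Basic.gAut (n := 2) (F := F)

theorem isSquare_mul_of_not {a b : F} (ha : ¬ IsSquare a) (hb : ¬ IsSquare b) : IsSquare (a * b) := by
  classical
  have ha0 : a ≠ 0 := fun h => ha (h ▸ ⟨0, (zero_mul 0).symm⟩)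
  have hb0 : b ≠ 0 := fun h => hb (h ▸ ⟨0, (zero_mul 0).symm⟩)
  rw [← quadraticChar_one_iff_isSquare (mul_ne_zero ha0 hb0), map_mul,
    quadraticChar_neg_one_iff_not_isSquare.2 ha, quadraticChar_neg_one_iff_not_isSquare.2 hb]
  norm_num

theorem toP_mem (x : PG) : toP x ∈ DicksonPGL.L F := ⟨x, rfl⟩

theorem exists_lift (x : PG) :
    ∃ k : GL (Fin 2) F, mk' k = toP x ∧ gA k = MulAut.conj x := by
  induction x using QuotientGroup.induction_on with
  | _ s => exact ⟨Matrix.SpecialLinearGroup.toGL s, rfl, gAut_toGL s⟩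

theorem gA_eq_of_mk {x y : GL (Fin 2) F} (h : mk' x = mk' y) : gA x = gA y := by
  obtain ⟨r, -, hr⟩ := smul_of_mk_eq h
  exact (NormEq.Outer.gAut_eq_iff.2 ⟨r, hr⟩)

theorem mk_eq_of_gA {x y : GL (Fin 2) F} (h : gA x = gA y) : mk' x = mk' y := by
  obtain ⟨r, hr⟩ := NormEq.Outer.gAut_eq_iff.1 h
  have hr0 : r ≠ 0 := fun e => Units.ne_zero y (by rw [hr, e, zero_smul])
  exact mk_eq_of_smul hr0 hr

/-- Every matrix of trace zero is scalar or similar to a companion matrix. -/
theorem exists_companion {A : M2} (ht : A.trace = 0) (hns : ∀ c : F, A ≠ c • (1 : M2)) :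
    ∃ C : GL (Fin 2) F, A * C = (C : M2) * !![0, -A.det; 1, 0] := by
  rw [Matrix.trace_fin_two] at ht
  obtain ⟨v, w, hvw⟩ : ∃ v w : F,
      v * (A 1 0 * v + A 1 1 * w) - w * (A 0 0 * v + A 0 1 * w) ≠ 0 := by
    by_cases h10 : A 1 0 = 0
    · by_cases h01 : A 0 1 = 0
      · refine ⟨1, 1, fun h => hns (A 0 0) ?_⟩
        ext i j
        fin_cases i <;> fin_cases j <;> simp [h10, h01]
        linear_combination h - h10 + h01
      · exact ⟨0, 1, by simpa using h01⟩
    · exact ⟨1, 0, by simpa using h10⟩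
  let C : M2 := !![v, A 0 0 * v + A 0 1 * w; w, A 1 0 * v + A 1 1 * w]
  have hC : C.det ≠ 0 := by
    rw [Matrix.det_fin_two_of]
    intro h
    exact hvw (by linear_combination h)
  refine ⟨Matrix.GeneralLinearGroup.mkOfDetNeZero C hC, ?_⟩
  show A * C = C * !![0, -A.det; 1, 0]
  ext i j
  fin_cases i <;> fin_cases j <;> simp [C, Matrix.mul_apply, Fin.sum_univ_two, Matrix.det_fin_two]
  · linear_combination (A 0 0 * v + A 0 1 * w) * ht
  · linear_combination (A 1 0 * v + A 1 1 * w) * ht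

/-- Commuting diagonal involutions representing two automorphisms. -/
structure Diag (α β : MulAut PG) where
  g : GL (Fin 2) F
  h : GL (Fin 2) F
  eg : α = gA g
  eh : β = gA h
  dg : ¬ IsSquare (g : M2).det
  tg : (g : M2).trace = 0
  dh : ¬ IsSquare (h : M2).det
  th : (h : M2).trace = 0
  ne : mk' g ≠ mk' h
  comm : Commute (mk' g) (mk' h)
  odd : Odd (Fintype.card F)
  three_lt : 3 < Fintype.card F
  anti : (g : M2) * h = -((h : M2) * g)
  noFour_g : NoFour α
  noFour_h : NoFour β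

theorem exists_diag (hodd : Odd (Fintype.card F)) (h3 : 3 < Fintype.card F) {α β : MulAut PG}
    (ha : α * α = 1) (hb : β * β = 1) (hc : Commute α β) (hne : α ≠ β) (hNα : NoFour α)
    (hNβ : NoFour β) (hα : ∀ x : PG, α ≠ MulAut.conj x) (hβ : ∀ x : PG, β ≠ MulAut.conj x) :
    Nonempty (Diag α β) := by
  have h2 : (2 : F) ≠ 0 := Classical.SylowSL2.two_ne_zero_of_odd hodd
  obtain ⟨g, hg, hdg, htg⟩ := outer_form h2 α ha hNα hα
  obtain ⟨h, hh, hdh, hth⟩ := outer_form h2 β hb hNβ hβ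
  have hne' : mk' g ≠ mk' h := fun e => hne (by rw [hg, hh, gA_eq_of_mk e])
  have hc' : Commute (mk' g) (mk' h) := by
    show _ * _ = _ * _
    rw [← map_mul, ← map_mul]
    exact mk_eq_of_gA (by rw [map_mul, map_mul, ← hg, ← hh, hc.eq])
  exact ⟨⟨g, h, hg, hh, hdg, htg, hdh, hth, hne', hc', hodd, h3,
    anticommute h2 h3 hdg htg hth hne' hc', hNα, hNβ⟩⟩

namespace Diag

variable {α β : MulAut (Matrix.ProjectiveSpecialLinearGroup (Fin 2) F)} (d : Diag α β)

include d

theorem two_ne_zero' : (2 : F) ≠ 0 := Classical.SylowSL2.two_ne_zero_of_odd d.odd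

theorem prod_eq : α * β = gA (d.g * d.h) :=
  (congrArg₂ (· * ·) d.eg d.eh).trans (map_mul _ _ _).symm

omit d in
theorem not_mem_L {g : GL (Fin 2) F} (hd : ¬ IsSquare (g : M2).det) : mk' g ∉ DicksonPGL.L F :=
  fun h => hd (DicksonPGL.mk_mem_L.1 h)

theorem fix_g {x : PG} (hx : α x = x) : Commute (toP x) (mk' d.g) := by
  rw [d.eg] at hx
  exact Subgroup.mem_centralizer_singleton_iff.1 ((gAut_fix_iff d.g x).1 hx)

theorem fix_h {x : PG} (hx : β x = x) : Commute (toP x) (mk' d.h) := by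
  rw [d.eh] at hx
  exact Subgroup.mem_centralizer_singleton_iff.1 ((gAut_fix_iff d.h x).1 hx)

/-- Only the product of the two involutions is inner and fixed by both. -/
theorem four {x : PG} (hxα : α x = x) (hxβ : β x = x) : x = 1 ∨ MulAut.conj x = α * β := by
  obtain ⟨k, hk, hkc⟩ := exists_lift x
  have hkL : mk' k ∈ DicksonPGL.L F := hk ▸ toP_mem x
  have hg := d.fix_g hxα
  have hh := d.fix_h hxβ
  rw [← hk] at hg hh
  have h2 := d.two_ne_zero'
  -- an element commuting with `g` on the nose and up to sign with `h`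
  have key : ∀ k : GL (Fin 2) F, (d.g : M2) * k = (k : M2) * d.g →
      Commute (mk' k) (mk' d.h) → mk' k = 1 ∨ mk' k = mk' d.g := by
    intro k hkg hkh
    obtain ⟨a, b, hab⟩ := span_of_commute h2 d.tg (not_scalar d.dg) hkg
    have hm : mk' (k * d.h) = mk' (d.h * k) := by rw [map_mul, map_mul]; exact hkh.eq
    obtain ⟨r, -, hr⟩ := smul_of_mk_eq hm
    rw [Units.val_mul, Units.val_mul, hab, mul_add, add_mul, mul_smul_comm, mul_smul_comm,
      smul_mul_assoc, smul_mul_assoc, mul_one, one_mul] at hr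
    have hhg : (d.h : M2) * d.g = -((d.g : M2) * d.h) := by rw [d.anti, neg_neg]
    rw [hhg, smul_add, smul_smul, smul_smul, smul_neg] at hr
    have hz : (a * (1 - r)) • (d.h : M2) = (b * (1 + r)) • ((d.g : M2) * d.h) := by
      rw [← sub_eq_zero, ← sub_eq_zero.2 hr]
      module
    have hz' : (a * (1 - r)) • (1 : M2) = (b * (1 + r)) • (d.g : M2) := by
      have := congrArg (fun X : M2 => X * ((d.h⁻¹ : GL (Fin 2) F) : M2)) hz
      rwa [smul_mul_assoc, smul_mul_assoc, mul_assoc (d.g : M2), ← Units.val_mul, mul_inv_cancel,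
        Units.val_one, mul_one] at this
    by_cases hb : b * (1 + r) = 0
    · rw [hb, zero_smul] at hz'
      have ha : a * (1 - r) = 0 := (smul_eq_zero.1 hz').resolve_right one_ne_zero
      by_cases hb0 : b = 0
      · exact Or.inl (DicksonPGL.mk_eq_one_smul.2 ⟨a, by rw [hab, hb0, zero_smul, add_zero]⟩)
      · refine Or.inr (mk_eq_of_smul hb0 ?_).symm
        have hr1 : 1 + r = 0 := (mul_eq_zero.1 hb).resolve_left hb0
        have ha0 : a = 0 := by
          refine (mul_eq_zero.1 (show (2 : F) * a = 0 by linear_combination ha + a * hr1)).resolve_left h2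
        rw [hab, ha0, zero_smul, zero_add]
    · refine absurd ?_ (not_scalar d.dg ((b * (1 + r))⁻¹ * (a * (1 - r))))
      rw [← smul_smul, hz', smul_smul, inv_mul_cancel₀ hb, one_smul]
  obtain ⟨r, -, hr⟩ := smul_of_mk_eq
    (show mk' (k * d.g) = mk' (d.g * k) by rw [map_mul, map_mul]; exact hg.eq)
  rw [Units.val_mul, Units.val_mul] at hr
  have hrr : r * r = 1 := by
    have e := congrArg Matrix.det hr
    rw [Matrix.det_mul, Matrix.det_smul, Fintype.card_fin, Matrix.det_mul] at e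
    refine mul_right_cancel₀ (mul_ne_zero (det_ne_zero_gl k) (det_ne_zero_gl d.g)) ?_
    linear_combination -e
  have hhh : mk' d.h * mk' d.h = 1 := by
    rw [← map_mul, DicksonPGL.mk_eq_one_smul]
    exact ⟨-(d.h : M2).det, by rw [Units.val_mul, sq_matrix, d.th, zero_smul, zero_sub, neg_smul]⟩
  rcases mul_self_eq_one_iff.1 hrr with rfl | rfl
  · rw [one_smul] at hr
    rcases key k hr hh with h | h
    · exact Or.inl (Matrix.ProjectiveSpecialLinearGroup.toPGL_injective
        (by rw [← hk, h, map_one]))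
    · exact absurd (h ▸ hkL) (not_mem_L d.dg)
  · have h1 : (d.g : M2) * (k * d.h : GL (Fin 2) F) = ((k * d.h : GL (Fin 2) F) : M2) * d.g := by
      rw [Units.val_mul, ← mul_assoc, hr, neg_one_smul, neg_mul, mul_assoc, mul_assoc, d.anti, mul_neg,
        neg_neg]
    have h2' : Commute (mk' (k * d.h)) (mk' d.h) := by
      rw [map_mul]; exact hh.mul_left (Commute.refl _)
    have hkk : mk' k = mk' (k * d.h) * mk' d.h := by rw [map_mul, mul_assoc, hhh, mul_one]
    rcases key _ h1 h2' with h | h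
    · rw [h, one_mul] at hkk
      exact absurd (hkk ▸ hkL) (not_mem_L d.dh)
    · refine Or.inr ?_
      rw [← hkc, d.prod_eq]
      exact gA_eq_of_mk (by rw [hkk, h, map_mul])

/-- The second involution inverts the torus of the first. -/
theorem inverts {x : PG} (hx : α x = x) (ho : Odd (orderOf x)) : β x = x⁻¹ := by
  obtain ⟨k, hk, -⟩ := exists_lift x
  refine Matrix.ProjectiveSpecialLinearGroup.toPGL_injective ?_
  rw [d.eh, toPGL_gAut, map_inv, ← hk]
  exact inverted d.two_ne_zero' d.tg d.dg d.anti (hk ▸ d.fix_g hx)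
    (by rwa [hk, orderOf_injective _ Matrix.ProjectiveSpecialLinearGroup.toPGL_injective])

theorem cross {x y : PG} (hx : α x = x) (hy : β y = y) (hox : Odd (orderOf x))
    (hoy : Odd (orderOf y)) (hx1 : x ≠ 1) (hy1 : y ≠ 1) : ¬ Commute x y := by
  intro hxy
  obtain ⟨k, hk, -⟩ := exists_lift x
  obtain ⟨l, hl, -⟩ := exists_lift y
  refine Component.cross d.two_ne_zero' d.tg d.th d.dg d.dh d.anti (hk ▸ d.fix_g hx)
    (by rwa [hk, orderOf_injective _ Matrix.ProjectiveSpecialLinearGroup.toPGL_injective])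
    (hk ▸ (map_ne_one_iff _ Matrix.ProjectiveSpecialLinearGroup.toPGL_injective).2 hx1)
    (hl ▸ d.fix_h hy)
    (by rwa [hl, orderOf_injective _ Matrix.ProjectiveSpecialLinearGroup.toPGL_injective])
    (hl ▸ (map_ne_one_iff _ Matrix.ProjectiveSpecialLinearGroup.toPGL_injective).2 hy1) ?_
  rw [hk, hl]
  exact hxy.map _

theorem coprime {x y : PG} (hx : α x = x) (hy : (α * β) y = y) {r : ℕ} (hr : r.Prime) (hr2 : r ≠ 2)
    (hox : orderOf x = r) (hoy : orderOf y = r) : False := by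
  obtain ⟨k, hk, -⟩ := exists_lift x
  obtain ⟨l, hl, -⟩ := exists_lift y
  rw [d.prod_eq] at hy
  have hy' : Commute (toP y) (mk' (d.g * d.h)) :=
    Subgroup.mem_centralizer_singleton_iff.1 ((gAut_fix_iff _ y).1 hy)
  refine Component.coprime d.odd d.three_lt d.tg d.dg d.anti ?_ (hk ▸ d.fix_g hx) (hk ▸ toP_mem x) ?_
    (hl ▸ toP_mem y) hr hr2
    (by rw [hk, orderOf_injective _ Matrix.ProjectiveSpecialLinearGroup.toPGL_injective, hox])
    (by rw [hl, orderOf_injective _ Matrix.ProjectiveSpecialLinearGroup.toPGL_injective, hoy])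
  · rw [← map_mul]
    exact DicksonPGL.mk_mem_L.2 (by rw [Units.val_mul, Matrix.det_mul]; exact isSquare_mul_of_not d.dg d.dh)
  · rw [← map_mul, hl]
    exact hy'

/-- An automorphism fixing the fixed points of both is trivial. -/
theorem eq_one_of_fix {γ : MulAut PG} (hα : ∀ x, α x = x → γ x = x) (hβ : ∀ x, β x = x → γ x = x) :
    γ = 1 := by
  have hnoIn : ∀ {δ : MulAut PG} {k : GL (Fin 2) F}, δ = gA k → NoFour δ →
      NoFourIn (DicksonPGL.L F ⊓ Subgroup.centralizer {mk' k}) := by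
    rintro δ k rfl hN p ⟨⟨x, rfl⟩, hxc⟩ q ⟨⟨y, rfl⟩, hyc⟩ hop hoq hpq hcpq
    refine hN x y ?_ ?_ (fun h => hpq (by rw [h]))
      (Matrix.ProjectiveSpecialLinearGroup.toPGL_injective ?_) ((gAut_fix_iff k x).2 hxc)
      ((gAut_fix_iff k y).2 hyc)
    · exact (orderOf_injective _ Matrix.ProjectiveSpecialLinearGroup.toPGL_injective x).symm.trans hop
    · exact (orderOf_injective _ Matrix.ProjectiveSpecialLinearGroup.toPGL_injective y).symm.trans hoq
    · rw [map_mul, map_mul]; exact hcpq.eq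
  have htop := generate d.odd d.three_lt d.dg d.tg d.dh d.th d.ne d.comm (hnoIn d.eg d.noFour_g)
    (hnoIn d.eh d.noFour_h)
  have hle : DicksonPGL.L F ≤ ((γ : PG →* PG).eqLocus (MonoidHom.id PG)).map toP := by
    refine htop.ge.trans (sup_le ?_ ?_) <;> rintro _ ⟨⟨x, rfl⟩, hxc⟩
    · exact ⟨x, hα x (by rw [d.eg]; exact (gAut_fix_iff d.g x).2 hxc), rfl⟩
    · exact ⟨x, hβ x (by rw [d.eh]; exact (gAut_fix_iff d.h x).2 hxc), rfl⟩
  refine MulEquiv.ext fun x => ?_
  obtain ⟨y, hy, hyx⟩ := hle (toP_mem x)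
  rw [← Matrix.ProjectiveSpecialLinearGroup.toPGL_injective hyx]
  exact hy

theorem inner_mul : ∃ x : PG, α * β = MulAut.conj x := by
  obtain ⟨r, hr⟩ := isSquare_mul_of_not d.dg d.dh
  have hr0 : r ≠ 0 := fun e => mul_ne_zero (det_ne_zero_gl d.g) (det_ne_zero_gl d.h)
    (by rw [hr, e, mul_zero])
  have hm : gA (d.g * d.h) ∈ Cfsg.Inn PG := (AutPSL.Diag.gAut_mem_inn_iff le_rfl _).2
    ⟨Units.mk0 r hr0, by rw [Units.val_mul, Matrix.det_mul, hr, Units.val_mk0, sq]⟩
  obtain ⟨x, hx⟩ := hm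
  exact ⟨x, by rw [d.prod_eq, hx]⟩

/-- The two involutions are conjugate by an inner automorphism. -/
theorem exists_conj : ∃ x : PG, MulAut.conj x * α * (MulAut.conj x)⁻¹ = β := by
  obtain ⟨r, hr⟩ := isSquare_mul_of_not d.dg d.dh
  set dg := (d.g : M2).det
  set dh := (d.h : M2).det with hdh
  have hdh0 : dh ≠ 0 := det_ne_zero_gl d.h
  set l := r / dh with hl
  have hl0 : l ≠ 0 := div_ne_zero
    (fun e => mul_ne_zero (det_ne_zero_gl d.g) hdh0 (by rw [hr, e, mul_zero])) hdh0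
  have hld : (l • (d.h : M2)).det = dg := by
    rw [Matrix.det_smul, Fintype.card_fin, hl, ← hdh]
    field_simp
    linear_combination -hr
  obtain ⟨C, hC⟩ := exists_companion d.tg (not_scalar d.dg)
  obtain ⟨D, hD⟩ := exists_companion (A := l • (d.h : M2)) (by rw [Matrix.trace_smul, d.th, smul_zero])
    (fun c hc => not_scalar d.dh (l⁻¹ * c) (by rw [← smul_smul, ← hc, smul_smul, inv_mul_cancel₀ hl0,
      one_smul]))
  rw [hld] at hD
  set W := D * C⁻¹
  have hW : (W : M2) * d.g = l • ((d.h : M2) * W) := by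
    have h1 : ((C⁻¹ : GL (Fin 2) F) : M2) * d.g = !![0, -dg; 1, 0] * ((C⁻¹ : GL (Fin 2) F) : M2) := by
      have := congrArg (fun X : M2 => ((C⁻¹ : GL (Fin 2) F) : M2) * X * ((C⁻¹ : GL (Fin 2) F) : M2)) hC
      simp only [mul_assoc] at this
      rw [Units.mul_inv, mul_one, ← mul_assoc ((C⁻¹ : GL (Fin 2) F) : M2) (C : M2), Units.inv_mul,
        one_mul] at this
      exact this
    rw [Units.val_mul, mul_assoc, h1, ← mul_assoc, ← hD, smul_mul_assoc, smul_mul_assoc, mul_assoc]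
  obtain ⟨V, hV, hVsq⟩ : ∃ V : GL (Fin 2) F, (V : M2) * d.g = l • ((d.h : M2) * V) ∧
      IsSquare (V : M2).det := by
    by_cases hs : IsSquare (W : M2).det
    · exact ⟨W, hW, hs⟩
    · refine ⟨d.h * W, ?_, by rw [Units.val_mul, Matrix.det_mul]; exact isSquare_mul_of_not d.dh hs⟩
      rw [Units.val_mul, mul_assoc, hW, mul_smul_comm]
  obtain ⟨s, hs⟩ := hVsq
  have hs0 : s ≠ 0 := fun e => det_ne_zero_gl V (by rw [hs, e, mul_zero])
  obtain ⟨x, hx⟩ : gA V ∈ Cfsg.Inn PG := (AutPSL.Diag.gAut_mem_inn_iff le_rfl _).2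
    ⟨Units.mk0 s hs0, by rw [hs, Units.val_mk0, sq]⟩
  refine ⟨x, ?_⟩
  refine mul_inv_eq_iff_eq_mul.2 ((congrArg₂ (· * ·) hx d.eg).trans (Eq.trans ?_
    (congrArg₂ (· * ·) d.eh hx).symm))
  show gA V * gA d.g = gA d.h * gA V
  rw [← map_mul, ← map_mul]
  exact (NormEq.Outer.gAut_eq_iff.2 ⟨l, by rw [Units.val_mul, Units.val_mul]; exact hV⟩).symm

omit d in
/-- An element of odd order inverted by an automorphism is inner. -/
theorem inner_of_inverted {δ γ : MulAut PG} (ho : Odd (orderOf γ)) (h : δ * γ * δ⁻¹ = γ⁻¹) :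
    ∃ x : PG, γ = MulAut.conj x := by
  obtain ⟨ψ, -, hψg, hψc⟩ := OvergroupsPSL.exists_field_hom (F := F)
  have h1 : ψ γ = 1 := by
    have e := congrArg ψ h
    rw [map_mul, map_mul, hψc δ γ, map_inv, mul_inv_cancel_right, map_inv] at e
    exact eq_one_of_odd_of_sq (ho.of_dvd_nat (orderOf_map_dvd ψ γ)) (eq_inv_iff_mul_eq_one.1 e)
  obtain ⟨g, rfl⟩ := hψg γ h1
  exact OvergroupsPSL.inner_of_odd ho

end Diag

/-- No involutory automorphism of `A₇` is without fixed four-group. -/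
theorem alt_seven_false {α : MulAut (alternatingGroup (Fin 7))} (ha : α * α = 1) (hN : NoFour α) :
    False := by
  obtain ⟨σ, rfl⟩ := (S2119.result 7 (by norm_num) (by norm_num)).2 α
  have hσσ : σ * σ = 1 := (S2119.result 7 (by norm_num) (by norm_num)).1 (by rw [map_mul, ha, map_one])
  obtain ⟨p, q, hpA, hqA, hp, hq, hpq, hcpq, hσp, hσq⟩ := alt_seven_four hσσ
  refine hN ⟨p, hpA⟩ ⟨q, hqA⟩ (by rw [Subgroup.orderOf_mk, hp]) (by rw [Subgroup.orderOf_mk, hq])
    (fun h => hpq (Subtype.mk.inj h)) (Subtype.ext hcpq.eq) ?_ ?_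
  · exact Subtype.ext (by rw [MulAut.conjNormal_apply]; exact mul_inv_eq_iff_eq_mul.2 hσp.eq)
  · exact Subtype.ext (by rw [MulAut.conjNormal_apply]; exact mul_inv_eq_iff_eq_mul.2 hσq.eq)

end Cfsg.Agent.GW.Component
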