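import Cfsg.Agent.Lib.AutPSL.Out
import Cfsg.Agent.Lib.AutPSL.Diag
import Cfsg.Agent.Lib.Classical.GL2
import Cfsg.Agent.Lib.GW.ConsPSLInvolution
import Cfsg.Agent.Lib.TimesPSLTwo.PSLFacts

/-!
`PSL(2, q)` for even `q`: involutions, and automorphisms fixing a Sylow 2-subgroup.
-/

set_option autoImplicit false
set_option linter.unusedSectionVars false

namespace Cfsg.Agent.GW.ConsDGroup.Even

open Matrix Cfsg.Agent.AutPSL.Basic Cfsg.Agent.AutPSL.Main Cfsg.Agent.AutPSL.Out Cfsg.Agent.Forms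
open scoped MatrixGroups

universe u

variable {F : Type u} [Field F] [Fintype F] [CharP F 2]

local notation "PG" => Matrix.ProjectiveSpecialLinearGroup (Fin 2) F
local notation "M2" => Matrix (Fin 2) (Fin 2) F

theorem pi_bijective : Function.Bijective (KleinPSL.pi F) := by
  refine ⟨(injective_iff_map_eq_one _).2 fun a ha => ?_, KleinPSL.pi_surjective⟩
  rcases KleinPSL.pi_eq_one.1 ha with h | h
  · exact h
  · rw [h]
    refine Subtype.ext ?_
    rw [Matrix.SpecialLinearGroup.coe_neg, Matrix.SpecialLinearGroup.coe_one]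
    ext i j
    rw [Matrix.neg_apply, CharTwo.neg_eq]

/-- The natural isomorphism. -/
noncomputable def equiv : SL(2, F) ≃* PG :=
  MulEquiv.ofBijective (KleinPSL.pi F) pi_bijective

theorem exists_sylow_conj (R : Sylow 2 PG) :
    ∃ g : SL(2, F), ∀ x : PG, x ∈ (R : Subgroup PG) ↔
      ∃ c : F, x = KleinPSL.pi F (g * Classical.GL2.uniSL c * g⁻¹) := by
  have : Fact (Nat.Prime 2) := ⟨Nat.prime_two⟩
  obtain ⟨g, hg⟩ := Classical.GL2.exists_eq_conj_U (p := 2)
    (R.mapSurjective (f := (equiv (F := F)).symm.toMonoidHom) (equiv (F := F)).symm.surjective)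
  refine ⟨g, fun x => ?_⟩
  have hmem : ∀ y : SL(2, F), y ∈ ((g • Classical.GL2.sylowSL (F := F) 2 : Sylow 2 SL(2, F)) :
      Subgroup SL(2, F)) ↔ ∃ c : F, y = g * Classical.GL2.uniSL c * g⁻¹ := by
    intro y
    rw [Sylow.coe_subgroup_smul, Subgroup.mem_pointwise_smul_iff_inv_smul_mem,
      Classical.GL2.coe_sylowSL]
    constructor
    · rintro ⟨c, hc⟩
      refine ⟨Multiplicative.toAdd c, ?_⟩
      rw [show Classical.GL2.uniSL (Multiplicative.toAdd c) = (MulAut.conj g)⁻¹ • y from hc]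
      simp [MulAut.smul_def, mul_assoc]
    · rintro ⟨c, rfl⟩
      refine ⟨Multiplicative.ofAdd c, ?_⟩
      show Classical.GL2.uniSL c = _
      simp [MulAut.smul_def, mul_assoc]
  rw [← hg] at hmem
  constructor
  · intro hx
    obtain ⟨c, hc⟩ := (hmem ((equiv (F := F)).symm x)).1 ⟨x, hx, rfl⟩
    exact ⟨c, by rw [← hc]; exact ((equiv (F := F)).apply_symm_apply x).symm⟩
  · rintro ⟨c, rfl⟩
    obtain ⟨y, hy, hyc⟩ := (hmem _).2 ⟨c, rfl⟩
    have h : equiv (F := F) ((equiv (F := F)).symm y) = equiv (g * Classical.GL2.uniSL c * g⁻¹) :=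
      congrArg _ hyc
    rw [MulEquiv.apply_symm_apply] at h
    exact (show KleinPSL.pi F (g * Classical.GL2.uniSL c * g⁻¹) = y from h.symm) ▸ hy

theorem sylow_sq (R : Sylow 2 PG) {x : PG} (hx : x ∈ (R : Subgroup PG)) : x * x = 1 := by
  obtain ⟨g, hg⟩ := exists_sylow_conj R
  obtain ⟨c, rfl⟩ := (hg x).1 hx
  rw [← map_mul, show g * Classical.GL2.uniSL c * g⁻¹ * (g * Classical.GL2.uniSL c * g⁻¹) =
    g * (Classical.GL2.uniSL c * Classical.GL2.uniSL c) * g⁻¹ by group, Classical.GL2.uniSL_mul,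
    CharTwo.add_self_eq_zero, Classical.GL2.uniSL_zero, mul_one, mul_inv_cancel, map_one]

/-- All involutions are conjugate. -/
theorem isConj_involutions {x y : PG} (hx : orderOf x = 2) (hy : orderOf y = 2) : IsConj x y := by
  have : Fact (Nat.Prime 2) := ⟨Nat.prime_two⟩
  suffices h : ∀ x : PG, orderOf x = 2 → IsConj (KleinPSL.pi F (Classical.GL2.uniSL 1)) x from
    (h x hx).symm.trans (h y hy)
  intro x hx
  have hp : IsPGroup 2 (Subgroup.zpowers x) :=
    IsPGroup.of_card (n := 1) (by rw [Nat.card_zpowers, hx, pow_one])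
  obtain ⟨R, hR⟩ := hp.exists_le_sylow
  obtain ⟨g, hg⟩ := exists_sylow_conj R
  obtain ⟨c, rfl⟩ := (hg x).1 (hR (Subgroup.mem_zpowers x))
  have hc : c ≠ 0 := by
    rintro rfl
    rw [Classical.GL2.uniSL_zero, mul_one, mul_inv_cancel, map_one, orderOf_one] at hx
    omega
  obtain ⟨d, hd⟩ := FiniteField.isSquare_of_char_two (F := F) (ringChar.eq F 2) c
  have hd0 : d ≠ 0 := fun e => hc (by rw [hd, e, mul_zero])
  let D : SL(2, F) := ⟨!![d, 0; 0, d⁻¹], by simp [Matrix.det_fin_two, hd0]⟩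
  have hD : D * Classical.GL2.uniSL 1 * D⁻¹ = Classical.GL2.uniSL c := by
    rw [mul_inv_eq_iff_eq_mul]
    refine Subtype.ext ?_
    rw [Matrix.SpecialLinearGroup.coe_mul, Matrix.SpecialLinearGroup.coe_mul, Classical.GL2.coe_uniSL,
      Classical.GL2.coe_uniSL]
    ext i j
    fin_cases i <;> fin_cases j <;> simp [D, hd] <;> field_simp
  refine isConj_iff.2 ⟨KleinPSL.pi F (g * D), ?_⟩
  rw [← map_inv, ← map_mul, ← map_mul]
  congr 1
  rw [← hD]
  group

/-- An automorphism fixing a Sylow 2-subgroup pointwise is inner. -/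
theorem inner_of_fix (σ : MulAut PG) (R : Sylow 2 PG) (hσ : ∀ x ∈ (R : Subgroup PG), σ x = x) :
    ∃ p : PG, MulAut.conj p = σ := by
  obtain ⟨g, hg⟩ := exists_sylow_conj R
  set γ := MulAut.conj (KleinPSL.pi F g) with hγ
  set τ' := γ⁻¹ * σ * γ with hτ'
  have hfix : ∀ c : F, τ' (KleinPSL.pi F (Classical.GL2.uniSL c)) = KleinPSL.pi F (Classical.GL2.uniSL c) := by
    intro c
    have h1 := hσ _ ((hg _).2 ⟨c, rfl⟩)
    have h2 : γ (KleinPSL.pi F (Classical.GL2.uniSL c)) =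
        KleinPSL.pi F (g * Classical.GL2.uniSL c * g⁻¹) := by
      rw [hγ, MulAut.conj_apply, map_mul, map_mul, map_inv]
    rw [hτ', MulAut.mul_apply, MulAut.mul_apply, h2, h1, ← h2]
    exact γ.symm_apply_apply _
  obtain ⟨k, τ, hk⟩ := exists_decomp_two τ'
  have hmat : ∀ c : F, (k : M2) * !![1, τ c; 0, 1] = !![1, c; 0, 1] * (k : M2) := by
    intro c
    have h := hfix c
    rw [hk, MulAut.mul_apply] at h
    change QuotientGroup.mk (conjSL k (fieldSL τ (Classical.GL2.uniSL c))) =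
      KleinPSL.pi F (Classical.GL2.uniSL c) at h
    have h' := congrArg Subtype.val (pi_bijective.1 h)
    rw [conjSL_coe, fieldSL_coe, Classical.GL2.coe_uniSL] at h'
    have hm : (!![1, c; 0, 1] : M2).map τ = !![1, τ c; 0, 1] := by
      ext i j
      fin_cases i <;> fin_cases j <;> simp
    rw [hm] at h'
    calc (k : M2) * !![1, τ c; 0, 1]
        = (k : M2) * !![1, τ c; 0, 1] * ((k⁻¹ : GL (Fin 2) F) : M2) * (k : M2) := by
          rw [mul_assoc _ _ (k : M2), Units.inv_mul, mul_one]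
      _ = _ := by rw [h']
  have e1 : (k : M2) 1 0 = 0 ∧ (k : M2) 0 0 = (k : M2) 1 1 := by
    have h := hmat 1
    rw [map_one] at h
    have h00 := congrFun (congrFun h 0) 0
    have h01 := congrFun (congrFun h 0) 1
    simp [Matrix.mul_apply, Fin.sum_univ_two] at h00 h01
    exact ⟨by linear_combination h00, by linear_combination h01⟩
  have hk0 : (k : M2) 0 0 ≠ 0 := fun h => ((Matrix.isUnit_iff_isUnit_det _).1 k.isUnit).ne_zero (by
    rw [Matrix.det_fin_two, h, e1.1]; ring)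
  have hτ : τ = 1 := by
    refine RingEquiv.ext fun c => mul_left_cancel₀ hk0 ?_
    have h01 := congrFun (congrFun (hmat c) 0) 1
    simp [Matrix.mul_apply, Fin.sum_univ_two] at h01
    show (k : M2) 0 0 * τ c = (k : M2) 0 0 * c
    linear_combination h01 - c * e1.2
  obtain ⟨b, hb⟩ : ∃ b, b = (k : M2) 0 1 / (k : M2) 0 0 := ⟨_, rfl⟩
  refine ⟨KleinPSL.pi F (g * Classical.GL2.uniSL b * g⁻¹), ?_⟩
  have hτ'2 : MulAut.conj (KleinPSL.pi F (Classical.GL2.uniSL b)) = τ' := by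
    rw [hk, hτ, map_one, mul_one]
    refine Eq.trans (Cons.gAut_toGL (Classical.GL2.uniSL b)).symm ?_
    refine (NormEq.Outer.gAut_eq_iff.2 ⟨((k : M2) 0 0)⁻¹, ?_⟩).symm
    show (Classical.GL2.uniSL b : M2) = _
    rw [Classical.GL2.coe_uniSL, hb]
    ext i j
    fin_cases i <;> fin_cases j <;> simp [e1.1, ← e1.2, hk0, div_eq_inv_mul]
  rw [map_mul, map_mul, map_inv, map_mul, map_mul, map_inv, hτ'2, ← hγ, hτ']
  group


end Cfsg.Agent.GW.ConsDGroup.Even
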