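import Cfsg.Agent.Lib.GW.ConsDGroupTwo
import Cfsg.Agent.Lib.GW.ConsDGroupEven
import Cfsg.Agent.Lib.Involutions.AbelianCentralizer.Main
import Cfsg.Agent.Lib.PGroups.UniqueSubgroup
import Cfsg.Agent.S1230
import Cfsg.Agent.S0112
import Cfsg.Agent.S0113

/-!
Groups with a self-centralising D-group, from Gorenstein–Walter.
-/

set_option autoImplicit false
set_option linter.unusedSectionVars false
set_option maxHeartbeats 400000

namespace Cfsg.Agent.GW.ConsDGroup

open Subgroup
open scoped commutatorElement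

universe u

variable {G : Type u} [Group G] [Finite G]

/-- The conclusion. -/
def Conclusion (G : Type u) [Group G] : Prop :=
  ∃ (N : Subgroup G) (_ : N.Normal), (Odd (Nat.card N) ∨ ∃ m : ℕ, Odd m ∧ Nat.card N = 2 * m) ∧
    ∃ (F : Type) (_ : Field F) (_ : Fintype F), 3 < Fintype.card F ∧
      (Nonempty (G ⧸ N ≃* Matrix.ProjectiveSpecialLinearGroup (Fin 2) F) ∨
        Nonempty (G ⧸ N ≃* Matrix.ProjGenLinGroup (Fin 2) F))

theorem sylow_normal_solvable (T : Sylow 2 G) (h : (T : Subgroup G).Normal) : Group.IsSolvable G := by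
  have : Fact (Nat.Prime 2) := ⟨Nat.prime_two⟩
  have hT : Group.IsSolvable (T : Subgroup G) := by
    haveI := T.isPGroup'.isNilpotent
    infer_instance
  by_contra hns
  refine quotient_nonsolvable (T : Subgroup G) hT hns (S0205.result ?_)
  rw [← Nat.not_even_iff_odd, even_iff_two_dvd]
  exact T.not_dvd_index

theorem mem_sylow_conj {p : ℕ} [Fact p.Prime] (T : Sylow p G) {x : G} {j : ℕ} (hx : x ^ p ^ j = 1) :
    ∃ g : G, g * x * g⁻¹ ∈ (T : Subgroup G) := by
  obtain ⟨i, -, hi⟩ := (Nat.dvd_prime_pow (Fact.out : p.Prime)).1 (orderOf_dvd_of_pow_eq_one hx)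
  have hp : IsPGroup p (zpowers x) := IsPGroup.of_card (n := i) (by rw [Nat.card_zpowers, hi])
  obtain ⟨R, hR⟩ := hp.exists_le_sylow
  obtain ⟨g, hg⟩ := MulAction.exists_smul_eq G R T
  refine ⟨g, ?_⟩
  rw [← hg]
  exact ⟨x, hR (mem_zpowers x), rfl⟩

/-- An elementary abelian centraliser. -/
theorem elementary_case {H : Subgroup G} (hsq : ∀ x ∈ H, x * x = 1) (h4 : 4 ∣ Nat.card H)
    (hC : ∀ j ∈ H, orderOf j = 2 → (∀ h ∈ H, h * j = j * h) → centralizer ({j} : Set G) = H)
    (hns : ¬ Group.IsSolvable G) : Conclusion G := by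
  have : Fact (Nat.Prime 2) := ⟨Nat.prime_two⟩
  have hcomm : ∀ a ∈ H, ∀ b ∈ H, a * b = b * a := fun a ha b hb => by
    have h1 := hsq _ (mul_mem ha hb)
    rw [eq_inv_of_mul_eq_one_right h1, _root_.mul_inv_rev, inv_eq_of_mul_eq_one_right (hsq a ha),
      inv_eq_of_mul_eq_one_right (hsq b hb)]
  have hC' : ∀ j ∈ H, orderOf j = 2 → centralizer ({j} : Set G) = H := fun j hj hj2 =>
    hC j hj hj2 fun h hh => hcomm h hh j hj
  have hp : IsPGroup 2 H := fun x => ⟨1, Subtype.ext (by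
    rw [pow_one, SubmonoidClass.coe_pow, pow_two, hsq x x.2]; rfl)⟩
  obtain ⟨h₀, hh₀⟩ := exists_prime_orderOf_dvd_card' (G := H) 2 (dvd_trans (by norm_num) h4)
  rw [← Subgroup.orderOf_coe] at hh₀
  obtain ⟨T, hT⟩ := hp.exists_le_sylow
  have hne : (T : Subgroup G) ≠ ⊥ := fun h => by
    have := h ▸ hT h₀.2
    rw [Subgroup.mem_bot] at this
    exact Involutions.Basic.ne_one hh₀ this
  have : Nontrivial (T : Subgroup G) := (Subgroup.nontrivial_iff_ne_bot _).2 hne
  obtain ⟨z, hz, hzc⟩ : ∃ z : (T : Subgroup G), orderOf z = 2 ∧ z ∈ center (T : Subgroup G) := by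
    have h2 : 2 ∣ Nat.card (center (T : Subgroup G)) := by
      have := T.isPGroup'.center_nontrivial
      obtain ⟨j, hj⟩ := (T.isPGroup'.to_subgroup (center (T : Subgroup G))).exists_card_eq
      have h1 : 1 < Nat.card (center (T : Subgroup G)) := Finite.one_lt_card
      rw [hj] at h1 ⊢
      exact dvd_pow_self 2 (by rintro rfl; simp at h1)
    obtain ⟨z, hz⟩ := exists_prime_orderOf_dvd_card' 2 h2
    exact ⟨z, by rw [Subgroup.orderOf_coe]; exact hz, z.2⟩
  have hzT : ∀ t ∈ (T : Subgroup G), t * z = z * t := fun t ht =>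
    congrArg Subtype.val (Subgroup.mem_center_iff.1 hzc ⟨t, ht⟩)
  have hzH : (z : G) ∈ H := by
    rw [← hC' h₀ h₀.2 hh₀]
    exact mem_centralizer_singleton_iff.2 (hzT _ (hT h₀.2)).symm
  have hTH : (T : Subgroup G) = H := le_antisymm (fun t ht => by
    rw [← hC' z hzH (by rw [Subgroup.orderOf_coe, hz])]
    exact mem_centralizer_singleton_iff.2 (hzT t ht)) hT
  have hnc := not_cyclic_sylow hns T
  have hnn : ¬ (T : Subgroup G).Normal := fun h => hns (sylow_normal_solvable T h)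
  have hall : ∀ t : G, orderOf t = 2 →
      IsMulCommutative (centralizer ({t} : Set G)) ∧ ∀ c ∈ centralizer ({t} : Set G), c ^ 2 = 1 := by
    intro t ht
    obtain ⟨g, hg⟩ := mem_sylow_conj T (j := 1) (by rw [pow_one, ← ht]; exact pow_orderOf_eq_one t)
    have hgH : ∀ c ∈ centralizer ({t} : Set G), g * c * g⁻¹ ∈ H := fun c hc => by
      rw [← hC' (g * t * g⁻¹) (hTH ▸ hg) (by rw [← MulAut.conj_apply, MulEquiv.orderOf_eq, ht])]
      refine mem_centralizer_singleton_iff.2 ?_
      calc g * c * g⁻¹ * (g * t * g⁻¹) = g * (c * t) * g⁻¹ := by group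
        _ = g * (t * c) * g⁻¹ := by rw [mem_centralizer_singleton_iff.1 hc]
        _ = _ := by group
    refine ⟨⟨⟨fun a b => Subtype.ext ((MulAut.conj g).injective ?_)⟩⟩, fun c hc => (MulAut.conj g).injective ?_⟩
    · rw [Subgroup.coe_mul, Subgroup.coe_mul, map_mul, map_mul]
      exact hcomm _ (hgH a a.2) _ (hgH b b.2)
    · rw [map_pow, map_one, pow_two]
      exact hsq _ (hgH c hc)
  obtain ⟨F, iF, iT, hF, ⟨e⟩⟩ := S1230.result T hnc hnn hall
  have hc4 : 4 ≤ Nat.card T := by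
    have h : Nat.card T = Nat.card H := by rw [← hTH]
    rw [h]
    exact Nat.le_of_dvd Nat.card_pos h4
  exact ⟨⊥, inferInstance, Or.inl (by rw [Subgroup.card_bot]; exact odd_one), F, iF, iT, by omega,
    Or.inl ⟨QuotientGroup.quotientBot.trans e⟩⟩

/-- A dihedral group: abelian `A` of index two in `H` inverted by the other elements, which are
involutions; `H` is the centraliser of each involution of `A`. -/
structure Dih (H A : Subgroup G) : Prop where
  le : A ≤ H
  comm : ∀ a ∈ A, ∀ b ∈ A, a * b = b * a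
  out_sq : ∀ x ∈ H, x ∉ A → x * x = 1
  inverts : ∀ x ∈ H, x ∉ A → ∀ a ∈ A, x * a * x⁻¹ = a⁻¹
  mul_mem : ∀ x ∈ H, ∀ y ∈ H, x ∉ A → y ∉ A → x * y ∈ A
  exists_out : ∃ x, x ∈ H ∧ x ∉ A
  exists_sq : ∃ a ∈ A, a * a ≠ 1
  cent : ∀ v ∈ A, orderOf v = 2 → centralizer ({v} : Set G) = H

variable {H A : Subgroup G}

theorem Dih.normal_mem (h : Dih H A) {x a : G} (hx : x ∈ H) (ha : a ∈ A) : x * a * x⁻¹ ∈ A := by
  by_cases hxA : x ∈ A
  · exact A.mul_mem (A.mul_mem hxA ha) (inv_mem hxA)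
  · rw [h.inverts x hx hxA a ha]; exact inv_mem ha

theorem Dih.mem_of_commute (h : Dih H A) {v c : G} (hv : v ∈ A) (hv2 : orderOf v = 2)
    (hc : Commute c v) : c ∈ H := by
  rw [← h.cent v hv hv2]
  exact mem_centralizer_singleton_iff.2 hc.eq

theorem Dih.commute (h : Dih H A) {v c : G} (hv : v ∈ A) (hv2 : orderOf v = 2) (hc : c ∈ H) :
    Commute c v := by
  rw [← h.cent v hv hv2] at hc
  exact mem_centralizer_singleton_iff.1 hc

theorem Dih.dCent (h : Dih H A) {v : G} (hv : v ∈ A) (hv2 : orderOf v = 2) : DCent v :=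
  ⟨A, hv, h.comm, fun c hc hcc => by_contra fun hcA => hcc (h.out_sq c (h.mem_of_commute hv hv2 hc) hcA)⟩

theorem Dih.two_index (h : Dih H A) {P : Subgroup G} (hP : P ≤ H) {x : G} (hx : x ∈ P) (hxA : x ∉ A) :
    (A.subgroupOf P).index = 2 := by
  rw [Subgroup.index_eq_two_iff]
  refine ⟨⟨x, hx⟩, fun b => ?_⟩
  simp only [Subgroup.mem_subgroupOf, Subgroup.coe_mul, xor_iff_iff_not]
  constructor
  · intro h1 h2
    exact hxA ((Subgroup.mul_mem_cancel_left A h2).1 h1)
  · intro h2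
    exact h.mul_mem b (hP b.2) x (hP hx) h2 hxA

theorem Dih.even_card (h : Dih H A) (h4 : 4 ∣ Nat.card H) : 2 ∣ Nat.card A := by
  obtain ⟨x, hx, hxA⟩ := h.exists_out
  have h1 := (A.subgroupOf H).card_mul_index
  rw [h.two_index le_rfl hx hxA, Nat.card_congr (Subgroup.subgroupOfEquivOfLe h.le).toEquiv] at h1
  obtain ⟨j, hj⟩ := h4
  exact ⟨j, by omega⟩

/-- A Sylow 2-subgroup of `H`, inside one of `G`. -/
structure Dih.Syl (h : Dih H A) (T : Sylow 2 G) : Prop where
  conj_mem : ∀ y ∈ H, y * y = 1 → ∃ c ∈ H, c * y * c⁻¹ ∈ (T : Subgroup G)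
  central_mem : ∀ v ∈ A, orderOf v = 2 → v ∈ (T : Subgroup G)
  card : ∀ D : Subgroup G, D ≤ H → IsPGroup 2 D → Nat.card D ≤ Nat.card ↥((T : Subgroup G) ⊓ H)
  exists_out : ∃ x, x ∈ (T : Subgroup G) ∧ x ∈ H ∧ x ∉ A

theorem Dih.exists_syl (h : Dih H A) : ∃ T : Sylow 2 G, h.Syl T := by
  have : Fact (Nat.Prime 2) := ⟨Nat.prime_two⟩
  obtain ⟨P⟩ := (inferInstance : Nonempty (Sylow 2 H))
  obtain ⟨T, hT⟩ := (P.isPGroup'.map H.subtype).exists_le_sylow
  have hconj : ∀ y ∈ H, y * y = 1 → ∃ c ∈ H, c * y * c⁻¹ ∈ (T : Subgroup G) := by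
    intro y hy hyy
    obtain ⟨c, hc⟩ := mem_sylow_conj P (x := (⟨y, hy⟩ : H)) (j := 1)
      (by rw [pow_one, pow_two]; exact Subtype.ext hyy)
    exact ⟨c, c.2, hT ⟨_, hc, rfl⟩⟩
  refine ⟨T, hconj, fun v hv hv2 => ?_, fun D hD hDp => ?_, ?_⟩
  · obtain ⟨c, hc, hcv⟩ := hconj v (h.le hv) (Involutions.Basic.inv_sq_one hv2)
    rwa [(h.commute hv hv2 hc).eq, mul_inv_cancel_right] at hcv
  · have hp : IsPGroup 2 (D.subgroupOf H) := hDp.comap_of_injective _ H.subtype_injective
    obtain ⟨R, hR⟩ := hp.exists_le_sylow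
    calc Nat.card D = Nat.card (D.subgroupOf H) := (Nat.card_congr (Subgroup.subgroupOfEquivOfLe hD).toEquiv).symm
      _ ≤ Nat.card (R : Subgroup H) := Subgroup.card_le_of_le hR
      _ = Nat.card (P : Subgroup H) := Nat.card_congr (R.equiv P).toEquiv
      _ = Nat.card ((P : Subgroup H).map H.subtype) :=
        (Subgroup.card_map_of_injective H.subtype_injective).symm
      _ ≤ _ := Subgroup.card_le_of_le (le_inf hT (Subgroup.map_subtype_le _))
  · obtain ⟨x, hx, hxA⟩ := h.exists_out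
    obtain ⟨c, hc, hcx⟩ := hconj x hx (h.out_sq x hx hxA)
    refine ⟨_, hcx, H.mul_mem (H.mul_mem hc hx) (H.inv_mem hc), fun hA => hxA ?_⟩
    have := h.normal_mem (H.inv_mem hc) hA
    rwa [inv_inv, show c⁻¹ * (c * x * c⁻¹) * c = x by group] at this

/-- Involutions outside `A` are not conjugate into `A` when `A` has more than one involution. -/
theorem Dih.no_fusion (h : Dih H A) {u v : G} (hu : u ∈ A) (hv : v ∈ A) (hu2 : orderOf u = 2)
    (hv2 : orderOf v = 2) (hne : u ≠ v) {x g : G} (hx : x ∈ H) (hxA : x ∉ A) (hg : g * x * g⁻¹ ∈ A) :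
    False := by
  have hx2 : orderOf x = 2 := orderOf_eq_prime (by rw [pow_two, h.out_sq x hx hxA])
    fun e => hxA (e ▸ one_mem A)
  have hy2 : orderOf (g * x * g⁻¹) = 2 := by rw [← MulAut.conj_apply, MulEquiv.orderOf_eq, hx2]
  have himg : ∀ w ∈ A, orderOf w = 2 → g * w * g⁻¹ ∈ H := fun w hw hw2 =>
    h.mem_of_commute hg hy2 ((((h.commute hw hw2 hx).symm).map (MulAut.conj g).toMonoidHom))
  have key : ∀ w ∈ A, orderOf w = 2 → g * w * g⁻¹ ∈ A → False := by
    intro w hw hw2 hgw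
    have hgw2 : orderOf (g * w * g⁻¹) = 2 := by rw [← MulAut.conj_apply, MulEquiv.orderOf_eq, hw2]
    obtain ⟨a, ha, haa⟩ := h.exists_sq
    -- `g` maps `H` into `H`, so `x` would be central in `H`
    have hga : g * a * g⁻¹ ∈ H :=
      h.mem_of_commute hgw hgw2 ((h.commute hw hw2 (h.le ha)).map (MulAut.conj g).toMonoidHom)
    have hcomm : Commute (g * a * g⁻¹) (g * x * g⁻¹) := h.commute hg hy2 hga
    have hax : Commute a x := by
      have := hcomm.map (MulAut.conj g⁻¹).toMonoidHom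
      simpa [mul_assoc] using this
    refine haa ?_
    have h1 := h.inverts x hx hxA a ha
    rw [← hax.eq, mul_inv_cancel_right] at h1
    calc a * a = a * a⁻¹ := by rw [← h1]
      _ = 1 := mul_inv_cancel a
  by_cases h1 : g * u * g⁻¹ ∈ A
  · exact key u hu hu2 h1
  by_cases h2 : g * v * g⁻¹ ∈ A
  · exact key v hv hv2 h2
  have huv : orderOf (u * v) = 2 := by
    refine orderOf_eq_prime ?_ fun e => hne ?_
    · rw [(show Commute u v from h.comm u hu v hv).mul_pow, ← hu2, pow_orderOf_eq_one, one_mul, hu2, ← hv2,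
        pow_orderOf_eq_one]
    · rw [eq_inv_of_mul_eq_one_left e, Involutions.Basic.inv_eq hv2]
  refine key (u * v) (A.mul_mem hu hv) huv ?_
  rw [show g * (u * v) * g⁻¹ = g * u * g⁻¹ * (g * v * g⁻¹) by group]
  exact h.mul_mem _ (himg u hu hu2) _ (himg v hv hv2) h1 h2

/-- With two involutions in `A`, the Sylow 2-subgroup lies in `H`. -/
theorem Dih.sylow_le (h : Dih H A) (T : Sylow 2 G) (hT : h.Syl T) {u₀ v₀ : G} (hu : u₀ ∈ A)
    (hv : v₀ ∈ A) (hu2 : orderOf u₀ = 2) (hv2 : orderOf v₀ = 2) (hne : u₀ ≠ v₀) :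
    (T : Subgroup G) ≤ H := by
  have : Fact (Nat.Prime 2) := ⟨Nat.prime_two⟩
  set P := ((T : Subgroup G) ⊓ H).subgroupOf (T : Subgroup G) with hP
  by_contra hle
  have hlt : P < ⊤ := lt_top_iff_ne_top.2 fun e => hle fun t ht => by
    have := e ▸ Subgroup.mem_top (⟨t, ht⟩ : (T : Subgroup G))
    exact (Subgroup.mem_subgroupOf.1 this).2
  haveI := T.isPGroup'.isNilpotent
  have hN := Group.normalizerCondition_of_isNilpotent (G := (T : Subgroup G)) P hlt
  obtain ⟨q, hqN, hqP⟩ := SetLike.exists_of_lt hN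
  -- an element normalising `P`, outside it, with square inside
  obtain ⟨t, htN, htP, ht2⟩ : ∃ t ∈ normalizer (P : Set (T : Subgroup G)), t ∉ P ∧ t * t ∈ P := by
    classical
    obtain ⟨j, hj⟩ := T.isPGroup' q
    have hex : ∃ i, q ^ 2 ^ i ∈ P := ⟨j, hj ▸ one_mem P⟩
    obtain ⟨i, hi⟩ := Nat.exists_eq_succ_of_ne_zero (n := Nat.find hex) fun e => hqP (by
      have := Nat.find_spec hex
      rwa [e, pow_zero, pow_one] at this)
    refine ⟨q ^ 2 ^ i, pow_mem hqN _, Nat.find_min hex (by omega), ?_⟩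
    have := Nat.find_spec hex
    rwa [hi, pow_succ, pow_mul, pow_two] at this
  have hnorm : ∀ w ∈ A, orderOf w = 2 → (t : G) * w * (t : G)⁻¹ ∈ A := by
    intro w hw hw2
    have hwP : (⟨w, hT.central_mem w hw hw2⟩ : (T : Subgroup G)) ∈ P :=
      Subgroup.mem_subgroupOf.2 ⟨hT.central_mem w hw hw2, h.le hw⟩
    have hmem := (Subgroup.mem_subgroupOf.1 ((Subgroup.mem_normalizer_iff.1 htN _).1 hwP)).2
    by_contra hA
    exact h.no_fusion hu hv hu2 hv2 hne hmem hA (g := (t : G)⁻¹)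
      (by simpa [mul_assoc] using hw)
  have ht2H : (t : G) * t ∈ H := (Subgroup.mem_subgroupOf.1 ht2).2
  obtain ⟨w, hwA, hw2, htw⟩ : ∃ w ∈ A, orderOf w = 2 ∧ Commute (t : G) w := by
    have hu' := hnorm u₀ hu hu2
    by_cases e : (t : G) * u₀ * (t : G)⁻¹ = u₀
    · exact ⟨u₀, hu, hu2, mul_inv_eq_iff_eq_mul.1 e⟩
    · have ho : orderOf ((t : G) * u₀ * (t : G)⁻¹) = 2 := by
        rw [← MulAut.conj_apply, MulEquiv.orderOf_eq, hu2]
      have hfix : (t : G) * ((t : G) * u₀ * (t : G)⁻¹) * (t : G)⁻¹ = u₀ := by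
        calc (t : G) * ((t : G) * u₀ * (t : G)⁻¹) * (t : G)⁻¹
            = (t : G) * t * u₀ * ((t : G) * t)⁻¹ := by group
          _ = u₀ := by rw [(h.commute hu hu2 ht2H).eq, mul_inv_cancel_right]
      have hcu : Commute u₀ ((t : G) * u₀ * (t : G)⁻¹) := h.comm _ hu _ hu'
      refine ⟨u₀ * ((t : G) * u₀ * (t : G)⁻¹), A.mul_mem hu hu', orderOf_eq_prime ?_ fun e' => e ?_, ?_⟩
      · rw [hcu.mul_pow, pow_two, pow_two, Involutions.Basic.inv_sq_one hu2, Involutions.Basic.inv_sq_one ho, one_mul]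
      · rw [eq_inv_of_mul_eq_one_right e', Involutions.Basic.inv_eq hu2]
      · refine mul_inv_eq_iff_eq_mul.1 ?_
        calc (t : G) * (u₀ * ((t : G) * u₀ * (t : G)⁻¹)) * (t : G)⁻¹
            = (t : G) * u₀ * (t : G)⁻¹ * ((t : G) * ((t : G) * u₀ * (t : G)⁻¹) * (t : G)⁻¹) := by group
          _ = _ := by rw [hfix, hcu.eq]
  exact htP (Subgroup.mem_subgroupOf.2 ⟨t.2, h.mem_of_commute hwA hw2 htw⟩)

theorem rank_case (h : Dih H A) (T : Sylow 2 G) (hT : h.Syl T) {u₀ v₀ : G} (hu : u₀ ∈ A)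
    (hv : v₀ ∈ A) (hu2 : orderOf u₀ = 2) (hv2 : orderOf v₀ = 2) (hne : u₀ ≠ v₀)
    (hns : ¬ Group.IsSolvable G) : Conclusion G := by
  have : Fact (Nat.Prime 2) := ⟨Nat.prime_two⟩
  have hTH := h.sylow_le T hT hu hv hu2 hv2 hne
  -- the intersection of the subgroups of index two
  set K : Subgroup G := sInf {M | M.index = 2} with hK
  have hKn : K.Normal := ⟨fun x hx g => by
    rw [hK, Subgroup.mem_sInf] at hx ⊢
    intro M hM
    exact (Subgroup.normal_of_index_eq_two hM).conj_mem x (hx M hM) g⟩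
  have hsqK : ∀ g : G, g * g ∈ K := fun g => by
    rw [hK, Subgroup.mem_sInf]
    exact fun M hM => Subgroup.mul_self_mem_of_index_two hM g
  have hnsK : ¬ Group.IsSolvable K := fun hs => by
    refine quotient_nonsolvable K hs hns ?_
    have hab : ∀ a b : G ⧸ K, a * b = b * a := by
      have h1 : ∀ a : G ⧸ K, a⁻¹ = a := fun a => by
        obtain ⟨g, rfl⟩ := QuotientGroup.mk_surjective a
        refine inv_eq_of_mul_eq_one_right ?_
        rw [← QuotientGroup.mk_mul, QuotientGroup.eq_one_iff]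
        exact hsqK g
      intro a b
      rw [← h1 (a * b), _root_.mul_inv_rev, h1, h1]
    exact Group.isSolvable_of_comm hab
  have hHK : ∀ x ∈ H, x ∈ K → x ∈ A := by
    intro x hx hxK
    by_contra hxA
    obtain ⟨c, hc, hcx⟩ := hT.conj_mem x hx (h.out_sq x hx hxA)
    obtain ⟨y, hy⟩ : ∃ y, y = c * x * c⁻¹ := ⟨_, rfl⟩
    have hyH : y ∈ H := hy ▸ H.mul_mem (H.mul_mem hc hx) (H.inv_mem hc)
    have hyA : y ∉ A := fun hA => hxA (by
      have := h.normal_mem (H.inv_mem hc) hA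
      rwa [hy, inv_inv, show c⁻¹ * (c * x * c⁻¹) * c = x by group] at this)
    have hyT : y ∈ (T : Subgroup G) := hy ▸ hcx
    have hy2 : orderOf y = 2 := orderOf_eq_prime (by rw [pow_two, h.out_sq y hyH hyA])
      fun e => hyA (e ▸ one_mem A)
    obtain ⟨M, hM, hyM⟩ := Involutions.ThompsonTransfer.exists_index_two_of_no_conj ((T : Subgroup G) ⊓ A)
      (Involutions.ThompsonTransfer.index_mod_four inf_le_left
        (by rw [Subgroup.inf_relIndex_left]; exact h.two_index hTH hyT hyA)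
        (Nat.odd_iff.2 (Nat.two_dvd_ne_zero.1 T.not_dvd_index))) y hy2
      fun g hg => h.no_fusion hu hv hu2 hv2 hne hyH hyA hg.2
    refine hyM (?_ : y ∈ M)
    have hyK : y ∈ K := hy ▸ hKn.conj_mem x hxK c
    rw [hK, Subgroup.mem_sInf] at hyK
    exact hyK M hM
  have hconjA : ∀ t ∈ K, ∀ j : ℕ, t ^ 2 ^ j = 1 →
      ∃ g : G, g * t * g⁻¹ ∈ (T : Subgroup G) ∧ g * t * g⁻¹ ∈ A := fun t ht j hj => by
    obtain ⟨g, hg⟩ := mem_sylow_conj T hj
    exact ⟨g, hg, hHK _ (hTH hg) (hKn.conj_mem t ht g)⟩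
  have hAC : Involutions.AbelianCentralizer.AC K := by
    intro t ht a ha b hb
    rw [← Subgroup.orderOf_coe] at ht
    obtain ⟨g, -, hg⟩ := hconjA t t.2 1 (by rw [pow_one, ← ht]; exact pow_orderOf_eq_one _)
    have hgo : orderOf (g * (t : G) * g⁻¹) = 2 := by rw [← MulAut.conj_apply, MulEquiv.orderOf_eq, ht]
    have hm : ∀ c ∈ centralizer ({t} : Set K), g * (c : G) * g⁻¹ ∈ A := fun c hc =>
      hHK _ (h.mem_of_commute hg hgo
        ((show Commute (c : G) t from congrArg Subtype.val (mem_centralizer_singleton_iff.1 hc)).map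
          (MulAut.conj g).toMonoidHom)) (hKn.conj_mem c c.2 g)
    refine Subtype.ext ((MulAut.conj g).injective ?_)
    rw [Subgroup.coe_mul, Subgroup.coe_mul, map_mul, map_mul]
    exact h.comm _ (hm a ha) _ (hm b hb)
  obtain ⟨S⟩ := (inferInstance : Nonempty (Sylow 2 K))
  obtain ⟨F, iF, iT, B, iB, iBf, hchar, hBodd, ⟨e⟩⟩ := Involutions.AbelianCentralizer.trichotomy hAC S
    (not_cyclic_sylow hnsK S) fun hn => hnsK (sylow_normal_solvable S hn)
  -- the field has more than two elements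
  have hq : 3 < Fintype.card F := by
    by_contra hq
    have h2 : Fintype.card F = 2 := by
      obtain ⟨n, -, hn⟩ := FiniteField.card F 2
      have := Fintype.one_lt_card (α := F)
      have hev : 2 ∣ Fintype.card F := hn ▸ dvd_pow_self 2 n.ne_zero
      omega
    refine not_cyclic_sylow hnsK S ?_
    have hcard : Nat.card K = 6 * Nat.card B := by
      rw [Nat.card_congr e.toEquiv, Nat.card_prod, Classical.GL2.natCard_SL_two, h2]
    obtain ⟨j, hj⟩ := S.isPGroup'.exists_card_eq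
    have hd : 2 ^ j ∣ 6 * Nat.card B := hj ▸ hcard ▸ Subgroup.card_subgroup_dvd_card _
    have hd6 : 2 ^ j ∣ 6 :=
      (Nat.Coprime.pow_left j (Nat.coprime_two_left.2 hBodd)).dvd_of_dvd_mul_right hd
    have hj1 : j ≤ 1 := by
      by_contra hj1
      have := (pow_dvd_pow 2 (show 2 ≤ j by omega)).trans hd6
      omega
    rcases Nat.le_one_iff_eq_zero_or_eq_one.1 hj1 with rfl | rfl
    · have : Subsingleton (S : Subgroup K) := (Nat.card_eq_one_iff_unique.1 (by rw [hj, pow_zero])).1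
      infer_instance
    · exact isCyclic_of_prime_card (p := 2) (by rw [hj, pow_one])
  obtain ⟨i, hidef⟩ : ∃ i : Matrix.ProjectiveSpecialLinearGroup (Fin 2) F →* G,
      i = K.subtype.comp (e.symm.toMonoidHom.comp ((MonoidHom.inl _ B).comp
        (Even.equiv (F := F)).symm.toMonoidHom)) := ⟨_, rfl⟩
  have hi : Function.Injective i := fun x y hxy => by
    have h1 : (((Even.equiv (F := F)).symm x, (1 : B))) = ((Even.equiv (F := F)).symm y, 1) :=
      e.symm.injective (Subtype.ext (by rw [hidef] at hxy; exact hxy))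
    exact (Even.equiv (F := F)).symm.injective (congrArg Prod.fst h1)
  have hiK : ∀ x, i x ∈ K := fun x => by rw [hidef]; exact Subtype.mem _
  set L := i.range with hL
  have hperf := TimesPSLTwo.psl_perfect (F := F) hq
  have hLeq : L = ⁅K, K⁆ := by
    refine le_antisymm ?_ (Subgroup.commutator_le.2 fun x hx y hy => ?_)
    · rw [hL, MonoidHom.range_eq_map, ← hperf, _root_.commutator_def, Subgroup.map_commutator]
      exact Subgroup.commutator_mono (fun _ ⟨z, _, hz⟩ => hz ▸ hiK z) (fun _ ⟨z, _, hz⟩ => hz ▸ hiK z)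
    · refine ⟨Even.equiv (e ⁅(⟨x, hx⟩ : K), ⟨y, hy⟩⁆).1, ?_⟩
      rw [hidef]
      show ((e.symm ((Even.equiv (F := F)).symm (Even.equiv _), (1 : B)) : K) : G) = _
      have h2 : (e ⁅(⟨x, hx⟩ : K), ⟨y, hy⟩⁆).2 = 1 := by
        rw [map_commutatorElement, commutatorElement_def]
        simp [mul_comm]
      rw [MulEquiv.symm_apply_apply, ← h2, Prod.mk.eta, e.symm_apply_apply]
      rfl
  have hLn : L.Normal := hLeq ▸ inferInstance
  set f : L ≃* Matrix.ProjectiveSpecialLinearGroup (Fin 2) F := (MonoidHom.ofInjective hi).symm with hf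
  -- a Sylow subgroup of `L` inside `A`
  obtain ⟨R₀⟩ := (inferInstance : Nonempty (Sylow 2 L))
  obtain ⟨R₁, hR₁⟩ := (R₀.isPGroup'.map L.subtype).exists_le_sylow
  obtain ⟨c, hc⟩ := MulAction.exists_smul_eq G R₁ T
  set R : Sylow 2 (Matrix.ProjectiveSpecialLinearGroup (Fin 2) F) :=
    R₀.mapSurjective (f := ((MulAut.conjNormal c : MulAut L).trans f).toMonoidHom)
      ((MulAut.conjNormal c : MulAut L).trans f).surjective with hR
  have hRA : ∀ y ∈ (R : Subgroup (Matrix.ProjectiveSpecialLinearGroup (Fin 2) F)),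
      (f.symm y : G) ∈ A := by
    rintro _ ⟨z, hz, rfl⟩
    have hzT : c * (z : G) * c⁻¹ ∈ (T : Subgroup G) := hc ▸ ⟨(z : G), hR₁ ⟨z, hz, rfl⟩, rfl⟩
    show (f.symm (f (MulAut.conjNormal c z)) : G) ∈ A
    rw [f.symm_apply_apply, MulAut.conjNormal_apply]
    refine hHK _ (hTH hzT) ?_
    obtain ⟨w, hw⟩ := hLn.conj_mem z z.2 c
    rw [← hw]
    exact hiK w
  have hfix : ∀ x ∈ H, ∀ y ∈ (R : Subgroup (Matrix.ProjectiveSpecialLinearGroup (Fin 2) F)),
      Commute x (f.symm y : G) := by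
    intro x hx y hy
    by_cases hy1 : y = 1
    · rw [hy1, map_one, Subgroup.coe_one]; exact Commute.one_right x
    · exact h.commute (hRA y hy)
        (by rw [Subgroup.orderOf_coe, MulEquiv.orderOf_eq]
            exact orderOf_eq_prime (by rw [pow_two, Even.sylow_sq R hy]) hy1) hx
  obtain ⟨w, hwR, hw1⟩ : ∃ w ∈ (R : Subgroup (Matrix.ProjectiveSpecialLinearGroup (Fin 2) F)), w ≠ 1 := by
    by_contra hall
    push Not at hall
    have hev : 2 ∣ Nat.card (Matrix.ProjectiveSpecialLinearGroup (Fin 2) F) := by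
      rw [← even_iff_two_dvd, ← Nat.not_odd_iff_even]
      intro ho
      have hs := S0205.result ho
      have : Nontrivial (Matrix.ProjectiveSpecialLinearGroup (Fin 2) F) :=
        ⟨⟨_, _, TimesPSLTwo.two_upper⟩⟩
      exact absurd hperf (ne_of_lt (Group.IsSolvable.commutator_lt_top_of_nontrivial _))
    have h2 := R.dvd_card_of_dvd_card hev
    rw [(Subgroup.eq_bot_iff_forall _).2 hall, Subgroup.card_bot] at h2
    norm_num at h2
  have hw2 : orderOf w = 2 := orderOf_eq_prime (by rw [pow_two, Even.sylow_sq R hwR]) hw1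
  set W : G := (f.symm w : G) with hW
  have hW2 : orderOf W = 2 := by rw [hW, Subgroup.orderOf_coe, MulEquiv.orderOf_eq, hw2]
  -- every element is an element of `L` times one centralising `L`
  set C := centralizer (L : Set G) with hC
  have hprod : ∀ g : G, ∃ l ∈ L, l⁻¹ * g ∈ C := by
    intro g
    set y := f ⟨g * W * g⁻¹, hLn.conj_mem W (f.symm w).2 g⟩ with hy
    have hy2 : orderOf y = 2 := by
      rw [hy, MulEquiv.orderOf_eq, Subgroup.orderOf_mk, ← MulAut.conj_apply, MulEquiv.orderOf_eq, hW2]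
    obtain ⟨s, hs⟩ := isConj_iff.1 (Even.isConj_involutions hw2 hy2)
    set l : L := f.symm s with hl
    have hls : (l : G) * W * (l : G)⁻¹ = g * W * g⁻¹ := by
      have h1 := congrArg f.symm hs
      rw [hy, map_mul, map_mul, map_inv, MulEquiv.symm_apply_apply] at h1
      exact congrArg Subtype.val h1
    have hxH : (l : G)⁻¹ * g ∈ H := by
      refine h.mem_of_commute (hRA w hwR) hW2 ?_
      show (l : G)⁻¹ * g * W = W * ((l : G)⁻¹ * g)
      calc (l : G)⁻¹ * g * W = (l : G)⁻¹ * (g * W * g⁻¹) * g := by group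
        _ = _ := by rw [← hls]; group
    set x := (l : G)⁻¹ * g with hx
    obtain ⟨p, hp⟩ := Even.inner_of_fix (MulAut.congr f (MulAut.conjNormal x)) R fun y hy => by
      show f (MulAut.conjNormal x (f.symm y)) = y
      rw [show MulAut.conjNormal x (f.symm y) = f.symm y from Subtype.ext (by
        rw [MulAut.conjNormal_apply, (hfix x hxH y hy).eq, mul_inv_cancel_right]), f.apply_symm_apply]
    refine ⟨(l : G) * (f.symm p : G), L.mul_mem l.2 (f.symm p).2, mem_centralizer_iff.2 fun z hz => ?_⟩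
    have h1 := congrArg (fun σ : MulAut (Matrix.ProjectiveSpecialLinearGroup (Fin 2) F) =>
      (f.symm (σ (f ⟨z, hz⟩)) : G)) hp
    have h2 : (f.symm p : G) * z * (f.symm p : G)⁻¹ = x * z * x⁻¹ := by
      simpa [MulAut.congr, MulAut.conjNormal_apply] using h1
    rw [_root_.mul_inv_rev, mul_assoc, ← hx]
    calc z * ((f.symm p : G)⁻¹ * x)
        = (f.symm p : G)⁻¹ * ((f.symm p : G) * z * (f.symm p : G)⁻¹) * x := by group
      _ = _ := by rw [h2]; group
  have hLC : ∀ g ∈ L, g ∈ C → g = 1 := fun g hg hgC => by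
    have : f ⟨g, hg⟩ = 1 := TimesPSLTwo.psl_center hq _ fun y => by
      obtain ⟨y, rfl⟩ := f.surjective y
      rw [← map_mul, ← map_mul]
      exact congrArg f (Subtype.ext (mem_centralizer_iff.1 hgC y y.2).symm)
    exact congrArg Subtype.val (f.map_eq_one_iff.1 this)
  have hCH : C ≤ H := fun g hg =>
    h.mem_of_commute (hRA w hwR) hW2 (mem_centralizer_iff.1 hg W (f.symm w).2).symm
  have hCn : C.Normal := inferInstance
  refine ⟨C, hCn, ?_, F, iF, iT, hq, Or.inl ⟨?_⟩⟩
  · -- the order of the centraliser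
    have hodd : Odd (Nat.card (A.subgroupOf C)) := by
      rw [← Nat.not_even_iff_odd, even_iff_two_dvd]
      intro h2
      obtain ⟨a, ha⟩ := exists_prime_orderOf_dvd_card' (G := A.subgroupOf C) 2 h2
      rw [← Subgroup.orderOf_coe, ← Subgroup.orderOf_coe] at ha
      have hLH : L ≤ H := fun z hz =>
        h.mem_of_commute a.2 ha (mem_centralizer_iff.1 (a : C).2 z hz)
      have hLA : L ≤ A := by
        rw [hL, MonoidHom.range_eq_map, ← hperf, _root_.commutator_def, Subgroup.map_commutator,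
          ← MonoidHom.range_eq_map, ← hL, Subgroup.commutator_le]
        intro p hp q hq'
        rw [commutatorElement_def]
        have hmemA : ∀ r ∈ H, ∀ s ∈ H, (r * s ∈ A ↔ (r ∈ A ↔ s ∈ A)) := by
          intro r hr s hs
          by_cases hrA : r ∈ A
          · simp [hrA, Subgroup.mul_mem_cancel_left A hrA]
          · by_cases hsA : s ∈ A
            · simp [hrA, hsA, Subgroup.mul_mem_cancel_right A hsA]
            · simp [hrA, hsA, h.mul_mem r hr s hs hrA hsA]
        have hp' := hLH hp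
        have hq'' := hLH hq'
        rw [hmemA _ (H.mul_mem (H.mul_mem hp' hq'') (H.inv_mem hp')) _ (H.inv_mem hq''),
          hmemA _ (H.mul_mem hp' hq'') _ (H.inv_mem hp'), hmemA _ hp' _ hq'', inv_mem_iff, inv_mem_iff]
        tauto
      exact TimesPSLTwo.two_upper (hi (by
        rw [map_mul, map_mul]; exact h.comm _ (hLA ⟨_, rfl⟩) _ (hLA ⟨_, rfl⟩)))
    by_cases hCA : C ≤ A
    · left
      rwa [← Nat.card_congr (Subgroup.subgroupOfEquivOfLe le_rfl).toEquiv,
        show C.subgroupOf C = A.subgroupOf C by simp [Subgroup.subgroupOf_eq_top.2 hCA]]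
    · right
      obtain ⟨x, hx, hxA⟩ := SetLike.not_le_iff_exists.1 hCA
      refine ⟨_, hodd, ?_⟩
      rw [← (A.subgroupOf C).card_mul_index, h.two_index hCH hx hxA, mul_comm]
  · refine ((MulEquiv.ofBijective ((QuotientGroup.mk' C).comp L.subtype) ⟨?_, ?_⟩).symm).trans f
    · rw [injective_iff_map_eq_one]
      intro l hl
      exact Subtype.ext (hLC l l.2 ((QuotientGroup.eq_one_iff (l : G)).1 hl))
    · intro y
      obtain ⟨g, rfl⟩ := QuotientGroup.mk_surjective y
      obtain ⟨l, hl, hlg⟩ := hprod g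
      exact ⟨⟨l, hl⟩, QuotientGroup.eq.2 hlg⟩

/-- The case of a single involution in `A`. -/
theorem cyclic_case (hGW : Cons.PerfectGW.{u}) (h : Dih H A) (T : Sylow 2 G) (hT : h.Syl T) {v : G}
    (hv : v ∈ A) (hv2 : orderOf v = 2) (huniq : ∀ u ∈ A, orderOf u = 2 → u = v)
    (hns : ¬ Group.IsSolvable G) : Conclusion G := by
  have : Fact (Nat.Prime 2) := ⟨Nat.prime_two⟩
  have hvT := hT.central_mem v hv hv2
  suffices key : ∃ m : ℕ, 2 ≤ m ∧ Nonempty ((T : Subgroup G) ≃* DihedralGroup m) by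
    obtain ⟨m, hm, ⟨eT⟩⟩ := key
    obtain ⟨N, hN, hodd, F, iF, iT, hq, hiso⟩ :=
      quotient_of_dihedral hGW T hm eT v hv2 (h.dCent hv hv2) hns
    exact ⟨N, hN, Or.inl hodd, F, iF, iT, hq, hiso⟩
  obtain ⟨x, hxT, hxH, hxA⟩ := hT.exists_out
  have hcyc : ∀ D : Subgroup G, D ≤ A → IsPGroup 2 D → IsCyclic D := by
    intro D hD hp
    haveI : IsMulCommutative D := ⟨⟨fun a b => Subtype.ext (h.comm a (hD a.2) b (hD b.2))⟩⟩
    refine PGroups.UniqueSubgroup.isCyclic_of_abelian hp fun a b ha hb ha1 => ?_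
    by_cases hb1 : b = 1
    · rw [hb1]; exact one_mem _
    · have e1 : ∀ c : D, c ^ 2 = 1 → c ≠ 1 → (c : G) = v := fun c hc hc1 =>
        huniq c (hD c.2) (by rw [Subgroup.orderOf_coe]; exact orderOf_eq_prime hc hc1)
      rw [show b = a from Subtype.ext ((e1 b hb hb1).trans (e1 a ha ha1).symm)]
      exact mem_zpowers a
  by_cases hTH : (T : Subgroup G) ≤ H
  · obtain ⟨c, -, hc, e⟩ := Forms.DicksonShapes.dihedral_of (A.subgroupOf (T : Subgroup G))
      (h.two_index hTH hxT hxA)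
      ((Subgroup.equivMapOfInjective _ _ (T : Subgroup G).subtype_injective).isCyclic.2
        (hcyc _ (by rw [Subgroup.subgroupOf_map_subtype]; exact inf_le_left)
          ((T.isPGroup'.to_subgroup _).map _)))
      fun y hy => Subtype.ext (h.out_sq y (hTH y.2) (fun hA => hy (Subgroup.mem_subgroupOf.2 hA)))
    refine ⟨_, ?_, e⟩
    rw [hc]
    refine Finite.one_lt_card_iff_nontrivial.2 ⟨⟨⟨⟨v, hvT⟩, hv⟩, 1, fun e' => ?_⟩⟩
    exact Involutions.Basic.ne_one hv2 (congrArg (fun y : A.subgroupOf (T : Subgroup G) =>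
      ((y : (T : Subgroup G)) : G)) e')
  -- otherwise `T ∩ H` is a four-group
  have hTa : ∀ a ∈ (T : Subgroup G), a ∈ A → a * a = 1 := by
    intro a haT haA
    by_contra haa
    apply hTH
    haveI : Nontrivial (T : Subgroup G) :=
      ⟨⟨⟨v, hvT⟩, 1, fun e => Involutions.Basic.ne_one hv2 (congrArg Subtype.val e)⟩⟩
    have h2 : 2 ∣ Nat.card (center (T : Subgroup G)) := by
      have := T.isPGroup'.center_nontrivial
      obtain ⟨j, hj⟩ := (T.isPGroup'.to_subgroup (center (T : Subgroup G))).exists_card_eq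
      have h1 : 1 < Nat.card (center (T : Subgroup G)) := Finite.one_lt_card
      rw [hj] at h1 ⊢
      exact dvd_pow_self 2 (by rintro rfl; simp at h1)
    obtain ⟨z, hz⟩ := exists_prime_orderOf_dvd_card' 2 h2
    rw [← Subgroup.orderOf_coe, ← Subgroup.orderOf_coe] at hz
    have hzc : ∀ t ∈ (T : Subgroup G), Commute t ((z : (T : Subgroup G)) : G) := fun t ht =>
      congrArg Subtype.val (Subgroup.mem_center_iff.1 z.2 ⟨t, ht⟩)
    have hzH := h.mem_of_commute hv hv2 (hzc v hvT).symm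
    have hzA : ((z : (T : Subgroup G)) : G) ∈ A := by
      by_contra hzA
      refine haa ?_
      have h1 := h.inverts _ hzH hzA a haA
      rw [← (hzc a haT).eq, mul_inv_cancel_right] at h1
      calc a * a = a * a⁻¹ := by rw [← h1]
        _ = 1 := mul_inv_cancel a
    intro t ht
    exact h.mem_of_commute hv hv2 ((huniq _ hzA hz) ▸ hzc t ht)
  set P := H.subgroupOf (T : Subgroup G) with hP
  have hPsq : ∀ p ∈ (T : Subgroup G), p ∈ H → p * p = 1 := fun p hpT hpH => by
    by_cases hpA : p ∈ A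
    · exact hTa p hpT hpA
    · exact h.out_sq p hpH hpA
  have hP4 : Nat.card ↥((T : Subgroup G) ⊓ H) = 4 := by
    have hA2 : Nat.card (A.subgroupOf ((T : Subgroup G) ⊓ H)) = 2 := by
      rw [Nat.card_eq_two_iff' 1]
      refine ⟨⟨⟨v, hvT, h.le hv⟩, hv⟩, fun e => Involutions.Basic.ne_one hv2
        (congrArg (fun y : A.subgroupOf ((T : Subgroup G) ⊓ H) => ((y : ↥((T : Subgroup G) ⊓ H)) : G)) e),
        fun y hy => Subtype.ext (Subtype.ext ?_)⟩
      refine huniq _ y.2 (orderOf_eq_prime (by rw [pow_two]; exact hTa _ y.1.2.1 y.2) fun e => hy ?_)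
      exact Subtype.ext (Subtype.ext e)
    rw [← (A.subgroupOf ((T : Subgroup G) ⊓ H)).card_mul_index, hA2,
      h.two_index inf_le_right ⟨hxT, hxH⟩ hxA]
  have hPcard : Nat.card P = 2 ^ 2 := by
    rw [hP, ← Subgroup.card_map_of_injective (K := H.subgroupOf (T : Subgroup G))
      (T : Subgroup G).subtype_injective, Subgroup.subgroupOf_map_subtype, inf_comm, hP4]
    norm_num
  have hCP : centralizer (P : Set (T : Subgroup G)) = P := by
    refine le_antisymm (fun t ht => ?_) fun t ht => ?_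
    · refine h.mem_of_commute hv hv2 ?_
      exact (congrArg Subtype.val (mem_centralizer_iff.1 ht ⟨v, hvT⟩ (h.le hv))).symm
    · refine mem_centralizer_iff.2 fun p hp => Subtype.ext ?_
      show (p : G) * t = (t : G) * p
      have h1 := hPsq _ (mul_mem p.2 t.2) (H.mul_mem hp ht)
      rw [eq_inv_of_mul_eq_one_right h1, _root_.mul_inv_rev,
        inv_eq_of_mul_eq_one_right (hPsq p p.2 hp), inv_eq_of_mul_eq_one_right (hPsq t t.2 ht)]
  obtain ⟨n, hn⟩ := T.isPGroup'.exists_card_eq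
  have hn3 : 3 ≤ n := by
    by_contra hn3
    refine hTH fun t ht => ?_
    have hle : Nat.card (T : Subgroup G) ≤ Nat.card ↥((T : Subgroup G) ⊓ H) := by
      rw [hP4, hn]
      exact (Nat.pow_le_pow_right (by norm_num) (show n ≤ 2 by omega)).trans (by norm_num)
    exact ((Subgroup.eq_of_le_of_card_ge inf_le_left hle).symm ▸ ht : t ∈ (T : Subgroup G) ⊓ H).2
  obtain ⟨C, hCc, hCi⟩ := S0113.result n hn3 hn (S0112.result n hn P hPcard hCP)
  obtain ⟨k, rfl⟩ : ∃ k, n = k + 1 := ⟨n - 1, by omega⟩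
  have hCn : C.Normal := Subgroup.normal_of_index_eq_two hCi
  obtain ⟨a, ha⟩ := (Subgroup.isCyclic_iff_exists_zpowers_eq_top C).1 hCc
  have hao : orderOf a = 2 ^ k := by
    have h1 := C.card_mul_index
    rw [hCi, hn, ← ha, Nat.card_zpowers, pow_succ] at h1
    omega
  set V : (T : Subgroup G) := ⟨v, hvT⟩ with hV
  have hVV : V * V = 1 := Subtype.ext (Involutions.Basic.inv_sq_one hv2)
  -- fixed points of `v` in `C`
  have hfixC : ∀ c ∈ C, Commute c V → c * c = 1 := fun c _ hc =>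
    Subtype.ext (hPsq c c.2 (h.mem_of_commute hv hv2 (congrArg Subtype.val hc.eq)))
  have hcomC : ∀ c ∈ C, Commute c a := fun c hc => by
    obtain ⟨i, rfl⟩ := mem_zpowers_iff.1 (ha ▸ hc)
    exact (Commute.refl a).zpow_left i
  have haC : a ∈ C := ha ▸ mem_zpowers a
  have hVC : V ∉ C := by
    intro hVC
    have h1 := orderOf_dvd_of_pow_eq_one (show a ^ 2 = 1 by rw [pow_two]; exact hfixC a haC (hcomC V hVC).symm)
    rw [hao] at h1
    have h2 := Nat.le_of_dvd two_pos h1
    have := Nat.pow_le_pow_right (show 1 ≤ 2 by norm_num) (show 2 ≤ k by omega)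
    omega
  have hcases : ∀ t : (T : Subgroup G), t ∈ C ∨ t * V ∈ C := fun t => by
    by_cases ht : t ∈ C
    · exact Or.inl ht
    · exact Or.inr ((Subgroup.mul_mem_iff_of_index_two hCi).2 (iff_of_false ht hVC))
  set z := a ^ 2 ^ (k - 1) with hz
  have hz2 : orderOf z = 2 := by
    rw [hz, orderOf_pow_of_dvd (by positivity) (hao ▸ pow_dvd_pow 2 (Nat.sub_le k 1)), hao,
      Nat.pow_div (Nat.sub_le k 1) (by norm_num), show k - (k - 1) = 1 by omega, pow_one]
  have hC2 : ∀ c ∈ C, c * c = 1 → c = 1 ∨ c = z := by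
    intro c hc hcc
    by_contra hne
    push Not at hne
    have hcy : IsCyclic C := hCc
    classical
    haveI := Fintype.ofFinite C
    have h3 := IsCyclic.card_pow_eq_one_le (α := C) (n := 2) (by norm_num)
    have hsub : ({1, ⟨c, hc⟩, ⟨z, pow_mem haC _⟩} : Finset C) ⊆
        Finset.univ.filter fun y : C => y ^ 2 = 1 := by
      intro y hy
      simp only [Finset.mem_insert, Finset.mem_singleton] at hy
      simp only [Finset.mem_filter, Finset.mem_univ, true_and]
      rcases hy with rfl | rfl | rfl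
      · simp
      · exact Subtype.ext (by rw [SubmonoidClass.coe_pow, pow_two]; exact hcc)
      · exact Subtype.ext (by
          rw [SubmonoidClass.coe_pow, pow_two]; exact Involutions.Basic.inv_sq_one hz2)
    have h4 := (Finset.card_le_card hsub).trans h3
    rw [Finset.card_insert_of_notMem, Finset.card_pair] at h4
    · omega
    · exact fun e => hne.2 (congrArg Subtype.val e)
    · simp only [Finset.mem_insert, Finset.mem_singleton, not_or]
      exact ⟨fun e => hne.1 (congrArg Subtype.val e).symm,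
        fun e => Involutions.Basic.ne_one hz2 (congrArg Subtype.val e).symm⟩
  have hvav : V * a * V ∈ C := by
    have := hCn.conj_mem a haC V
    rwa [inv_eq_of_mul_eq_one_right hVV] at this
  have hdefect : a * (V * a * V) = 1 ∨ a * (V * a * V) = z := by
    refine hC2 _ (mul_mem haC hvav) (hfixC _ (mul_mem haC hvav) ?_)
    show a * (V * a * V) * V = V * (a * (V * a * V))
    calc a * (V * a * V) * V = a * (V * a) * (V * V) := by group
      _ = a * (V * a) := by rw [hVV, mul_one]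
      _ = a * (V * a * V) * V := by rw [mul_assoc _ _ V, mul_assoc (V * a), hVV, mul_one]
      _ = (V * a * V) * a * V := by rw [(hcomC _ hvav).symm.eq]
      _ = V * (a * (V * a * V)) := by group
  rcases hdefect with hd | hd
  · -- dihedral
    obtain ⟨c, -, hc, e⟩ := Forms.DicksonShapes.dihedral_of C hCi hCc fun y hy => by
      have hyV := (hcases y).resolve_left hy
      obtain ⟨i, hi⟩ := mem_zpowers_iff.1 (ha ▸ hyV)
      have hinv : V * a * V = a⁻¹ := eq_inv_of_mul_eq_one_right hd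
      have hV' : V⁻¹ = V := inv_eq_of_mul_eq_one_right hVV
      have e1 : y = a ^ i * V := by rw [hi, mul_assoc, hVV, mul_one]
      calc y * y = a ^ i * (V * a ^ i * V) := by rw [e1]; group
        _ = a ^ i * (V * a * V⁻¹) ^ i := by rw [conj_zpow, hV']
        _ = 1 := by rw [hV', hinv, inv_zpow, mul_inv_cancel]
    refine ⟨_, ?_, e⟩
    rw [hc, ← ha, Nat.card_zpowers, hao]
    exact le_trans (by norm_num) (Nat.pow_le_pow_right (show 1 ≤ 2 by norm_num) (show 1 ≤ k by omega))
  · exfalso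
    have hrel : V * a * V = a⁻¹ * z := by rw [← hd, inv_mul_cancel_left]
    have hk3 : 3 ≤ k := by
      by_contra hk3
      have hk2 : k = 2 := by omega
      have h4 : a ^ 4 = 1 := by rw [show (4 : ℕ) = orderOf a by rw [hao, hk2]; norm_num, pow_orderOf_eq_one]
      have hz' : z = a * a := by rw [hz, hk2]; norm_num [pow_two]
      rw [hz', inv_mul_cancel_left] at hrel
      have h1 := hfixC a haC (show a * V = V * a by
        conv_lhs => rw [← hrel]
        rw [mul_assoc _ V V, hVV, mul_one])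
      have h2 := orderOf_dvd_of_pow_eq_one (show a ^ 2 = 1 by rw [pow_two, h1])
      rw [hao, hk2] at h2
      norm_num at h2
    have hS : Semi T v (a : G) k := by
      refine ⟨hk3, by rw [Subgroup.orderOf_coe, hao], a.2, hvT, hv2, fun hmem => hVC ?_, fun t ht => ?_, ?_⟩
      · obtain ⟨i, hi⟩ := mem_zpowers_iff.1 hmem
        rw [← ha, show V = a ^ i from Subtype.ext (by rw [SubgroupClass.coe_zpow]; exact hi.symm)]
        exact zpow_mem (mem_zpowers a) i
      · rcases hcases ⟨t, ht⟩ with hc | hc <;> rw [← ha, mem_zpowers_iff] at hc <;>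
          obtain ⟨i, hi⟩ := hc
        · exact Or.inl ⟨i, by simpa using congrArg Subtype.val hi⟩
        · exact Or.inr ⟨i, by simpa using congrArg Subtype.val hi⟩
      · simpa [hz] using congrArg Subtype.val hrel
    have hzG : orderOf ((a : G) ^ 2 ^ (k - 1)) = 2 := by
      rw [← SubmonoidClass.coe_pow, Subgroup.orderOf_coe, ← hz, hz2]
    have hzT : (a : G) ^ 2 ^ (k - 1) ∈ (T : Subgroup G) := pow_mem a.2 _
    have hzcomm : ∀ t ∈ (T : Subgroup G), Commute ((a : G) ^ 2 ^ (k - 1)) t := by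
      intro t ht
      rcases hS.cases t ht with h' | h'
      · obtain ⟨i, rfl⟩ := mem_zpowers_iff.1 h'
        exact ((Commute.refl (a : G)).pow_left _).zpow_right i
      · obtain ⟨i, hi⟩ := mem_zpowers_iff.1 h'
        have e1 : t = (a : G) ^ i * v := by
          rw [hi, mul_assoc, Involutions.Basic.inv_sq_one hv2, mul_one]
        rw [e1]
        exact (((Commute.refl (a : G)).pow_left _).zpow_right i).mul_right hS.commute_z
    have hzv : ¬ IsConj ((a : G) ^ 2 ^ (k - 1)) v := by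
      intro hc
      obtain ⟨g, hg⟩ := isConj_iff.1 hc
      set D := (T : Subgroup G).map (MulAut.conj g).toMonoidHom with hD
      have hDH : D ≤ H := by
        rintro _ ⟨t, ht, rfl⟩
        exact h.mem_of_commute hv hv2 (hg ▸ (hzcomm t ht).symm.map (MulAut.conj g).toMonoidHom)
      have h1 := hT.card D hDH (T.isPGroup'.map _)
      rw [hP4, hD, Subgroup.card_map_of_injective (MulAut.conj g).injective, hn] at h1
      have := Nat.pow_le_pow_right (show 1 ≤ 2 by norm_num) (show 4 ≤ k + 1 by omega)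
      omega
    have hzH : (a : G) ^ 2 ^ (k - 1) ∈ H := h.mem_of_commute hv hv2 hS.commute_z
    have hzA : (a : G) ^ 2 ^ (k - 1) ∉ A := fun hA => hS.notMem (by
      rw [← huniq _ hA hzG]
      exact pow_mem (mem_zpowers _) _)
    refine semi_false hGW hS hzv hn (fun c hc => ?_) hns
    have hcH := h.mem_of_commute hv hv2 hc
    by_cases hcA : c ∈ A
    · exact Or.inr (h.inverts _ hzH hzA c hcA)
    · exact Or.inl (h.out_sq c hcH hcA)

/-- The statement S3322, from Gorenstein–Walter. -/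
theorem self_centralizing_dgroup (hGW : Cons.PerfectGW.{u}) {G : Type u} [Group G] [Finite G]
    (H A : Subgroup G) (hAH : A < H) (hD : ∀ x ∈ H, x ∉ A → x ^ 2 = 1) (h4 : 4 ∣ Nat.card ↥H)
    (hC : ∀ j ∈ H, orderOf j = 2 → (∀ h ∈ H, h * j = j * h) →
      Subgroup.centralizer ({j} : Set G) = H)
    (hns : ¬ Group.IsSolvable G) :
    ∃ (N : Subgroup G) (_ : N.Normal), (Odd (Nat.card ↥N) ∨ ∃ m : ℕ, Odd m ∧ Nat.card ↥N = 2 * m) ∧
      ∃ (F : Type) (_ : Field F) (_ : Fintype F), 3 < Fintype.card F ∧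
        (Nonempty (G ⧸ N ≃* Matrix.ProjectiveSpecialLinearGroup (Fin 2) F) ∨
          Nonempty (G ⧸ N ≃* Matrix.ProjGenLinGroup (Fin 2) F)) := by
  have : Fact (Nat.Prime 2) := ⟨Nat.prime_two⟩
  by_cases hsq : ∀ x ∈ H, x * x = 1
  · exact elementary_case hsq h4 hC hns
  push Not at hsq
  obtain ⟨a, haH, haa⟩ := hsq
  have hout : ∀ x ∈ H, x ∉ A → x * x = 1 := fun x hx hxA => by rw [← pow_two]; exact hD x hx hxA
  have haA : a ∈ A := by_contra fun h => haa (hout a haH h)
  have hinv : ∀ x ∈ H, x ∉ A → ∀ b ∈ A, x * b * x⁻¹ = b⁻¹ := by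
    intro x hx hxA b hb
    have h1 := hout (x * b) (mul_mem hx (hAH.le hb)) fun h => hxA ((Subgroup.mul_mem_cancel_right A hb).1 h)
    rw [inv_eq_of_mul_eq_one_right (hout x hx hxA)]
    exact eq_inv_of_mul_eq_one_left (by rw [← h1]; group)
  obtain ⟨x₀, hx₀, hx₀A⟩ := SetLike.exists_of_lt hAH
  have hcomm : ∀ b ∈ A, ∀ c ∈ A, b * c = c * b := fun b hb c hc => by
    have h1 := hinv x₀ hx₀ hx₀A _ (mul_mem hb hc)
    rw [show x₀ * (b * c) * x₀⁻¹ = x₀ * b * x₀⁻¹ * (x₀ * c * x₀⁻¹) by group, hinv x₀ hx₀ hx₀A b hb,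
      hinv x₀ hx₀ hx₀A c hc, _root_.mul_inv_rev] at h1
    have := congrArg (·⁻¹) h1
    simp only [_root_.mul_inv_rev, inv_inv] at this
    exact this.symm
  have hmul : ∀ x ∈ H, ∀ y ∈ H, x ∉ A → y ∉ A → x * y ∈ A := by
    intro x hx y hy hxA hyA
    by_contra hxy
    refine haa ?_
    have h1 := hinv (x * y) (mul_mem hx hy) hxy a haA
    rw [show x * y * a * (x * y)⁻¹ = x * (y * a * y⁻¹) * x⁻¹ by group, hinv y hy hyA a haA,
      hinv x hx hxA a⁻¹ (inv_mem haA), inv_inv] at h1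
    calc a * a = a * a⁻¹ := by rw [← h1]
      _ = 1 := mul_inv_cancel a
  have hcent : ∀ v ∈ A, orderOf v = 2 → centralizer ({v} : Set G) = H := fun v hv hv2 =>
    hC v (hAH.le hv) hv2 fun x hx => by
      by_cases hxA : x ∈ A
      · exact hcomm x hxA v hv
      · have h1 := hinv x hx hxA v hv
        rw [Involutions.Basic.inv_eq hv2] at h1
        exact mul_inv_eq_iff_eq_mul.1 h1
  have h : Dih H A :=
    ⟨hAH.le, hcomm, hout, hinv, hmul, ⟨x₀, hx₀, hx₀A⟩, ⟨a, haA, haa⟩, hcent⟩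
  obtain ⟨v, hv⟩ := exists_prime_orderOf_dvd_card' (G := A) 2 (h.even_card h4)
  rw [← Subgroup.orderOf_coe] at hv
  obtain ⟨T, hT⟩ := h.exists_syl
  by_cases huniq : ∀ u ∈ A, orderOf u = 2 → u = (v : G)
  · exact cyclic_case hGW h T hT v.2 hv huniq hns
  · push Not at huniq
    obtain ⟨u, hu, hu2, hne⟩ := huniq
    exact rank_case h T hT hu v.2 hu2 hv hne hns

end Cfsg.Agent.GW.ConsDGroup
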