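import Cfsg.Agent.Lib.GW.ConsHallSixty
import Cfsg.Agent.Lib.Hall.NumbersCex
import Cfsg.Agent.Lib.Hall.NumbersSevenCentralize

/-!
Hall numbers (the statement of S4044), from Gorenstein–Walter.
-/

set_option autoImplicit false

namespace Cfsg.Agent.GW.Cons

/-- Twelve and twenty-four are Hall numbers. -/
theorem hall_twelve_or_twentyfour {G : Type} [Group G] [Finite G] {m : ℕ} (hm : m = 12 ∨ m = 24)
    (hdvd : m ∣ Nat.card G) (hco : m.Coprime (Nat.card G / m)) :
    ∃ H : Subgroup G, Nat.card H = m := by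
  refine (Hall.Numbers.hall_twelve_twentyfour hm hdvd hco).resolve_right ?_
  rintro ⟨rfl, hns, S, -, -, hstar⟩
  have h24 : ∀ s, Nat.factorization 24 s = (if 2 = s then 3 else 0) + (if 3 = s then 1 else 0) := by
    intro s
    rw [show 24 = 2 ^ 3 * 3 ^ 1 by norm_num, Nat.factorization_mul (by norm_num) (by norm_num),
      Finsupp.add_apply, Nat.prime_two.factorization_pow, Nat.prime_three.factorization_pow,
      Finsupp.single_apply, Finsupp.single_apply]
  have h2 := Hall.Numbers.factorization_eq Nat.card_pos.ne' hdvd hco Nat.prime_two (by norm_num)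
  have h3 := Hall.Numbers.factorization_eq Nat.card_pos.ne' hdvd hco Nat.prime_three (by norm_num)
  rw [h24] at h2 h3
  simp at h2 h3
  refine hns (Hall.Numbers.Seven.isSolvable_of_hyp ⟨fun h => ?_, fun h => ?_, hstar⟩)
  · have := (Nat.prime_two.pow_dvd_iff_le_factorization Nat.card_pos.ne').1
      (show 2 ^ 4 ∣ Nat.card G from h)
    omega
  · have := (Nat.prime_three.pow_dvd_iff_le_factorization Nat.card_pos.ne').1
      (show 3 ^ 2 ∣ Nat.card G from h)
    omega

/-- Hall numbers, conditional on Gorenstein–Walter. -/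
theorem hall_numbers (hGW : PerfectGW.{0}) (m : ℕ) (hm : 2 ≤ m) :
    (∀ (G : Type) [Group G] [Finite G], m ∣ Nat.card G → m.Coprime (Nat.card G / m) →
        ∃ H : Subgroup G, Nat.card H = m) ↔
    (IsPrimePow m ∨ m % 4 = 2 ∨ m = 12 ∨ m = 24 ∨ m = 60) := by
  constructor
  · intro h
    by_contra hne
    obtain ⟨G, _, _, hd, hc, hno⟩ := Hall.Numbers.not_hall_number hm hne
    obtain ⟨H, hH⟩ := h G hd hc
    exact hno H hH
  · rintro (h | h | h | h | h) G _ _ hd hc
    · exact Hall.Numbers.hall_prime_pow h hd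
    · exact Hall.Numbers.hall_two_mod_four h hd hc
    · exact hall_twelve_or_twentyfour (Or.inl h) hd hc
    · exact hall_twelve_or_twentyfour (Or.inr h) hd hc
    · subst h; exact hall_sixty hGW hd hc

end Cfsg.Agent.GW.Cons
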