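import Cfsg.Agent.Lib.GW.ConsFull
import Cfsg.Agent.Lib.GW.ConsQuaternion
import Cfsg.Agent.Lib.Hall.NumbersSmall
import Cfsg.Agent.S0804
import Cfsg.Agent.Lib.Classical.Linear
import Cfsg.Agent.Lib.Classical.GL2

/-!
Sixty is a Hall number, from Gorenstein–Walter.
-/

set_option autoImplicit false

namespace Cfsg.Agent.GW.Cons

open Subgroup

universe u

/-- Three divides the order of `PSL(2, F)`. -/
theorem three_dvd_psl {F : Type} [Field F] [Fintype F] :
    3 ∣ Nat.card (Matrix.ProjectiveSpecialLinearGroup (Fin 2) F) := by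
  have h := Classical.Linear.gcd_mul_natCard_PSL_fin (F := F) (k := 2) (by norm_num)
  rw [Classical.GL2.natCard_SL_two] at h
  refine (Nat.Coprime.dvd_of_dvd_mul_left ?_ (h ▸ ?_ : 3 ∣ Nat.gcd 2 (Fintype.card F - 1) *
    Nat.card (Matrix.ProjectiveSpecialLinearGroup (Fin 2) F)))
  · exact Nat.Coprime.coprime_dvd_right (Nat.gcd_dvd_left _ _) (by norm_num)
  · have := Fintype.one_lt_card (α := F)
    have h3 : Fintype.card F % 3 = 0 ∨ Fintype.card F % 3 = 1 ∨ Fintype.card F % 3 = 2 := by omega
    rcases h3 with h3 | h3 | h3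
    · exact (Nat.dvd_of_mod_eq_zero h3).mul_right _
    · exact Dvd.dvd.mul_left (Dvd.dvd.mul_right (show 3 ∣ Fintype.card F - 1 by omega) _) _
    · exact Dvd.dvd.mul_left (Dvd.dvd.mul_left (show 3 ∣ Fintype.card F + 1 by omega) _) _

/-- The normaliser of a Sylow subgroup of order four of a nonsolvable group. -/
theorem normalizer_four {G : Type u} [Group G] [Finite G] (hns : ¬ Group.IsSolvable G) (S : Sylow 2 G)
    (hS : Nat.card (S : Subgroup G) = 4) :
    12 ∣ Nat.card (normalizer ((S : Subgroup G) : Set G)) ∧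
      Group.IsSolvable (normalizer ((S : Subgroup G) : Set G)) ∧
      Nonempty ((S : Subgroup G) ≃* DihedralGroup 2) := by
  have : Fact (Nat.Prime 2) := ⟨Nat.prime_two⟩
  have h8 : ¬ 4 * Nat.card (S : Subgroup G) ∣ Nat.card G := by
    intro h
    rw [hS, show 4 * 4 = 2 ^ 4 by norm_num,
      Nat.prime_two.pow_dvd_iff_le_factorization Nat.card_pos.ne'] at h
    have h4 : (2 : ℕ) ^ (Nat.card G).factorization 2 = 2 ^ 2 := by
      rw [← S.card_eq_multiplicity, hS]; norm_num
    have := Nat.pow_right_injective le_rfl h4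
    omega
  refine ⟨?_, Hall.Numbers.isSolvable_normalizer S.isPGroup' h8, ?_⟩
  · obtain ⟨Q, hQS, g, hg, hgo, hgc⟩ := Hall.Numbers.exists_action hns S
    obtain ⟨a, ha⟩ := (S.isPGroup'.to_le hQS).exists_card_eq
    have ha2 : a ≤ 2 := (Nat.pow_le_pow_iff_right one_lt_two).1
      (by rw [← ha, show 2 ^ 2 = Nat.card (S : Subgroup G) from hS.symm]; exact card_le_of_le hQS)
    obtain ⟨ha', h37⟩ := Hall.Numbers.exists_prime_of_not_centralizes ha (by omega) hg hgo hgc
    have hQ : Q = (S : Subgroup G) := eq_of_le_of_card_ge hQS (by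
      rw [ha, hS, show a = 2 by omega]; norm_num)
    subst hQ
    have h3 : 3 ∣ orderOf g := h37.resolve_right (by omega)
    exact Nat.Coprime.mul_dvd_of_dvd_of_dvd (show Nat.Coprime 4 3 by norm_num)
      (hS ▸ card_dvd_of_le le_normalizer) (h3.trans (Subgroup.orderOf_dvd_natCard _ hg))
  · have hnc : ¬ IsCyclic (S : Subgroup G) := fun h =>
      hns (Blocks.FreeTwo.isSolvable_of_complement
        (CharP.StronglyClosedOrder.hasNormalPComplement_of_cyclic (fun q hq _ => hq.two_le) S))
    have : IsKleinFour (S : Subgroup G) := by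
      refine ⟨hS, ?_⟩
      have hdvd : Monoid.exponent (S : Subgroup G) ∣ 2 := Monoid.exponent_dvd_of_forall_pow_eq_one fun x => by
        obtain ⟨k, hk, hx⟩ := (Nat.dvd_prime_pow Nat.prime_two).1
          (show orderOf x ∣ 2 ^ 2 from (orderOf_dvd_natCard x).trans (dvd_of_eq hS))
        refine orderOf_dvd_iff_pow_eq_one.1 (hx ▸ ?_)
        interval_cases k
        · exact one_dvd 2
        · exact dvd_refl 2
        · exact absurd (isCyclic_of_orderOf_eq_card x (by rw [hx, hS]; norm_num)) hnc
      refine ((Nat.dvd_prime Nat.prime_two).1 hdvd).resolve_left fun h1 => ?_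
      have := Monoid.exp_eq_one_iff.1 h1
      exact hnc inferInstance
    exact IsKleinFour.nonempty_mulEquiv

/-- Sixty is a Hall number. -/
theorem hall_sixty (hGW : PerfectGW.{u}) {G : Type u} [Group G] [Finite G] (hdvd : 60 ∣ Nat.card G)
    (hco : Nat.Coprime 60 (Nat.card G / 60)) : ∃ H : Subgroup G, Nat.card H = 60 := by
  have : Fact (Nat.Prime 2) := ⟨Nat.prime_two⟩
  by_cases hsol : Group.IsSolvable G
  · exact Hall.Numbers.exists_card_of_solvable hdvd hco
  have hf : ∀ s, s.Prime → s ∣ 60 → (Nat.card G).factorization s = Nat.factorization 60 s :=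
    fun s hs h => Hall.Numbers.factorization_eq Nat.card_pos.ne' hdvd hco hs h
  have h60 : ∀ s, Nat.factorization 60 s =
      (if 2 = s then 2 else 0) + (if 3 = s then 1 else 0) + (if 5 = s then 1 else 0) := by
    intro s
    rw [show 60 = 2 ^ 2 * 3 ^ 1 * 5 ^ 1 by norm_num, Nat.factorization_mul (by norm_num) (by norm_num),
      Nat.factorization_mul (by norm_num) (by norm_num), Finsupp.add_apply, Finsupp.add_apply,
      Nat.prime_two.factorization_pow, Nat.prime_three.factorization_pow,
      Nat.prime_five.factorization_pow]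
    simp only [Finsupp.single_apply]
  have h2 : (Nat.card G).factorization 2 = 2 := by
    rw [hf 2 Nat.prime_two (by norm_num), h60]; norm_num
  obtain ⟨S⟩ := (inferInstance : Nonempty (Sylow 2 G))
  have hS : Nat.card (S : Subgroup G) = 4 := by rw [S.card_eq_multiplicity, h2]; norm_num
  obtain ⟨hN12, hNsol, -⟩ := normalizer_four hsol S hS
  set O := Cfsg.oddCore G with hOdef
  have hOodd : Odd (Nat.card O) := Cores.oddCore_odd
  have hOsol : Group.IsSolvable O := S0205.result hOodd
  have hnsQ : ¬ Group.IsSolvable (G ⧸ O) := fun h => hsol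
    (Group.isSolvable_of_ker_le_range O.subtype (QuotientGroup.mk' O) (by simp))
  obtain ⟨eT⟩ := sylow_odd_quotient_equiv O hOodd S
  set T := S.mapSurjective (QuotientGroup.mk'_surjective O) with hT
  have hT4 : Nat.card (T : Subgroup (G ⧸ O)) = 4 := by rw [← Nat.card_congr eT.toEquiv, hS]
  obtain ⟨hT12, hTsol, ⟨eD⟩⟩ := normalizer_four hnsQ T hT4
  have hcard : Nat.card G = Nat.card (G ⧸ O) * Nat.card O := card_eq_card_quotient_mul_card_subgroup O
  have hpre : ∀ M : Subgroup (G ⧸ O), Nat.card (M.comap (QuotientGroup.mk' O)) =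
      Nat.card M * Nat.card O := by
    intro M
    set f := (QuotientGroup.mk' O).comp (M.comap (QuotientGroup.mk' O)).subtype
    have hr : f.range = M := by
      rw [MonoidHom.range_comp, Subgroup.range_subtype,
        map_comap_eq_self_of_surjective (QuotientGroup.mk'_surjective O)]
    have hk : f.ker = O.subgroupOf (M.comap (QuotientGroup.mk' O)) := by
      ext x
      exact QuotientGroup.eq_one_iff (x : G)
    have hle : O ≤ M.comap (QuotientGroup.mk' O) := fun x hx => by
      rw [mem_comap, QuotientGroup.mk'_apply, (QuotientGroup.eq_one_iff x).2 hx]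
      exact one_mem M
    rw [← f.ker.index_mul_card, index_ker, hr, hk, Nat.card_congr (subgroupOfEquivOfLe hle).toEquiv]
  -- a solvable subgroup of order divisible by sixty
  have hsolve : ∀ K : Subgroup G, Group.IsSolvable K → 12 ∣ Nat.card K → 5 ∣ Nat.card K →
      ∃ H : Subgroup G, Nat.card H = 60 := fun K _ h12 h5 =>
    Hall.Numbers.exists_card_of_solvable_subgroup hdvd hco K
      (Nat.Coprime.mul_dvd_of_dvd_of_dvd (show Nat.Coprime 12 5 by norm_num) h12 h5)
  by_cases hO5 : 5 ∣ Nat.card O
  · set N := normalizer ((T : Subgroup (G ⧸ O)) : Set (G ⧸ O))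
    refine hsolve (N.comap (QuotientGroup.mk' O)) ?_ (hpre N ▸ hT12.mul_right _)
      (hpre N ▸ hO5.mul_left _)
    let f := ((QuotientGroup.mk' O).comp (N.comap (QuotientGroup.mk' O)).subtype).codRestrict N
      fun x => x.2
    refine Group.isSolvable_of_ker_le_range
      (Subgroup.inclusion (show O ≤ N.comap (QuotientGroup.mk' O) from fun x hx => by
        rw [mem_comap, QuotientGroup.mk'_apply, (QuotientGroup.eq_one_iff x).2 hx]
        exact one_mem N)) f fun x hx => ?_
    have : (x : G) ∈ O := (QuotientGroup.eq_one_iff _).1 (congrArg Subtype.val hx)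
    exact ⟨⟨x, this⟩, rfl⟩
  obtain ⟨L, hLn, -, -, hLsyl, hL⟩ := full_gw_of (fun L _ P k hk h => hGW P k hk h)
    (Cores.pPrimeCore_quotient_self 2) T le_rfl eD hnsQ
  set M := L.comap (QuotientGroup.mk' O) with hMdef
  have hMn : M.Normal := hLn.comap _
  have hMcard : Nat.card M = Nat.card L * Nat.card O := hpre L
  -- the order of `L`
  obtain ⟨F, iF, iT, hodd, -, ⟨eL⟩⟩ := hL.resolve_right (by
    rintro ⟨e⟩
    have h9 : 3 ^ 2 ∣ Nat.card G := by
      rw [hcard]
      refine Dvd.dvd.mul_right ((show 3 ^ 2 ∣ Nat.card L from ?_).trans (card_subgroup_dvd_card L)) _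
      rw [Nat.card_congr e.toEquiv, nat_card_alternatingGroup, Nat.card_eq_fintype_card, Fintype.card_fin]
      decide
    rw [Nat.prime_three.pow_dvd_iff_le_factorization Nat.card_pos.ne',
      hf 3 Nat.prime_three (by norm_num), h60] at h9
    norm_num at h9)
  have hL3 : 3 ∣ Nat.card L := by rw [Nat.card_congr eL.toEquiv]; exact three_dvd_psl
  have h5G : 5 ∣ Nat.card G := (by norm_num : 5 ∣ 60).trans hdvd
  by_cases hL5 : 5 ∣ Nat.card L
  · -- an alternating group inside
    obtain ⟨A, ⟨eA⟩⟩ := (S0804.result (F := F) rfl).2 (by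
      have h := Classical.Linear.gcd_mul_natCard_PSL_fin (F := F) (k := 2) (by norm_num)
      rw [Classical.GL2.natCard_SL_two, ← Nat.card_congr eL.toEquiv] at h
      rw [show Fintype.card F ^ 2 - 1 = (Fintype.card F - 1) * (Fintype.card F + 1) by
        rw [mul_comm, ← Nat.sq_sub_sq, one_pow], ← h]
      exact hL5.mul_left _)
    set A' := (A.map eL.symm.toMonoidHom).map L.subtype
    have hA : Nat.card A' = 60 := by
      rw [card_map_of_injective L.subtype_injective, card_map_of_injective eL.symm.injective,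
        Nat.card_congr eA.toEquiv, nat_card_alternatingGroup, Nat.card_eq_fintype_card, Fintype.card_fin]
      decide
    set K := A'.comap (QuotientGroup.mk' O)
    have hK : Nat.card K = 60 * Nat.card O := by rw [hpre A', hA]
    have hO3 : ¬ 3 ∣ Nat.card O := fun h => by
      have h9 : 3 ^ 2 ∣ Nat.card G := by
        rw [hcard, pow_two]
        exact Nat.mul_dvd_mul (hL3.trans (card_subgroup_dvd_card L)) h
      rw [Nat.prime_three.pow_dvd_iff_le_factorization Nat.card_pos.ne',
        hf 3 Nat.prime_three (by norm_num), h60] at h9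
      norm_num at h9
    have hOco : Nat.Coprime (Nat.card O) 60 := by
      refine Nat.coprime_of_dvd fun s hs hs1 hs2 => ?_
      rcases (show s ∣ 2 ^ 2 * (3 * 5) from hs2) |> hs.dvd_mul.1 with h | h
      · rw [(Nat.prime_dvd_prime_iff_eq hs Nat.prime_two).1 (hs.dvd_of_dvd_pow h)] at hs1
        exact Nat.not_even_iff_odd.2 hOodd (even_iff_two_dvd.2 hs1)
      · rcases hs.dvd_mul.1 h with h | h
        · rw [(Nat.prime_dvd_prime_iff_eq hs Nat.prime_three).1 h] at hs1; exact hO3 hs1
        · rw [(Nat.prime_dvd_prime_iff_eq hs Nat.prime_five).1 h] at hs1; exact hO5 hs1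
    have hOK : O ≤ K := fun x hx => by
      rw [mem_comap, QuotientGroup.mk'_apply, (QuotientGroup.eq_one_iff x).2 hx]
      exact one_mem _
    have hcO : Nat.card (O.subgroupOf K) = Nat.card O := Nat.card_congr (subgroupOfEquivOfLe hOK).toEquiv
    have hidx : (O.subgroupOf K).index = 60 := by
      refine Nat.eq_of_mul_eq_mul_left (Nat.card_pos (α := O.subgroupOf K)) ?_
      rw [(O.subgroupOf K).card_mul_index, hcO, hK, mul_comm]
    have : (O.subgroupOf K).Normal := (inferInstance : O.Normal).subgroupOf K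
    obtain ⟨C, hC⟩ := exists_right_complement'_of_coprime (N := O.subgroupOf K) (by
      rw [hcO, hidx]; exact hOco)
    exact ⟨C.map K.subtype, by
      rw [card_map_of_injective K.subtype_injective, ← hC.symm.index_eq_card, hidx]⟩
  · -- the normaliser of the Sylow subgroup has order divisible by five
    have hSM : (S : Subgroup G) ≤ M := by
      intro x hx
      obtain ⟨P⟩ := (inferInstance : Nonempty (Sylow 2 L))
      obtain ⟨k, hk, ⟨eP⟩⟩ := hLsyl P
      have hP4 : 4 ≤ Nat.card (P : Subgroup L) := by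
        rw [Nat.card_congr eP.toEquiv, DihedralGroup.nat_card]; omega
      obtain ⟨T', hT'⟩ := (P.isPGroup'.map L.subtype).exists_le_sylow
      have hTeq : (P : Subgroup L).map L.subtype = (T' : Subgroup (G ⧸ O)) := eq_of_le_of_card_ge hT' (by
        rw [card_map_of_injective L.subtype_injective, Nat.card_congr (T'.equiv T).toEquiv, hT4]
        exact hP4)
      have hT'L : (T' : Subgroup (G ⧸ O)) ≤ L := hTeq ▸ map_subtype_le _
      obtain ⟨c, hc⟩ := MulAction.exists_smul_eq (G ⧸ O) T' T
      have hxT : QuotientGroup.mk' O x ∈ (T : Subgroup (G ⧸ O)) := ⟨x, hx, rfl⟩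
      rw [← hc] at hxT
      obtain ⟨y, hy, hyx⟩ := hxT
      show QuotientGroup.mk' O x ∈ L
      rw [← hyx]
      exact hLn.conj_mem y (hT'L hy) c
    have htop := Sylow.normalizer_sup_eq_top' S hSM
    set N := normalizer ((S : Subgroup G) : Set G)
    have hidx : N.index ∣ Nat.card M := by
      have h1 : N.relIndex M = N.index := by
        have h : M.relIndex (N ⊔ M) = M.relIndex N := Subgroup.relIndex_sup_right N M
        rw [show N ⊔ M = ⊤ from htop, relIndex_top_right] at h
        have e1 := Subgroup.relIndex_mul_index (H := N ⊓ M) (K := N) inf_le_left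
        have e2 := Subgroup.relIndex_mul_index (H := N ⊓ M) (K := M) inf_le_right
        rw [inf_relIndex_left] at e1
        rw [inf_relIndex_right, ← e1, ← h, mul_comm] at e2
        exact Nat.eq_of_mul_eq_mul_left (Nat.pos_of_ne_zero index_ne_zero_of_finite) e2
      exact h1 ▸ Subgroup.index_dvd_card _
    have hM5 : ¬ 5 ∣ Nat.card M := fun h => by
      rw [hMcard] at h
      rcases Nat.prime_five.dvd_mul.1 h with h | h
      · exact hL5 h
      · exact hO5 h
    refine hsolve N hNsol hN12 ?_
    rw [← N.card_mul_index] at h5G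
    exact (Nat.prime_five.dvd_mul.1 h5G).resolve_right fun h => hM5 (h.trans hidx)

end Cfsg.Agent.GW.Cons
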