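import Cfsg.Agent.Lib.GW.ConsQuaternion
import Cfsg.Agent.Lib.GW.ConsCover
import Cfsg.Agent.Lib.Classical.GL2

/-!
Nonsolvable groups with quaternion Sylow 2-subgroups meeting cyclically, from Gorenstein–Walter.
-/

set_option autoImplicit false

namespace Cfsg.Agent.GW.Cons

open Subgroup

universe u

variable {G : Type u} [Group G] [Finite G]

/-- If sixteen divides no `|SL(2, q)|`, then `q` is `3` or `5` modulo `8`. -/
theorem mod_eight {F : Type} [Field F] [Fintype F] (hodd : Odd (Fintype.card F))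
    (h16 : ¬ 16 ∣ Nat.card (Matrix.SpecialLinearGroup (Fin 2) F)) :
    Fintype.card F % 8 = 3 ∨ Fintype.card F % 8 = 5 := by
  rw [Classical.GL2.natCard_SL_two] at h16
  obtain ⟨k, hk⟩ := hodd
  by_contra hne
  push Not at hne
  refine h16 (Dvd.dvd.mul_left ?_ _)
  have h : (Fintype.card F % 8 = 1 ∨ Fintype.card F % 8 = 7) := by omega
  rcases h with h | h
  · obtain ⟨a, ha⟩ : 8 ∣ Fintype.card F - 1 := by omega
    exact ⟨a * (k + 1), by rw [ha, hk]; ring⟩
  · obtain ⟨a, ha⟩ : 8 ∣ Fintype.card F + 1 := by omega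
    exact ⟨a * k, by rw [ha, show Fintype.card F - 1 = 2 * k by omega]; ring⟩

/-- The statement S3307, from Gorenstein–Walter. -/
theorem quaternion_cyclic_intersections (hGW : PerfectGW.{u}) (hns : ¬ Group.IsSolvable G)
    (hQ : ∀ S : Sylow 2 G, ∃ n : ℕ, Nonempty (↥(S : Subgroup G) ≃* QuaternionGroup (2 ^ (n + 1))))
    (hC : ∀ S T : Sylow 2 G, S ≠ T → IsCyclic ↥((S : Subgroup G) ⊓ (T : Subgroup G))) :
    (∀ S : Sylow 2 G, Nonempty (↥(S : Subgroup G) ≃* QuaternionGroup 2)) ∧
    ∃ (G₁ : Subgroup G) (_ : G₁.Normal) (_ : ((Cfsg.oddCore G).subgroupOf G₁).Normal),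
      Odd G₁.index ∧ Cfsg.oddCore G ≤ G₁ ∧
      ∃ (F : Type) (_ : Field F) (_ : Fintype F),
        (Fintype.card F % 8 = 3 ∨ Fintype.card F % 8 = 5) ∧ 3 < Fintype.card F ∧
        Nonempty (↥G₁ ⧸ (Cfsg.oddCore G).subgroupOf G₁ ≃* Matrix.SpecialLinearGroup (Fin 2) F) := by
  have : Fact (Nat.Prime 2) := ⟨Nat.prime_two⟩
  obtain ⟨S⟩ := (inferInstance : Nonempty (Sylow 2 G))
  obtain ⟨n, ⟨e⟩⟩ := hQ S
  obtain ⟨-, z, hzn, hz, hzc, huniq, hO2, T, ⟨eT⟩⟩ := central_quotient_setup S (by omega : 1 ≤ n + 1) e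
  set π := (QuotientGroup.mk' (zpowers z)).comp (QuotientGroup.mk' (Cfsg.oddCore G)) with hπ
  have hπs : Function.Surjective π :=
    (QuotientGroup.mk'_surjective _).comp (QuotientGroup.mk'_surjective _)
  have : Group.IsSolvable (Cfsg.oddCore G) := S0205.result Cores.oddCore_odd
  have : IsMulCommutative (zpowers z) := inferInstance
  have hns2 : ¬ Group.IsSolvable ((G ⧸ Cfsg.oddCore G) ⧸ zpowers z) := fun h => hns <| by
    have h1 : Group.IsSolvable (G ⧸ Cfsg.oddCore G) :=
      Group.isSolvable_of_ker_le_range (zpowers z).subtype (QuotientGroup.mk' (zpowers z)) (by simp)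
    exact Group.isSolvable_of_ker_le_range (Cfsg.oddCore G).subtype
      (QuotientGroup.mk' (Cfsg.oddCore G)) (by simp)
  -- the Sylow subgroups have order eight
  have hn0 : n = 0 := by
    by_contra hn
    refine hns2 (solvable_of_complement hO2 (complement_of_unique T ?_ eT fun U hUT hU T' hUT' => ?_))
    · calc 3 ≤ 2 ^ 2 := by norm_num
        _ ≤ 2 ^ (n + 1) := Nat.pow_le_pow_right two_pos (by omega)
    obtain ⟨Q0⟩ := (inferInstance : Nonempty (Sylow 2 (U.comap π)))
    have hs : Function.Surjective (π.subgroupComap U) :=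
      MonoidHom.subgroupComap_surjective_of_surjective π U hπs
    have hU2 : IsPGroup 2 U := T.isPGroup'.to_le hUT
    have htop : ((Q0.mapSurjective hs : Sylow 2 U) : Subgroup U) = ⊤ :=
      top_le_iff.1 (le_of_eq ((Q0.mapSurjective hs).is_maximal' (hU2.to_subgroup ⊤) le_top))
    set W := (Q0 : Subgroup (U.comap π)).map (U.comap π).subtype with hW
    have hWU : W.map π = U := by
      refine le_antisymm ?_ fun u hu => ?_
      · rintro _ ⟨_, ⟨x, -, rfl⟩, rfl⟩
        exact x.2
      · obtain ⟨x, hx, he⟩ : (⟨u, hu⟩ : U) ∈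
            (Q0 : Subgroup (U.comap π)).map (π.subgroupComap U) := htop.symm.le (mem_top _)
        exact ⟨x, ⟨x, hx, rfl⟩, congrArg Subtype.val he⟩
    have hWp : IsPGroup 2 W := Q0.isPGroup'.map _
    obtain ⟨R, hWR, hR⟩ := lift_sylow hπs T hWp (hWU.le.trans hUT)
    obtain ⟨R', hWR', hR'⟩ := lift_sylow hπs T' hWp (hWU.le.trans hUT')
    rcases eq_or_ne R R' with rfl | hne
    · exact Sylow.ext (hR'.symm.trans hR)
    exfalso
    have := hC R R' hne
    have hWc : IsCyclic W := Subgroup.isCyclic_of_le (le_inf hWR hWR')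
    have hUc : IsCyclic U := by
      rw [← hWU]
      exact isCyclic_of_surjective (π.subgroupMap W) (π.subgroupMap_surjective W)
    exact IsKleinFour.not_isCyclic hUc
  subst hn0
  refine ⟨fun R => ⟨(R.equiv S).trans e⟩, ?_⟩
  obtain ⟨L, hLn, -, hLL, hLsyl, hLiso⟩ := full_gw hGW hO2 T (by norm_num) eT hns2
  have hT4 : Nat.card (T : Subgroup ((G ⧸ Cfsg.oddCore G) ⧸ zpowers z)) = 4 := by
    rw [Nat.card_congr eT.toEquiv, DihedralGroup.nat_card]
    norm_num
  obtain ⟨P⟩ := (inferInstance : Nonempty (Sylow 2 L))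
  obtain ⟨k, hk, ⟨eP⟩⟩ := hLsyl P
  obtain ⟨T', hT'⟩ := (P.isPGroup'.map L.subtype).exists_le_sylow
  have hP4 : Nat.card (P : Subgroup L) = 4 := by
    have h1 := Subgroup.card_le_of_le hT'
    rw [Subgroup.card_map_of_injective L.subtype_injective, Nat.card_congr (T'.equiv T).toEquiv, hT4,
      Nat.card_congr eP.toEquiv, DihedralGroup.nat_card] at h1
    rw [Nat.card_congr eP.toEquiv, DihedralGroup.nat_card]
    omega
  have hTL : (T' : Subgroup ((G ⧸ Cfsg.oddCore G) ⧸ zpowers z)) ≤ L := by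
    have heq := Subgroup.eq_of_le_of_card_ge hT' (by
      rw [Subgroup.card_map_of_injective L.subtype_injective, hP4, Nat.card_congr (T'.equiv T).toEquiv,
        hT4])
    rw [← heq]
    exact Subgroup.map_subtype_le _
  -- the preimage of `L` in `G / O(G)` is a perfect double cover
  set M := L.comap (QuotientGroup.mk' (zpowers z)) with hMdef
  set ξ : M →* L := (QuotientGroup.mk' (zpowers z)).subgroupComap L with hξdef
  have hξs : Function.Surjective ξ :=
    MonoidHom.subgroupComap_surjective_of_surjective _ L (QuotientGroup.mk'_surjective _)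
  have hzM : z ∈ M := by
    show QuotientGroup.mk' (zpowers z) z ∈ L
    rw [QuotientGroup.mk'_apply, (QuotientGroup.eq_one_iff z).2 (mem_zpowers z)]
    exact one_mem _
  have hker : ξ.ker = (zpowers z).subgroupOf M := by
    ext x
    rw [MonoidHom.mem_ker, mem_subgroupOf, ← QuotientGroup.eq_one_iff]
    exact Subtype.ext_iff
  have hDM : ⁅M, M⁆.map (QuotientGroup.mk' (zpowers z)) = L := by
    rw [Subgroup.map_commutator, hMdef,
      Subgroup.map_comap_eq_self_of_surjective (QuotientGroup.mk'_surjective _), hLL]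
  have hzD : z ∈ ⁅M, M⁆ := by
    have hev : 2 ∣ Nat.card ↥⁅M, M⁆ := by
      refine Dvd.dvd.trans ?_ (Subgroup.card_map_dvd ⁅M, M⁆ (QuotientGroup.mk' (zpowers z)))
      rw [hDM]
      exact Dvd.dvd.trans (show 2 ∣ Nat.card (P : Subgroup L) by rw [hP4]; norm_num) (Subgroup.card_subgroup_dvd_card (P : Subgroup L))
    obtain ⟨y, hy⟩ := exists_prime_orderOf_dvd_card' 2 hev
    rw [← Subgroup.orderOf_coe] at hy
    exact huniq _ hy ▸ y.2
  have hMM : ⁅M, M⁆ = M := by
    refine le_antisymm ?_ fun x hx => ?_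
    · exact Subgroup.commutator_le.2 fun a ha b hb => mul_mem (mul_mem (mul_mem ha hb) (inv_mem ha)) (inv_mem hb)
    · obtain ⟨d, hd, he⟩ : QuotientGroup.mk' (zpowers z) x ∈ ⁅M, M⁆.map (QuotientGroup.mk' (zpowers z)) :=
        hDM.symm ▸ hx
      rw [QuotientGroup.mk'_apply, QuotientGroup.mk'_apply, QuotientGroup.eq] at he
      rw [show x = d * (d⁻¹ * x) by group]
      exact mul_mem hd ((zpowers_le.2 hzD : zpowers z ≤ _) he)
  have hξ : IsDouble ξ := by
    refine ⟨Subgroup.map_injective M.subtype_injective (by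
      rw [_root_.commutator_def, Subgroup.map_commutator, ← MonoidHom.range_eq_map,
        Subgroup.range_subtype, hMM]), hξs, ?_, ?_⟩
    · rw [hker]
      exact fun x hx => mem_center_iff.2 fun y => Subtype.ext
        (mem_center_iff.1 ((zpowers_le.2 hzc : zpowers z ≤ _) (mem_subgroupOf.1 hx)) y)
    · rw [hker, Nat.card_congr (Subgroup.subgroupOfEquivOfLe (zpowers_le.2 hzM)).toEquiv,
        Nat.card_zpowers, hz]
  -- identify `L`
  rcases hLiso with ⟨F, iF, iT, hodd, h3, ⟨f⟩⟩ | ⟨⟨f⟩⟩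
  swap
  · exfalso
    have h8 : 8 ∣ Nat.card L := by
      rw [Nat.card_congr f.toEquiv, nat_card_alternatingGroup, Nat.card_eq_fintype_card, Fintype.card_fin]
      decide
    obtain ⟨Q, hQc⟩ := Sylow.exists_subgroup_card_pow_prime 2 (G := L) (n := 3) h8
    obtain ⟨P', hP'⟩ := (IsPGroup.of_card hQc).exists_le_sylow
    have := Subgroup.card_le_of_le hP'
    rw [hQc, Nat.card_congr (P'.equiv P).toEquiv, hP4] at this
    norm_num at this
  have : NeZero k := ⟨by omega⟩
  have hξ2 : IsDouble (f.symm.toMonoidHom.comp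
      (QuotientGroup.mk' (center (Matrix.SpecialLinearGroup (Fin 2) F)))) := by
    have h := sl_double F hodd h3
    have hk : (f.symm.toMonoidHom.comp
        (QuotientGroup.mk' (center (Matrix.SpecialLinearGroup (Fin 2) F)))).ker = _ :=
      MonoidHom.ker_mulEquiv_comp
        (QuotientGroup.mk' (center (Matrix.SpecialLinearGroup (Fin 2) F))) f.symm
    exact ⟨h.perfect, f.symm.surjective.comp h.surj, hk.le.trans h.central, by rw [hk]; exact h.card⟩
  obtain ⟨d⟩ := double_unique hξ hξ2 P eP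
  -- the preimage in `G`
  set G₁ := M.comap (QuotientGroup.mk' (Cfsg.oddCore G)) with hG₁
  set ρ : G₁ →* M := (QuotientGroup.mk' (Cfsg.oddCore G)).subgroupComap M with hρ
  have hρs : Function.Surjective ρ :=
    MonoidHom.subgroupComap_surjective_of_surjective _ M (QuotientGroup.mk'_surjective _)
  have hρk : ρ.ker = (Cfsg.oddCore G).subgroupOf G₁ := by
    ext x
    rw [MonoidHom.mem_ker, mem_subgroupOf, ← QuotientGroup.eq_one_iff]
    exact Subtype.ext_iff
  have hOn : ((Cfsg.oddCore G).subgroupOf G₁).Normal := inferInstance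
  have hindex : Odd G₁.index := by
    rw [hG₁, Subgroup.index_comap_of_surjective _ (QuotientGroup.mk'_surjective _), hMdef,
      Subgroup.index_comap_of_surjective _ (QuotientGroup.mk'_surjective _)]
    refine Odd.of_dvd_nat ?_ (Subgroup.index_dvd_of_le hTL)
    rw [← Nat.not_even_iff_odd, even_iff_two_dvd]
    exact T'.not_dvd_index
  refine ⟨G₁, inferInstance, hOn, hindex, fun x hx => ?_, F, iF, iT, ?_, h3, ⟨?_⟩⟩
  · show QuotientGroup.mk' (Cfsg.oddCore G) x ∈ M
    rw [QuotientGroup.mk'_apply, (QuotientGroup.eq_one_iff x).2 hx]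
    exact one_mem _
  · refine mod_eight hodd fun h16 => ?_
    rw [← Nat.card_congr d.toEquiv, card_double hξ, show (16 : ℕ) = 2 * 8 by norm_num] at h16
    obtain ⟨Q, hQc⟩ := Sylow.exists_subgroup_card_pow_prime 2 (G := L) (n := 3)
      (Nat.dvd_of_mul_dvd_mul_left two_pos h16)
    obtain ⟨P', hP'⟩ := (IsPGroup.of_card hQc).exists_le_sylow
    have := Subgroup.card_le_of_le hP'
    rw [hQc, Nat.card_congr (P'.equiv P).toEquiv, hP4] at this
    norm_num at this
  · exact ((QuotientGroup.quotientMulEquivOfEq hρk.symm).trans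
      (QuotientGroup.quotientKerEquivOfSurjective ρ hρs)).trans d

end Cfsg.Agent.GW.Cons
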