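import Cfsg.Agent.Lib.GW.ConsRankOne

/-!
Permutation facts for the exceptional subgroups `S₄`, `A₅` of `PSL(2, q)` and for `A₇`.
-/

set_option autoImplicit false

namespace Cfsg.Agent.GW.Cons

open Equiv Equiv.Perm

theorem cent_four : ∀ c : Perm (Fin 4), (∀ x, c (c (c x)) = x) → (∃ x, c x ≠ x) → ∀ σ : Perm (Fin 4),
    (∀ x, σ (c x) = c (σ x)) →
      (∀ x, σ x = x) ∨ (∀ x, σ x = c x) ∨ (∀ x, σ x = c (c x)) := by decide +kernel

theorem cent_five : ∀ c : Perm (Fin 5), (∀ x, c (c (c (c (c x)))) = x) → (∃ x, c x ≠ x) →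
    ∀ σ : Perm (Fin 5), (∀ x, σ (c x) = c (σ x)) → (∀ x, σ x = x) ∨ (∀ x, σ x = c x) ∨
      (∀ x, σ x = c (c x)) ∨ (∀ x, σ x = c (c (c x))) ∨ (∀ x, σ x = c (c (c (c x)))) := by
  decide +kernel

theorem exists_moved {n : ℕ} {c : Perm (Fin n)} (hc : c ≠ 1) : ∃ x, c x ≠ x := by
  by_contra h
  push Not at h
  exact hc (Equiv.ext h)

theorem mem_zpowers_four {c σ : Perm (Fin 4)} (hc : orderOf c = 3) (h : σ * c = c * σ) :
    σ ∈ Subgroup.zpowers c := by
  have h3 : c ^ 3 = 1 := orderOf_dvd_iff_pow_eq_one.1 hc.dvd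
  rcases cent_four c (fun x => by simpa [pow_succ] using congrArg (fun f : Perm (Fin 4) => f x) h3)
      (exists_moved fun e => by rw [e, orderOf_one] at hc; omega) σ
      (fun x => congrArg (fun f : Perm (Fin 4) => f x) h) with h' | h' | h'
  · rw [show σ = 1 from Equiv.ext h']; exact one_mem _
  · rw [show σ = c from Equiv.ext h']; exact Subgroup.mem_zpowers c
  · rw [show σ = c * c from Equiv.ext h']; exact mul_mem (Subgroup.mem_zpowers c) (Subgroup.mem_zpowers c)

theorem mem_zpowers_five {c σ : Perm (Fin 5)} (hc : orderOf c = 5) (h : σ * c = c * σ) :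
    σ ∈ Subgroup.zpowers c := by
  have h5 : c ^ 5 = 1 := orderOf_dvd_iff_pow_eq_one.1 hc.dvd
  have hmem := Subgroup.mem_zpowers c
  rcases cent_five c (fun x => by simpa [pow_succ] using congrArg (fun f : Perm (Fin 5) => f x) h5)
      (exists_moved fun e => by rw [e, orderOf_one] at hc; omega) σ
      (fun x => congrArg (fun f : Perm (Fin 5) => f x) h) with h' | h' | h' | h' | h'
  · rw [show σ = 1 from Equiv.ext h']; exact one_mem _
  · rw [show σ = c from Equiv.ext h']; exact hmem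
  · rw [show σ = c * c from Equiv.ext h']; exact mul_mem hmem hmem
  · rw [show σ = c * (c * c) from Equiv.ext h']; exact mul_mem hmem (mul_mem hmem hmem)
  · rw [show σ = c * (c * (c * c)) from Equiv.ext h']
    exact mul_mem hmem (mul_mem hmem (mul_mem hmem hmem))

/-- An automorphism of a group between `Aₙ` and `Sₙ` fixing an element with cyclic centraliser and an
element inverting it is trivial. -/
theorem perm_fix {n : ℕ} (h4 : 4 ≤ n) (h6 : n ≠ 6) {K : Subgroup (Perm (Fin n))}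
    (hA : alternatingGroup (Fin n) ≤ K) (γ : MulAut K) (c y : K) (hodd : Odd (orderOf c))
    (hcent : ∀ σ : Perm (Fin n), σ * c = (c : Perm (Fin n)) * σ → σ ∈ Subgroup.zpowers (c : Perm (Fin n)))
    (hy : y * c * y⁻¹ = c⁻¹) (hγc : γ c = c) (hγy : γ y = y) : γ = 1 := by
  classical
  set A := (alternatingGroup (Fin n)).subgroupOf K with hAdef
  have hAinv : ∀ a ∈ A, γ a ∈ A := by
    let B : Subgroup (Perm (Fin n)) :=
      (A.comap γ.toMonoidHom).map K.subtype
    have hle : alternatingGroup (Fin n) ≤ B := by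
      rw [← closure_three_cycles_eq_alternating, Subgroup.closure_le]
      intro t ht
      have htA : t ∈ alternatingGroup (Fin n) := Equiv.Perm.IsThreeCycle.mem_alternatingGroup ht
      refine ⟨⟨t, hA htA⟩, ?_, rfl⟩
      show ((γ ⟨t, hA htA⟩ : K) : Perm (Fin n)) ∈ alternatingGroup (Fin n)
      have h3 : orderOf ((γ ⟨t, hA htA⟩ : K) : Perm (Fin n)) = 3 := by
        rw [Subgroup.orderOf_coe, MulEquiv.orderOf_eq, Subgroup.orderOf_mk]
        exact Equiv.Perm.IsThreeCycle.orderOf ht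
      rw [mem_alternatingGroup]
      have h1 := orderOf_map_dvd sign ((γ ⟨t, hA htA⟩ : K) : Perm (Fin n))
      rcases Int.units_eq_one_or (sign ((γ ⟨t, hA htA⟩ : K) : Perm (Fin n))) with h | h
      · exact h
      · exfalso
        rw [h, h3, orderOf_eq_prime (p := 2) (by decide) (by decide)] at h1
        norm_num at h1
    intro a ha
    obtain ⟨b, hb, hba⟩ := hle ha
    rw [← show b = a from Subtype.ext hba]
    exact hb
  let f : alternatingGroup (Fin n) →* alternatingGroup (Fin n) :=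
    { toFun := fun a => ⟨(γ ⟨a, hA a.2⟩ : K), hAinv ⟨a, hA a.2⟩ a.2⟩
      map_one' := Subtype.ext (by simp [show (⟨1, hA (one_mem _)⟩ : K) = 1 from rfl])
      map_mul' := fun a b => Subtype.ext (by
        show ((γ (⟨(a : Perm (Fin n)), hA a.2⟩ * ⟨(b : Perm (Fin n)), hA b.2⟩) : K) : Perm (Fin n)) = _
        rw [map_mul]; rfl) }
  have hfi : Function.Injective f := fun a b h => by
    have h0 : ((γ ⟨a, hA a.2⟩ : K) : Perm (Fin n)) = ((γ ⟨b, hA b.2⟩ : K) : Perm (Fin n)) :=
      congrArg (fun z : alternatingGroup (Fin n) => (z : Perm (Fin n))) h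
    exact Subtype.ext (Subtype.mk.inj (γ.injective (Subtype.ext h0)))
  obtain ⟨σ, hσ⟩ := (S2119.result n h4 h6).2 (MulEquiv.ofBijective f ⟨hfi, Finite.injective_iff_surjective.1 hfi⟩)
  have hfσ : ∀ a : alternatingGroup (Fin n), ((γ ⟨a, hA a.2⟩ : K) : Perm (Fin n)) = σ * a * σ⁻¹ := fun a => by
    have h := congrArg (fun e : MulAut (alternatingGroup (Fin n)) => ((e a : alternatingGroup (Fin n)) : Perm (Fin n))) hσ
    simp only [MulAut.conjNormal_apply] at h
    exact h.symm
  have hall : ∀ k : K, ((γ k : K) : Perm (Fin n)) = σ * k * σ⁻¹ := by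
    intro k
    have h1 : MulAut.conjNormal (σ⁻¹ * (γ k : K) * σ) =
        (MulAut.conjNormal (k : Perm (Fin n)) : MulAut (alternatingGroup (Fin n))) := by
      refine MulEquiv.ext fun a => Subtype.ext ?_
      simp only [MulAut.conjNormal_apply]
      set a' : alternatingGroup (Fin n) := ⟨(k : Perm (Fin n)) * a * (k : Perm (Fin n))⁻¹,
        (inferInstance : (alternatingGroup (Fin n)).Normal).conj_mem _ a.2 _⟩ with ha'
      have h2 := hfσ a'
      have h3 : (⟨(a' : Perm (Fin n)), hA a'.2⟩ : K) = k * ⟨a, hA a.2⟩ * k⁻¹ := Subtype.ext (by simp [ha'])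
      rw [h3, map_mul, map_mul, map_inv, Subgroup.coe_mul, Subgroup.coe_mul, Subgroup.coe_inv, hfσ a,
        show (a' : Perm (Fin n)) = k * a * (k : Perm (Fin n))⁻¹ from rfl] at h2
      calc σ⁻¹ * (γ k : K) * σ * a * (σ⁻¹ * (γ k : K) * σ)⁻¹
          = σ⁻¹ * ((γ k : K) * (σ * a * σ⁻¹) * ((γ k : K) : Perm (Fin n))⁻¹) * σ := by group
        _ = _ := by rw [h2]; group
    have h4' := (S2119.result n h4 h6).1 h1
    calc ((γ k : K) : Perm (Fin n)) = σ * (σ⁻¹ * (γ k : K) * σ) * σ⁻¹ := by group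
      _ = _ := by rw [h4']
  have hσc : σ * c = (c : Perm (Fin n)) * σ := by
    have := hall c
    rw [hγc] at this
    exact mul_inv_eq_iff_eq_mul.1 this.symm
  have hσy : σ * y = (y : Perm (Fin n)) * σ := by
    have := hall y
    rw [hγy] at this
    exact mul_inv_eq_iff_eq_mul.1 this.symm
  obtain ⟨i, hi⟩ := hcent σ hσc
  have hinv : σ = σ⁻¹ := by
    calc σ = (y : Perm (Fin n)) * σ * (y : Perm (Fin n))⁻¹ := by rw [← hσy, mul_inv_cancel_right]
      _ = ((y * c * y⁻¹ : K) : Perm (Fin n)) ^ i := by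
        rw [← hi, Subgroup.coe_mul, Subgroup.coe_mul, Subgroup.coe_inv, conj_zpow]
      _ = σ⁻¹ := by rw [hy, Subgroup.coe_inv, inv_zpow, ← hi]
  have hσ1 : σ = 1 := by
    rw [← orderOf_eq_one_iff]
    refine Nat.eq_one_of_dvd_coprimes (Nat.coprime_two_right.2 hodd)
      (by rw [← hi, ← Subgroup.orderOf_coe c]; exact orderOf_dvd_of_mem_zpowers ⟨i, rfl⟩) (orderOf_dvd_of_pow_eq_one ?_)
    rw [pow_two]
    nth_rw 2 [hinv]
    exact mul_inv_cancel σ
  refine MulEquiv.ext fun k => Subtype.ext ?_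
  rw [hall k, hσ1, one_mul, inv_one, mul_one]
  rfl

theorem swaps_support : ∀ k : Fin 4, ∃ x : Bool × Bool × Bool,
    threeSwaps x * threeSwaps x = 1 ∧ (threeSwaps x).support.card = 2 * (k : ℕ) := by decide +kernel

theorem cycleType_involution {α : Type*} [Fintype α] [DecidableEq α] {σ : Perm α} (h : σ * σ = 1) :
    σ.cycleType = Multiset.replicate (σ.support.card / 2) 2 := by
  rcases eq_or_ne σ 1 with rfl | h1
  · simp
  have h2 : orderOf σ = 2 := orderOf_eq_prime (by rw [pow_two, h]) h1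
  obtain ⟨n, hn⟩ := cycleType_prime_order (σ := σ) (by rw [h2]; exact Nat.prime_two)
  rw [h2] at hn
  have := sum_cycleType σ
  rw [hn, Multiset.sum_replicate, smul_eq_mul] at this
  rw [hn, ← this]
  congr 1
  omega

/-- Every involutory permutation of seven points commutes with a four-group of even permutations. -/
theorem alt_seven_four {σ : Perm (Fin 7)} (h : σ * σ = 1) : ∃ u v : Perm (Fin 7),
    u ∈ alternatingGroup (Fin 7) ∧ v ∈ alternatingGroup (Fin 7) ∧ orderOf u = 2 ∧ orderOf v = 2 ∧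
      u ≠ v ∧ Commute u v ∧ Commute σ u ∧ Commute σ v := by
  classical
  obtain ⟨j, hj⟩ : ∃ j, σ.support.card = 2 * j := by
    refine ⟨σ.support.card / 2, ?_⟩
    have := sum_cycleType σ
    rw [cycleType_involution h, Multiset.sum_replicate, smul_eq_mul] at this
    omega
  have hle : σ.support.card ≤ 7 := (Finset.card_le_univ _).trans (by simp)
  obtain ⟨x, hx, hxs⟩ := swaps_support ⟨j, by omega⟩
  obtain ⟨π, hπ⟩ := isConj_iff.1 (isConj_iff_cycleType_eq.2
    (show (threeSwaps x).cycleType = σ.cycleType by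
      rw [cycleType_involution hx, cycleType_involution h, hxs, hj]))
  have hcomm : ∀ x y, threeSwaps x * threeSwaps y = threeSwaps y * threeSwaps x := by decide +kernel
  set u₀ := threeSwaps (true, true, false)
  set v₀ := threeSwaps (true, false, true)
  have hu₀ : sign u₀ = 1 ∧ sign v₀ = 1 ∧ u₀ * u₀ = 1 ∧ v₀ * v₀ = 1 ∧ u₀ ≠ 1 ∧ v₀ ≠ 1 ∧ u₀ ≠ v₀ := by
    decide +kernel
  obtain ⟨s1, s2, q1, q2, n1, n2, n3⟩ := hu₀
  refine ⟨MulAut.conj π u₀, MulAut.conj π v₀, ?_, ?_, ?_, ?_, (MulAut.conj π).injective.ne n3, ?_, ?_, ?_⟩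
  · rw [mem_alternatingGroup, MulAut.conj_apply]; simp [s1]
  · rw [mem_alternatingGroup, MulAut.conj_apply]; simp [s2]
  · rw [MulEquiv.orderOf_eq]; exact orderOf_eq_prime (by rw [pow_two, q1]) n1
  · rw [MulEquiv.orderOf_eq]; exact orderOf_eq_prime (by rw [pow_two, q2]) n2
  · exact (show Commute u₀ v₀ from hcomm _ _).map (MulAut.conj π).toMonoidHom
  · rw [← hπ, ← MulAut.conj_apply]
    exact (show Commute (threeSwaps x) u₀ from hcomm _ _).map (MulAut.conj π).toMonoidHom
  · rw [← hπ, ← MulAut.conj_apply]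
    exact (show Commute (threeSwaps x) v₀ from hcomm _ _).map (MulAut.conj π).toMonoidHom

end Cfsg.Agent.GW.Cons
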