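import Mathlib
import Cfsg.Agent.S3895
import Cfsg.Agent.Lib.Transfer.Fusion
import Cfsg.Agent.Lib.AutPOmega.Groups
import Cfsg.Agent.Lib.Involutions.TwoGroups
import Cfsg.Agent.Lib.Cores.Basic

/-!
Exactly half as many classes of 2-elements as elements of a Sylow 2-subgroup: the shape of the Sylow
subgroup modulo the centre.
-/

set_option autoImplicit false

namespace Cfsg.Agent.GW.Cons.TwoClasses

open Cfsg.Agent.S3895 (K2 cl cl_eq cl_surjective card_le_classes central_of_alone exists_swap_free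
  coset_small)
open Finset
open scoped commutatorElement

universe u

variable {G : Type u} [Group G] [Finite G]

theorem commutator_small {H : Type*} [Group H] [Finite H] (hH : IsPGroup 2 H)
    (h : Nat.card H ≤ 2 * Nat.card (ConjClasses H)) : Nat.card ↥(commutator H) ≤ 2 := by
  classical
  haveI : Fact (Nat.Prime 2) := ⟨Nat.prime_two⟩
  haveI := Fintype.ofFinite (Cfsg.IrrCharacter H)
  choose d hd0 hd using fun χ : Cfsg.IrrCharacter H => Cfsg.Agent.Characters.irr_one_pos χ.2
  have hs : ∑ χ, d χ ^ 2 = Nat.card H := by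
    have := Cfsg.Agent.Characters.sum_degree_sq (G := H)
    simp only [hd] at this
    exact_mod_cast this
  have ha : #{χ | d χ = 1} = (commutator H).index := by
    rw [← Cfsg.Agent.Characters.card_degree_one, Nat.card_eq_fintype_card, Fintype.card_subtype]
    congr 1; ext χ; simp only [mem_filter, mem_univ, true_and]; rw [hd]; exact_mod_cast Iff.rfl
  have hk : Fintype.card (Cfsg.IrrCharacter H) = Nat.card (ConjClasses H) := by
    rw [← Cfsg.Agent.Characters.card_irrCharacter, Nat.card_eq_fintype_card]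
  have h2 : ∑ χ : Cfsg.IrrCharacter H, (if d χ = 1 then (3:ℕ) else 0) + ∑ χ, d χ ^ 2 ≥
      ∑ _χ : Cfsg.IrrCharacter H, 4 := by
    rw [← Finset.sum_add_distrib]
    refine Finset.sum_le_sum fun χ _ => ?_
    split_ifs with h1
    · rw [h1]; norm_num
    · have := hd0 χ; nlinarith [show 2 ≤ d χ by omega]
  simp only [← Finset.sum_filter, Finset.sum_const, smul_eq_mul, ha, card_univ, hk, hs] at h2
  have h3 := Subgroup.card_mul_index (commutator H)
  have h4 : Nat.card H ≤ 3 * (commutator H).index := by omega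
  rw [← h3] at h4
  have h5 := Nat.le_of_mul_le_mul_right h4 (Nat.pos_of_ne_zero Subgroup.index_ne_zero_of_finite)
  obtain ⟨j, hj⟩ := (hH.to_subgroup (commutator H)).exists_card_eq
  rcases Nat.lt_or_ge j 2 with hj2 | hj2
  · interval_cases j <;> simp_all
  · have := Nat.pow_le_pow_right two_pos hj2
    omega

/-- The conjugate of a set. -/
theorem conj_image_mul (a b : G) (X : Set G) :
    (fun y => a * b * y * (a * b)⁻¹) '' X = (fun y => a * y * a⁻¹) '' ((fun y => b * y * b⁻¹) '' X) := by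
  rw [Set.image_image]
  congr 1
  funext y
  group

/-- Some odd power of an element normalising a Sylow 2-subgroup lies in it. -/
theorem odd_pow_mem (P : Sylow 2 G) {n : G} (hn : n ∈ Subgroup.normalizer ((P : Subgroup G) : Set G)) :
    ∃ j : ℕ, n ^ (2 * j + 1) ∈ (P : Subgroup G) := by
  haveI : Fact (Nat.Prime 2) := ⟨Nat.prime_two⟩
  obtain ⟨a, m, hmodd, ha⟩ := Nat.exists_eq_two_pow_mul_odd (orderOf_pos n).ne'
  obtain ⟨j, hj⟩ := hmodd
  refine ⟨j, hj ▸ ?_⟩
  set N := Subgroup.normalizer ((P : Subgroup G) : Set G)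
  have hp : IsPGroup 2 (Subgroup.zpowers (⟨n ^ m, pow_mem hn m⟩ : N)) := by
    refine IsPGroup.of_card (n := a) ?_
    rw [Nat.card_zpowers, Subgroup.orderOf_mk, orderOf_pow, ha, Nat.gcd_mul_left_left,
      Nat.mul_div_cancel _ (by omega)]
  obtain ⟨R, hR⟩ := hp.exists_le_sylow
  haveI : ((P.subtype Subgroup.le_normalizer : Sylow 2 N) : Subgroup N).Normal :=
    Subgroup.normal_in_normalizer
  letI := Sylow.unique_of_normal (P.subtype Subgroup.le_normalizer : Sylow 2 N) inferInstance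
  have := hR (Subgroup.mem_zpowers _)
  rw [Subsingleton.elim R (P.subtype Subgroup.le_normalizer)] at this
  exact this

/-- The normaliser of a Sylow 2-subgroup swaps no two of its invariant sets. -/
theorem no_swap (P : Sylow 2 G) {n : G} (hn : n ∈ Subgroup.normalizer ((P : Subgroup G) : Set G))
    {X Y : Set G} (hX : ∀ t ∈ (P : Subgroup G), (fun y => t * y * t⁻¹) '' X = X)
    (hXY : (fun y => n * y * n⁻¹) '' X = Y) (hYX : (fun y => n * y * n⁻¹) '' Y = X) : X = Y := by
  obtain ⟨j, hj⟩ := odd_pow_mem P hn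
  have hsw : ∀ i : ℕ, (fun y => n ^ (2 * i + 1) * y * (n ^ (2 * i + 1))⁻¹) '' X = Y := by
    intro i
    induction i with
    | zero => simpa using hXY
    | succ i ih =>
      rw [show n ^ (2 * (i + 1) + 1) = n * (n * n ^ (2 * i + 1)) by
        rw [show 2 * (i + 1) + 1 = 1 + (1 + (2 * i + 1)) by ring, pow_add, pow_one, pow_add, pow_one]]
      rw [conj_image_mul, conj_image_mul, ih, hYX, hXY]
  rw [← hsw j, hX _ hj]

variable (P : Sylow 2 G)

/-- The intersection of a class with the Sylow subgroup. -/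
noncomputable def fib (x : ↥(P : Subgroup G)) : Set ↥(P : Subgroup G) := {y | cl P x = cl P y}

/-- The centre of `G` inside the Sylow subgroup. -/
def W : Subgroup ↥(P : Subgroup G) := (Subgroup.center G).subgroupOf (P : Subgroup G)

variable {P}

theorem mem_fib {x y : ↥(P : Subgroup G)} :
    y ∈ fib P x ↔ ∃ g : G, g * (x : G) * g⁻¹ = y := cl_eq P

theorem self_mem_fib (x : ↥(P : Subgroup G)) : x ∈ fib P x := rfl

theorem conj_mem_fib (x t : ↥(P : Subgroup G)) : t * x * t⁻¹ ∈ fib P x :=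
  mem_fib.2 ⟨(t : G), rfl⟩

theorem W_comm {w : ↥(P : Subgroup G)} (hw : w ∈ W P) (g : G) : g * (w : G) = (w : G) * g :=
  Subgroup.mem_center_iff.mp hw g

theorem W_central {w : ↥(P : Subgroup G)} (hw : w ∈ W P) (t : ↥(P : Subgroup G)) : t * w = w * t :=
  Subtype.ext (W_comm hw t)

theorem fib_of_W {w y : ↥(P : Subgroup G)} (hw : w ∈ W P) (hy : y ∈ fib P w) : y = w := by
  obtain ⟨g, hg⟩ := mem_fib.1 hy
  refine Subtype.ext ?_
  rw [← hg, W_comm hw g, mul_inv_cancel_right]

theorem translate {w : ↥(P : Subgroup G)} (hw : w ∈ W P) {x y : ↥(P : Subgroup G)}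
    (h : cl P x = cl P y) : cl P (w * x) = cl P (w * y) := by
  obtain ⟨g, hg⟩ := (cl_eq P).mp h
  refine (cl_eq P).mpr ⟨g, ?_⟩
  rw [Subgroup.coe_mul, Subgroup.coe_mul, ← hg, ← mul_assoc g, W_comm hw g]; group

theorem center_le_sylow (hO : Cfsg.oddCore G = ⊥) : Subgroup.center G ≤ (P : Subgroup G) := by
  haveI : Fact (Nat.Prime 2) := ⟨Nat.prime_two⟩
  have hp : IsPGroup 2 (Subgroup.center G) := by
    rintro ⟨z, hz⟩
    obtain ⟨k, hk⟩ := Transfer.NormalPComplement.exists_pow_coprime (p := 2) (orderOf_pos z).ne'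
    refine ⟨k, Subtype.ext ?_⟩
    have hz' : z ^ 2 ^ k ∈ Subgroup.center G := pow_mem hz _
    haveI : (Subgroup.zpowers (z ^ 2 ^ k)).Normal := ⟨fun y hy g => by
      rwa [Subgroup.mem_center_iff.1 (Subgroup.zpowers_le.2 hz' hy) g, mul_inv_cancel_right]⟩
    have hodd : Odd (Nat.card (Subgroup.zpowers (z ^ 2 ^ k))) := by
      rw [Nat.card_zpowers]; exact Nat.coprime_two_right.1 hk
    have h1 : z ^ 2 ^ k ∈ Cfsg.oddCore G := Cores.le_oddCore hodd (Subgroup.mem_zpowers _)
    rwa [hO, Subgroup.mem_bot] at h1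
  exact hp.le_sylow_of_normal P

section
variable (hO : Cfsg.oddCore G = ⊥) (hP : Nat.card ↥(commutator ↥(P : Subgroup G)) ≤ 2)
  (hk : 2 * Nat.card (K2 G) = Nat.card ↥(P : Subgroup G))

include hO hP hk in
set_option maxHeartbeats 2000000 in
/-- The counting: a big class exists, there is only one orbit of them, of one of two kinds. -/
theorem counting :
    (∃ x : ↥(P : Subgroup G), 3 ≤ (fib P x).ncard) ∧
    ∀ x : ↥(P : Subgroup G), 3 ≤ (fib P x).ncard →
      (((fib P x).ncard = 3 ∧ ∀ w ∈ W P, cl P (w * x) = cl P x → w = 1) ∨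
        ((fib P x).ncard = 4 ∧ ∃ e ∈ W P, e ≠ 1 ∧ e * e = 1 ∧ cl P (e * x) = cl P x ∧
          ∀ w ∈ W P, cl P (w * x) = cl P x → w = 1 ∨ w = e)) ∧
      ∀ y : ↥(P : Subgroup G), 3 ≤ (fib P y).ncard → ∃ w ∈ W P, cl P y = cl P (w * x) := by
  classical
  haveI : Fact (Nat.Prime 2) := ⟨Nat.prime_two⟩
  haveI := Fintype.ofFinite ↥(P : Subgroup G)
  haveI := Fintype.ofFinite (K2 G)
  haveI := Fintype.ofFinite (W P)
  set m : (K2 G) → ℕ := fun c => #{x | cl P x = c} with hm
  have hmf : ∀ x, (fib P x).ncard = m (cl P x) := fun x => by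
    show (fib P x).ncard = #{y | cl P y = cl P x}
    rw [← Set.ncard_coe_finset]
    congr 1
    ext y
    simp [fib, eq_comm]
  have hpos : ∀ c, 0 < m c := fun c => by
    obtain ⟨x, rfl⟩ := cl_surjective P c
    exact Finset.card_pos.mpr ⟨x, Finset.mem_filter.mpr ⟨Finset.mem_univ _, rfl⟩⟩
  have hone : #{c | m c = 1} = Nat.card (W P) := by
    rw [Nat.card_eq_fintype_card, ← Finset.card_univ]
    refine (Finset.card_bij (fun (w : W P) _ => cl P (w : ↥(P : Subgroup G))) ?_ ?_ ?_).symm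
    · intro w _
      refine Finset.mem_filter.mpr ⟨Finset.mem_univ _, ?_⟩
      rw [← hmf, Set.ncard_eq_one]
      exact ⟨w, Set.eq_singleton_iff_unique_mem.2 ⟨rfl, fun y hy => fib_of_W w.2 hy⟩⟩
    · intro a _ b _ h
      exact Subtype.ext (fib_of_W a.2 h).symm
    · intro c hc
      obtain ⟨x, rfl⟩ := cl_surjective P c
      have h1 : (fib P x).ncard = 1 := (hmf x).trans (Finset.mem_filter.mp hc).2
      obtain ⟨a, ha⟩ := Set.ncard_eq_one.1 h1
      have hxa : x = a := by simpa [ha] using self_mem_fib x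
      refine ⟨⟨x, central_of_alone P hO x.2 fun g hg => ?_⟩, Finset.mem_univ _, rfl⟩
      have : (⟨_, hg⟩ : ↥(P : Subgroup G)) ∈ fib P x := mem_fib.2 ⟨g, rfl⟩
      rw [ha, Set.mem_singleton_iff, ← hxa] at this
      exact congrArg Subtype.val this
  have hsum : Nat.card ↥(P : Subgroup G) = ∑ c, m c := by
    rw [Nat.card_eq_fintype_card, ← Finset.card_univ]
    exact Finset.card_eq_sum_card_fiberwise fun x _ => Finset.mem_univ _
  have htot : ∑ c : K2 G, (m c - 2) = Nat.card (W P) := by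
    have h1 : ∑ c : K2 G, (2 + (m c - 2)) = ∑ c : K2 G, (m c + if m c = 1 then 1 else 0) := by
      refine Finset.sum_congr rfl fun c _ => ?_
      have := hpos c
      split_ifs <;> omega
    simp only [Finset.sum_add_distrib, Finset.sum_boole, Nat.cast_id, Finset.sum_const, smul_eq_mul,
      Finset.card_univ, ← hsum, hone] at h1
    rw [← hk, Nat.card_eq_fintype_card (α := K2 G)] at h1
    omega
  refine ⟨?_, fun x₀ hx₀ => ?_⟩
  · have : 0 < ∑ c : K2 G, (m c - 2) := by rw [htot]; exact Nat.card_pos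
    obtain ⟨c, -, hc⟩ := Finset.exists_ne_zero_of_sum_ne_zero this.ne'
    obtain ⟨x, rfl⟩ := cl_surjective P c
    exact ⟨x, by rw [hmf]; omega⟩
  rw [hmf] at hx₀
  let WC : Subgroup ↥(P : Subgroup G) :=
    { carrier := {w | w ∈ W P ∧ cl P (w * x₀) = cl P x₀}
      mul_mem' := fun {a b} ha hb => ⟨mul_mem ha.1 hb.1, by
        rw [mul_assoc, translate ha.1 hb.2, ha.2]⟩
      one_mem' := ⟨one_mem _, by rw [one_mul]⟩
      inv_mem' := fun {a} ha => ⟨inv_mem ha.1, by
        have := translate (inv_mem ha.1) ha.2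
        rw [inv_mul_cancel_left] at this
        exact this.symm⟩ }
  haveI := Fintype.ofFinite WC
  set E : Finset ↥(P : Subgroup G) := {y | cl P y = cl P x₀} with hE
  have hEm : #E = m (cl P x₀) := rfl
  set E₀ : Finset ↥(P : Subgroup G) :=
    (Finset.univ : Finset WC).image fun w : WC => (w : ↥(P : Subgroup G)) * x₀ with hE₀
  have hE₀c : #E₀ = Nat.card WC := by
    rw [Finset.card_image_of_injective _ (fun a b h => Subtype.ext (mul_right_cancel h)),
      Finset.card_univ, Nat.card_eq_fintype_card]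
  have hE₀E : E₀ ⊆ E := fun y hy => by
    obtain ⟨w, -, rfl⟩ := Finset.mem_image.mp hy
    exact Finset.mem_filter.mpr ⟨Finset.mem_univ _, w.2.2⟩
  have hlow : 2 * Nat.card WC ≤ m (cl P x₀) := by
    by_cases hsame : E ⊆ E₀
    · exfalso
      have hcardWC : Nat.card WC = m (cl P x₀) := by
        rw [← hE₀c, ← hEm, Finset.Subset.antisymm hsame hE₀E]
      have hsub : WC.map (P : Subgroup G).subtype ≤ Subgroup.center G := by
        rintro _ ⟨w, hw, rfl⟩; exact hw.1
      have h3 := coset_small P hP x₀ _ hsub (Subgroup.map_subtype_le _) (fun g hg => by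
        have hin : (⟨_, hg⟩ : ↥(P : Subgroup G)) ∈ E₀ := hsame
          (Finset.mem_filter.mpr ⟨Finset.mem_univ _, ((cl_eq P).mpr ⟨g, rfl⟩).symm⟩)
        obtain ⟨w, -, hw⟩ := Finset.mem_image.mp hin
        have hw' : ((w : ↥(P : Subgroup G)) : G) * x₀ = g * (x₀ : G) * g⁻¹ := congrArg Subtype.val hw
        exact ⟨w, w.2, by rw [← hw', mul_inv_cancel_right]; rfl⟩)
        (by rintro _ ⟨w, hw, rfl⟩; exact (cl_eq P).mp hw.2.symm)
      rw [Subgroup.card_map_of_injective (Subgroup.subtype_injective _)] at h3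
      omega
    · obtain ⟨y, hyE, hy⟩ := Finset.not_subset.mp hsame
      set E₁ := (Finset.univ : Finset WC).image fun w : WC => (w : ↥(P : Subgroup G)) * y with hE₁
      have h2 : #E₁ = Nat.card WC := by
        rw [Finset.card_image_of_injective _ (fun a b h => Subtype.ext (mul_right_cancel h)),
          Finset.card_univ, Nat.card_eq_fintype_card]
      have h3 : Disjoint E₀ E₁ := by
        rw [Finset.disjoint_left]
        intro z hz hz'
        obtain ⟨u, -, rfl⟩ := Finset.mem_image.mp hz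
        obtain ⟨v, -, hv⟩ := Finset.mem_image.mp hz'
        refine hy (Finset.mem_image.mpr ⟨v⁻¹ * u, Finset.mem_univ _, ?_⟩)
        show ((v : ↥(P : Subgroup G)))⁻¹ * u * x₀ = y
        rw [mul_assoc, ← hv, inv_mul_cancel_left]
      have h4 := Finset.card_le_card (show E₀ ∪ E₁ ⊆ E from
        Finset.union_subset hE₀E fun z hz => by
          obtain ⟨w, -, rfl⟩ := Finset.mem_image.mp hz
          refine Finset.mem_filter.mpr ⟨Finset.mem_univ _, ?_⟩
          rw [translate w.2.1 (Finset.mem_filter.mp hyE).2, w.2.2])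
      rw [Finset.card_union_of_disjoint h3, hE₀c, h2, hEm] at h4
      omega
  set S : Finset (K2 G) :=
    (Finset.univ : Finset (W P)).image fun w : W P => cl P ((w : ↥(P : Subgroup G)) * x₀) with hS
  have hSm : ∀ c ∈ S, m c = m (cl P x₀) := by
    intro c hc
    obtain ⟨w, -, rfl⟩ := Finset.mem_image.mp hc
    refine (Finset.card_bij (fun y _ => (w : ↥(P : Subgroup G)) * y) ?_ ?_ ?_).symm
    · intro y hy
      exact Finset.mem_filter.mpr ⟨Finset.mem_univ _, translate w.2 (Finset.mem_filter.mp hy).2⟩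
    · intro a _ b _ h; exact mul_left_cancel h
    · intro y hy
      refine ⟨(w : ↥(P : Subgroup G))⁻¹ * y, Finset.mem_filter.mpr ⟨Finset.mem_univ _, ?_⟩,
        mul_inv_cancel_left _ _⟩
      rw [translate (inv_mem w.2) (Finset.mem_filter.mp hy).2, inv_mul_cancel_left]
  have hSW : Nat.card (W P) ≤ #S * Nat.card WC := by
    rw [Nat.card_eq_fintype_card, ← Finset.card_univ, mul_comm]
    refine Finset.card_le_mul_card_image _ _ fun c hc => ?_
    obtain ⟨u, -, rfl⟩ := Finset.mem_image.mp hc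
    rw [Nat.card_eq_fintype_card, ← Finset.card_univ]
    refine Finset.card_le_card_of_injOn (fun w : W P =>
      if h : cl P (((u⁻¹ * w : W P) : ↥(P : Subgroup G)) * x₀) = cl P x₀
        then (⟨_, (u⁻¹ * w).2, h⟩ : WC) else 1)
      (fun _ _ => Finset.mem_univ _) ?_
    intro a ha b hb hab
    have key : ∀ w : W P, cl P ((w : ↥(P : Subgroup G)) * x₀) = cl P ((u : ↥(P : Subgroup G)) * x₀) →
        cl P (((u⁻¹ * w : W P) : ↥(P : Subgroup G)) * x₀) = cl P x₀ := fun w hw => by
      rw [Subgroup.coe_mul, Subgroup.coe_inv, mul_assoc, translate (inv_mem u.2) hw, inv_mul_cancel_left]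
    simp only [Finset.coe_filter, Set.mem_setOf_eq, Finset.mem_univ, true_and] at ha hb
    simp only [dif_pos (key a ha), dif_pos (key b hb)] at hab
    exact mul_left_cancel (a := u⁻¹) (Subtype.ext (congrArg (fun z : WC => (z : ↥(P : Subgroup G))) hab))
  have hSsum : ∑ c ∈ S, (m c - 2) = #S * (m (cl P x₀) - 2) := by
    rw [Finset.sum_congr rfl fun c hc => by rw [hSm c hc], Finset.sum_const, smul_eq_mul]
  have hsplit := Finset.sum_compl_add_sum S fun c => m c - 2
  rw [hSsum, htot] at hsplit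
  have hSpos : 0 < #S := Finset.card_pos.mpr ⟨_, Finset.mem_image.mpr ⟨1, Finset.mem_univ _, rfl⟩⟩
  have hup : m (cl P x₀) - 2 ≤ Nat.card WC := Nat.le_of_mul_le_mul_left (by omega) hSpos
  have hWpos : 0 < Nat.card WC := Nat.card_pos
  have hval : m (cl P x₀) - 2 = Nat.card WC := by omega
  have hzero : ∑ c ∈ Sᶜ, (m c - 2) = 0 := by
    rw [hval] at hsplit
    omega
  refine ⟨?_, fun y hy => ?_⟩
  · rcases Nat.lt_or_ge (Nat.card WC) 2 with h1 | h1
    · refine Or.inl ⟨by rw [hmf]; omega, fun w hw h => ?_⟩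
      have hbot : WC = ⊥ := Subgroup.eq_bot_of_card_eq WC (by omega)
      exact Subgroup.mem_bot.1 (hbot ▸ (show w ∈ WC from ⟨hw, h⟩))
    · obtain ⟨e, he1, he2⟩ := (Nat.card_eq_two_iff' (1 : WC)).1 (by omega)
      refine Or.inr ⟨by rw [hmf]; omega, e, e.2.1, fun h => he1 (Subtype.ext h), ?_, e.2.2,
        fun w hw h => ?_⟩
      · rcases eq_or_ne (e * e) 1 with h | h
        · exact congrArg Subtype.val h
        · exact absurd (mul_eq_left.1 (he2 _ h)) he1
      · rcases eq_or_ne (⟨w, hw, h⟩ : WC) 1 with h' | h'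
        · exact Or.inl (congrArg Subtype.val h')
        · exact Or.inr (congrArg Subtype.val (he2 _ h'))
  · by_contra hno
    push Not at hno
    have hyS : cl P y ∈ Sᶜ := Finset.mem_compl.mpr fun h => by
      obtain ⟨w, -, hw⟩ := Finset.mem_image.mp h
      exact hno w w.2 hw.symm
    have := Finset.sum_eq_zero_iff.1 hzero _ hyS
    rw [hmf] at hy
    omega

end

/-- Three elements in a class. -/
theorem three_le {x a b : ↥(P : Subgroup G)} (ha : a ∈ fib P x) (hb : b ∈ fib P x) (hxa : x ≠ a)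
    (hxb : x ≠ b) (hab : a ≠ b) : 3 ≤ (fib P x).ncard := by
  rw [← Set.ncard_eq_three.mpr ⟨x, a, b, hxa, hxb, hab, rfl⟩]
  refine Set.ncard_le_ncard ?_ (Set.toFinite _)
  rintro _ (rfl | rfl | rfl)
  exacts [self_mem_fib _, ha, hb]

/-- The non-trivial commutator. -/
theorem exists_c (hP : Nat.card ↥(commutator ↥(P : Subgroup G)) ≤ 2) {u t : ↥(P : Subgroup G)}
    (h : t * u ≠ u * t) :
    ∃ c : ↥(P : Subgroup G), c ≠ 1 ∧ c * c = 1 ∧ (∀ t, t * c = c * t) ∧
      ∀ t u : ↥(P : Subgroup G), t * u = u * t ∨ t * u * t⁻¹ = c * u := by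
  set D := commutator ↥(P : Subgroup G)
  have hD : ∀ x y : ↥(P : Subgroup G), x * y * x⁻¹ * y⁻¹ ∈ D := fun x y => by
    rw [← commutatorElement_def]
    exact Subgroup.commutator_mem_commutator (Subgroup.mem_top _) (Subgroup.mem_top _)
  set c := t * u * t⁻¹ * u⁻¹ with hc
  have hc1 : c ≠ 1 := fun e => h (mul_inv_eq_iff_eq_mul.1 (mul_inv_eq_one.1 e))
  have h2 : Nat.card D = 2 := le_antisymm hP (by
    rcases Nat.lt_or_ge (Nat.card D) 2 with h1 | h1
    · refine absurd ?_ hc1
      have h0 : 0 < Nat.card D := Nat.card_pos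
      exact Subgroup.mem_bot.1 (Subgroup.eq_bot_of_card_eq D (by omega) ▸ hD t u)
    · exact h1)
  obtain ⟨e, he1, he2⟩ := (Nat.card_eq_two_iff' (1 : D)).1 h2
  have hmem : ∀ d ∈ D, d = 1 ∨ d = c := fun d hd => by
    rcases eq_or_ne (⟨d, hd⟩ : D) 1 with h' | h'
    · exact Or.inl (congrArg Subtype.val h')
    · exact Or.inr (congrArg Subtype.val
        ((he2 _ h').trans (he2 ⟨c, hD t u⟩ fun e => hc1 (congrArg Subtype.val e)).symm))
  refine ⟨c, hc1, ?_, fun s => ?_, fun s v => ?_⟩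
  · refine (hmem _ (mul_mem (hD t u) (hD t u))).resolve_right fun e => hc1 (mul_eq_left.1 e)
  · refine mul_inv_eq_iff_eq_mul.1 ((hmem _ ((inferInstance : D.Normal).conj_mem _ (hD t u) s)).resolve_left
      fun e => hc1 (conj_eq_one_iff.1 e))
  · rcases hmem _ (hD s v) with e | e
    · exact Or.inl (mul_inv_eq_iff_eq_mul.1 (mul_inv_eq_one.1 e))
    · exact Or.inr (mul_inv_eq_iff_eq_mul.1 e)

/-- A central element of `P` outside the centre of `G` has a big class. -/
theorem big_of_central (hO : Cfsg.oddCore G = ⊥) {z : ↥(P : Subgroup G)} (hz : ∀ t, t * z = z * t)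
    (hzW : z ∉ W P) : 3 ≤ (fib P z).ncard := by
  obtain ⟨g, hg, hne⟩ : ∃ (g : G), g * (z : G) * g⁻¹ ∈ (P : Subgroup G) ∧ g * (z : G) * g⁻¹ ≠ z := by
    by_contra hno
    push Not at hno
    exact hzW (central_of_alone P hO z.2 hno)
  set y : ↥(P : Subgroup G) := ⟨_, hg⟩
  have hy : y ∈ fib P z := mem_fib.2 ⟨g, rfl⟩
  have hzy : z ≠ y := fun e => hne (congrArg Subtype.val e).symm
  by_cases hyc : ∀ t, t * y = y * t
  · obtain ⟨v, hvz, hvy, hv⟩ := exists_swap_free P hzy (fun t => by rw [hz t, mul_inv_cancel_right])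
      (fun t => by rw [hyc t, mul_inv_cancel_right]) (g := g) rfl
    exact three_le hy (mem_fib.2 hv) hzy hvz.symm hvy.symm
  · push Not at hyc
    obtain ⟨t, ht⟩ := hyc
    refine three_le hy (b := t * y * t⁻¹) ?_ hzy (fun e => hzy ?_) fun e => ht ?_
    · obtain ⟨g', hg'⟩ := mem_fib.1 (conj_mem_fib y t)
      exact mem_fib.2 ⟨g' * g, by rw [← hg']; show _ = g' * (g * (z : G) * g⁻¹) * g'⁻¹; group⟩
    · calc z = t⁻¹ * (t * z) := by group
        _ = t⁻¹ * (t * (t⁻¹ * z * t)) := by rw [show t⁻¹ * z * t = z by rw [hz t⁻¹, inv_mul_cancel_right]]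
        _ = t⁻¹ * (t * (t⁻¹ * (t * y * t⁻¹) * t)) := by rw [← e]
        _ = y := by group
    · exact (mul_inv_eq_iff_eq_mul.1 e.symm)

/-- Fused central elements are fused in the normaliser. -/
theorem burnside_central {x y : ↥(P : Subgroup G)} (hx : ∀ t, t * x = x * t) (hy : ∀ t, t * y = y * t)
    (h : y ∈ fib P x) :
    ∃ n ∈ Subgroup.normalizer ((P : Subgroup G) : Set G), n * (x : G) * n⁻¹ = y := by
  haveI : Fact (Nat.Prime 2) := ⟨Nat.prime_two⟩
  obtain ⟨g, hg⟩ := mem_fib.1 h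
  obtain ⟨n, hn, hnX⟩ := Cfsg.Agent.Transfer.Fusion.burnside_fusion_set P (X := {(x : G)}) (Y := {(y : G)})
    (fun t ht => by
      simp only [Set.image_singleton]
      exact congrArg _ (mul_inv_eq_iff_eq_mul.2 (congrArg Subtype.val (hx ⟨t, ht⟩))))
    (fun t ht => by
      simp only [Set.image_singleton]
      exact congrArg _ (mul_inv_eq_iff_eq_mul.2 (congrArg Subtype.val (hy ⟨t, ht⟩))))
    (g := g) (by simp [hg])
  exact ⟨n, hn, by simpa using hnX⟩

/-- The two possible shapes of the class of a central element of `P` outside the centre of `G`. -/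
theorem central_shape (hO : Cfsg.oddCore G = ⊥) (hP : Nat.card ↥(commutator ↥(P : Subgroup G)) ≤ 2)
    (hk : 2 * Nat.card (K2 G) = Nat.card ↥(P : Subgroup G)) {x : ↥(P : Subgroup G)}
    (hx : ∀ t, t * x = x * t) (hxW : x ∉ W P) :
    (fib P x).ncard = 3 ∧ (∀ w ∈ W P, cl P (w * x) = cl P x → w = 1) ∧
    ∀ y : ↥(P : Subgroup G), 3 ≤ (fib P y).ncard → ∃ w ∈ W P, ∃ r ∈ fib P x, y = w * r := by
  obtain ⟨-, hcnt⟩ := counting hO hP hk
  obtain ⟨hkind, hall⟩ := hcnt x (big_of_central hO hx hxW)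
  have hyfib : ∀ y : ↥(P : Subgroup G), 3 ≤ (fib P y).ncard → ∃ w ∈ W P, ∃ r ∈ fib P x, y = w * r := by
    intro y hy
    obtain ⟨w, hw, hwy⟩ := hall y hy
    refine ⟨w, hw, w⁻¹ * y, ?_, (mul_inv_cancel_left w y).symm⟩
    show cl P x = cl P (w⁻¹ * y)
    rw [translate (inv_mem hw) hwy, inv_mul_cancel_left]
  rcases hkind with ⟨h3, htriv⟩ | ⟨-, e, heW, he1, he2, hecl, -⟩
  · exact ⟨h3, htriv, hyfib⟩
  · exfalso
    have hex : ∀ t, t * (e * x) = e * x * t := fun t => by
      rw [← mul_assoc, W_central heW t, mul_assoc, hx t, mul_assoc]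
    obtain ⟨n, hn, hnx⟩ := burnside_central hx hex hecl.symm
    have h2 : n * ((e * x : ↥(P : Subgroup G)) : G) * n⁻¹ = x := by
      rw [Subgroup.coe_mul, ← mul_assoc, W_comm heW n, mul_assoc (e : G), mul_assoc (e : G), hnx,
        Subgroup.coe_mul, ← mul_assoc, ← Subgroup.coe_mul, he2, Subgroup.coe_one, one_mul]
    have h := no_swap P hn (X := {(x : G)}) (Y := {((e * x : ↥(P : Subgroup G)) : G)}) (fun t ht => by
        simp only [Set.image_singleton]
        exact congrArg _ (mul_inv_eq_iff_eq_mul.2 (congrArg Subtype.val (hx ⟨t, ht⟩))))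
      (by simp [hnx]) (by simp only [Set.image_singleton, h2])
    exact he1 (mul_eq_right.1 (Subtype.ext (Set.singleton_injective h)).symm)

end Cfsg.Agent.GW.Cons.TwoClasses
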