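import Cfsg.Agent.Lib.GW.ConsTwoClassesLocal

/-!
Exactly half as many classes of 2-elements as elements of a Sylow 2-subgroup: modulo the centre the
Sylow subgroup is a four-group or dihedral of order eight, with fused involutions.
-/

set_option autoImplicit false

namespace Cfsg.Agent.GW.Cons.TwoClasses

open Cfsg.Agent.S3895 (K2 cl cl_eq card_le_classes)
open scoped commutatorElement

universe u

variable {G : Type u} [Group G] [Finite G] {P : Sylow 2 G}

/-- The class of an element outside the big ones. -/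
theorem small_fib {c u : ↥(P : Subgroup G)}
    (hcl : ∀ t u : ↥(P : Subgroup G), t * u = u * t ∨ t * u * t⁻¹ = c * u)
    (hu : ¬ ∀ t, t * u = u * t) (hsmall : (fib P u).ncard < 3) {v : ↥(P : Subgroup G)}
    (hv : v ∈ fib P u) : v = u ∨ v = c * u := by
  push Not at hu
  obtain ⟨t, ht⟩ := hu
  have he := (hcl t u).resolve_left ht
  by_contra hne
  push Not at hne
  have := three_le (a := t * u * t⁻¹) (b := v) (conj_mem_fib u t) hv
    (fun e => ht (mul_inv_eq_iff_eq_mul.1 e.symm)) hne.1.symm (by rw [he]; exact hne.2.symm)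
  omega

theorem not_central_mul {u x : ↥(P : Subgroup G)} (hu : ¬ ∀ t, t * u = u * t)
    (hx : ∀ t, t * x = x * t) : ¬ ∀ t, t * (u * x) = u * x * t := by
  intro h
  refine hu fun t => mul_right_cancel (b := x) ?_
  rw [mul_assoc, h t, mul_assoc, ← hx t, ← mul_assoc]

/-- The case of three central conjugates. -/
theorem abelian_case (hO : Cfsg.oddCore G = ⊥) (hP : Nat.card ↥(commutator ↥(P : Subgroup G)) ≤ 2)
    (hk : 2 * Nat.card (K2 G) = Nat.card ↥(P : Subgroup G)) {x : ↥(P : Subgroup G)}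
    (hx : ∀ t, t * x = x * t) (hxW : x ∉ W P) (hall : ∀ r ∈ fib P x, ∀ t, t * r = r * t) :
    (∀ t u : ↥(P : Subgroup G), t * u = u * t) ∧
      ∀ p : ↥(P : Subgroup G), p ∈ W P ∨ ∃ w ∈ W P, ∃ r ∈ fib P x, p = w * r := by
  obtain ⟨h3, -, hbig⟩ := central_shape hO hP hk hx hxW
  have hcomm : ∀ t u : ↥(P : Subgroup G), t * u = u * t := by
    by_contra hne
    push Not at hne
    obtain ⟨t, u, htu⟩ := hne
    obtain ⟨c, -, hc2, hcz, hcl⟩ := exists_c hP htu
    have hu : ¬ ∀ t, t * u = u * t := fun h => htu (h t)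
    have hsm : ∀ v : ↥(P : Subgroup G), ¬ (∀ t, t * v = v * t) → (fib P v).ncard < 3 := by
      intro v hv
      by_contra hge
      obtain ⟨w, hw, r, hr, rfl⟩ := hbig v (by omega)
      exact hv fun s => by rw [← mul_assoc, W_central hw s, mul_assoc, hall r hr s, mul_assoc]
    have key : ∀ y ∈ fib P x, y = x ∨ y = c * x := by
      intro y hy
      obtain ⟨n, hn, hnx⟩ := burnside_central hx (hall y hy) hy
      have hnu : n * (u : G) * n⁻¹ ∈ (P : Subgroup G) := (Subgroup.mem_normalizer_iff.mp hn u).mp u.2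
      set v : ↥(P : Subgroup G) := ⟨_, hnu⟩ with hvdef
      have h1 := small_fib hcl hu (hsm u hu) (v := v) (mem_fib.2 ⟨n, rfl⟩)
      have h2 := small_fib hcl (not_central_mul hu hx) (hsm _ (not_central_mul hu hx)) (v := v * y)
        (mem_fib.2 ⟨n, by rw [Subgroup.coe_mul, Subgroup.coe_mul, ← hnx, hvdef]; group⟩)
      rcases h1 with e | e <;> rw [e] at h2 <;> rcases h2 with e' | e'
      · exact Or.inl (mul_left_cancel e')
      · refine Or.inr (mul_left_cancel (a := u) ?_)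
        rw [e', ← mul_assoc, ← mul_assoc, hcz u]
      · refine Or.inr (mul_left_cancel (a := c * u) ?_)
        rw [e', ← mul_assoc, mul_assoc c u c, hcz u, ← mul_assoc c c, hc2, one_mul]
      · exact Or.inl (mul_left_cancel (e'.trans (mul_assoc c u x).symm))
    have h2 : (fib P x).ncard ≤ ({x, c * x} : Set ↥(P : Subgroup G)).ncard :=
      Set.ncard_le_ncard (fun y hy => key y hy) (Set.toFinite _)
    have := Set.ncard_insert_le x ({c * x} : Set ↥(P : Subgroup G))
    rw [Set.ncard_singleton] at this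
    omega
  refine ⟨hcomm, fun p => ?_⟩
  by_cases hp : p ∈ W P
  · exact Or.inl hp
  · exact Or.inr (hbig p (big_of_central hO (fun t => hcomm t p) hp))

theorem pair_eq {c : G} (hc2 : c * c = 1) {u v : G} (h : v ∈ ({u, c * u} : Set G)) :
    ({v, c * v} : Set G) = {u, c * u} := by
  rcases h with rfl | rfl
  · rfl
  · rw [← mul_assoc, hc2, one_mul, Set.pair_comm]

/-- Some central element of `P` lies outside the centre of `G`. -/
theorem exists_central (hO : Cfsg.oddCore G = ⊥) (hP : Nat.card ↥(commutator ↥(P : Subgroup G)) ≤ 2)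
    (hk : 2 * Nat.card (K2 G) = Nat.card ↥(P : Subgroup G)) :
    ∃ x : ↥(P : Subgroup G), (∀ t, t * x = x * t) ∧ x ∉ W P := by
  have : Fact (Nat.Prime 2) := ⟨Nat.prime_two⟩
  by_contra hno
  push Not at hno
  obtain ⟨⟨x₀, hx₀⟩, hcnt⟩ := counting hO hP hk
  have hone : ∀ w ∈ W P, (fib P w).ncard = 1 := fun w hw =>
    Set.ncard_eq_one.2 ⟨w, Set.eq_singleton_iff_unique_mem.2 ⟨rfl, fun y hy => fib_of_W hw hy⟩⟩
  have hnc : ¬ ∀ t, t * x₀ = x₀ * t := fun h => by have := hone _ (hno _ h); omega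
  push Not at hnc
  obtain ⟨t₀, ht₀⟩ := hnc
  obtain ⟨c, hc1, hc2, hcz, hcl⟩ := exists_c hP ht₀
  have hcW : c ∈ W P := hno c hcz
  have hcx : cl P (c * x₀) = cl P x₀ := by
    have h : cl P x₀ = cl P (t₀ * x₀ * t₀⁻¹) := conj_mem_fib x₀ t₀
    rw [(hcl t₀ x₀).resolve_left ht₀] at h
    exact h.symm
  rcases (hcnt x₀ hx₀).1 with ⟨-, htriv⟩ | ⟨h4, -⟩
  · exact hc1 (htriv c hcW hcx)
  obtain ⟨v, hv, hvX⟩ : ∃ v ∈ fib P x₀, v ∉ ({x₀, c * x₀} : Set ↥(P : Subgroup G)) := by
    refine Set.exists_mem_notMem_of_ncard_lt_ncard ?_ (Set.toFinite _)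
    have := Set.ncard_insert_le x₀ ({c * x₀} : Set ↥(P : Subgroup G))
    rw [Set.ncard_singleton] at this
    omega
  have hcv : c * v ∈ fib P x₀ := hcx.symm.trans (translate hcW hv)
  have hC2 : (c : G) * c = 1 := congrArg Subtype.val hc2
  have hpair : ∀ (g : G) (u : G), (fun y => g * y * g⁻¹) '' ({u, (c : G) * u} : Set G) =
      {g * u * g⁻¹, (c : G) * (g * u * g⁻¹)} := fun g u => by
    rw [Set.image_pair, show g * ((c : G) * u) * g⁻¹ = (g * (c : G)) * u * g⁻¹ by group, W_comm hcW g]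
    simp only [mul_assoc]
  have hinv : ∀ u : ↥(P : Subgroup G), ∀ t ∈ (P : Subgroup G),
      (fun y => t * y * t⁻¹) '' ({(u : G), (c : G) * u} : Set G) = {(u : G), (c : G) * u} := fun u t ht => by
    rw [hpair]
    refine pair_eq hC2 ?_
    rcases hcl ⟨t, ht⟩ u with h | h
    · exact Or.inl (mul_inv_eq_iff_eq_mul.2 (congrArg Subtype.val h))
    · exact Or.inr (congrArg Subtype.val h)
  obtain ⟨g, hg⟩ := mem_fib.1 hv
  obtain ⟨n, hn, hnX⟩ := Cfsg.Agent.Transfer.Fusion.burnside_fusion_set P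
    (X := {(x₀ : G), (c : G) * x₀}) (Y := {(v : G), (c : G) * v}) (hinv x₀) (hinv v)
    (g := g) (by rw [hpair, hg])
  have hne : ({(x₀ : G), (c : G) * x₀} : Set G) ≠ {(v : G), (c : G) * v} := fun e => hvX (by
    have : (v : G) ∈ ({(x₀ : G), (c : G) * x₀} : Set G) := e ▸ Or.inl rfl
    rcases this with h | h
    · exact Or.inl (Subtype.ext h)
    · exact Or.inr (Subtype.ext h))
  have hnv : n * (v : G) * n⁻¹ ∈ (P : Subgroup G) := (Subgroup.mem_normalizer_iff.mp hn v).mp v.2
  have hin : (⟨_, hnv⟩ : ↥(P : Subgroup G)) ∈ fib P x₀ :=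
    mem_fib.2 ⟨n * g, by show _ = n * (v : G) * n⁻¹; rw [← hg]; group⟩
  have hfib : fib P x₀ = ({x₀, c * x₀, v, c * v} : Set ↥(P : Subgroup G)) := by
    refine (Set.eq_of_subset_of_ncard_le ?_ ?_ (Set.toFinite _)).symm
    · rintro _ (rfl | rfl | rfl | rfl)
      exacts [self_mem_fib _, hcx.symm, hv, hcv]
    · rw [h4]
      have hx : x₀ ≠ c * x₀ := fun e => hc1 (mul_eq_right.1 e.symm)
      have hv' : v ≠ c * v := fun e => hc1 (mul_eq_right.1 e.symm)
      have h1 : x₀ ≠ v := fun e => hvX (Or.inl e.symm)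
      have h2 : c * x₀ ≠ v := fun e => hvX (Or.inr e.symm)
      have h3 : x₀ ≠ c * v := fun e => h2 (by rw [e, ← mul_assoc, hc2, one_mul])
      have h5 : c * x₀ ≠ c * v := fun e => h1 (mul_left_cancel e)
      rw [Set.ncard_insert_of_notMem (by simp [hx, h1, h3]), Set.ncard_insert_of_notMem (by simp [h2, h5]),
        Set.ncard_pair hv']
  have hnY : (fun y => n * y * n⁻¹) '' ({(v : G), (c : G) * v} : Set G) = {(x₀ : G), (c : G) * x₀} := by
    rw [hfib] at hin
    rcases hin with e | e | e | e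
    · rw [hpair]; exact pair_eq hC2 (Or.inl (congrArg Subtype.val e))
    · rw [hpair]; exact pair_eq hC2 (Or.inr (congrArg Subtype.val e))
    all_goals
      exfalso
      refine hne (((MulAut.conj n).injective.image_injective (a₁ := {(x₀ : G), (c : G) * x₀})
        (a₂ := {(v : G), (c : G) * v})) ?_)
      show (fun y => n * y * n⁻¹) '' _ = (fun y => n * y * n⁻¹) '' _
      rw [hnX, hpair, eq_comm]
    · exact pair_eq hC2 (Or.inl (congrArg Subtype.val e))
    · exact pair_eq hC2 (Or.inr (congrArg Subtype.val e))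
  exact hne (no_swap P hn (hinv x₀) hnX hnY)

/-- What is used of the Sylow subgroup modulo the centre. -/
def Shape (P : Sylow 2 G) : Prop :=
  (∃ m : ℕ, 2 ≤ m ∧ Nonempty (↥((P : Subgroup G).map (QuotientGroup.mk' (Subgroup.center G))) ≃*
      DihedralGroup m)) ∧
  (∃ x ∈ (P : Subgroup G).map (QuotientGroup.mk' (Subgroup.center G)),
    ∃ y ∈ (P : Subgroup G).map (QuotientGroup.mk' (Subgroup.center G)), x ≠ y ∧
      (∀ s ∈ (P : Subgroup G).map (QuotientGroup.mk' (Subgroup.center G)), s * x = x * s) ∧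
      ∃ g : G ⧸ Subgroup.center G, g * x * g⁻¹ = y) ∧
  ∃ F : Subgroup G, commutator G ⊓ (P : Subgroup G) ≤ F ∧ Subgroup.center G ≤ F ∧
    Nat.card ↥(F.map (QuotientGroup.mk' (Subgroup.center G))) ≤ 4

theorem mk_eq_iff {p q : ↥(P : Subgroup G)} :
    QuotientGroup.mk' (Subgroup.center G) (p : G) = QuotientGroup.mk' (Subgroup.center G) q ↔
      p⁻¹ * q ∈ W P := QuotientGroup.eq

theorem mk_W {w : ↥(P : Subgroup G)} (hw : w ∈ W P) :
    QuotientGroup.mk' (Subgroup.center G) (w : G) = 1 := (QuotientGroup.eq_one_iff _).2 hw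

theorem mk_eq_one {p : ↥(P : Subgroup G)}
    (h : QuotientGroup.mk' (Subgroup.center G) (p : G) = 1) : p ∈ W P := (QuotientGroup.eq_one_iff (p : G)).1 h

/-- The case of an abelian Sylow subgroup. -/
theorem shape_abelian (hO : Cfsg.oddCore G = ⊥) {x : ↥(P : Subgroup G)} (hxW : x ∉ W P)
    (h3 : (fib P x).ncard = 3) (htriv : ∀ w ∈ W P, cl P (w * x) = cl P x → w = 1)
    (hcomm : ∀ t u : ↥(P : Subgroup G), t * u = u * t)
    (hcov : ∀ p : ↥(P : Subgroup G), p ∈ W P ∨ ∃ w ∈ W P, ∃ r ∈ fib P x, p = w * r) : Shape P := by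
  have : Fact (Nat.Prime 2) := ⟨Nat.prime_two⟩
  set π := QuotientGroup.mk' (Subgroup.center G) with hπ
  set T := (P : Subgroup G).map π with hT
  obtain ⟨y, hy, hyx⟩ := Set.exists_mem_notMem_of_ncard_lt_ncard
    (s := {x}) (t := fib P x) (by rw [Set.ncard_singleton, h3]; norm_num) (Set.toFinite _)
  have hxy : x ≠ y := fun e => hyx e.symm
  have hsubW : ∀ r ∈ fib P x, r ∉ W P := fun r hr hrW => hxW (by
    have hr' : x ∈ fib P r := hr.symm
    rwa [fib_of_W hrW hr'])
  have hxy' : π (x : G) ≠ π y := fun e => by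
    have hw := mk_eq_iff.1 e
    have hyw : x⁻¹ * y * x = y := by rw [hcomm x⁻¹ y, inv_mul_cancel_right]
    have h1 := htriv _ hw (by rw [hyw]; exact hy.symm)
    exact hxy (inv_mul_eq_one.1 h1)
  have hTmem : ∀ q ∈ T, q = 1 ∨ ∃ r ∈ fib P x, q = π r := by
    rintro _ ⟨p, hp, rfl⟩
    rcases hcov ⟨p, hp⟩ with h | ⟨w, hw, r, hr, he⟩
    · exact Or.inl (mk_W h)
    · refine Or.inr ⟨r, hr, ?_⟩
      rw [show p = ((w * r : ↥(P : Subgroup G)) : G) from congrArg Subtype.val he, Subgroup.coe_mul,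
        map_mul, mk_W hw, one_mul]
  have hord : ∀ q ∈ T, q = 1 ∨ orderOf q = orderOf (π (x : G)) := fun q hq => by
    rcases hTmem q hq with h | ⟨r, hr, rfl⟩
    · exact Or.inl h
    · obtain ⟨g, hg⟩ := mem_fib.1 hr
      exact Or.inr (by rw [← hg, map_mul, map_mul, map_inv, Involutions.Basic.orderOf_conj])
  have hTle : Nat.card T ≤ 4 := by
    have hs : (T : Set (G ⧸ Subgroup.center G)) ⊆
        insert 1 ((fun r : ↥(P : Subgroup G) => π (r : G)) '' fib P x) := fun q hq => by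
      rcases hTmem q hq with h | ⟨r, hr, rfl⟩
      · exact Or.inl h
      · exact Or.inr ⟨r, hr, rfl⟩
    have h1 := Set.ncard_le_ncard hs (Set.toFinite _)
    have h2 := Set.ncard_insert_le (1 : G ⧸ Subgroup.center G)
      ((fun r : ↥(P : Subgroup G) => π (r : G)) '' fib P x)
    have h4 := Set.ncard_image_le (s := fib P x) (f := fun r : ↥(P : Subgroup G) => π (r : G)) (Set.toFinite _)
    have h5 : Nat.card T = (T : Set (G ⧸ Subgroup.center G)).ncard := Nat.card_coe_set_eq _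
    omega
  have hx1 : π (x : G) ≠ 1 := fun e => hxW (mk_eq_one e)
  have hy1 : π (y : G) ≠ 1 := fun e => hsubW y hy (mk_eq_one e)
  have hxT : π (x : G) ∈ T := ⟨x, x.2, rfl⟩
  have hyT : π (y : G) ∈ T := ⟨y, y.2, rfl⟩
  have hTp : IsPGroup 2 T := P.2.map π
  have hT4 : Nat.card T = 4 := by
    have h3' : ({1, π (x : G), π (y : G)} : Set (G ⧸ Subgroup.center G)).ncard ≤ Nat.card T := by
      rw [show Nat.card T = (T : Set (G ⧸ Subgroup.center G)).ncard from Nat.card_coe_set_eq _]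
      refine Set.ncard_le_ncard ?_ (Set.toFinite _)
      rintro _ (rfl | rfl | rfl)
      exacts [one_mem T, hxT, hyT]
    rw [Set.ncard_eq_three.mpr ⟨_, _, _, hx1.symm, hy1.symm, hxy', rfl⟩] at h3'
    obtain ⟨j, hj⟩ := hTp.exists_card_eq
    rcases Nat.lt_or_ge j 3 with h | h
    · interval_cases j <;> omega
    · have := Nat.pow_le_pow_right two_pos h
      omega
  have hTsq : ∀ q ∈ T, q * q = 1 := by
    obtain ⟨⟨e, heT⟩, he⟩ := exists_prime_orderOf_dvd_card' (G := T) 2 (by rw [hT4]; norm_num)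
    rw [Subgroup.orderOf_mk] at he
    have h2 : orderOf (π (x : G)) = 2 := by
      rcases hord e heT with h | h
      · rw [h, orderOf_one] at he; omega
      · omega
    intro q hq
    rcases hord q hq with h | h
    · rw [h, one_mul]
    · exact Involutions.Basic.inv_sq_one (h.trans h2)
  haveI : IsKleinFour T := (Involutions.TwoGroups.isKleinFour_iff T).2 ⟨hT4, hTsq⟩
  refine ⟨⟨2, le_rfl, IsKleinFour.nonempty_mulEquiv⟩, ⟨π x, hxT, π y, hyT, hxy', ?_, ?_⟩,
    (P : Subgroup G), inf_le_right, center_le_sylow hO, hT4.le⟩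
  · rintro _ ⟨p, hp, rfl⟩
    rw [← map_mul, ← map_mul]
    exact congrArg π (congrArg Subtype.val (hcomm ⟨p, hp⟩ x))
  · obtain ⟨g, hg⟩ := mem_fib.1 hy
    exact ⟨π g, by rw [← hg, map_mul, map_mul, map_inv]⟩

set_option maxHeartbeats 1000000 in
/-- The case of a dihedral section. -/
theorem shape_dihedral (hO : Cfsg.oddCore G = ⊥) (hP : Nat.card ↥(commutator ↥(P : Subgroup G)) ≤ 2)
    (hk : 2 * Nat.card (K2 G) = Nat.card ↥(P : Subgroup G)) {c a : ↥(P : Subgroup G)}
    (hc1 : c ≠ 1) (hc2 : c * c = 1) (hcz : ∀ t, t * c = c * t)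
    (hcl : ∀ t u : ↥(P : Subgroup G), t * u = u * t ∨ t * u * t⁻¹ = c * u) (hcW : c ∉ W P)
    (ha : a ∈ fib P c) (hanc : ¬ ∀ t, t * a = a * t) : Shape P := by
  have : Fact (Nat.Prime 2) := ⟨Nat.prime_two⟩
  obtain ⟨h3, -, hbig⟩ := central_shape hO hP hk hcz hcW
  push Not at hanc
  obtain ⟨t₀, ht₀⟩ := hanc
  have hca : c * a ∈ fib P c := by
    have h : cl P a = cl P (t₀ * a * t₀⁻¹) := conj_mem_fib a t₀
    rw [(hcl t₀ a).resolve_left ht₀] at h
    exact Eq.trans ha h
  have hac : a ≠ c := fun e => ht₀ (by rw [e]; exact hcz t₀)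
  have hcac : c * a ≠ c := fun e => by
    rw [mul_eq_left] at e
    exact ht₀ (by rw [e, mul_one, one_mul])
  have hfib : ∀ r ∈ fib P c, r = c ∨ r = a ∨ r = c * a := by
    have hsub : ({c, a, c * a} : Set ↥(P : Subgroup G)) ⊆ fib P c := by
      rintro _ (rfl | rfl | rfl)
      exacts [self_mem_fib _, ha, hca]
    have heq := Set.eq_of_subset_of_ncard_le hsub (by
      rw [h3, Set.ncard_eq_three.mpr ⟨c, a, c * a, hac.symm, hcac.symm,
        fun e => hc1 (mul_eq_right.1 e.symm), rfl⟩]) (Set.toFinite _)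
    intro r hr
    rw [← heq] at hr
    exact hr
  -- involutions
  obtain ⟨g₀, hg₀⟩ := mem_fib.1 ha
  have ha2 : a * a = 1 := Subtype.ext (by
    rw [Subgroup.coe_mul, ← hg₀, show g₀ * (c : G) * g₀⁻¹ * (g₀ * (c : G) * g₀⁻¹) =
      g₀ * ((c : G) * c) * g₀⁻¹ by group, show (c : G) * c = 1 from congrArg Subtype.val hc2]
    simp)
  -- `Z(P) = W ∪ Wc`
  have hcent : ∀ z, (∀ t, t * z = z * t) → z ∈ W P ∨ z * c ∈ W P := by
    intro z hz
    by_cases hzW : z ∈ W P
    · exact Or.inl hzW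
    obtain ⟨w, hw, r, hr, rfl⟩ := hbig z (big_of_central hO hz hzW)
    rcases hfib r hr with rfl | rfl | rfl
    · exact Or.inr (by rw [mul_assoc, hc2, mul_one]; exact hw)
    · refine absurd ?_ ht₀
      have := hz t₀
      rw [← mul_assoc, W_central hw t₀, mul_assoc, mul_assoc] at this
      exact mul_left_cancel this
    · refine absurd ?_ ht₀
      have := hz t₀
      rw [← mul_assoc, W_central hw t₀, mul_assoc, mul_assoc] at this
      have := mul_left_cancel this
      rw [← mul_assoc, hcz t₀, mul_assoc, mul_assoc] at this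
      exact mul_left_cancel this
  -- the centraliser of `a` is abelian
  set A := Subgroup.centralizer ({(a : G)} : Set G) ⊓ (P : Subgroup G) with hA
  have habel : ∀ u v : ↥(P : Subgroup G), u * a = a * u → v * a = a * v → u * v = v * u := by
    intro u v hu hv
    by_contra huv
    have e := (hcl u v).resolve_left huv
    have hPC : (P : Subgroup G) ≤ Subgroup.centralizer ({(c : G)} : Set G) := fun p hp =>
      Subgroup.mem_centralizer_singleton_iff.2 (congrArg Subtype.val (hcz ⟨p, hp⟩))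
    set B := A.map (MulAut.conj g₀⁻¹).toMonoidHom with hB
    have hgc : (g₀⁻¹ * (a : G) * g₀) = c := by rw [← hg₀]; group
    have hBC : B ≤ Subgroup.centralizer ({(c : G)} : Set G) := by
      rintro _ ⟨q, ⟨hq, -⟩, rfl⟩
      refine Subgroup.mem_centralizer_singleton_iff.2 ?_
      simp only [MulEquiv.coe_toMonoidHom, MulAut.conj_apply]
      rw [← hgc]
      have := Subgroup.mem_centralizer_singleton_iff.1 hq
      calc g₀⁻¹ * q * g₀⁻¹⁻¹ * (g₀⁻¹ * (a : G) * g₀) = g₀⁻¹ * (q * a) * g₀ := by group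
        _ = g₀⁻¹ * ((a : G) * q) * g₀ := by rw [this]
        _ = _ := by group
    obtain ⟨k, hkC, hkle⟩ := Cfsg.Agent.Transfer.Fusion.exists_conj_le_of_isPGroup P hPC
      ((P.2.to_le inf_le_right).map _) hBC
    set d := k * g₀⁻¹ with hd
    have hmap : ∀ q ∈ A, d * q * d⁻¹ ∈ (P : Subgroup G) := fun q hq => by
      have := hkle (Subgroup.mem_map_of_mem _ (Subgroup.mem_map_of_mem _ hq : _ ∈ B))
      simp only [MulEquiv.coe_toMonoidHom, MulAut.conj_apply] at this
      rwa [show d * q * d⁻¹ = k * (g₀⁻¹ * q * g₀⁻¹⁻¹) * k⁻¹ by rw [hd]; group]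
    have hda : d * (a : G) * d⁻¹ = c := by
      rw [hd, show k * g₀⁻¹ * (a : G) * (k * g₀⁻¹)⁻¹ = k * (g₀⁻¹ * (a : G) * g₀) * k⁻¹ by group, hgc,
        Subgroup.mem_centralizer_singleton_iff.1 hkC, mul_inv_cancel_right]
    have hmA : ∀ q : ↥(P : Subgroup G), q * a = a * q → (q : G) ∈ A := fun q hq =>
      ⟨Subgroup.mem_centralizer_singleton_iff.2 (congrArg Subtype.val hq), q.2⟩
    set u' : ↥(P : Subgroup G) := ⟨_, hmap _ (hmA u hu)⟩ with hu'
    set v' : ↥(P : Subgroup G) := ⟨_, hmap _ (hmA v hv)⟩ with hv'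
    have hgen : d * ((u : G) * v * (u : G)⁻¹) * d⁻¹ =
        ((u' * v' * u'⁻¹ : ↥(P : Subgroup G)) : G) := by
      rw [Subgroup.coe_mul, Subgroup.coe_mul, Subgroup.coe_inv, hu', hv']
      group
    have he : (u : G) * v * (u : G)⁻¹ = (c : G) * v := congrArg Subtype.val e
    rw [he] at hgen
    have hdc : d * (c : G) * d⁻¹ * (v' : G) = ((u' * v' * u'⁻¹ : ↥(P : Subgroup G)) : G) := by
      rw [← hgen, hv']; group
    rcases hcl u' v' with h | h
    · rw [mul_inv_eq_iff_eq_mul.2 h] at hdc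
      have h1 : d * (c : G) * d⁻¹ = 1 := mul_eq_right.1 hdc
      exact hc1 (Subtype.ext (conj_eq_one_iff.1 h1))
    · rw [h, Subgroup.coe_mul] at hdc
      have h1 : d * (c : G) * d⁻¹ = d * (a : G) * d⁻¹ := (mul_right_cancel hdc).trans hda.symm
      exact hac (Subtype.ext (mul_left_cancel (mul_right_cancel h1))).symm
  -- the elements commuting with `a`
  have ht₀' : ∀ p, p * a ≠ a * p → ∃ u, u * a = a * u ∧ p = t₀ * u := by
    intro p hp
    refine ⟨t₀⁻¹ * p, ?_, (mul_inv_cancel_left t₀ p).symm⟩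
    have h1 := (hcl p a).resolve_left hp
    have h2 := (hcl t₀ a).resolve_left ht₀
    have h3 : p * a * p⁻¹ = t₀ * a * t₀⁻¹ := h1.trans h2.symm
    calc t₀⁻¹ * p * a = t₀⁻¹ * (p * a * p⁻¹) * p := by group
      _ = t₀⁻¹ * (t₀ * a * t₀⁻¹) * p := by rw [h3]
      _ = a * (t₀⁻¹ * p) := by group
  have hC0 : ∀ u, u * a = a * u → u ∈ W P ∨ u * c ∈ W P ∨ u * a ∈ W P ∨ u * a * c ∈ W P := by
    have hcentral : ∀ u, u * a = a * u → t₀ * u = u * t₀ → ∀ p, p * u = u * p := by
      intro u hu htu p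
      by_cases hp : p * a = a * p
      · exact habel p u hp hu
      · obtain ⟨v, hv, rfl⟩ := ht₀' p hp
        rw [mul_assoc, habel v u hv hu, ← mul_assoc, htu, mul_assoc]
    intro u hu
    rcases hcl t₀ u with h | h
    · rcases hcent u (hcentral u hu h) with h' | h'
      · exact Or.inl h'
      · exact Or.inr (Or.inl h')
    · have hua : (u * a) * a = a * (u * a) := by rw [← mul_assoc, hu]
      have h' : t₀ * (u * a) = u * a * t₀ := by
        refine mul_inv_eq_iff_eq_mul.1 ?_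
        calc t₀ * (u * a) * t₀⁻¹ = (t₀ * u * t₀⁻¹) * (t₀ * a * t₀⁻¹) := by group
          _ = c * u * (c * a) := by rw [h, (hcl t₀ a).resolve_left ht₀]
          _ = c * (u * c) * a := by group
          _ = u * a := by rw [hcz u, ← mul_assoc, hc2, one_mul]
      rcases hcent _ (hcentral _ hua h') with h'' | h''
      · exact Or.inr (Or.inr (Or.inl h''))
      · exact Or.inr (Or.inr (Or.inr h''))
  -- an element outside squaring into the centre
  obtain ⟨t, ht, ht2⟩ : ∃ t, t * a ≠ a * t ∧ t * t ∈ W P := by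
    have hsq : ∀ p : ↥(P : Subgroup G), p * (t₀ * t₀) = t₀ * t₀ * p := by
      intro p
      refine (mul_inv_eq_iff_eq_mul.1 ?_).symm
      calc t₀ * t₀ * p * (t₀ * t₀)⁻¹ = t₀ * (t₀ * p * t₀⁻¹) * t₀⁻¹ := by group
        _ = p := by
          rcases hcl t₀ p with h | h
          · rw [mul_inv_eq_iff_eq_mul.2 h, mul_inv_eq_iff_eq_mul.2 h]
          · rw [h, ← mul_assoc, hcz t₀, show c * t₀ * p * t₀⁻¹ = c * (t₀ * p * t₀⁻¹) by group, h,
              ← mul_assoc, hc2, one_mul]
    rcases hcent _ hsq with h | h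
    · exact ⟨t₀, ht₀, h⟩
    · refine ⟨t₀ * a, fun e => ht₀ ?_, ?_⟩
      · rw [← mul_assoc] at e
        exact mul_right_cancel e
      · rwa [show t₀ * a * (t₀ * a) = (t₀ * a * t₀⁻¹) * (t₀ * t₀) * a by group,
          (hcl t₀ a).resolve_left ht₀, mul_assoc c a, mul_assoc c, mul_assoc a, ← hsq a, ← mul_assoc a,
          ha2, one_mul, ← hcz]
  set π := QuotientGroup.mk' (Subgroup.center G) with hπ
  set T := (P : Subgroup G).map π with hT
  have hTp : IsPGroup 2 T := P.2.map π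
  have hmk : ∀ {p : ↥(P : Subgroup G)} (q : ↥(P : Subgroup G)), q * q = 1 → p * q ∈ W P →
      π (p : G) = π q := fun {p} q hq h => by
    have := mk_W h
    rw [Subgroup.coe_mul, map_mul] at this
    refine (eq_inv_of_mul_eq_one_left this).trans ?_
    rw [← map_inv, ← Subgroup.coe_inv, inv_eq_of_mul_eq_one_right hq]
  have hA4 : ∀ u, u * a = a * u →
      π (u : G) = 1 ∨ π (u : G) = π c ∨ π (u : G) = π a ∨ π (u : G) = π ((a * c : ↥(P : Subgroup G)) : G) := by
    intro u hu
    rcases hC0 u hu with h | h | h | h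
    · exact Or.inl (mk_W h)
    · exact Or.inr (Or.inl (hmk c hc2 h))
    · exact Or.inr (Or.inr (Or.inl (hmk a ha2 h)))
    · refine Or.inr (Or.inr (Or.inr (hmk (a * c) ?_ (by rwa [← mul_assoc]))))
      rw [mul_assoc, ← mul_assoc c, ← hcz a, mul_assoc a c c, hc2, mul_one, ha2]
  set K : Set (G ⧸ Subgroup.center G) := {1, π c, π a, π ((a * c : ↥(P : Subgroup G)) : G)} with hK
  have hKc : K.ncard ≤ 4 := by
    refine (Set.ncard_insert_le _ _).trans ?_
    refine Nat.succ_le_succ ((Set.ncard_insert_le _ _).trans ?_)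
    refine Nat.succ_le_succ ((Set.ncard_insert_le _ _).trans ?_)
    rw [Set.ncard_singleton]
  -- two non-commuting involutions
  have hnc : π (t : G) * π a ≠ π a * π t := fun e => by
    rw [← map_mul, ← map_mul, ← Subgroup.coe_mul, ← Subgroup.coe_mul] at e
    have h1 := mk_eq_iff.1 e
    have h2 : a * t = t * a * c := by
      have := (hcl t a).resolve_left ht
      rw [mul_inv_eq_iff_eq_mul] at this
      rw [this, hcz (c * a * t), ← mul_assoc, ← mul_assoc, hc2, one_mul]
    rw [h2, inv_mul_cancel_left] at h1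
    exact hcW h1
  have hT8 : Nat.card T = 8 := by
    have hsub : (T : Set (G ⧸ Subgroup.center G)) ⊆ K ∪ (fun q => π (t₀ : G) * q) '' K := by
      rintro _ ⟨p, hp, rfl⟩
      by_cases h : (⟨p, hp⟩ : ↥(P : Subgroup G)) * a = a * ⟨p, hp⟩
      · exact Or.inl (by simpa [hK] using hA4 _ h)
      · obtain ⟨v, hv, hpv⟩ := ht₀' _ h
        refine Or.inr ⟨π v, by simpa [hK] using hA4 v hv, ?_⟩
        show π (t₀ : G) * π v = π p
        rw [← map_mul, show p = (t₀ : G) * v from congrArg Subtype.val hpv]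
    have h1 := (Set.ncard_le_ncard hsub (Set.toFinite _)).trans (Set.ncard_union_le _ _)
    have h2 := Set.ncard_image_le (s := K) (f := fun q => π (t₀ : G) * q) (Set.toFinite _)
    have h5 : Nat.card T = (T : Set (G ⧸ Subgroup.center G)).ncard := Nat.card_coe_set_eq _
    obtain ⟨j, hj⟩ := hTp.exists_card_eq
    rcases Nat.lt_or_ge j 3 with hj3 | hj3
    · exfalso
      have hcomm : ∀ p q : T, p * q = q * p := by
        interval_cases j
        · have := (Nat.card_eq_one_iff_unique.1 (hj.trans (pow_zero 2))).1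
          exact fun p q => Subsingleton.elim _ _
        · haveI : IsCyclic T := isCyclic_of_prime_card (p := 2) (by simpa using hj)
          letI := IsCyclic.commGroup (α := T)
          exact mul_comm
        · letI := IsPGroup.commGroupOfCardEqPrimeSq (p := 2) hj
          exact mul_comm
      exact hnc (congrArg Subtype.val (hcomm ⟨π t, t, t.2, rfl⟩ ⟨π a, a, a.2, rfl⟩))
    · have h3' := Nat.pow_le_pow_right two_pos hj3
      omega
  obtain ⟨eT⟩ := AutPOmega.Groups.dihedral_four hT8 (a := (⟨π t, t, t.2, rfl⟩ : T)) (b := ⟨π a, a, a.2, rfl⟩)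
    (Subtype.ext (by
      show π (t : G) * π t = 1
      rw [← map_mul, ← Subgroup.coe_mul, mk_W ht2]))
    (Subtype.ext (by
      show π (a : G) * π a = 1
      rw [← map_mul, ← Subgroup.coe_mul, ha2, Subgroup.coe_one, map_one]))
    fun e => hnc (congrArg Subtype.val e)
  refine ⟨⟨4, by norm_num, ⟨eT⟩⟩, ⟨π c, ⟨c, c.2, rfl⟩, π a, ⟨a, a.2, rfl⟩, ?_, ?_, π g₀, ?_⟩, A, ?_, ?_, ?_⟩
  · intro e
    have h := mk_eq_iff.1 e
    refine ht₀ ?_
    have : ∀ p, p * (c⁻¹ * a) = c⁻¹ * a * p := fun p => W_central h p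
    have h1 := this t₀
    rw [← mul_assoc, inv_eq_of_mul_eq_one_right hc2, hcz t₀, mul_assoc, mul_assoc] at h1
    exact mul_left_cancel h1
  · rintro _ ⟨p, hp, rfl⟩
    rw [← map_mul, ← map_mul]
    exact congrArg π (congrArg Subtype.val (hcz ⟨p, hp⟩))
  · rw [← hg₀, map_mul, map_mul, map_inv]
  · refine Cfsg.Agent.Transfer.Fusion.focal_le_of_fusion P fun p hp g hg => ⟨g, rfl, ?_⟩
    set p' : ↥(P : Subgroup G) := ⟨p, hp⟩ with hp'
    set q : ↥(P : Subgroup G) := ⟨_, hg⟩ with hq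
    have hq' : q ∈ fib P p' := mem_fib.2 ⟨g, rfl⟩
    have hcomA : ∀ w ∈ W P, ∀ r ∈ fib P c, (w * r) * a = a * (w * r) := by
      intro w hw r hr
      rw [mul_assoc, ← mul_assoc a, W_central hw a, mul_assoc]
      congr 1
      rcases hfib r hr with rfl | rfl | rfl
      · exact (hcz a).symm
      · rfl
      · rw [mul_assoc, ← mul_assoc a c, hcz a, mul_assoc]
    have key : (p' * q⁻¹) * a = a * (p' * q⁻¹) := by
      by_cases hp1 : p' ∈ W P
      · rw [fib_of_W hp1 hq', mul_inv_cancel, one_mul, mul_one]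
      by_cases hb : 3 ≤ (fib P p').ncard
      · obtain ⟨w, hw, r, hr, he⟩ := hbig p' hb
        obtain ⟨r', hr', he'⟩ : ∃ r' ∈ fib P c, q = w * r' := by
          refine ⟨w⁻¹ * q, ?_, (mul_inv_cancel_left w q).symm⟩
          show cl P c = cl P (w⁻¹ * q)
          rw [← translate (inv_mem hw) (x := p') hq', he, inv_mul_cancel_left]
          exact hr
        have h1 : Commute p' a := by rw [he]; exact hcomA w hw r hr
        have h2 : Commute q a := by rw [he']; exact hcomA w hw r' hr'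
        exact (h1.mul_left h2.inv_left).eq
      · have hncp : ¬ ∀ t, t * p' = p' * t := fun h => hb (big_of_central hO h hp1)
        rcases small_fib hcl hncp (by omega) hq' with e | e
        · rw [e, mul_inv_cancel, one_mul, mul_one]
        · rw [e, _root_.mul_inv_rev, mul_inv_cancel_left, inv_eq_of_mul_eq_one_right hc2, hcz a]
    refine ⟨Subgroup.mem_centralizer_singleton_iff.2 ?_, ?_⟩
    · have := congrArg Subtype.val key
      simp only [Subgroup.coe_mul, Subgroup.coe_inv, hq, hp'] at this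
      rw [commutatorElement_def, show p * g * p⁻¹ * g⁻¹ = p * (g * p * g⁻¹)⁻¹ by group]
      exact this
    · rw [commutatorElement_def, show p * g * p⁻¹ * g⁻¹ = p * (g * p * g⁻¹)⁻¹ by group]
      exact (P : Subgroup G).mul_mem hp ((P : Subgroup G).inv_mem hg)
  · exact fun z hz => ⟨Subgroup.mem_centralizer_singleton_iff.2 (Subgroup.mem_center_iff.1 hz a).symm,
      center_le_sylow hO hz⟩
  · have hs : ((A.map π : Subgroup _) : Set (G ⧸ Subgroup.center G)) ⊆ K := by
      rintro _ ⟨p, ⟨hp1, hp2⟩, rfl⟩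
      simpa [hK] using hA4 ⟨p, hp2⟩ (Subtype.ext (Subgroup.mem_centralizer_singleton_iff.1 hp1))
    exact (Nat.card_coe_set_eq _).trans_le ((Set.ncard_le_ncard hs (Set.toFinite _)).trans hKc)

/-- The shape of the Sylow subgroup modulo the centre. -/
theorem shape (hO : Cfsg.oddCore G = ⊥)
    (hk : 2 * Nat.card (K2 G) = Nat.card ↥(P : Subgroup G)) : Shape P := by
  have : Fact (Nat.Prime 2) := ⟨Nat.prime_two⟩
  have hP := commutator_small (H := ↥(P : Subgroup G)) P.2
    (hk ▸ Nat.mul_le_mul_left 2 (card_le_classes P))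
  obtain ⟨x, hx, hxW⟩ := exists_central hO hP hk
  obtain ⟨h3, htriv, -⟩ := central_shape hO hP hk hx hxW
  by_cases hall : ∀ r ∈ fib P x, ∀ t, t * r = r * t
  · obtain ⟨hcomm, hcov⟩ := abelian_case hO hP hk hx hxW hall
    exact shape_abelian hO hxW h3 htriv hcomm hcov
  push Not at hall
  obtain ⟨a, ha, t, hta⟩ := hall
  obtain ⟨c, hc1, hc2, hcz, hcl⟩ := exists_c hP hta
  have hcW : c ∉ W P := fun hcW => by
    have h : cl P a = cl P (t * a * t⁻¹) := conj_mem_fib a t
    rw [(hcl t a).resolve_left hta] at h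
    exact hc1 (htriv c hcW ((translate hcW ha).trans (h.symm.trans ha.symm)))
  by_cases hall' : ∀ r ∈ fib P c, ∀ t, t * r = r * t
  · exact absurd ((abelian_case hO hP hk hcz hcW hall').1 t a) hta
  push Not at hall'
  obtain ⟨b, hb, s, hsb⟩ := hall'
  exact shape_dihedral hO hP hk hc1 hc2 hcz hcl hcW hb fun h => hsb (h s)

end Cfsg.Agent.GW.Cons.TwoClasses
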