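import Cfsg.Agent.Lib.GW.CountTorusPSL

/-!
# Elementary counts for the conjugate count of the dihedral Sylow theorem
-/

set_option autoImplicit false
set_option linter.style.haveILetI false
set_option linter.unusedSectionVars false

namespace Cfsg.Agent.GW.Count

open Subgroup

universe u

variable {G : Type u} [Group G] [Finite G]

/-- Orbit and stabilizer for the conjugation action of a subgroup on one element. -/
theorem ncard_conj_mul (K : Subgroup G) (z : G) :
    {x : G | ∃ k ∈ K, x = k * z * k⁻¹}.ncard * Nat.card (K ⊓ centralizer ({z} : Set G) : Subgroup G) =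
      Nat.card K := by
  classical
  set D := (centralizer ({z} : Set G)).subgroupOf K with hD
  have hcard : Nat.card (K ⊓ centralizer ({z} : Set G) : Subgroup G) = Nat.card D := by
    rw [hD, ← inf_subgroupOf_left]
    exact (Nat.card_congr (subgroupOfEquivOfLe inf_le_left).toEquiv).symm
  have hwd : ∀ a b : K, (QuotientGroup.leftRel D) a b →
      (a : G) * z * (a : G)⁻¹ = (b : G) * z * (b : G)⁻¹ := fun a b h => by
    rw [QuotientGroup.leftRel_apply, hD, mem_subgroupOf, mem_centralizer_singleton_iff] at h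
    simp only [coe_mul, InvMemClass.coe_inv] at h
    calc (a : G) * z * (a : G)⁻¹ = a * (z * ((a : G)⁻¹ * b)) * (b : G)⁻¹ := by group
      _ = a * ((a : G)⁻¹ * b * z) * (b : G)⁻¹ := by rw [h]
      _ = b * z * (b : G)⁻¹ := by group
  let f : K ⧸ D → {x : G | ∃ k ∈ K, x = k * z * k⁻¹} :=
    fun x => ⟨Quotient.liftOn' x (fun a : K => (a : G) * z * (a : G)⁻¹) hwd, by
      induction x using QuotientGroup.induction_on with
      | _ a => exact ⟨a, a.2, rfl⟩⟩
  have hf : Function.Bijective f := by
    refine ⟨fun x y => ?_, ?_⟩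
    · induction x using QuotientGroup.induction_on with
      | _ a => induction y using QuotientGroup.induction_on with
        | _ b =>
          intro h
          have h' : (a : G) * z * (a : G)⁻¹ = (b : G) * z * (b : G)⁻¹ := congrArg Subtype.val h
          rw [QuotientGroup.eq, hD, mem_subgroupOf, mem_centralizer_singleton_iff]
          simp only [coe_mul, InvMemClass.coe_inv]
          calc (a : G)⁻¹ * b * z = (a : G)⁻¹ * ((b : G) * z * (b : G)⁻¹) * b := by group
            _ = (a : G)⁻¹ * ((a : G) * z * (a : G)⁻¹) * b := by rw [h']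
            _ = z * ((a : G)⁻¹ * b) := by group
    · rintro ⟨x, k, hk, rfl⟩
      exact ⟨((⟨k, hk⟩ : K) : K ⧸ D), rfl⟩
  rw [← Nat.card_coe_set_eq, ← Nat.card_congr (Equiv.ofBijective f hf), hcard,
    ← Subgroup.card_eq_card_quotient_mul_card_subgroup]

/-- A conjugacy class against two independent subgroups of a centralizer. -/
theorem card_class_mul_le {E A : Subgroup G} {z : G} (hE : E ≤ centralizer ({z} : Set G))
    (hA : A ≤ centralizer ({z} : Set G)) (hd : E ⊓ A = ⊥) :
    {x : G | IsConj z x}.ncard * (Nat.card E * Nat.card A) ≤ Nat.card G := by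
  have hset : {x : G | IsConj z x} = {x : G | ∃ k ∈ (⊤ : Subgroup G), x = k * z * k⁻¹} :=
    Set.ext fun x => by
      simp only [Set.mem_ofPred_eq, mem_top, true_and, isConj_iff]
      exact exists_congr fun k => eq_comm
  have h := ncard_conj_mul (⊤ : Subgroup G) z
  rw [← hset, top_inf_eq, card_top] at h
  rw [← h, ← Nat.card_prod]
  refine Nat.mul_le_mul_left _ (Nat.card_le_card_of_injective
    (fun x : E × A => (⟨x.1 * x.2, mul_mem (hE x.1.2) (hA x.2.2)⟩ : centralizer ({z} : Set G))) ?_)
  rintro ⟨e, a⟩ ⟨e', a'⟩ hh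
  have hh' : (e : G) * a = e' * a' := congrArg Subtype.val hh
  have h1 : (e' : G)⁻¹ * e = (a' : G) * (a : G)⁻¹ := by
    rw [eq_mul_inv_iff_mul_eq, mul_assoc, hh', inv_mul_cancel_left]
  have h2 : (e' : G)⁻¹ * e ∈ E ⊓ A :=
    ⟨E.mul_mem (E.inv_mem e'.2) e.2, h1 ▸ A.mul_mem a'.2 (A.inv_mem a.2)⟩
  rw [hd, mem_bot] at h2
  have h3 : (e' : G) = e := inv_mul_eq_one.1 h2
  rw [h3, mul_left_cancel_iff] at hh'
  exact Prod.ext (Subtype.ext h3.symm) (Subtype.ext hh')

/-- Twice the inclusion-exclusion lower bound for a union. -/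
theorem two_mul_sum_card_le {ι α : Type*} [DecidableEq ι] [DecidableEq α] (s : Finset ι)
    (A : ι → Finset α) :
    2 * ∑ i ∈ s, (A i).card ≤
      2 * (s.biUnion A).card + ∑ i ∈ s, ∑ j ∈ s.erase i, (A i ∩ A j).card := by
  induction s using Finset.induction_on with
  | empty => simp
  | insert x s hx ih =>
    rw [Finset.sum_insert hx, Finset.biUnion_insert, Finset.sum_insert hx, Finset.erase_insert hx]
    have h1 : (A x).card ≤ (A x ∪ s.biUnion A).card - (s.biUnion A).card +
        ∑ j ∈ s, (A x ∩ A j).card := by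
      have h2 := Finset.card_union_add_card_inter (A x) (s.biUnion A)
      have h3 : (A x ∩ s.biUnion A).card ≤ ∑ j ∈ s, (A x ∩ A j).card := by
        rw [Finset.inter_biUnion]; exact Finset.card_biUnion_le
      have h4 : (s.biUnion A).card ≤ (A x ∪ s.biUnion A).card :=
        Finset.card_le_card Finset.subset_union_right
      omega
    have h5 : (s.biUnion A).card ≤ (A x ∪ s.biUnion A).card :=
      Finset.card_le_card Finset.subset_union_right
    have h6 : ∑ i ∈ s, ∑ j ∈ (insert x s).erase i, (A i ∩ A j).card =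
        ∑ i ∈ s, ∑ j ∈ s.erase i, (A i ∩ A j).card + ∑ j ∈ s, (A x ∩ A j).card := by
      rw [← Finset.sum_add_distrib]
      refine Finset.sum_congr rfl fun i hi => ?_
      have hne : x ≠ i := fun e => hx (e ▸ hi)
      rw [Finset.erase_insert_of_ne hne, Finset.sum_insert (fun e => hx (Finset.mem_of_mem_erase e)),
        add_comm, Finset.inter_comm (A i) (A x)]
    omega

/-- The solutions of `a γ a⁻¹ = y` form at most a coset of a centralizer. -/
theorem card_solutions_le {H : Type*} [Group H] [Fintype H] [DecidableEq H] (γ y : H) :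
    (Finset.univ.filter fun a : H => a * γ * a⁻¹ = y).card ≤
      Nat.card (centralizer ({γ} : Set H)) := by
  classical
  rcases ((Finset.univ : Finset H).filter fun a => a * γ * a⁻¹ = y).eq_empty_or_nonempty with
    h0 | ⟨a₀, ha₀⟩
  · rw [h0]; simp
  rw [Nat.card_eq_fintype_card, ← Fintype.card_coe]
  refine Fintype.card_le_of_injective (fun a => ⟨a₀⁻¹ * a.1, ?_⟩) ?_
  · have ha := (Finset.mem_filter.1 a.2).2.trans (Finset.mem_filter.1 ha₀).2.symm
    rw [mem_centralizer_singleton_iff]
    calc a₀⁻¹ * a.1 * γ = a₀⁻¹ * (a.1 * γ * a.1⁻¹) * a.1 := by group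
      _ = a₀⁻¹ * (a₀ * γ * a₀⁻¹) * a.1 := by rw [ha]
      _ = γ * (a₀⁻¹ * a.1) := by group
  · intro a b h
    exact Subtype.ext (mul_left_cancel (congrArg Subtype.val h))

/-- The torus data on a subgroup isomorphic to `PSL₂(q)`, with its orders. -/
theorem exists_torus_subgroup {E : Subgroup G} {F : Type} [Field F] [Fintype F]
    (hodd : Odd (Fintype.card F)) (e : E ≃* Matrix.ProjectiveSpecialLinearGroup (Fin 2) F) {t : G}
    (htE : t ∈ E) (ht : orderOf t = 2) {k : ℕ}
    (hk : Nat.card (E ⊓ centralizer ({t} : Set G) : Subgroup G) = 4 * k) :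
    ∃ (p₀ : ℕ) (_ : Fact p₀.Prime) (X : Type) (_ : MulAction E X) (q : ℕ),
      Torus p₀ E X q (⟨t, htE⟩ : E) ∧
      Nat.card (centralizer ({⟨t, htE⟩} : Set E)) = 4 * k ∧
      ((q = 4 * k + 1 ∧ Nat.card E = 4 * k * ((4 * k + 1) * (2 * k + 1))) ∨
        (q + 1 = 4 * k ∧ Nat.card E = 4 * k * (q * (2 * k - 1)))) := by
  obtain ⟨p₀, hp₀, X, hX, hT⟩ := exists_torus hodd e (t := (⟨t, htE⟩ : E))
    (by rw [← Subgroup.orderOf_coe]; exact ht)
  have hcent : Nat.card (centralizer ({⟨t, htE⟩} : Set E)) = 4 * k := by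
    have h : (E ⊓ centralizer ({t} : Set G) : Subgroup G).subgroupOf E =
        centralizer ({⟨t, htE⟩} : Set E) := by
      ext x
      simp [mem_subgroupOf, mem_centralizer_singleton_iff, Subtype.ext_iff]
    rw [← h, Nat.card_congr (subgroupOfEquivOfLe inf_le_left).toEquiv, hk]
  refine ⟨p₀, hp₀, X, hX, Fintype.card F, hT, hcent, ?_⟩
  have h2 := hT.data.two_le
  have hE := hT.data.card
  rcases hT.natCard_cent_cases with h | h <;> rw [hcent] at h
  · refine Or.inl ⟨by omega, ?_⟩
    rw [← h, show Fintype.card F + 1 = 2 * (2 * k + 1) by omega] at hE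
    refine Nat.eq_of_mul_eq_mul_left two_pos (hE.trans ?_)
    rw [show Fintype.card F = 4 * k + 1 by omega]; ring
  · refine Or.inr ⟨by omega, ?_⟩
    rw [← h, show Fintype.card F - 1 = 2 * (2 * k - 1) by omega] at hE
    refine Nat.eq_of_mul_eq_mul_left two_pos (hE.trans ?_)
    ring

end Cfsg.Agent.GW.Count
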