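import Cfsg.Agent.Lib.GW.KleinCongruence

/-!
# The order formula in the form used by the conjugate count
-/

set_option autoImplicit false

namespace Cfsg.Agent.GW.Count

open Subgroup

universe u

variable {G : Type u} [Group G] [Finite G]

/-- With `|C(t)| = 4 o` and `|C(P)| = 4 a` for a Klein four Sylow subgroup `P ∋ t`, the index of
`C(t)` is at most `15 (o / a)²`. -/
theorem card_mul_sq_le (P : Sylow 2 G) (hP : IsKleinFour (P : Subgroup G))
    (hone : ∀ u v : G, orderOf u = 2 → orderOf v = 2 → IsConj u v)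
    (hlin : ∀ f : G →* ℂˣ, f = 1) {t : G} (htP : t ∈ (P : Subgroup G)) (ht : orderOf t = 2)
    {o a : ℕ} (ho : Nat.card (centralizer ({t} : Set G)) = 4 * o)
    (ha : Nat.card (centralizer ((P : Subgroup G) : Set G)) = 4 * a) :
    Nat.card G * a ^ 2 ≤ 60 * o ^ 3 := by
  have h := KleinCongruence.index_le P hP hone hlin htP ht
  rw [ho, ha] at h
  rw [← (centralizer ({t} : Set G)).card_mul_index, ho]
  have h2 : (centralizer ({t} : Set G)).index * a ^ 2 ≤ 15 * o ^ 2 := by nlinarith
  calc 4 * o * (centralizer ({t} : Set G)).index * a ^ 2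
      = 4 * o * ((centralizer ({t} : Set G)).index * a ^ 2) := by ring
    _ ≤ 4 * o * (15 * o ^ 2) := Nat.mul_le_mul_left _ h2
    _ = 60 * o ^ 3 := by ring

end Cfsg.Agent.GW.Count
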