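import Cfsg.Agent.Lib.GW.CountBasic

/-!
# Neighbours of a conjugate of `w`

`w` has order `p`, its centralizer normalizes `E ≅ PSL₂(q)`, and `y` moves `w` to `w ζ` for an element
`ζ` of order `p` of the torus of `E`.  Two conjugates are neighbours if they look like `(w, w f)` with
`f ∈ E` of order `p`.  Two non-commuting conjugates have at most `q` common neighbours, whose
components have a common fixed point.
-/

set_option autoImplicit false
set_option linter.style.haveILetI false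
set_option linter.unusedSectionVars false

namespace Cfsg.Agent.GW.Count

open Subgroup MulAction
open scoped commutatorElement

universe u

variable {G : Type u} [Group G] [Finite G]

/-- The configuration: a nonabelian Sylow subgroup of the Fitting subgroup. -/
structure NeighbourData (p : ℕ) (E O : Subgroup G) (w t ζ : G) : Prop where
  prime : p.Prime
  ne_two : p ≠ 2
  t_mem : t ∈ E
  t_order : orderOf t = 2
  E_le : E ≤ centralizer ({w} : Set G)
  E_normal : ∀ g : G, Commute g w → ∀ x ∈ E, g * x * g⁻¹ ∈ E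
  E_invol : ∀ x : G, orderOf x = 2 → Commute x w → x ∈ E
  w_order : orderOf w = p
  zeta_mem : ζ ∈ E
  zeta_order : orderOf ζ = p
  zeta_t : Commute ζ t
  centralizer_t : ∀ h : G, Commute h t → ∃ o ∈ O, ∃ v ∈ E, h = o * v
  moved : ∃ y : G, y * w * y⁻¹ = w * ζ ∧ Commute y ζ
  comm : ∀ o ∈ O, Commute ζ (o * w * o⁻¹) ∧ ⁅w, o * w * o⁻¹⁆ ∈ zpowers ζ

/-- Neighbours. -/
def Adj (p : ℕ) (E : Subgroup G) (w a v : G) : Prop :=
  ∃ g f : G, f ∈ E ∧ orderOf f = p ∧ a = g * w * g⁻¹ ∧ v = g * (w * f) * g⁻¹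

variable {p : ℕ} {E O : Subgroup G} {w t ζ : G}

theorem Adj.conj {a v : G} (h : Adj p E w a v) (g : G) :
    Adj p E w (g * a * g⁻¹) (g * v * g⁻¹) := by
  obtain ⟨g', f, hf, ho, rfl, rfl⟩ := h
  exact ⟨g * g', f, hf, ho, by group, by group⟩

namespace NeighbourData

variable (D : NeighbourData p E O w t ζ)
include D

theorem commute_E {x : G} (hx : x ∈ E) : Commute x w := mem_centralizer_singleton_iff.1 (D.E_le hx)

theorem adj_base {v : G} : Adj p E w w v ↔ ∃ f ∈ E, orderOf f = p ∧ v = w * f := by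
  constructor
  · rintro ⟨g, f, hf, ho, hw, rfl⟩
    have hg : Commute g w := eq_mul_inv_iff_mul_eq.1 hw |>.symm
    exact ⟨g * f * g⁻¹, D.E_normal g hg f hf,
      by rw [← MulAut.conj_apply, MulEquiv.orderOf_eq]; exact ho, by
        calc g * (w * f) * g⁻¹ = (g * w * g⁻¹) * (g * f * g⁻¹) := by group
          _ = w * (g * f * g⁻¹) := by rw [← hw]⟩
  · rintro ⟨f, hf, ho, rfl⟩
    exact ⟨1, f, hf, ho, by group, by group⟩

theorem adj_commute {a v : G} (h : Adj p E w a v) : Commute a v := by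
  obtain ⟨g, f, hf, -, rfl, rfl⟩ := h
  have := ((Commute.refl w).mul_right (D.commute_E hf).symm).map (MulAut.conj g)
  simpa only [MulAut.conj_apply] using this

theorem mul_zeta_pow (i : ℕ) : ∃ g : G, g * w * g⁻¹ = w * ζ ^ i ∧ Commute g ζ := by
  obtain ⟨y, hy, hyc⟩ := D.moved
  induction i with
  | zero => exact ⟨1, by simp, Commute.one_left _⟩
  | succ i ih =>
    obtain ⟨g, hg, hgc⟩ := ih
    refine ⟨g * y, ?_, hgc.mul_left hyc⟩
    calc g * y * w * (g * y)⁻¹ = g * (y * w * y⁻¹) * g⁻¹ := by group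
      _ = g * w * g⁻¹ * (g * ζ * g⁻¹) := by rw [hy]; group
      _ = w * ζ ^ i * ζ := by rw [hg, hgc.eq, mul_inv_cancel_right]
      _ = w * ζ ^ (i + 1) := by rw [pow_succ, mul_assoc]

variable {p₀ : ℕ} [Fact p₀.Prime] {X : Type} [MulAction E X] {q : ℕ}
  (hT : Torus p₀ E X q (⟨t, D.t_mem⟩ : E))
include hT

theorem dvd_cent : p ∣ Nat.card (centralizer ({⟨t, D.t_mem⟩} : Set E)) := by
  have h : (⟨ζ, D.zeta_mem⟩ : E) ∈ centralizer ({⟨t, D.t_mem⟩} : Set E) :=
    mem_centralizer_singleton_iff.2 (Subtype.ext D.zeta_t.eq)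
  have h2 := Subgroup.orderOf_dvd_natCard _ h
  rwa [← Subgroup.orderOf_coe, D.zeta_order] at h2

theorem mem_powers_E {f g : G} (hf : f ∈ E) (hg : g ∈ E) (hfo : orderOf f = p) (hgo : orderOf g = p)
    (hc : Commute f g) : g ∈ zpowers f := by
  obtain ⟨k, hk⟩ := mem_zpowers_iff.1 (hT.mem_zpowers_of_commute D.prime D.ne_two (D.dvd_cent hT)
    (f := ⟨f, hf⟩) (g := ⟨g, hg⟩) (by rw [← Subgroup.orderOf_coe]; exact hfo)
    (by rw [← Subgroup.orderOf_coe]; exact hgo) (Subtype.ext hc.eq))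
  exact mem_zpowers_iff.2 ⟨k, by simpa using congrArg Subtype.val hk⟩

/-- An element of order `p` of `E` is a power of a conjugate of `ζ`. -/
theorem exists_zeta_pow {f : G} (hf : f ∈ E) (hfo : orderOf f = p) :
    ∃ a ∈ E, ∃ i : ℕ, a * f * a⁻¹ = ζ ^ i := by
  obtain ⟨a, ha⟩ := hT.exists_conj_commute D.prime D.ne_two (D.dvd_cent hT) (f := ⟨f, hf⟩)
    (by rw [← Subgroup.orderOf_coe]; exact hfo)
  refine ⟨a, a.2, ?_⟩
  obtain ⟨x, y, hxy, hx, hy⟩ := hT.exists_pair hT.t_ne_one
    (by rw [hT.invol]; exact hT.odd_char.symm)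
  have hodd := D.prime.odd_of_ne_two D.ne_two
  have h1 := hT.mem_ptw_of_commute hxy hx hy (x := ⟨ζ, D.zeta_mem⟩)
    (by rw [← Subgroup.orderOf_coe, D.zeta_order]; exact hodd) (Subtype.ext D.zeta_t.eq)
  have h2 := hT.mem_ptw_of_commute hxy hx hy (x := a * ⟨f, hf⟩ * a⁻¹)
    (by rw [← MulAut.conj_apply, MulEquiv.orderOf_eq, ← Subgroup.orderOf_coe, hfo]; exact hodd) ha
  have h3 := D.mem_powers_E hT D.zeta_mem (E.mul_mem (E.mul_mem a.2 hf) (E.inv_mem a.2)) D.zeta_order
    (by rw [← MulAut.conj_apply, MulEquiv.orderOf_eq]; exact hfo)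
    (by
      have := congrArg Subtype.val (Forms.SolubilizerPSL2.ptw_comm hT.data.two hxy h1 h2).eq
      simpa [commute_iff_eq] using this)
  obtain ⟨i, hi⟩ := Submonoid.mem_powers_iff _ _ |>.1
    (mem_powers_iff_mem_zpowers.2 h3)
  exact ⟨i, hi.symm⟩

/-- A neighbour pair is symmetric. -/
theorem adj_symm {a v : G} (h : Adj p E w a v) : Adj p E w v a := by
  obtain ⟨g, f, hf, hfo, rfl, rfl⟩ := h
  obtain ⟨e, he, i, hi⟩ := D.exists_zeta_pow hT hf hfo
  obtain ⟨h, hh, hhc⟩ := D.mul_zeta_pow i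
  have hew : e⁻¹ * w * e = w := by
    rw [mul_assoc, (D.commute_E he).symm.eq, inv_mul_cancel_left]
  refine ⟨g * e⁻¹ * h, (ζ ^ i)⁻¹, E.inv_mem (E.pow_mem D.zeta_mem i), ?_, ?_, ?_⟩
  · rw [orderOf_inv, ← hi, ← MulAut.conj_apply, MulEquiv.orderOf_eq]; exact hfo
  · calc g * (w * f) * g⁻¹ = g * ((e⁻¹ * w * e) * (e⁻¹ * (e * f * e⁻¹) * e)) * g⁻¹ := by
          rw [hew]; group
      _ = g * e⁻¹ * (w * ζ ^ i) * e * g⁻¹ := by rw [hi]; group
      _ = g * e⁻¹ * h * w * (g * e⁻¹ * h)⁻¹ := by rw [← hh]; group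
  · calc g * w * g⁻¹ = g * (e⁻¹ * ((w * ζ ^ i) * (ζ ^ i)⁻¹) * e) * g⁻¹ := by
          rw [mul_inv_cancel_right, hew]
      _ = g * e⁻¹ * ((h * w * h⁻¹) * (h * (ζ ^ i)⁻¹ * h⁻¹)) * e * g⁻¹ := by
          rw [hh, ((hhc.pow_right i).inv_right).eq, mul_inv_cancel_right]; group
      _ = g * e⁻¹ * h * (w * (ζ ^ i)⁻¹) * (g * e⁻¹ * h)⁻¹ := by group

/-- The components of the common neighbours of `w` and `b`. -/
def common (_ : NeighbourData p E O w t ζ) (b : G) : Set E :=
  {f | orderOf f = p ∧ Adj p E w b (w * f)}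

theorem common_not_commute {b : G} (hb : ¬ Commute w b) :
    ∀ f ∈ D.common b, ∀ g ∈ D.common b, f ≠ g → ¬ Commute f g := by
  intro f hf g hg hne hc
  have hbf := D.adj_commute hf.2
  have hbg := D.adj_commute hg.2
  set j : G := (f : G)⁻¹ * g with hj
  have hbj : Commute b j := by
    have h : Commute b ((w * f)⁻¹ * (w * g)) := hbf.inv_right.mul_right hbg
    rwa [mul_inv_rev, mul_assoc, inv_mul_cancel_left] at h
  have hcG : Commute (f : G) g := congrArg Subtype.val hc
  have hfo : orderOf (f : G) = p := by rw [Subgroup.orderOf_coe]; exact hf.1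
  have hgo : orderOf (g : G) = p := by rw [Subgroup.orderOf_coe]; exact hg.1
  have hj1 : j ≠ 1 := fun e => hne (Subtype.ext (inv_mul_eq_one.1 e))
  have hjo : orderOf j = p := by
    haveI := Fact.mk D.prime
    refine orderOf_eq_prime ?_ hj1
    rw [hj, (hcG.inv_left).mul_pow, inv_pow]
    nth_rw 1 [← hfo]
    rw [pow_orderOf_eq_one, ← hgo, pow_orderOf_eq_one, inv_one, one_mul]
  obtain ⟨k, hk⟩ := mem_zpowers_iff.1 (D.mem_powers_E hT (E.mul_mem (E.inv_mem f.2) g.2) f.2 hjo hfo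
    (((Commute.refl (f : G)).inv_left).mul_left hcG.symm))
  refine hb ?_
  have h : Commute b (w * f * (f : G)⁻¹) := hbf.mul_right (hk ▸ (hbj.zpow_right k)).inv_right
  rw [mul_inv_cancel_right] at h
  exact h.symm

theorem common_odd {b : G} (hb : ¬ Commute w b) (hconj : IsConj w b) :
    Odd (Nat.card (closure (D.common b))) := by
  by_contra hodd
  haveI : Fact (Nat.Prime 2) := ⟨Nat.prime_two⟩
  obtain ⟨s, hs⟩ := exists_prime_orderOf_dvd_card' (G := closure (D.common b)) 2
    (even_iff_two_dvd.1 (Nat.not_odd_iff_even.1 hodd))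
  rw [← Subgroup.orderOf_coe] at hs
  have hlift : ∀ x ∈ closure (D.common b), ∃ n : ℤ, Commute b (w ^ n * (x : G)) := by
    intro x hx
    induction hx using closure_induction with
    | mem f hf => exact ⟨1, by rw [zpow_one]; exact D.adj_commute hf.2⟩
    | one => exact ⟨0, by simp⟩
    | mul x y _ _ hx hy =>
      obtain ⟨n, hn⟩ := hx
      obtain ⟨m, hm⟩ := hy
      refine ⟨n + m, ?_⟩
      have h := hn.mul_right hm
      rwa [show w ^ n * (x : G) * (w ^ m * y) = w ^ (n + m) * ((x * y : E) : G) by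
        rw [mul_assoc, ← mul_assoc (x : G), ((D.commute_E x.2).zpow_right m).eq, coe_mul, zpow_add]
        simp only [mul_assoc]] at h
    | inv x _ hx =>
      obtain ⟨n, hn⟩ := hx
      refine ⟨-n, ?_⟩
      have h := hn.inv_right
      rwa [mul_inv_rev, ← zpow_neg, ((D.commute_E x.2).inv_left.zpow_right (-n)).eq,
        ← InvMemClass.coe_inv] at h
  obtain ⟨n, hn⟩ := hlift _ s.2
  set S : G := ((s : E) : G) with hS
  have hSo : orderOf S = 2 := by rw [hS, Subgroup.orderOf_coe]; exact hs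
  have hwp : w ^ p = 1 := D.w_order ▸ pow_orderOf_eq_one w
  have hpw : (w ^ n * S) ^ p = S := by
    rw [((D.commute_E (s : E).2).zpow_right n).symm.mul_pow, ← zpow_natCast (w ^ n), ← zpow_mul,
      mul_comm, zpow_mul, zpow_natCast, hwp, one_zpow, one_mul,
      ← pow_mod_orderOf, hSo, Nat.odd_iff.1 (D.prime.odd_of_ne_two D.ne_two), pow_one]
  have hbS : Commute b S := hpw ▸ hn.pow_right p
  obtain ⟨e, he⟩ := isConj_iff.1 (hT.conj_invol (s : E) (by exact hs))
  have he' : (e : G) * t * (e : G)⁻¹ = S := by rw [hS, ← he]; simp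
  -- move `S` to `t`
  set b' := (e : G)⁻¹ * b * e with hb'
  have hew : (e : G)⁻¹ * w * e = w := by
    rw [mul_assoc, (D.commute_E e.2).symm.eq, inv_mul_cancel_left]
  have hb't : Commute b' t := by
    have := hbS.map (MulAut.conj (e : G)⁻¹)
    simp only [MulAut.conj_apply, inv_inv, ← he'] at this
    rwa [show (e : G)⁻¹ * ((e : G) * t * (e : G)⁻¹) * e = t by group] at this
  have hb'w : ¬ Commute w b' := by
    intro h
    refine hb ?_
    have := h.map (MulAut.conj (e : G))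
    simp only [MulAut.conj_apply, hb'] at this
    rwa [show (e : G) * ((e : G)⁻¹ * b * e) * (e : G)⁻¹ = b by group,
      (D.commute_E e.2).eq, mul_inv_cancel_right] at this
  obtain ⟨g, hg⟩ := isConj_iff.1 hconj
  -- `b'` is a conjugate of `w` under `O`
  obtain ⟨o, ho, hob⟩ : ∃ o ∈ O, b' = o * w * o⁻¹ := by
    set g' := (e : G)⁻¹ * g with hg'
    have hgb : g' * w * g'⁻¹ = b' := by rw [hb', ← hg, hg']; group
    have hs' : Commute (g'⁻¹ * t * g') w := by
      have := hb't.map (MulAut.conj g'⁻¹)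
      simp only [MulAut.conj_apply, inv_inv, ← hgb] at this
      rw [show g'⁻¹ * (g' * w * g'⁻¹) * g' = w by group] at this
      exact this.symm
    have hso : orderOf (g'⁻¹ * t * g') = 2 := by
      have h := MulEquiv.orderOf_eq (MulAut.conj g'⁻¹) t
      simp only [MulAut.conj_apply, inv_inv] at h
      rw [h, D.t_order]
    have hsE := D.E_invol _ hso hs'
    obtain ⟨a, ha⟩ := isConj_iff.1 (hT.conj_invol ⟨_, hsE⟩ (by rw [← Subgroup.orderOf_coe]; exact hso))
    have ha' : (a : G) * t * (a : G)⁻¹ = g'⁻¹ * t * g' := by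
      simpa using congrArg Subtype.val ha
    have hga : Commute (g' * a) t := by
      show g' * a * t = t * (g' * a)
      calc g' * a * t = g' * ((a : G) * t * (a : G)⁻¹) * a := by group
        _ = t * (g' * a) := by rw [ha']; group
    obtain ⟨o, ho, v, hv, hov⟩ := D.centralizer_t _ hga
    refine ⟨o, ho, ?_⟩
    calc b' = g' * w * g'⁻¹ := hgb.symm
      _ = g' * (a * w * (a : G)⁻¹) * g'⁻¹ := by rw [(D.commute_E a.2).eq, mul_inv_cancel_right]
      _ = (g' * a) * w * (g' * a)⁻¹ := by group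
      _ = o * (v * w * v⁻¹) * o⁻¹ := by rw [hov]; group
      _ = o * w * o⁻¹ := by rw [(D.commute_E hv).eq, mul_inv_cancel_right]
  obtain ⟨hcζ, hcm⟩ := D.comm o ho
  rw [← hob] at hcζ hcm
  -- some common neighbour
  obtain ⟨f, hf⟩ : (D.common b).Nonempty := by
    rw [Set.nonempty_iff_ne_empty]
    intro h0
    have hbot : closure (D.common b) = ⊥ := by rw [h0, Subgroup.closure_empty]
    have h1 : (s : E) = 1 := mem_bot.1 (hbot.le s.2)
    rw [h1, orderOf_one] at hs
    omega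
  set f' := (e : G)⁻¹ * (f : G) * e with hf'
  have hf'E : f' ∈ E := E.mul_mem (E.mul_mem (E.inv_mem e.2) f.2) e.2
  have hbf : Commute b' (w * f') := by
    have := (D.adj_commute hf.2).map (MulAut.conj (e : G)⁻¹)
    simp only [MulAut.conj_apply, inv_inv] at this
    rwa [show (e : G)⁻¹ * (w * f) * e = (e : G)⁻¹ * w * e * f' by rw [hf']; group, hew] at this
  have hwf : Commute w (w * f') := (Commute.refl w).mul_right (D.commute_E hf'E).symm
  have hcomm : Commute (w * f') ⁅w, b'⁆ := by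
    rw [commutatorElement_def]
    exact ((hwf.symm.mul_right hbf.symm).mul_right hwf.symm.inv_right).mul_right hbf.symm.inv_right
  have hne : ⁅w, b'⁆ ≠ 1 := fun h => hb'w (commutatorElement_eq_one_iff_commute.1 h)
  have hgen : ζ ∈ zpowers ⁅w, b'⁆ := by
    haveI := Fact.mk D.prime
    obtain ⟨k, hk⟩ := mem_zpowers_iff.1 hcm
    have hzp : ζ ^ p = 1 := D.zeta_order ▸ pow_orderOf_eq_one ζ
    have hco : orderOf ⁅w, b'⁆ = p := orderOf_eq_prime (by
      rw [← hk, ← zpow_natCast, ← zpow_mul, mul_comm, zpow_mul, zpow_natCast, hzp, one_zpow]) hne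
    have hle : zpowers ⁅w, b'⁆ ≤ zpowers ζ := zpowers_le.2 hcm
    rw [eq_of_le_of_card_ge hle (by rw [Nat.card_zpowers, Nat.card_zpowers, hco, D.zeta_order])]
    exact Subgroup.mem_zpowers ζ
  obtain ⟨k, hk⟩ := mem_zpowers_iff.1 hgen
  have hfζ' : Commute (w * f') ζ := hk ▸ hcomm.zpow_right k
  have hfζ : Commute f' ζ := by
    have := (D.commute_E D.zeta_mem).inv_right.symm.mul_left hfζ'
    rwa [inv_mul_cancel_left] at this
  have hfo : orderOf f' = p := by
    have h := MulEquiv.orderOf_eq (MulAut.conj (e : G)⁻¹) (f : G)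
    simp only [MulAut.conj_apply, inv_inv] at h
    rw [hf', h, Subgroup.orderOf_coe]; exact hf.1
  obtain ⟨m, hm⟩ := mem_zpowers_iff.1 (D.mem_powers_E hT D.zeta_mem hf'E D.zeta_order hfo hfζ.symm)
  refine hb'w ?_
  have h : Commute b' (w * f' * f'⁻¹) := hbf.mul_right (hm ▸ hcζ.symm.zpow_right m).inv_right
  rw [mul_inv_cancel_right] at h
  exact h.symm

/-- **The lemma on common neighbours.** -/
theorem common_share {b : G} (hb : ¬ Commute w b) (hconj : IsConj w b) (hne : (D.common b).Nonempty) :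
    ∃ z : X, ∀ f ∈ D.common b, f • z = z :=
  hT.exists_common_fix D.prime D.ne_two (D.dvd_cent hT) (fun _ hf => hf.1)
    (D.common_odd hT hb hconj) hne

theorem ncard_common_le {b : G} (hb : ¬ Commute w b) (hconj : IsConj w b) :
    (D.common b).ncard ≤ q := by
  rcases (D.common b).eq_empty_or_nonempty with h | h
  · rw [h]; simp
  obtain ⟨z, hz⟩ := D.common_share hT hb hconj h
  exact hT.ncard_le_of_share D.prime D.ne_two (D.dvd_cent hT) (fun _ hf => hf.1) hz
    (D.common_not_commute hT hb)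

/-- Two non-commuting conjugates have at most `q` common neighbours. -/
theorem ncard_adj_le {a b : G} (ha : IsConj w a) (hb : IsConj w b) (hab : ¬ Commute a b) :
    {v | Adj p E w a v ∧ Adj p E w b v}.ncard ≤ q := by
  obtain ⟨g, rfl⟩ := isConj_iff.1 ha
  set b' := g⁻¹ * b * g with hb'
  have hconj : IsConj w b' := hb.trans (isConj_iff.2 ⟨g⁻¹, by rw [hb', inv_inv]⟩)
  have hnc : ¬ Commute w b' := fun h => hab (by
    have := h.map (MulAut.conj g)
    simp only [MulAut.conj_apply, hb'] at this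
    rwa [show g * (g⁻¹ * b * g) * g⁻¹ = b by group] at this)
  refine le_trans ?_ (D.ncard_common_le hT hnc hconj)
  refine (Set.ncard_le_ncard ?_ (Set.toFinite _)).trans
    (Set.ncard_image_le (f := fun f : E => g * (w * f) * g⁻¹) (Set.toFinite (D.common b')))
  rintro v ⟨hav, hbv⟩
  have h1 := hav.conj g⁻¹
  rw [inv_inv, show g⁻¹ * (g * w * g⁻¹) * g = w by group] at h1
  obtain ⟨f, hf, hfo, hv⟩ := D.adj_base.1 h1
  refine ⟨⟨f, hf⟩, ⟨by rw [← Subgroup.orderOf_coe]; exact hfo, ?_⟩, ?_⟩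
  · have h2 := hbv.conj g⁻¹
    rw [inv_inv, hv] at h2
    exact h2
  · show g * (w * f) * g⁻¹ = v
    rw [← hv]; group

end NeighbourData

end Cfsg.Agent.GW.Count
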