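import Mathlib

/-!
# The Klein four case with a central element of the Fitting subgroup: the count

`H = C(t)`, `L = C(z)`, `N = |G : H|`, `m = |z^H| = r e`, `k = (r - 1) e` of these conjugates lie
in classes of size `2 I` under a component of `L` with `I = q (q + δ) / 2` involutions, and
`o / a = c r`.
-/

set_option autoImplicit false

open scoped Classical

namespace Cfsg.Agent.GW.KleinCaseA

universe u

variable {G : Type u} [Group G]

/-- The two ways of counting the cosets of `H ⊓ L`. -/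
theorem index_mul_relIndex_comm (H L : Subgroup G) :
    H.index * L.relIndex H = L.index * H.relIndex L := by
  rw [mul_comm H.index, mul_comm L.index, ← Subgroup.inf_relIndex_right L H,
    ← Subgroup.inf_relIndex_right H L, Subgroup.relIndex_mul_index inf_le_right,
    Subgroup.relIndex_mul_index inf_le_right, inf_comm]

/-- Elements in classes of size at least `2 I`, at most two in each, force a class of size at
least their number times `I`. -/
theorem card_mul_le [Fintype G] {z : G} (E : Subgroup G) (S : Finset G) {I : ℕ}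
    (hS : ∀ x ∈ S, IsConj z x)
    (hsize : ∀ x ∈ S, 2 * I ≤ Nat.card {y : G // ∃ e ∈ E, e * x * e⁻¹ = y})
    (htwo : ∀ x ∈ S, (S.filter fun y => ∃ e ∈ E, e * x * e⁻¹ = y).card ≤ 2) :
    S.card * I ≤ Nat.card {y : G // IsConj z y} := by
  set K := Finset.univ.filter fun y : G => IsConj z y
  let orb : G → Finset G := fun x => Finset.univ.filter fun y => ∃ e ∈ E, e * x * e⁻¹ = y
  have h1 : S.card * (2 * I) ≤ ∑ x ∈ S, (orb x).card := by
    rw [← smul_eq_mul]
    refine Finset.card_nsmul_le_sum S _ _ fun x hx => ?_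
    have h := hsize x hx
    rwa [Nat.card_eq_fintype_card, Fintype.card_subtype] at h
  have h2 : ∑ x ∈ S, (orb x).card ≤ ∑ _y ∈ K, 2 := by
    simp only [Finset.card_eq_sum_ones]
    rw [Finset.sum_comm' (t' := K) (s' := fun y => S.filter fun x => y ∈ orb x) fun x y => ?_]
    · refine Finset.sum_le_sum fun y _ => ?_
      rw [← Finset.card_eq_sum_ones]
      by_cases hne : (S.filter fun x => y ∈ orb x).Nonempty
      · obtain ⟨x₀, hx₀⟩ := hne
        obtain ⟨hx₀S, hx₀y⟩ := Finset.mem_filter.1 hx₀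
        refine (Finset.card_le_card ?_).trans (htwo x₀ hx₀S)
        intro x hx
        obtain ⟨hxS, hxy⟩ := Finset.mem_filter.1 hx
        obtain ⟨e₀, he₀, rfl⟩ := (Finset.mem_filter.1 hx₀y).2
        obtain ⟨e, he, hexy⟩ := (Finset.mem_filter.1 hxy).2
        refine Finset.mem_filter.2 ⟨hxS, e⁻¹ * e₀, mul_mem (inv_mem he) he₀, ?_⟩
        calc e⁻¹ * e₀ * x₀ * (e⁻¹ * e₀)⁻¹ = e⁻¹ * (e₀ * x₀ * e₀⁻¹) * e := by group
          _ = x := by rw [← hexy]; group
      · rw [Finset.not_nonempty_iff_eq_empty.1 hne]; simp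
    · refine ⟨fun ⟨hx, hy⟩ => ?_, fun ⟨hx, _⟩ => Finset.mem_filter.1 hx⟩
      obtain ⟨e, -, he⟩ := (Finset.mem_filter.1 hy).2
      exact ⟨Finset.mem_filter.2 ⟨hx, hy⟩,
        Finset.mem_filter.2 ⟨Finset.mem_univ _, (hS x hx).trans (isConj_iff.2 ⟨e, he⟩)⟩⟩
  rw [Finset.sum_const, smul_eq_mul] at h2
  rw [Nat.card_eq_fintype_card, Fintype.card_subtype]
  nlinarith

/-- The conjugates of `D` meeting trivially inside `F = D × C` bound their number. -/
theorem two_mul_le {r d c : ℕ} (hd : 3 ≤ d) (h : r * (d - 1) < d * c) : 2 * r ≤ 3 * c - 1 := by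
  obtain ⟨e, rfl⟩ : ∃ e, d = e + 3 := ⟨d - 3, by omega⟩
  rw [show e + 3 - 1 = e + 2 by omega] at h
  by_contra hn
  have hn' : 3 * c ≤ 2 * r := by omega
  nlinarith

/-- The numbers of case A do not exist. -/
theorem false_of_count {N M m k c r e q : ℕ} {δ : ℤ} {I : ℕ} (hc : Odd c) (hc3 : 3 ≤ c)
    (hr : Odd r) (hr3 : 3 ≤ r) (hrc : 2 * r ≤ 3 * c - 1) (he : 0 < e) (hm : m = r * e)
    (hk : k = (r - 1) * e) (hδ : δ = 1 ∨ δ = -1) (hq : (q : ℤ) = δ + 4 * c)
    (hI : 2 * (I : ℤ) = q * (q + δ)) (hNM : N * m = M * I) (hMk : k * I ≤ M)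
    (hN : N ≤ 15 * (c * r) ^ 2) : False := by
  have hIlb : ((4 : ℤ) * c - 1) * (2 * c - 1) ≤ I := by
    rcases hδ with rfl | rfl <;> rw [hq] at hI <;> nlinarith
  subst hm hk
  have h1 : (r - 1) * e * (I * I) ≤ N * (r * e) := by
    rw [hNM]
    calc (r - 1) * e * (I * I) = (r - 1) * e * I * I := by ring
      _ ≤ M * I := Nat.mul_le_mul hMk le_rfl
  have h2 : ((r : ℤ) - 1) * ((I : ℤ) * I) ≤ 15 * ((c : ℤ) * r) ^ 2 * r := by
    have h3 : ((r - 1) * (I * I)) * e ≤ (N * r) * e := by linarith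
    have h4 : (r - 1) * (I * I) ≤ 15 * (c * r) ^ 2 * r :=
      (Nat.le_of_mul_le_mul_right h3 he).trans (Nat.mul_le_mul hN le_rfl)
    have h5 : (((r - 1) * (I * I) : ℕ) : ℤ) ≤ ((15 * (c * r) ^ 2 * r : ℕ) : ℤ) := by
      exact_mod_cast h4
    push_cast [show 1 ≤ r by omega] at h5
    linarith
  have hr3' : (3 : ℤ) ≤ r := by exact_mod_cast hr3
  have hc3' : (3 : ℤ) ≤ c := by exact_mod_cast hc3
  set A : ℤ := ((4 : ℤ) * c - 1) * (2 * c - 1) with hA
  have hA0 : 0 ≤ A := by rw [hA]; nlinarith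
  have h6 : ((r : ℤ) - 1) * (A * A) ≤ 15 * ((c : ℤ) * r) ^ 2 * r :=
    le_trans (mul_le_mul_of_nonneg_left (mul_le_mul hIlb hIlb hA0 (le_trans hA0 hIlb))
      (by linarith)) h2
  have h7 : 2 * (A * A) ≤ 45 * ((c : ℤ) * r) ^ 2 := by
    have : 2 * (A * A) * r ≤ 45 * ((c : ℤ) * r) ^ 2 * r := by
      nlinarith [mul_nonneg (mul_nonneg hA0 hA0) (sub_nonneg.2 hr3')]
    exact le_of_mul_le_mul_right this (by linarith)
  rcases Nat.lt_or_ge c 5 with h | h
  · have hc3e : c = 3 := by obtain ⟨j, rfl⟩ := hc; omega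
    have hre : r = 3 := by obtain ⟨j, rfl⟩ := hr; omega
    subst hc3e hre
    rw [hA] at h7
    norm_num at h7
  · have h5 : (5 : ℤ) ≤ c := by exact_mod_cast h
    have hr2 : 2 * (r : ℤ) ≤ 3 * c - 1 := by omega
    have h8 : 4 * ((c : ℤ) * r) ^ 2 ≤ ((c : ℤ) * (3 * c - 1)) ^ 2 := by
      calc 4 * ((c : ℤ) * r) ^ 2 = ((c : ℤ) * (2 * r)) ^ 2 := by ring
        _ ≤ _ := pow_le_pow_left₀ (by positivity)
          (mul_le_mul_of_nonneg_left hr2 (by linarith)) 2
    have h9 : 8 * (A * A) ≤ 45 * ((c : ℤ) * (3 * c - 1)) ^ 2 := by linarith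
    rw [hA] at h9
    nlinarith [mul_le_mul_of_nonneg_right h5 (show (0 : ℤ) ≤ (c : ℤ) ^ 3 by positivity),
      mul_le_mul_of_nonneg_right h5 (show (0 : ℤ) ≤ (c : ℤ) ^ 2 by positivity),
      mul_le_mul_of_nonneg_right h5 (show (0 : ℤ) ≤ (c : ℤ) by positivity)]

end Cfsg.Agent.GW.KleinCaseA
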