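import Cfsg.Agent.Lib.GW.BenderFrameDefs
import Cfsg.Agent.Lib.GW.BenderKleinPure

/-!
# Klein four Sylow subgroup: the normalizer of a fixed element of an abelian normal part has a layer
-/

set_option autoImplicit false
set_option linter.style.haveILetI false

namespace Cfsg.Agent.GW.KleinLayer

open Subgroup Cfsg.Agent.GW.Bender Cfsg.Agent.Components.MaximalPair

universe u

variable {G : Type u} [Group G] [Finite G] [IsSimpleGroup G]

/-- An element of `N(⟨z⟩)` moving `t` to `u` and `u` to `tu` forces a component, as soon as some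
element of `C_O(z)` is moved by `u`. -/
theorem layer_ne_bot (d : Setting G) (hm : d.m = 2) (i : ZMod d.m) {g z x : G}
    (hg1 : g * d.t * g⁻¹ = d.u i) (hg2 : g * d.u i * g⁻¹ = d.t * d.u i)
    (hzF : zpowers z ≤ (Cfsg.fittingSubgroup d.H).map d.H.subtype)
    (hzg : g * z = z * g) (hzu : d.u i * z = z * d.u i)
    (hx : x ∈ d.O) (hxz : x * z = z * x) (hxu : ¬ x * d.u i = d.u i * x) :
    Cfsg.layer (normalizer (zpowers z : Set G) : Subgroup G) ≠ ⊥ := by
  haveI : Fact (Nat.Prime 2) := ⟨Nat.prime_two⟩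
  intro hlayer
  haveI := Fintype.ofFinite G
  set B := normalizer (zpowers z : Set G) with hB
  obtain ⟨hout, hin⟩ := d.cores (zpowers z) hzF
  have hmemB : ∀ y : G, Commute y z → y ∈ B := fun y hy =>
    centralizer_le_normalizer _ (mem_centralizer_iff.2 fun w hw => by
      obtain ⟨k, rfl⟩ := mem_zpowers_iff.1 hw
      exact (hy.zpow_right k).eq.symm)
  have hzH : z ∈ d.H := by
    obtain ⟨w, -, hw⟩ := hzF (mem_zpowers z)
    exact hw ▸ w.2
  have htz : Commute d.t z := (mem_centralizer_singleton_iff.1 hzH).symm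
  have hS : (d.S : Subgroup G) ≤ B := fun s hs => by
    refine hmemB s ?_
    rcases d.toData.mem_four_of_two hm i hs with rfl | rfl | rfl | rfl
    exacts [Commute.one_left z, htz, hzu, htz.mul_left hzu]
  have htB : d.t ∈ B := hS d.t_mem
  have huB : d.u i ∈ B := hS (d.u_mem i)
  have hgB : g ∈ B := hmemB g hzg
  have htF : (⟨d.t, d.t_mem_H⟩ : d.H) ∈ Cfsg.fittingSubgroup d.H :=
    Components.Fitting.pCore_le_fitting 2 d.t_mem_pCore
  -- the odd cores are fixed by the four group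
  have hcj : ∀ r : ℕ, ∀ w ∈ core r B, g⁻¹ * w * g ∈ core r B := fun r w hw => by
    have := (mem_normalizer_iff.1 (le_normalizer_core r B (inv_mem hgB)) w).1 hw
    rwa [inv_inv] at this
  have hodd : ∀ r : ℕ, r.Prime → r ≠ 2 → ∀ w ∈ core r B,
      d.t * w * d.t⁻¹ = w ∧ d.u i * w * (d.u i)⁻¹ = w := by
    intro r hr hr2
    haveI : Fact r.Prime := ⟨hr⟩
    have hstep : ∀ (a b : G) (f : G → G), g * a * g⁻¹ = b →
        (∀ w ∈ core r B, a * w * a⁻¹ = f w) → (∀ w : G, g * f w * g⁻¹ = f (g * w * g⁻¹)) →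
        ∀ w ∈ core r B, b * w * b⁻¹ = f w := by
      intro a b f hab ha hf w hw
      have h1 := ha _ (hcj r w hw)
      calc b * w * b⁻¹ = g * (a * (g⁻¹ * w * g) * a⁻¹) * g⁻¹ := by rw [← hab]; group
        _ = f w := by rw [h1, hf]; congr 1; group
    by_cases hd : r ∣ Nat.card (Cfsg.fittingSubgroup d.H)
    · have ht : ∀ w ∈ core r B, d.t * w * d.t⁻¹ = w := fun w hw =>
        mul_inv_eq_iff_eq_mul.2 (hin r hr hd w hw _ htF (by
          rw [Subgroup.orderOf_mk, d.t_order]
          exact (Nat.coprime_primes Nat.prime_two hr).2 (Ne.symm hr2))).symm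
      exact fun w hw => ⟨ht w hw, hstep d.t (d.u i) id hg1 ht (fun _ => rfl) w hw⟩
    · have ht : ∀ w ∈ core r B, d.t * w * d.t⁻¹ = w⁻¹ :=
        inverts_of_inf_eq_bot d.t_sq (le_normalizer_core r B htB) (hout r hr hd)
      have hf : ∀ w : G, g * w⁻¹ * g⁻¹ = (g * w * g⁻¹)⁻¹ := fun w => by group
      have hu := hstep d.t (d.u i) (·⁻¹) hg1 ht hf
      have htu := hstep (d.u i) (d.t * d.u i) (·⁻¹) hg2 hu hf
      intro w hw
      have hw1 : w = 1 := by
        refine Data.eq_one_of_odd ?_ ?_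
        · obtain ⟨k, hk⟩ := IsPGroup.iff_orderOf.1 (core_isPGroup r B) ⟨w, hw⟩
          rw [Subgroup.orderOf_mk] at hk
          rw [hk]; exact (hr.odd_of_ne_two hr2).pow
        · calc w = d.t * w⁻¹ * d.t⁻¹ := by rw [ht _ (inv_mem hw), inv_inv]
            _ = d.t * (d.u i * w * (d.u i)⁻¹) * d.t⁻¹ := by rw [hu w hw]
            _ = d.t * d.u i * w * (d.t * d.u i)⁻¹ := by group
            _ = w⁻¹ := htu w hw
      subst hw1
      simp
  -- the 2-core lies in the Sylow subgroup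
  have h2S : core 2 B ≤ (d.S : Subgroup G) := by
    have hsup : IsPGroup 2 ↥(core 2 B ⊔ (d.S : Subgroup G)) :=
      (core_isPGroup 2 B).to_sup_of_normal_left' d.S.2 (hS.trans (le_normalizer_core 2 B))
    rw [← d.S.3 hsup le_sup_right]
    exact le_sup_left
  have hgen : Cfsg.generalizedFittingSubgroup B = Cfsg.fittingSubgroup B := by
    rw [Cfsg.generalizedFittingSubgroup, hlayer, bot_sup_eq]
  have huF : (⟨d.u i, huB⟩ : B) ∈ Cfsg.fittingSubgroup B := by
    have key : Cfsg.fittingSubgroup B ≤ centralizer ({⟨d.u i, huB⟩} : Set B) := by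
      rw [Components.Fitting.fitting_eq_coreJoin]
      refine iSup_le fun r w hw => mem_centralizer_singleton_iff.2 (Subtype.ext ?_)
      show (w : G) * d.u i = d.u i * w
      have hwr : (w : G) ∈ core r B := ⟨w, hw, rfl⟩
      by_cases hr2 : (r : ℕ) = 2
      · exact d.toData.comm_of_two hm (h2S (hr2 ▸ hwr)) (d.u_mem i)
      · exact (mul_inv_eq_iff_eq_mul.1 (hodd r r.2 hr2 _ hwr).2).symm
    have h3 := Components.Fitting.centralizer_genFitting_le (G := B)
    rw [hgen] at h3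
    exact h3 (mem_centralizer_iff.2 fun f hf => mem_centralizer_singleton_iff.1 (key hf))
  -- so `u` lies in the 2-core
  have hu2 : d.u i ∈ core 2 B := by
    refine ⟨⟨d.u i, huB⟩, ?_, rfl⟩
    obtain ⟨a, ha, a', ha', hmul⟩ := mem_sup_of_normal_right.1
      ((Components.Fitting.fitting_eq_coreJoin (G := B)).le.trans
        (Components.Fitting.coreJoin_le_sup 2) huF)
    set π := QuotientGroup.mk' (Cfsg.pCore 2 B)
    have hc' : π ⟨d.u i, huB⟩ = π a' := by
      rw [← hmul, map_mul, (QuotientGroup.eq_one_iff a).2 ha |> fun e : π a = 1 => e, one_mul]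
    have d1 : orderOf (π ⟨d.u i, huB⟩) ∣ 2 := by
      have h := orderOf_map_dvd π (⟨d.u i, huB⟩ : B)
      rwa [Subgroup.orderOf_mk, d.u_order i] at h
    have d2 : orderOf (π ⟨d.u i, huB⟩) ∣ Nat.card (Cfsg.pPrimeCore 2 B) := by
      rw [hc']; exact (orderOf_map_dvd π _).trans (Subgroup.orderOf_dvd_natCard _ ha')
    exact (QuotientGroup.eq_one_iff _).1 (orderOf_eq_one_iff.1 (Nat.eq_one_of_dvd_coprimes
      (Cores.pPrimeCore_card_coprime (G := B) 2).symm d1 d2))
  -- hence `u` commutes with `x`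
  have hxu2 : x * d.u i * x⁻¹ ∈ (d.S : Subgroup G) :=
    h2S ((mem_normalizer_iff.1 (le_normalizer_core 2 B (hmemB x hxz)) _).1 hu2)
  have hc : x * d.u i * x⁻¹ * (d.u i)⁻¹ ∈ d.O := by
    rw [show x * d.u i * x⁻¹ * (d.u i)⁻¹ = x * (d.u i * x⁻¹ * (d.u i)⁻¹) by group]
    exact mul_mem hx ((mem_normalizer_iff.1 (d.H_le_normalizer_O (d.u_mem_H i)) _).1 (inv_mem hx))
  have h1 := Data.eq_one_of_odd (d.orderOf_odd hc) (eq_inv_of_mul_eq_one_left
    (d.toData.sq_of_two hm (mul_mem hxu2 (inv_mem (d.u_mem i)))))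
  exact hxu (mul_inv_eq_iff_eq_mul.1 (mul_inv_eq_one.1 h1))

end Cfsg.Agent.GW.KleinLayer
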