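import Cfsg.Agent.Lib.GW.KleinLocal
import Cfsg.Agent.Lib.GW.KleinCaseA
import Cfsg.Agent.Lib.GW.KleinLayer
import Cfsg.Agent.Lib.GW.OrderBounds

/-!
# Klein four Sylow subgroup: no abelian `H`-invariant part of the core meets the fixed points

An abelian subgroup `X` of the core normalized by `H` meets `C_O(u)` trivially.  The normalizers
of the cyclic subgroups of the intersection `D` have components, the conjugates of `D` meet
trivially, so their number `r` is at most `3c/2`, and counting the conjugates of an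
element of `D` contradicts the order formula.
-/

set_option autoImplicit false
set_option linter.style.haveILetI false

namespace Cfsg.Agent.GW.KleinAbelian

open Subgroup Cfsg.Agent.GW.Bender Cfsg.Agent.GW.Overgroups Cfsg.Agent.GW.KleinLocal

universe u

variable {G : Type u} [Group G] [Finite G]

/-- The class of an element is in bijection with the cosets of its centralizer. -/
theorem card_class (z : G) :
    Nat.card {y : G // IsConj z y} = (centralizer ({z} : Set G)).index := by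
  refine (Nat.card_eq_of_bijective (α := G ⧸ centralizer ({z} : Set G))
    (Quotient.lift (fun g : G => (⟨g * z * g⁻¹, isConj_iff.2 ⟨g, rfl⟩⟩ : {y : G // IsConj z y}))
      ?_) ⟨?_, ?_⟩).symm
  · intro a b hab
    have h : Commute (a⁻¹ * b) z :=
      mem_centralizer_singleton_iff.1 (QuotientGroup.leftRel_apply.1 hab)
    refine Subtype.ext ?_
    calc a * z * a⁻¹ = a * ((a⁻¹ * b) * z * (a⁻¹ * b)⁻¹) * a⁻¹ := by
          rw [h.eq, mul_inv_cancel_right]
      _ = b * z * b⁻¹ := by group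
  · intro x y
    refine QuotientGroup.induction_on x fun a => QuotientGroup.induction_on y fun b hab => ?_
    have h1 : a * z * a⁻¹ = b * z * b⁻¹ := congrArg Subtype.val hab
    refine QuotientGroup.eq.2 (mem_centralizer_singleton_iff.2 ?_)
    calc a⁻¹ * b * z = a⁻¹ * (b * z * b⁻¹) * b := by group
      _ = z * (a⁻¹ * b) := by rw [← h1]; group
  · rintro ⟨y, hy⟩
    obtain ⟨g, rfl⟩ := isConj_iff.1 hy
    exact ⟨QuotientGroup.mk g, rfl⟩

/-- `N ≤ 15 (|O : A|)²`, in the form `N |A|² ≤ 15 |O|²`. -/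
theorem index_bound [IsSimpleGroup G] (d : Setting G) (hm : d.m = 2) (i : ZMod d.m) :
    d.H.index * Nat.card (d.A i) ^ 2 ≤ 15 * Nat.card d.O ^ 2 := by
  haveI : Fintype G := Fintype.ofFinite G
  obtain ⟨g, hg1, hg2⟩ := d.rho i
  have hk := (d.toData.kleinCore_of_two hm hg1 hg2).klein
  have hone : ∀ u v : G, orderOf u = 2 → orderOf v = 2 → IsConj u v := by
    intro u v hu hv
    have hcore := d.toData.kleinCore_of_two hm hg1 hg2
    exact (hcore.one_class hu).symm.trans (hcore.one_class hv)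
  obtain ⟨S, -, hS, hSeq⟩ := OrderBounds.exists_klein_factor d.S hk hone d.t_mem d.t_order
  have hlin : ∀ f : G →* ℂˣ, f = 1 := by
    intro f
    rcases f.normal_ker.eq_bot_or_eq_top with h | h
    · exact absurd (⟨⟨fun a b => (MonoidHom.ker_eq_bot_iff f).1 h
        (by rw [map_mul, map_mul, mul_comm])⟩⟩ : IsMulCommutative G) d.not_commutative
    · exact MonoidHom.ker_eq_top_iff.1 h
  have hS' := hS hlin
  have hSG : (d.S : Subgroup G) ≤ centralizer ((d.S : Subgroup G) : Set G) := fun s hs =>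
    mem_centralizer_iff.2 fun v hv => d.toData.comm_of_two hm hv hs
  have hCH : centralizer ((d.S : Subgroup G) : Set G) ≤ d.H :=
    centralizer_le (Set.singleton_subset_iff.2 d.t_mem)
  have hC : Nat.card (centralizer ((d.S : Subgroup G) : Set G)) = Nat.card (d.A i) * 4 := by
    have h1 := card_inf_H hm (d := d.toData) hSG
    rw [inf_eq_left.2 hCH] at h1
    have h2 : centralizer ((d.S : Subgroup G) : Set G) ⊓ d.O = d.A i := by
      ext x
      refine ⟨fun hx => ⟨hx.2, mem_centralizer_singleton_iff.2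
        (mem_centralizer_iff.1 hx.1 _ (d.u_mem i)).symm⟩, fun hx => ⟨?_, hx.1⟩⟩
      refine mem_centralizer_iff.2 fun v hv => ?_
      have ht : Commute d.t x := Local.comm_t hx.1
      have hu : Commute (d.u i) x := (mem_centralizer_singleton_iff.1 hx.2).symm
      rcases d.toData.mem_four_of_two hm i hv with rfl | rfl | rfl | rfl
      exacts [(Commute.one_left x).eq, ht.eq, hu.eq, (ht.mul_left hu).eq]
    rw [h1, h2]
  have hH : Nat.card d.H = Nat.card d.O * 4 := by
    have h1 := card_inf_H hm (d := d.toData) (K := ⊤) le_top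
    rwa [top_inf_eq, top_inf_eq] at h1
  rw [hC, hH, ← d.H.card_mul_index, hH] at hSeq
  push_cast at hSeq
  set o : ℚ := (Nat.card d.O : ℚ)
  set a : ℚ := (Nat.card (d.A i) : ℚ)
  set N : ℚ := (d.H.index : ℚ)
  have ho : 0 < o := Nat.cast_pos.2 Nat.card_pos
  have ha : 0 < a := Nat.cast_pos.2 Nat.card_pos
  have hN : 0 ≤ N := Nat.cast_nonneg _
  have hkey : N * a ^ 2 * S = 8 * o ^ 2 := by
    field_simp at hSeq
    nlinarith [hSeq]
  have : N * a ^ 2 ≤ 15 * o ^ 2 := by
    have h1 : N * a ^ 2 * (8 / 15) ≤ N * a ^ 2 * S :=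
      mul_le_mul_of_nonneg_left hS' (mul_nonneg hN (sq_nonneg a))
    linarith
  exact_mod_cast (show ((d.H.index : ℚ) * (Nat.card (d.A i) : ℚ) ^ 2) ≤
    15 * (Nat.card d.O : ℚ) ^ 2 from this)

/-- The count with an inequality. -/
theorem false_of_le {N k r e c q I : ℕ} {δ : ℤ} (hc : Odd c) (hc3 : 3 ≤ c) (hr : Odd r)
    (hr3 : 3 ≤ r) (hrc : 2 * r ≤ 3 * c - 1) (he : 0 < e) (hk : k = (r - 1) * e)
    (hδ : δ = 1 ∨ δ = -1) (hq : (q : ℤ) = δ + 4 * c) (hI : 2 * (I : ℤ) = q * (q + δ))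
    (hle : k * I * I ≤ N * (r * e)) (hN : N ≤ 15 * (c * r) ^ 2) : False := by
  subst hk
  have h3 : (r - 1) * (I * I) * e ≤ N * r * e := by linarith
  have h4 : (r - 1) * (I * I) ≤ 15 * (c * r) ^ 2 * r :=
    (Nat.le_of_mul_le_mul_right h3 he).trans (Nat.mul_le_mul hN le_rfl)
  have h5 : (((r - 1) * (I * I) : ℕ) : ℤ) ≤ ((15 * (c * r) ^ 2 * r : ℕ) : ℤ) := by exact_mod_cast h4
  push_cast [show 1 ≤ r by omega] at h5
  have hr3' : (3 : ℤ) ≤ r := by exact_mod_cast hr3
  have hc3' : (3 : ℤ) ≤ c := by exact_mod_cast hc3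
  have hIlb : ((4 : ℤ) * c - 1) * (2 * c - 1) ≤ I := by
    rcases hδ with rfl | rfl <;> rw [hq] at hI <;> nlinarith
  set A : ℤ := ((4 : ℤ) * c - 1) * (2 * c - 1) with hA
  have hA0 : 0 ≤ A := by rw [hA]; nlinarith
  have h6 : ((r : ℤ) - 1) * (A * A) ≤ 15 * ((c : ℤ) * r) ^ 2 * r :=
    le_trans (mul_le_mul_of_nonneg_left (mul_le_mul hIlb hIlb hA0 (le_trans hA0 hIlb))
      (by linarith)) (by linarith)
  have h7 : 2 * (A * A) ≤ 45 * ((c : ℤ) * r) ^ 2 := by
    have : 2 * (A * A) * r ≤ 45 * ((c : ℤ) * r) ^ 2 * r := by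
      nlinarith [mul_nonneg (mul_nonneg hA0 hA0) (sub_nonneg.2 hr3')]
    exact le_of_mul_le_mul_right this (by linarith)
  rcases Nat.lt_or_ge c 5 with h | h
  · have hc3e : c = 3 := by obtain ⟨j, rfl⟩ := hc; omega
    have hre : r = 3 := by obtain ⟨j, rfl⟩ := hr; omega
    subst hc3e hre
    rw [hA] at h7
    norm_num at h7
  · have h5' : (5 : ℤ) ≤ c := by exact_mod_cast h
    have hr2 : 2 * (r : ℤ) ≤ 3 * c - 1 := by omega
    have h8 : 4 * ((c : ℤ) * r) ^ 2 ≤ ((c : ℤ) * (3 * c - 1)) ^ 2 := by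
      calc 4 * ((c : ℤ) * r) ^ 2 = ((c : ℤ) * (2 * r)) ^ 2 := by ring
        _ ≤ _ := pow_le_pow_left₀ (by positivity)
          (mul_le_mul_of_nonneg_left hr2 (by linarith)) 2
    have h9 : 8 * (A * A) ≤ 45 * ((c : ℤ) * (3 * c - 1)) ^ 2 := by linarith
    rw [hA] at h9
    nlinarith [mul_le_mul_of_nonneg_right h5' (show (0 : ℤ) ≤ (c : ℤ) ^ 3 by positivity),
      mul_le_mul_of_nonneg_right h5' (show (0 : ℤ) ≤ (c : ℤ) ^ 2 by positivity),
      mul_le_mul_of_nonneg_right h5' (show (0 : ℤ) ≤ (c : ℤ) by positivity)]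

variable [IsSimpleGroup G]

/-- No nontrivial abelian `H`-invariant subgroup of the core meets the fixed points. -/
theorem inf_fixed_eq_bot (d : Setting G) (hm : d.m = 2) (i : ZMod d.m) (hc : d.Central i)
    (hknown : KnownProper G) (hfacts : Data.HasCompFacts (G := G)) (X : Subgroup G)
    (hXO : X ≤ d.O) (hXH : d.H ≤ normalizer (X : Set G))
    (hXc : ∀ x ∈ X, ∀ y ∈ X, x * y = y * x) : X ⊓ d.A i = ⊥ := by
  by_contra hne
  classical
  haveI : Fintype G := Fintype.ofFinite G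
  obtain ⟨g, hg1, hg2, hgA⟩ := hc
  set D := X ⊓ d.A i with hD
  have hXconj : ∀ h ∈ d.H, ∀ x ∈ X, h * x * h⁻¹ ∈ X := fun h hh x hx =>
    (mem_normalizer_iff.1 (hXH hh) x).1 hx
  -- `X` is not contained in the fixed points
  have hmoved : ¬ X ≤ d.A i := fun hle => hne (by
    rw [hD, d.eq_bot_of_moved (hXO.trans d.O_le) hXH (g := g) ?_ ?_, bot_inf_eq]
    · exact centralizer_le_normalizer _ (mem_centralizer_iff.2 fun x hx => (hgA x (hle hx)).symm)
    · rw [hg1]; exact d.u_ne_t i)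
  -- `X` lies in the Fitting subgroup of `H`
  have hXF : X ≤ (Cfsg.fittingSubgroup d.H).map d.H.subtype := by
    haveI : (X.subgroupOf d.H).Normal := normal_subgroupOf_of_le_normalizer hXH
    haveI : IsMulCommutative (X.subgroupOf d.H) :=
      ⟨⟨fun a b => Subtype.ext (Subtype.ext (hXc _ a.2 _ b.2))⟩⟩
    have h1 : X.subgroupOf d.H ≤ Cfsg.fittingSubgroup d.H :=
      Cores.le_fittingSubgroup (by
        letI : CommGroup (X.subgroupOf d.H) :=
          { (inferInstance : Group (X.subgroupOf d.H)) with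
            mul_comm := fun a b => IsMulCommutative.is_comm.comm a b }
        infer_instance)
    have h2 := Subgroup.map_mono (f := d.H.subtype) h1
    rwa [Subgroup.map_subgroupOf_eq_of_le (hXO.trans d.O_le)] at h2
  obtain ⟨x₀, hx₀, hx₀A⟩ := Set.not_subset.1 hmoved
  -- the local structure at the elements of `D`
  let LB : G → Subgroup G := fun z => normalizer (zpowers z : Set G)
  have hmemB : ∀ z y : G, Commute y z → y ∈ LB z := fun z y hy =>
    centralizer_le_normalizer _ (mem_centralizer_iff.2 fun w hw => by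
      obtain ⟨k, rfl⟩ := mem_zpowers_iff.1 hw
      exact (hy.zpow_right k).eq.symm)
  have hloc : ∀ z ∈ D, z ≠ 1 → Local d.toData i (LB z) (maxPerfect (LB z)) := by
    intro z hz hz1
    have ht : Commute d.t z := Local.comm_t (mem_inf.1 (mem_inf.1 hz).2).1
    have hu : Commute (d.u i) z := (mem_centralizer_singleton_iff.1 (mem_inf.1 (mem_inf.1 hz).2).2).symm
    have hS : (d.S : Subgroup G) ≤ LB z := fun s hs => by
      refine hmemB z s ?_
      rcases d.toData.mem_four_of_two hm i hs with rfl | rfl | rfl | rfl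
      exacts [Commute.one_left z, ht, hu, ht.mul_left hu]
    have htop : LB z ≠ ⊤ := fun htop => by
      haveI : (zpowers z).Normal := normalizer_eq_top_iff.1 htop
      rcases (inferInstance : (zpowers z).Normal).eq_bot_or_eq_top with h | h
      · exact hz1 (zpowers_eq_bot.1 h)
      · refine d.not_commutative ⟨⟨fun a b => ?_⟩⟩
        obtain ⟨j, rfl⟩ := mem_zpowers_iff.1 (h ▸ mem_top a)
        obtain ⟨k, rfl⟩ := mem_zpowers_iff.1 (h ▸ mem_top b)
        exact ((Commute.refl z).zpow_zpow j k).eq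
    have hlayer : Cfsg.layer (LB z) ≠ ⊥ :=
      KleinLayer.layer_ne_bot d hm i hg1 hg2 ((zpowers_le.2 (mem_inf.1 hz).1).trans hXF) (hgA z (mem_inf.1 hz).2) hu.eq
        (hXO hx₀) (hXc x₀ hx₀ z (mem_inf.1 hz).1)
        fun hc => hx₀A ⟨hXO hx₀, mem_centralizer_singleton_iff.2 hc⟩
    rcases exists_local d.toData hm i hknown hfacts htop hlayer hS with h | h
    · exact h
    · exfalso
      exact hmoved fun x hx => h x (hmemB z x (hXc x hx z (mem_inf.1 hz).1)) (hXO hx)
  have hXL : ∀ z ∈ D, X ≤ LB z := fun z hz x hx => hmemB z x (hXc x hx z (mem_inf.1 hz).1)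
  -- the odd core of `C(z)` contains `D`
  have hDcore : ∀ z ∈ D, z ≠ 1 → ∀ x ∈ D, x ∈ oddPart (LB z) := by
    intro z hz hz1 x hx
    exact (hloc z hz hz1).fixed_mem_oddPart hXc
      (fun τ hτ y hy => hXconj τ (d.O_le (mem_inf.1 hτ).2) y hy) (hXL z hz) hXO (mem_inf.1 hx).1 (mem_inf.1 hx).2
  -- fusion in `D`
  have hAD : ∀ a ∈ d.A i, ∀ x ∈ D, a * x * a⁻¹ ∈ D := fun a ha x hx =>
    mem_inf.2 ⟨hXconj a (d.O_le (mem_inf.1 ha).1) x (mem_inf.1 hx).1, mul_mem (mul_mem ha (mem_inf.1 hx).2) (inv_mem ha)⟩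
  have hfus : ∀ z ∈ D, z ≠ 1 → ∀ y ∈ d.O, y * z * y⁻¹ ∈ D →
      ∃ a ∈ d.A i, ∃ τ ∈ torus d.toData (maxPerfect (LB z)),
        y = a * τ ∧ ∀ x ∈ D, τ * x * τ⁻¹ = x := by
    intro z hz hz1 y hy hyz
    have h := hloc z hz hz1
    have hyu : y⁻¹ * d.u i * y ∈ LB z := by
      refine hmemB z _ ?_
      have h1 : Commute (d.u i) (y * z * y⁻¹) := (mem_centralizer_singleton_iff.1 (mem_inf.1 (mem_inf.1 hyz).2).2).symm
      have h2 := (Commute.conj_iff y⁻¹).2 h1
      rw [inv_inv, show y⁻¹ * (y * z * y⁻¹) * y = z by group] at h2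
      exact h2
    obtain ⟨τ, hτ, hτu⟩ := h.reflection hyu (by
      rw [show y⁻¹ * d.u i * y * d.u i = y⁻¹ * (d.u i * y * (d.u i)⁻¹) by
        rw [d.u_inv]; group]
      exact mul_mem (inv_mem hy)
        ((mem_normalizer_iff.1 (d.H_le_normalizer_O (d.u_mem_H i)) y).1 hy)) (by
      rw [show y⁻¹ * d.u i * y * (y⁻¹ * d.u i * y) = y⁻¹ * (d.u i * d.u i) * y by group,
        d.u_sq]; group)
    refine ⟨y * τ, ⟨mul_mem hy (mem_inf.1 hτ).2, mem_centralizer_singleton_iff.2 ?_⟩, τ⁻¹, inv_mem hτ,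
      (mul_inv_cancel_right y τ).symm, fun x hx => ?_⟩
    · calc y * τ * d.u i = y * (τ * d.u i * τ⁻¹) * τ := by group
        _ = d.u i * (y * τ) := by rw [hτu]; group
    · have := h.commute_oddPart (hDcore z hz hz1 x hx) (inv_mem (mem_inf.1 hτ).1)
      rw [← this.eq]; group
  obtain ⟨z, hz, hz1⟩ : ∃ z ∈ D, z ≠ 1 := by
    by_contra hn
    exact hne (eq_bot_iff.2 fun x hx => mem_bot.2 (by
      by_contra hx1; exact hn ⟨x, hx, hx1⟩))
  have h := hloc z hz hz1
  set L := LB z with hL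
  set E := maxPerfect L with hE
  set C := centralizer ({z} : Set G) with hC
  have hEC : E ≤ C := fun e he =>
    mem_centralizer_singleton_iff.2 (h.commute_oddPart (hDcore z hz hz1 z hz) he).eq.symm
  set T := torus d.toData E with hT
  -- the normalizer of `D` in the core
  set R : Subgroup G := d.O ⊓ normalizer (D : Set G) with hR
  have hnorm : ∀ y ∈ d.O, y * z * y⁻¹ ∈ D → y ∈ R := by
    intro y hy hyz
    obtain ⟨a, ha, τ, hτ, rfl, hτD⟩ := hfus z hz hz1 y hy hyz
    refine ⟨hy, mem_normalizer_fintype fun x hx => ?_⟩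
    rw [show a * τ * x * (a * τ)⁻¹ = a * (τ * x * τ⁻¹) * a⁻¹ by group, hτD x hx]
    exact hAD a ha x hx
  have hmemR : ∀ y ∈ R, ∀ x ∈ D, y * x * y⁻¹ ∈ D := fun y hy x hx =>
    (mem_normalizer_iff.1 (mem_inf.1 hy).2 x).1 hx
  have hRcard : Nat.card R ≤ Nat.card (d.A i) * Nat.card T := by
    rw [← Nat.card_prod]
    refine Nat.card_le_card_of_surjective
      (fun p : d.A i × T => if hp : (p.1 : G) * p.2 ∈ R then (⟨_, hp⟩ : R) else 1) fun y => ?_
    obtain ⟨a, ha, τ, hτ, hyeq, -⟩ := hfus z hz hz1 y y.2.1 (hmemR y y.2 z hz)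
    refine ⟨(⟨a, ha⟩, ⟨τ, hτ⟩), ?_⟩
    have hp : a * τ ∈ R := hyeq ▸ y.2
    simp only [hp, dite_true]
    exact Subtype.ext hyeq.symm
  set R' := R.subgroupOf d.O with hR'
  set r := R'.index with hr
  have hOR : Nat.card d.O = Nat.card R * r := by
    rw [hr, ← R'.card_mul_index, hR', Nat.card_congr (subgroupOfEquivOfLe inf_le_left).toEquiv]
  have hrodd : Odd r := d.O_odd.of_dvd_nat R'.index_dvd_card
  have hO2 : Nat.card d.O ≤ Nat.card (d.A i) * (Nat.card T * r) := by
    rw [hOR, ← mul_assoc]; exact Nat.mul_le_mul_right r hRcard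
  -- the conjugates of `D` meet trivially
  let rep : d.O ⧸ R' → G := fun q => ((q.out : d.O) : G)
  have hrepO : ∀ q, rep q ∈ d.O := fun q => q.out.2
  have hsame : ∀ q q', (rep q)⁻¹ * rep q' ∈ R → q = q' := by
    intro q q' hmem
    rw [← QuotientGroup.out_eq' q, ← QuotientGroup.out_eq' q']
    exact QuotientGroup.eq.2 (mem_subgroupOf.2 hmem)
  have hinj : ∀ q q' x x', x ∈ D → x ≠ 1 → x' ∈ D →
      rep q * x * (rep q)⁻¹ = rep q' * x' * (rep q')⁻¹ → q = q' ∧ x = x' := by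
    intro q q' x x' hx hx1 hx' he
    set y := (rep q')⁻¹ * rep q with hy
    have hyx : y * x * y⁻¹ = x' := by
      rw [hy, show (rep q')⁻¹ * rep q * x * ((rep q')⁻¹ * rep q)⁻¹ =
        (rep q')⁻¹ * (rep q * x * (rep q)⁻¹) * rep q' by group, he]
      group
    have hyO : y ∈ d.O := mul_mem (inv_mem (hrepO q')) (hrepO q)
    obtain ⟨a, ha, τ, hτ, hye, hτD⟩ := hfus x hx hx1 y hyO (hyx ▸ hx')
    have hyR : y ∈ R := ⟨hyO, mem_normalizer_fintype fun w hw => by
      rw [hye, show a * τ * w * (a * τ)⁻¹ = a * (τ * w * τ⁻¹) * a⁻¹ by group, hτD w hw]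
      exact hAD a ha w hw⟩
    obtain rfl := (hsame q' q hyR).symm
    refine ⟨rfl, ?_⟩
    rw [← hyx, hy, inv_mul_cancel, one_mul, inv_one, mul_one]
  have hconjX : ∀ q, ∀ x ∈ D, rep q * x * (rep q)⁻¹ ∈ X := fun q x hx =>
    hXconj _ (d.O_le (hrepO q)) x (mem_inf.1 hx).1
  -- `|X| ≤ |D| c`
  have hXD : Nat.card X ≤ Nat.card D * Nat.card T := by
    have hDX : Nat.card D = Nat.card (D.subgroupOf X) :=
      (Nat.card_congr (subgroupOfEquivOfLe inf_le_left).toEquiv).symm
    rw [hDX, ← Subgroup.card_mul_index (D.subgroupOf X)]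
    refine Nat.mul_le_mul_left _ ?_
    refine Nat.card_le_card_of_injective
      (fun q : X ⧸ D.subgroupOf X => (⟨((q.out : X) : G)⁻¹ * (d.u i * (q.out : X) * (d.u i)⁻¹),
        h.twist_mem (hXL z hz q.out.2) (hXO q.out.2)⟩ : T)) fun q q' he => ?_
    rw [← QuotientGroup.out_eq' q, ← QuotientGroup.out_eq' q']
    refine QuotientGroup.eq.2 (mem_subgroupOf.2 (mem_inf.2 ⟨mul_mem (inv_mem q.out.2) q'.out.2,
      mem_inf.2 ⟨mul_mem (inv_mem (hXO q.out.2)) (hXO q'.out.2), mem_centralizer_singleton_iff.2 ?_⟩⟩))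
    have he' : ((q.out : X) : G)⁻¹ * (d.u i * (q.out : X) * (d.u i)⁻¹) =
        ((q'.out : X) : G)⁻¹ * (d.u i * (q'.out : X) * (d.u i)⁻¹) := congrArg Subtype.val he
    have hcx : ((q'.out : X) : G) * ((q.out : X) : G)⁻¹ =
        ((q.out : X) : G)⁻¹ * ((q'.out : X) : G) := hXc _ q'.out.2 _ (inv_mem q.out.2)
    push_cast
    generalize ((q.out : X) : G) = x at he' hcx ⊢
    generalize ((q'.out : X) : G) = y at he' hcx ⊢
    have h1 : d.u i * (x * y⁻¹) * (d.u i)⁻¹ = x * y⁻¹ := by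
      calc d.u i * (x * y⁻¹) * (d.u i)⁻¹
          = (d.u i * x * (d.u i)⁻¹) * (d.u i * y * (d.u i)⁻¹)⁻¹ := by group
        _ = (x * (x⁻¹ * (d.u i * x * (d.u i)⁻¹))) * (d.u i * y * (d.u i)⁻¹)⁻¹ := by group
        _ = (x * (y⁻¹ * (d.u i * y * (d.u i)⁻¹))) * (d.u i * y * (d.u i)⁻¹)⁻¹ := by rw [he']
        _ = x * y⁻¹ := by group
    have h2 : Commute (d.u i) (x * y⁻¹) := mul_inv_eq_iff_eq_mul.1 h1
    have h3 := h2.inv_right
    rw [mul_inv_rev, inv_inv, hcx] at h3
    exact h3.eq.symm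
  -- the bound `2 r ≤ 3 c - 1`
  have hD3 : 3 ≤ Nat.card D := by
    have hodd : Odd (Nat.card D) :=
      d.O_odd.of_dvd_nat (card_dvd_of_le (inf_le_left.trans hXO))
    have : 1 < Nat.card D := (one_lt_card_iff_ne_bot _).2 hne
    obtain ⟨j, hj⟩ := hodd
    omega
  have hrbound : r * (Nat.card D - 1) < Nat.card D * Nat.card T := by
    have h1 : r * (Nat.card D - 1) < Nat.card X := by
      rw [hr, Subgroup.index, show Nat.card D - 1 = Nat.card {x : D // x ≠ 1} by
        rw [Nat.card_eq_fintype_card, Nat.card_eq_fintype_card, Fintype.card_subtype_compl,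
          Fintype.card_subtype_eq], ← Nat.card_prod]
      refine lt_of_le_of_lt (Nat.card_le_card_of_injective
        (fun p : (d.O ⧸ R') × {x : D // x ≠ 1} =>
          (⟨⟨rep p.1 * (p.2.1 : G) * (rep p.1)⁻¹, hconjX _ _ p.2.1.2⟩, fun he => p.2.2 (Subtype.ext
            (by
              have := congrArg Subtype.val he
              simpa using this))⟩ : {x : X // x ≠ 1})) ?_) ?_
      · rintro ⟨q, ⟨x, hx⟩, hx1⟩ ⟨q', ⟨x', hx'⟩, hx1'⟩ he
        obtain ⟨rfl, rfl⟩ := hinj q q' x x' hx (fun e => hx1 (Subtype.ext e)) hx'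
          (congrArg (fun w : {x : X // x ≠ 1} => ((w.1 : X) : G)) he)
        rfl
      · rw [Nat.card_eq_fintype_card, Nat.card_eq_fintype_card, Fintype.card_subtype_compl,
          Fintype.card_subtype_eq]
        have : 0 < Fintype.card X := Fintype.card_pos
        omega
    exact h1.trans_le hXD
  have hrc := KleinCaseA.two_mul_le hD3 hrbound
  -- `D` is not normal in `H`
  have hr3 : 3 ≤ r := by
    by_contra hlt
    have hr1 : r = 1 := by obtain ⟨j, hj⟩ := hrodd; omega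
    have hOn : d.O ≤ normalizer (D : Set G) := fun y hy => by
      have : (⟨y, hy⟩ : d.O) ∈ R' := by rw [Subgroup.index_eq_one.1 hr1]; exact mem_top _
      exact (mem_subgroupOf.1 this).2
    refine hne (d.eq_bot_of_moved (inf_le_left.trans (hXO.trans d.O_le)) (fun y hy => ?_)
      (g := g) ?_ ?_)
    · obtain ⟨o, ho, s, hs, rfl⟩ := d.exists_mul hy
      refine mul_mem (hOn ho) (centralizer_le_normalizer _ (mem_centralizer_iff.2 fun x hx => ?_))
      have ht : Commute d.t x := Local.comm_t (mem_inf.1 (mem_inf.1 hx).2).1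
      have hu : Commute (d.u i) x := (mem_centralizer_singleton_iff.1 (mem_inf.1 (mem_inf.1 hx).2).2).symm
      rcases d.toData.mem_four_of_two hm i hs with rfl | rfl | rfl | rfl
      exacts [(Commute.one_left x).eq.symm, ht.eq.symm, hu.eq.symm, (ht.mul_left hu).eq.symm]
    · exact centralizer_le_normalizer _ (mem_centralizer_iff.2 fun x hx => (hgA x (mem_inf.1 hx).2).symm)
    · rw [hg1]; exact d.u_ne_t i
  -- the orbit of `z` under the core
  let Z : Finset G := Finset.univ.filter fun x => ∃ y ∈ d.O, y * z * y⁻¹ = x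
  let Z0 : Finset G := Z.filter fun x => x ∈ D
  have he0 : 0 < Z0.card := Finset.card_pos.2 ⟨z, Finset.mem_filter.2 ⟨Finset.mem_filter.2
    ⟨Finset.mem_univ _, 1, one_mem _, by simp⟩, hz⟩⟩
  have hZ1 : ∀ x ∈ Z0, x ∈ D ∧ x ≠ 1 := fun x hx => by
    obtain ⟨hxZ, hxD⟩ := Finset.mem_filter.1 hx
    obtain ⟨y, -, hy⟩ := (Finset.mem_filter.1 hxZ).2
    refine ⟨hxD, fun e => hz1 ?_⟩
    rw [e, mul_inv_eq_iff_eq_mul, one_mul, mul_eq_left] at hy
    exact hy
  have hm1 : Z.card = r * Z0.card := by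
    rw [hr, Subgroup.index, Nat.card_eq_fintype_card, ← Finset.card_univ, ← Finset.card_product]
    refine (Finset.card_bij (fun p _ => rep p.1 * p.2 * (rep p.1)⁻¹) ?_ ?_ ?_).symm
    · intro p hp
      obtain ⟨y, hy, hyx⟩ := (Finset.mem_filter.1 (Finset.mem_filter.1 (Finset.mem_product.1 hp).2).1).2
      exact Finset.mem_filter.2 ⟨Finset.mem_univ _, rep p.1 * y, mul_mem (hrepO _) hy,
        by rw [← hyx]; group⟩
    · intro p hp p' hp' he
      obtain ⟨h1, h2⟩ := hZ1 _ (Finset.mem_product.1 hp).2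
      obtain ⟨e1, e2⟩ := hinj _ _ _ _ h1 h2 (hZ1 _ (Finset.mem_product.1 hp').2).1 he
      exact Prod.ext e1 e2
    · intro x hx
      obtain ⟨y, hy, rfl⟩ := (Finset.mem_filter.1 hx).2
      set q : d.O ⧸ R' := QuotientGroup.mk ⟨y, hy⟩
      have hn : (rep q)⁻¹ * y ∈ R := mem_subgroupOf.1 (QuotientGroup.eq.1 (QuotientGroup.out_eq' q))
      refine ⟨(q, (rep q)⁻¹ * y * z * ((rep q)⁻¹ * y)⁻¹), Finset.mem_product.2 ⟨Finset.mem_univ _,
        Finset.mem_filter.2 ⟨Finset.mem_filter.2 ⟨Finset.mem_univ _, _, (mem_inf.1 hn).1, rfl⟩,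
          hmemR _ hn z hz⟩⟩, ?_⟩
      show rep q * ((rep q)⁻¹ * y * z * ((rep q)⁻¹ * y)⁻¹) * (rep q)⁻¹ = y * z * y⁻¹
      group
  obtain ⟨q, I, δ, hδ, hq, hI, hEcard, hEH, hcent⟩ := h.numbers
  -- the conjugates outside `D`
  set S := Z.filter fun x => x ∉ D with hS
  have hk : S.card = (r - 1) * Z0.card := by
    have := Z.card_filter_add_card_filter_not (fun x => x ∈ D)
    rw [Nat.sub_mul, one_mul]
    change Z0.card + S.card = Z.card at this
    omega
  have hparts : ∀ x ∈ S, ∃ a ∈ D, ∃ τ ∈ T, τ ≠ 1 ∧ x = a * τ ∧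
      a ∈ oddPart L := by
    intro x hx
    obtain ⟨hxZ, hxD⟩ := Finset.mem_filter.1 hx
    obtain ⟨y, hy, hyx⟩ := (Finset.mem_filter.1 hxZ).2
    have hxX : x ∈ X := hyx ▸ hXconj y (d.O_le hy) z (mem_inf.1 hz).1
    obtain ⟨τ, hτ, hτA, hτz⟩ := h.decomp (hXL z hz hxX) (hXO hxX)
    have hτX : τ ∈ X := (zpowers_le.2 (mul_mem (inv_mem hxX)
      (hXconj _ (d.u_mem_H i) x hxX))) hτz
    have haD : x * τ⁻¹ ∈ D := mem_inf.2 ⟨mul_mem hxX (inv_mem hτX), hτA⟩
    refine ⟨_, haD, τ, hτ, fun e => hxD ?_, (inv_mul_cancel_right x τ).symm, hDcore z hz hz1 _ haD⟩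
    simpa [e] using haD
  have hTlt : 1 < Nat.card T := by
    have hpos : 0 < S.card := by rw [hk]; exact Nat.mul_pos (by omega) he0
    obtain ⟨x, hx⟩ := Finset.card_pos.1 hpos
    obtain ⟨a, -, τ, hτ, hτ1, -⟩ := hparts x hx
    exact (one_lt_card_iff_ne_bot _).2 fun e => hτ1 (mem_bot.1 (e ▸ hτ))
  have hTodd : Odd (Nat.card T) := d.O_odd.of_dvd_nat (card_dvd_of_le inf_le_right)
  have hc3 : 3 ≤ Nat.card T := by obtain ⟨j, hj⟩ := hTodd; omega
  have hcomm : ∀ x ∈ S, ∀ a ∈ D, ∀ τ ∈ T, x = a * τ → a ∈ oddPart L →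
      ∀ e ∈ E, e * x * e⁻¹ = a * (e * τ * e⁻¹) := by
    intro x _ a _ τ _ hxe haL e he
    rw [hxe, show e * (a * τ) * e⁻¹ = (e * a) * τ * e⁻¹ by group,
      ← (h.commute_oddPart haL he).eq]
    group
  have hsize : ∀ x ∈ S, 2 * I ≤ Nat.card {y : G // ∃ e ∈ E, e * x * e⁻¹ = y} := by
    intro x hx
    obtain ⟨a, haD, τ, hτ, hτ1, hxe, haL⟩ := hparts x hx
    set K := E ⊓ centralizer ({τ} : Set G)
    have hKidx : (K.subgroupOf E).index = 2 * I := by
      have h1 := (K.subgroupOf E).card_mul_index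
      rw [Nat.card_congr (subgroupOfEquivOfLe inf_le_left).toEquiv, hcent τ hτ hτ1, hEcard] at h1
      refine Nat.eq_of_mul_eq_mul_left (show 0 < 2 * Nat.card T by omega) ?_
      rw [h1]; ring
    rw [← hKidx, Subgroup.index]
    refine Nat.card_le_card_of_injective (fun q : E ⧸ K.subgroupOf E =>
      (⟨((q.out : E) : G) * x * ((q.out : E) : G)⁻¹, _, q.out.2, rfl⟩ :
        {y : G // ∃ e ∈ E, e * x * e⁻¹ = y})) fun q q' he => ?_
    have he' := congrArg Subtype.val he
    simp only [hcomm x hx a haD τ hτ hxe haL _ q.out.2,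
      hcomm x hx a haD τ hτ hxe haL _ q'.out.2, mul_right_inj] at he'
    rw [← QuotientGroup.out_eq' q, ← QuotientGroup.out_eq' q']
    refine QuotientGroup.eq.2 (mem_subgroupOf.2 (mem_inf.2 ⟨mul_mem (inv_mem q.out.2) q'.out.2,
      mem_centralizer_singleton_iff.2 ?_⟩))
    push_cast
    calc ((q.out : E) : G)⁻¹ * (q'.out : E) * τ
        = ((q.out : E) : G)⁻¹ * (((q'.out : E) : G) * τ * ((q'.out : E) : G)⁻¹) * (q'.out : E) := by
          group
      _ = τ * (((q.out : E) : G)⁻¹ * (q'.out : E)) := by rw [← he']; group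
  have htwo : ∀ x ∈ S, (S.filter fun y => ∃ e ∈ E, e * x * e⁻¹ = y).card ≤ 2 := by
    intro x hx
    obtain ⟨a, haD, τ, hτ, hτ1, hxe, haL⟩ := hparts x hx
    refine le_trans (Finset.card_le_card (t := {a * τ, a * τ⁻¹}) fun y hy => ?_) Finset.card_le_two
    obtain ⟨hyS, e, he, rfl⟩ := Finset.mem_filter.1 hy
    obtain ⟨b, hbD, σ, hσ, hσ1, hye, hbL⟩ := hparts _ hyS
    rw [hcomm x hx a haD τ hτ hxe haL e he] at hye ⊢
    have hrot : e * τ * e⁻¹ ∈ E := mul_mem (mul_mem he (mem_inf.1 hτ).1) (inv_mem he)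
    have hab : a = b := by
      refine (inv_mul_eq_one.1 (h.eq_one ?_ (mul_mem (inv_mem hbL) haL))).symm
      rw [show b⁻¹ * a = σ * (e * τ * e⁻¹)⁻¹ by
        rw [eq_mul_inv_iff_mul_eq, mul_assoc, hye, inv_mul_cancel_left]]
      exact mul_mem (mem_inf.1 hσ).1 (inv_mem hrot)
    have hστ : e * τ * e⁻¹ = σ := mul_left_cancel (a := a) (by rw [hye, hab])
    -- the involution of the centralizer of `σ`
    set v := e * d.t * e⁻¹ with hv
    have hvE : v ∈ E := mul_mem (mul_mem he h.t_mem) (inv_mem he)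
    have hvσ : Commute v σ := by
      rw [← hστ, hv]; exact (Commute.conj_iff e).2 (Local.comm_t (mem_inf.1 hτ).2)
    set K := E ⊓ centralizer ({σ} : Set G) with hK
    have hKH : K ≤ d.H := by
      have hle : torus d.toData E ≤ K ⊓ d.H := fun w hw =>
        ⟨⟨(mem_inf.1 hw).1, mem_centralizer_singleton_iff.2 (h.torus_comm hw hσ).eq⟩, d.O_le (mem_inf.1 hw).2⟩
      have htK : d.t ∈ K ⊓ d.H :=
        ⟨⟨h.t_mem, mem_centralizer_singleton_iff.2 (Local.comm_t (mem_inf.1 hσ).2)⟩, d.t_mem_H⟩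
      have hev : 2 ∣ Nat.card (K ⊓ d.H : Subgroup G) := by
        rw [← d.t_order]; exact Subgroup.orderOf_dvd_natCard _ htK
      have hdvd : 2 * Nat.card T ∣ Nat.card (K ⊓ d.H : Subgroup G) :=
        Nat.Coprime.mul_dvd_of_dvd_of_dvd (Nat.coprime_two_left.2 hTodd) hev (card_dvd_of_le hle)
      have hKc : Nat.card K = 2 * Nat.card T := hcent σ hσ hσ1
      have heq : K ⊓ d.H = K := eq_of_le_of_card_ge inf_le_left
        (hKc ▸ Nat.le_of_dvd Nat.card_pos hdvd)
      exact heq ▸ inf_le_right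
    have hvH : v ∈ d.H := hKH ⟨hvE, mem_centralizer_singleton_iff.2 hvσ.eq⟩
    have hfour : ∀ w ∈ E ⊓ d.H, ∃ o ∈ T, ∃ s ∈ (d.S : Subgroup G), w = o * s := by
      intro w hw
      obtain ⟨o, ho, s, hs, hws⟩ := d.exists_mul (mem_inf.1 hw).2
      refine ⟨o, mem_inf.2 ⟨?_, ho⟩, s, hs, hws⟩
      rw [show o = w * s⁻¹ by rw [hws]; group]
      exact mul_mem (mem_inf.1 hw).1 (inv_mem (h.S_le hs))
    have hcases : ∀ w ∈ E ⊓ d.H, ∀ ρ ∈ T, w * ρ * w⁻¹ = ρ ∨ w * ρ * w⁻¹ = ρ⁻¹ := by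
      intro w hw ρ hρ
      obtain ⟨o, ho, s, hs, rfl⟩ := hfour w hw
      have hoρ : Commute o ρ := h.torus_comm ho hρ
      have key : s * ρ * s⁻¹ = ρ ∨ s * ρ * s⁻¹ = ρ⁻¹ := by
        rcases d.toData.mem_four_of_two hm i hs with rfl | rfl | rfl | rfl
        · simp
        · exact Or.inl (mul_inv_eq_iff_eq_mul.2 (Local.comm_t hρ.2))
        · exact Or.inr (h.torus_inv hρ)
        · refine Or.inr ?_
          rw [show d.t * d.u i * ρ * (d.t * d.u i)⁻¹ = d.t * (d.u i * ρ * (d.u i)⁻¹) * d.t⁻¹ by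
            group, h.torus_inv hρ]
          exact mul_inv_eq_iff_eq_mul.2 (Local.comm_t (inv_mem hρ.2))
      rcases key with k | k
      · exact Or.inl (by
          rw [show o * s * ρ * (o * s)⁻¹ = o * (s * ρ * s⁻¹) * o⁻¹ by group, k, hoρ.eq]; group)
      · exact Or.inr (by
          rw [show o * s * ρ * (o * s)⁻¹ = o * (s * ρ * s⁻¹) * o⁻¹ by group, k,
            hoρ.inv_right.eq]; group)
    have hvt : v = d.t := by
      obtain ⟨o, ho, s, hs, hvos⟩ := hfour v ⟨hvE, hvH⟩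
      have hoσ : Commute o σ := h.torus_comm ho hσ
      have hsσ : Commute s σ := by
        have : s = o⁻¹ * v := by rw [hvos]; group
        rw [this]; exact hoσ.inv_left.mul_left hvσ
      have hv2 : v * v = 1 := by
        rw [hv, show e * d.t * e⁻¹ * (e * d.t * e⁻¹) = e * (d.t * d.t) * e⁻¹ by group, d.t_sq]
        group
      have hinvcase : ∀ w : G, w * σ * w⁻¹ = σ⁻¹ → Commute w σ → False := fun w hw hc =>
        hσ1 (Data.eq_one_of_odd (d.orderOf_odd (mem_inf.1 hσ).2) (by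
          rw [← hw, hc.eq, mul_inv_cancel_right]))
      rcases d.toData.mem_four_of_two hm i hs with rfl | rfl | rfl | rfl
      · exfalso
        rw [mul_one] at hvos
        have := d.orderOf_odd (mem_inf.1 ho).2
        rw [← hvos, hv, Involutions.Basic.orderOf_conj, d.t_order] at this
        exact absurd this (by decide)
      · have hot : Commute d.t o := Local.comm_t (mem_inf.1 ho).2
        have : o * o = 1 := by
          rw [hvos, show o * d.t * (o * d.t) = o * (d.t * o) * d.t by group, hot.eq,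
            show o * (o * d.t) * d.t = o * o * (d.t * d.t) by group, d.t_sq, mul_one] at hv2
          exact hv2
        rw [hvos, Data.eq_one_of_odd (d.orderOf_odd (mem_inf.1 ho).2) (eq_inv_of_mul_eq_one_left this), one_mul]
      · exact (hinvcase _ (h.torus_inv hσ) hsσ).elim
      · refine (hinvcase _ ?_ hsσ).elim
        rw [show d.t * d.u i * σ * (d.t * d.u i)⁻¹ = d.t * (d.u i * σ * (d.u i)⁻¹) * d.t⁻¹ by
          group, h.torus_inv hσ]
        exact mul_inv_eq_iff_eq_mul.2 (Local.comm_t (inv_mem (mem_inf.1 hσ).2))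
    have heH : e ∈ d.H := mem_centralizer_singleton_iff.2 (by
      calc e * d.t = (e * d.t * e⁻¹) * e := by group
        _ = d.t * e := by rw [← hv, hvt])
    simp only [Finset.mem_insert, Finset.mem_singleton]
    rcases hcases e ⟨he, heH⟩ τ hτ with k | k
    · exact Or.inl (by rw [k])
    · exact Or.inr (by rw [k])
  -- the two counts
  have hclass : S.card * I ≤ C.index := by
    rw [← card_class z]
    refine KleinCaseA.card_mul_le E S (fun x hx => ?_) hsize htwo
    obtain ⟨y, -, hy⟩ := (Finset.mem_filter.1 (Finset.mem_filter.1 hx).1).2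
    exact isConj_iff.2 ⟨y, hy⟩
  have hL2 : C.relIndex d.H = Z.card := by
    have h1 : C.relIndex d.H * Nat.card (C ⊓ d.H : Subgroup G) = Nat.card d.H := by
      rw [← Subgroup.inf_relIndex_right, mul_comm]
      exact Subgroup.card_mul_index ((C ⊓ d.H).subgroupOf d.H) |>.symm ▸ by
        rw [Subgroup.relIndex, Nat.card_congr (subgroupOfEquivOfLe (inf_le_right (a := C))).toEquiv]
    have hSL : (d.S : Subgroup G) ≤ C := fun s hs => hEC (h.S_le hs)
    have hH : Nat.card d.H = Nat.card d.O * 4 := by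
      have h1 := card_inf_H hm (d := d.toData) (K := ⊤) le_top
      rwa [top_inf_eq, top_inf_eq] at h1
    have h2 : ((C ⊓ d.O).subgroupOf d.O).index = Z.card := by
      rw [Subgroup.index, ← Fintype.card_coe, ← Nat.card_eq_fintype_card]
      refine Nat.card_eq_of_bijective (fun q => ⟨((q.out : d.O) : G) * z * ((q.out : d.O) : G)⁻¹,
        Finset.mem_filter.2 ⟨Finset.mem_univ _, _, q.out.2, rfl⟩⟩) ⟨fun q q' he => ?_, fun x => ?_⟩
      · have he' : ((q.out : d.O) : G) * z * ((q.out : d.O) : G)⁻¹ =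
            ((q'.out : d.O) : G) * z * ((q'.out : d.O) : G)⁻¹ := congrArg Subtype.val he
        rw [← QuotientGroup.out_eq' q, ← QuotientGroup.out_eq' q']
        refine QuotientGroup.eq.2 (mem_subgroupOf.2 (mem_inf.2 ⟨mem_centralizer_singleton_iff.2 ?_,
          mul_mem (inv_mem q.out.2) q'.out.2⟩))
        push_cast
        calc ((q.out : d.O) : G)⁻¹ * (q'.out : d.O) * z
            = ((q.out : d.O) : G)⁻¹ * (((q'.out : d.O) : G) * z * ((q'.out : d.O) : G)⁻¹) *
                (q'.out : d.O) := by group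
          _ = z * (((q.out : d.O) : G)⁻¹ * (q'.out : d.O)) := by rw [← he']; group
      · obtain ⟨y, hy, hyx⟩ := (Finset.mem_filter.1 x.2).2
        set q : d.O ⧸ (C ⊓ d.O).subgroupOf d.O := QuotientGroup.mk ⟨y, hy⟩
        have hn : ((q.out : d.O) : G)⁻¹ * y ∈ C :=
          (mem_subgroupOf.1 (QuotientGroup.eq.1 (QuotientGroup.out_eq' q))).1
        refine ⟨q, Subtype.ext ?_⟩
        show ((q.out : d.O) : G) * z * ((q.out : d.O) : G)⁻¹ = x.1
        calc ((q.out : d.O) : G) * z * ((q.out : d.O) : G)⁻¹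
            = ((q.out : d.O) : G) * ((((q.out : d.O) : G)⁻¹ * y) * z * (((q.out : d.O) : G)⁻¹ * y)⁻¹)
                * ((q.out : d.O) : G)⁻¹ := by
              rw [mem_centralizer_singleton_iff.1 hn, mul_inv_cancel_right]
          _ = x.1 := by rw [← hyx]; group
    have h3 : Z.card * Nat.card (C ⊓ d.O : Subgroup G) = Nat.card d.O := by
      rw [← h2, ← Nat.card_congr (subgroupOfEquivOfLe (inf_le_right (a := C) (b := d.O))).toEquiv,
        mul_comm]
      exact Subgroup.card_mul_index _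
    rw [card_inf_H hm hSL, hH, ← h3, ← mul_assoc] at h1
    exact Nat.eq_of_mul_eq_mul_right Nat.card_pos (Nat.eq_of_mul_eq_mul_right (by norm_num) h1)
  have hIL : I ≤ d.H.relIndex C := by
    have hEI : d.H.relIndex E = I := by
      have h1 := ((E ⊓ d.H).subgroupOf E).card_mul_index
      rw [Nat.card_congr (subgroupOfEquivOfLe inf_le_left).toEquiv] at h1
      have h2 : d.H.relIndex E = ((E ⊓ d.H).subgroupOf E).index := by
        rw [inf_comm, ← Subgroup.inf_relIndex_right]; rfl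
      rw [h2]
      exact Nat.eq_of_mul_eq_mul_left Nat.card_pos (h1.trans hEH)
    rw [← hEI]
    exact Subgroup.relIndex_le_of_le_right hEC Subgroup.index_ne_zero_of_finite
  have hcount : S.card * I * I ≤ d.H.index * (r * Z0.card) := by
    rw [← hm1, ← hL2, KleinCaseA.index_mul_relIndex_comm]
    exact Nat.mul_le_mul hclass hIL
  -- the order formula
  have hN : d.H.index ≤ 15 * (Nat.card T * r) ^ 2 := by
    refine Nat.le_of_mul_le_mul_right ?_ (pow_pos (Nat.card_pos (α := d.A i)) 2)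
    calc d.H.index * Nat.card (d.A i) ^ 2 ≤ 15 * Nat.card d.O ^ 2 := index_bound d hm i
      _ ≤ 15 * (Nat.card (d.A i) * (Nat.card T * r)) ^ 2 :=
          Nat.mul_le_mul_left 15 (Nat.pow_le_pow_left hO2 2)
      _ = 15 * (Nat.card T * r) ^ 2 * Nat.card (d.A i) ^ 2 := by ring
  exact false_of_le hTodd hc3 hrodd hr3 hrc he0 hk hδ hq hI hcount hN

end Cfsg.Agent.GW.KleinAbelian
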