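import Cfsg.Agent.Lib.GW.BenderFrameDefs
import Cfsg.Agent.Lib.GW.BenderKleinPure
import Cfsg.Agent.Lib.GW.KleinPSL

/-!
# Klein four Sylow subgroup: the component of the centralizer of a fixed element

`L` is a proper subgroup containing the Sylow subgroup with a component `E`; `T = E ∩ O`.
-/

set_option autoImplicit false
set_option linter.style.haveILetI false

namespace Cfsg.Agent.GW.KleinLocal

open Subgroup Cfsg.Agent.GW.Bender Cfsg.Agent.GW.Overgroups

universe u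

variable {G : Type u} [Group G] [Finite G]

/-- A root of odd order. -/
theorem exists_sqrt {K : Subgroup G} {x : G} (hx : x ∈ K) (ho : Odd (orderOf x)) :
    ∃ y ∈ K, y * y = x ∧ ∀ z : G, Commute z x → Commute z y := by
  obtain ⟨k, hk⟩ := ho
  refine ⟨x ^ (k + 1), pow_mem hx _, ?_, fun z hz => hz.pow_right _⟩
  rw [← pow_add, show k + 1 + (k + 1) = orderOf x + 1 by omega, pow_succ, pow_orderOf_eq_one,
    one_mul]

/-- An element whose primary parts lie in a subgroup lies there. -/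
theorem mem_of_primary (K : Subgroup G) {x : G}
    (h : ∀ (p : ℕ) (y : G), p.Prime → p ∣ orderOf x → y ∈ zpowers x → IsPow p y → y ∈ K) :
    x ∈ K := by
  suffices key : ∀ n : ℕ, n ∣ orderOf x → ∀ y ∈ zpowers x, y ^ n = 1 → y ∈ K from
    key _ dvd_rfl x (mem_zpowers x) (pow_orderOf_eq_one x)
  intro n
  induction n using Nat.recOnPrimeCoprime with
  | zero => exact fun hn => absurd (zero_dvd_iff.1 hn) (orderOf_pos x).ne'
  | prime_pow p k hp =>
    intro hn y hy hyn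
    rcases Nat.eq_zero_or_pos k with rfl | hk
    · rw [pow_zero, pow_one] at hyn
      exact hyn ▸ one_mem K
    · obtain ⟨j, -, hj⟩ := (Nat.dvd_prime_pow hp).1 (orderOf_dvd_of_pow_eq_one hyn)
      exact h p y hp ((dvd_pow_self p hk.ne').trans hn) hy ⟨j, hj⟩
  | coprime a b _ _ hab iha ihb =>
    intro hn y hy hyn
    have h1 : y ^ b ∈ K := iha ((dvd_mul_right a b).trans hn) _ (pow_mem hy _)
      (by rw [← pow_mul, mul_comm, hyn])
    have h2 : y ^ a ∈ K := ihb ((dvd_mul_left b a).trans hn) _ (pow_mem hy _)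
      (by rw [← pow_mul, hyn])
    have h3 : y = (y ^ a) ^ Nat.gcdA a b * (y ^ b) ^ Nat.gcdB a b := by
      rw [← zpow_natCast y a, ← zpow_natCast y b, ← zpow_mul, ← zpow_mul, ← zpow_add,
        ← Nat.gcd_eq_gcd_ab, hab.gcd_eq_one, Nat.cast_one, zpow_one]
    rw [h3]
    exact mul_mem (zpow_mem h2 _) (zpow_mem h1 _)

/-- The data: `L` contains the Sylow subgroup and has the component `E` of type `PSL₂`. -/
structure Local (d : Data G) (i : ZMod d.m) (L E : Subgroup G) : Prop where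
  facts : CompFacts L
  comp : E = maxPerfect L
  psl : IsPSLType L
  klein : d.m = 2
  t_mem : d.t ∈ E
  u_mem : d.u i ∈ E
  centre : E ⊓ oddPart L = ⊥

variable {d : Data G} {i : ZMod d.m} {L E : Subgroup G}

/-- The odd part of the torus. -/
abbrev torus (d : Data G) (E : Subgroup G) : Subgroup G := E ⊓ d.O

theorem not_eight (d : Data G) (hm : d.m = 2) : ¬ 8 ∣ Nat.card G := by
  haveI : Fact (Nat.Prime 2) := ⟨Nat.prime_two⟩
  intro h
  have h1 : Nat.card (d.S : Subgroup G) = 4 := by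
    rw [Nat.card_congr d.e.toEquiv, DihedralGroup.nat_card, hm]
  have h2 := d.S.pow_dvd_card_of_pow_dvd_card (n := 3) (by simpa using h)
  rw [h1] at h2
  omega

/-- The Sylow subgroup in a component. -/
theorem four_mem (hm : d.m = 2) (hE : d.t ∈ E ∧ d.u i ∈ E) {s : G}
    (hs : s ∈ (d.S : Subgroup G)) : s ∈ E := by
  haveI := Fintype.ofFinite G
  rcases d.mem_four_of_two hm i hs with rfl | rfl | rfl | rfl
  exacts [one_mem E, hE.1, hE.2, mul_mem hE.1 hE.2]

/-- A subgroup containing the Sylow subgroup meets `H` in four cosets of its meet with `O`. -/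
theorem card_inf_H (hm : d.m = 2) {K : Subgroup G} (hK : (d.S : Subgroup G) ≤ K) :
    Nat.card (K ⊓ d.H : Subgroup G) = Nat.card (K ⊓ d.O : Subgroup G) * 4 := by
  haveI := Fintype.ofFinite G
  have h4 : Nat.card (d.S : Subgroup G) = 4 := by
    rw [Nat.card_congr d.e.toEquiv, DihedralGroup.nat_card, hm]
  rw [← h4, ← Nat.card_prod]
  refine (Nat.card_eq_of_bijective
    (fun p : (K ⊓ d.O : Subgroup G) × (d.S : Subgroup G) => (⟨(p.1 : G) * p.2,
      mul_mem p.1.2.1 (hK p.2.2), mul_mem (d.O_le p.1.2.2) (d.S_le p.2.2)⟩ :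
        (K ⊓ d.H : Subgroup G))) ⟨?_, ?_⟩).symm
  · rintro ⟨⟨o, ho⟩, ⟨s, hs⟩⟩ ⟨⟨o', ho'⟩, ⟨s', hs'⟩⟩ he
    have he' : o * s = o' * s' := congrArg Subtype.val he
    have h1 : o'⁻¹ * o = s' * s⁻¹ := by
      rw [eq_mul_inv_iff_mul_eq, mul_assoc, he', inv_mul_cancel_left]
    have h2 : o'⁻¹ * o = 1 := Data.eq_one_of_odd
      (d.orderOf_odd (mul_mem (inv_mem (mem_inf.1 ho').2) (mem_inf.1 ho).2)) (eq_inv_of_mul_eq_one_left (by
        rw [h1]; exact d.sq_of_two hm (mul_mem hs' (inv_mem hs))))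
    obtain rfl := (inv_mul_eq_one.1 h2).symm
    obtain rfl : s = s' := mul_left_cancel he'
    rfl
  · rintro ⟨x, hx⟩
    obtain ⟨hxK, hxH⟩ := mem_inf.1 hx
    obtain ⟨o, ho, s, hs, rfl⟩ := d.exists_mul hxH
    have hoK : o ∈ K := by simpa using mul_mem hxK (inv_mem (hK hs))
    exact ⟨(⟨o, mem_inf.2 ⟨hoK, ho⟩⟩, ⟨s, hs⟩), rfl⟩

namespace Local

variable (h : Local d i L E)

include h

theorem le : E ≤ L := h.comp.le.trans (maxPerfect_le L)

theorem conj_mem {x y : G} (hx : x ∈ L) (hy : y ∈ E) : x * y * x⁻¹ ∈ E := by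
  rw [h.comp] at hy ⊢
  exact (mem_normalizer_iff.1 (le_normalizer_maxPerfect L hx) y).1 hy

theorem S_le : (d.S : Subgroup G) ≤ E := fun _ hs => four_mem h.klein ⟨h.t_mem, h.u_mem⟩ hs

theorem commute_oddPart {x y : G} (hx : x ∈ oddPart L) (hy : y ∈ E) : Commute x y := by
  rw [← h.facts.centralizer_eq] at hx
  exact (mem_centralizer_iff.1 (mem_inf.1 hx).2 y (h.comp ▸ hy)).symm

theorem eq_one {x : G} (hx : x ∈ E) (hxD : x ∈ oddPart L) : x = 1 := by
  have : x ∈ (⊥ : Subgroup G) := h.centre ▸ ⟨hx, hxD⟩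
  exact mem_bot.1 this

omit h in
theorem comm_t {x : G} (hx : x ∈ d.O) : d.t * x = x * d.t :=
  (mem_centralizer_singleton_iff.1 (d.O_le hx)).symm

theorem torus_comm {x y : G} (hx : x ∈ torus d E) (hy : y ∈ torus d E) : Commute x y := by
  have h1 := (h.facts.torus h.psl d.t (h.comp ▸ h.t_mem) d.t_order x
    (mem_sup_left (h.comp ▸ (mem_inf.1 hx).1)) (d.orderOf_odd (mem_inf.1 hx).2) (comm_t (mem_inf.1 hx).2)).1 y
    (mem_sup_left (h.comp ▸ (mem_inf.1 hy).1)) (d.orderOf_odd (mem_inf.1 hy).2) (comm_t (mem_inf.1 hy).2)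
  have h2 := h.eq_one (mul_mem (mul_mem (mul_mem (mem_inf.1 hx).1 (mem_inf.1 hy).1) (inv_mem (mem_inf.1 hx).1)) (inv_mem (mem_inf.1 hy).1)) h1
  show x * y = y * x
  rw [mul_inv_eq_one] at h2
  exact mul_inv_eq_iff_eq_mul.1 h2

theorem torus_inv {x : G} (hx : x ∈ torus d E) : d.u i * x * (d.u i)⁻¹ = x⁻¹ := by
  have h1 := (h.facts.torus h.psl d.t (h.comp ▸ h.t_mem) d.t_order x
    (mem_sup_left (h.comp ▸ (mem_inf.1 hx).1)) (d.orderOf_odd (mem_inf.1 hx).2) (comm_t (mem_inf.1 hx).2)).2 (d.u i)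
    (h.le h.u_mem) (d.u_order i) (d.u_ne_t i)
    (mem_centralizer_singleton_iff.1 (d.u_mem_H i)).symm
  have h2 := h.eq_one (mul_mem (h.conj_mem (h.le h.u_mem) (mem_inf.1 hx).1) (mem_inf.1 hx).1) h1
  exact eq_inv_of_mul_eq_one_left h2

/-- The commutator with the reflection. -/
theorem twist_mem {y : G} (hy : y ∈ L) (hyO : y ∈ d.O) :
    y⁻¹ * (d.u i * y * (d.u i)⁻¹) ∈ torus d E := by
  refine mem_inf.2 ⟨?_, mul_mem (inv_mem hyO)
    ((mem_normalizer_iff.1 (d.H_le_normalizer_O (d.u_mem_H i)) y).1 hyO)⟩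
  rw [show y⁻¹ * (d.u i * y * (d.u i)⁻¹) = (y⁻¹ * d.u i * y⁻¹⁻¹) * (d.u i)⁻¹ by group]
  exact mul_mem (h.conj_mem (inv_mem hy) h.u_mem) (inv_mem h.u_mem)

/-- Fixed part times inverted part. -/
theorem decomp {y : G} (hy : y ∈ L) (hyO : y ∈ d.O) :
    ∃ τ ∈ torus d E, y * τ⁻¹ ∈ d.A i ∧
      τ ∈ zpowers (y⁻¹ * (d.u i * y * (d.u i)⁻¹)) := by
  set κ := y⁻¹ * (d.u i * y * (d.u i)⁻¹) with hκ
  have hκT := h.twist_mem hy hyO
  obtain ⟨τ, hτ, hsq, -⟩ := exists_sqrt (inv_mem (mem_zpowers κ))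
    (by rw [orderOf_inv]; exact d.orderOf_odd (mem_inf.1 hκT).2)
  have hτT : τ ∈ torus d E := (zpowers_le.2 hκT) hτ
  refine ⟨τ, hτT, mem_inf.2 ⟨mul_mem hyO (inv_mem (mem_inf.1 hτT).2), mem_centralizer_singleton_iff.2 ?_⟩, hτ⟩
  refine (mul_inv_eq_iff_eq_mul.1 ?_).symm
  calc d.u i * (y * τ⁻¹) * (d.u i)⁻¹
      = (d.u i * y * (d.u i)⁻¹) * (d.u i * τ * (d.u i)⁻¹)⁻¹ := by group
    _ = y * κ * τ := by rw [h.torus_inv hτT, inv_inv, hκ]; group
    _ = y * τ⁻¹ := by
        rw [show κ = τ⁻¹ * τ⁻¹ by rw [← mul_inv_rev, hsq, inv_inv]]; group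

/-- A fixed element of an abelian subgroup normalized by the torus lies in the odd core. -/
theorem fixed_mem_oddPart {X : Subgroup G} (hXc : ∀ x ∈ X, ∀ y ∈ X, x * y = y * x)
    (hXn : ∀ τ ∈ torus d E, ∀ x ∈ X, τ * x * τ⁻¹ ∈ X) (hXL : X ≤ L) (hXO : X ≤ d.O)
    {x : G} (hx : x ∈ X) (hxA : x ∈ d.A i) : x ∈ oddPart L := by
  refine mem_of_primary (oddPart L) fun p y hp hpx hy hpow => ?_
  have hyX : y ∈ X := (zpowers_le.2 hx) hy
  have hyA : y ∈ d.A i := (zpowers_le.2 hxA) hy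
  have hp2 : p ≠ 2 := fun e => absurd (e ▸ (d.orderOf_odd (mem_inf.1 hxA).1).of_dvd_nat hpx) (by decide)
  have hy1 : y ∈ maxPerfect L ⊔ oddPart L := by
    refine h.facts.inner_part d.t (h.comp ▸ h.t_mem) d.t_order p hp hp2 y (hXL hyX)
      (comm_t (mem_inf.1 hyA).1) hpow fun τ hτE hτt hτo _ => ?_
    have hτO : τ ∈ d.O := d.mem_O_of_odd (mem_centralizer_singleton_iff.2 hτt.symm) hτo
    have hτT : τ ∈ torus d E := mem_inf.2 ⟨h.comp ▸ hτE, hτO⟩
    set c := y * τ * y⁻¹ * τ⁻¹ with hc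
    have hcX : c ∈ X := by
      rw [show c = y * (τ * y⁻¹ * τ⁻¹) by rw [hc]; group]
      exact mul_mem hyX (hXn τ hτT _ (inv_mem hyX))
    have hcy : Commute y c := hXc y hyX c hcX
    have hiter : ∀ n : ℕ, y ^ n * τ * (y ^ n)⁻¹ = c ^ n * τ := by
      intro n
      induction n with
      | zero => simp
      | succ n ih =>
        calc y ^ (n + 1) * τ * (y ^ (n + 1))⁻¹ = y * (y ^ n * τ * (y ^ n)⁻¹) * y⁻¹ := by
              rw [pow_succ', mul_inv_rev]; group
          _ = (y * c ^ n) * τ * y⁻¹ := by rw [ih]; group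
          _ = c ^ n * (y * τ * y⁻¹) := by rw [(hcy.pow_right n).eq]; group
          _ = c ^ (n + 1) * τ := by rw [pow_succ, hc]; group
    obtain ⟨k, hk⟩ := hpow
    have h1 := hiter (p ^ k)
    rw [← hk, pow_orderOf_eq_one, one_mul, inv_one, mul_one, hk, eq_comm, mul_eq_right] at h1
    obtain ⟨j, -, hj⟩ := (Nat.dvd_prime_pow hp).1 (orderOf_dvd_of_pow_eq_one h1)
    exact ⟨j, hj⟩
  exact h.facts.four_fixed h.psl d.t (h.comp ▸ h.t_mem) (d.u i) (h.comp ▸ h.u_mem) d.t_order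
    (d.u_order i) (d.u_ne_t i) (mem_centralizer_singleton_iff.1 (d.u_mem_H i)).symm y hy1
    (d.orderOf_odd (mem_inf.1 hyA).1) (comm_t (mem_inf.1 hyA).1) (mem_centralizer_singleton_iff.1 (mem_inf.1 hyA).2).symm

/-- A reflection in `C(z)` is conjugate to the given one under the torus. -/
theorem reflection {v : G} (hv : v ∈ L) (hvu : v * d.u i ∈ d.O) (hv2 : v * v = 1) :
    ∃ τ ∈ torus d E, τ * d.u i * τ⁻¹ = v := by
  set y := v * d.u i with hy
  have hyL : y ∈ L := mul_mem hv (h.le h.u_mem)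
  have hinv : d.u i * y * (d.u i)⁻¹ = y⁻¹ := by
    rw [hy, mul_inv_rev, d.u_inv i, inv_eq_of_mul_eq_one_right hv2, mul_assoc, mul_assoc,
      d.u_sq i, mul_one]
  have hy2 : y⁻¹ * y⁻¹ ∈ torus d E := by
    have := h.twist_mem hyL hvu
    rwa [hinv] at this
  have hyT : y ∈ torus d E := by
    obtain ⟨k, hk⟩ := d.orderOf_odd hvu
    have h1 : y = (y⁻¹ * y⁻¹) ^ k := by
      rw [← pow_two, ← pow_mul, inv_pow, eq_inv_iff_mul_eq_one, ← pow_succ', ← hk,
        pow_orderOf_eq_one]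
    exact h1 ▸ pow_mem hy2 k
  obtain ⟨τ, hτ, hsq, -⟩ := exists_sqrt hyT (d.orderOf_odd hvu)
  refine ⟨τ, hτ, ?_⟩
  calc τ * d.u i * τ⁻¹ = τ * (d.u i * τ⁻¹ * (d.u i)⁻¹) * d.u i := by group
    _ = τ * τ * d.u i := by rw [h.torus_inv (inv_mem hτ), inv_inv]
    _ = v := by rw [hsq, hy, mul_assoc, d.u_sq, mul_one]

/-- The orders: `q = δ + 4 c`, `|E| = 4 c I`, centralizers in the torus have order `2 c`. -/
theorem numbers : ∃ (q I : ℕ) (δ : ℤ), (δ = 1 ∨ δ = -1) ∧
    (q : ℤ) = δ + 4 * Nat.card (torus d E) ∧ 2 * (I : ℤ) = q * (q + δ) ∧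
    Nat.card E = 4 * Nat.card (torus d E) * I ∧
    Nat.card E = Nat.card (E ⊓ d.H : Subgroup G) * I ∧
    ∀ τ ∈ torus d E, τ ≠ 1 →
      Nat.card (E ⊓ centralizer ({τ} : Set G) : Subgroup G) = 2 * Nat.card (torus d E) := by
  obtain ⟨F, _, _, hodd, -, ⟨e0⟩⟩ : ∃ (F : Type) (_ : Field F) (_ : Fintype F),
      Odd (Fintype.card F) ∧ 3 < Fintype.card F ∧
        Nonempty (E ⧸ Cfsg.oddCore E ≃* Matrix.ProjectiveSpecialLinearGroup (Fin 2) F) := by
    obtain rfl := h.comp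
    exact h.psl
  have hbot : Cfsg.oddCore E = ⊥ := by
    rw [eq_bot_iff]
    intro x hx
    have hxE : (x : G) ∈ oddPart E := ⟨x, hx, rfl⟩
    have hn : L ≤ normalizer (oddPart E : Set G) := fun l hl =>
      mem_normalizer_oddPart (h.comp ▸ le_normalizer_maxPerfect L hl)
    haveI : ((oddPart E).subgroupOf L).Normal :=
      normal_subgroupOf_of_le_normalizer hn
    have hmem : (⟨(x : G), h.le x.2⟩ : L) ∈ (oddPart E).subgroupOf L := hxE
    have hoddE : Odd (Nat.card ((oddPart E).subgroupOf L)) := by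
      rw [Nat.card_congr (subgroupOfEquivOfLe ((oddPart_le E).trans h.le)).toEquiv]
      exact oddPart_odd E
    exact mem_bot.2 (Subtype.ext (h.eq_one x.2
      ⟨⟨x, h.le x.2⟩, Cores.le_oddCore hoddE hmem, rfl⟩))
  haveI : (Cfsg.oddCore E).Normal := Cores.pPrimeCore_normal 2
  let e : E ≃* Matrix.ProjectiveSpecialLinearGroup (Fin 2) F :=
    ((QuotientGroup.quotientBot (G := E)).symm.trans
      (QuotientGroup.quotientMulEquivOfEq hbot.symm)).trans e0
  have hcent : ∀ (x : G) (hx : x ∈ E), Nat.card (E ⊓ centralizer ({x} : Set G) : Subgroup G) =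
      Nat.card (centralizer ({e ⟨x, hx⟩} : Set (Matrix.ProjectiveSpecialLinearGroup (Fin 2) F))) := by
    intro x hx
    refine Nat.card_eq_of_bijective (fun g => ⟨e ⟨g, g.2.1⟩, mem_centralizer_singleton_iff.2 ?_⟩)
      ⟨fun a b hab => ?_, fun p => ?_⟩
    · rw [← map_mul, ← map_mul]
      exact congrArg e (Subtype.ext (mem_centralizer_singleton_iff.1 g.2.2))
    · have := e.injective (congrArg Subtype.val hab)
      exact Subtype.ext (congrArg Subtype.val this :)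
    · obtain ⟨⟨g, hg⟩, hge⟩ := e.surjective p.1
      refine ⟨⟨g, hg, mem_centralizer_singleton_iff.2 ?_⟩, Subtype.ext hge⟩
      have h1 := mem_centralizer_singleton_iff.1 p.2
      rw [← hge, ← map_mul, ← map_mul] at h1
      exact congrArg Subtype.val (e.injective h1)
  have hEH : Nat.card (E ⊓ d.H : Subgroup G) = Nat.card (torus d E) * 4 :=
    card_inf_H h.klein h.S_le
  obtain ⟨δ, hδ, hct, -, hcx⟩ := KleinPSL.centralizers hodd (t := e ⟨d.t, h.t_mem⟩)
    (by rw [MulEquiv.orderOf_eq, Subgroup.orderOf_mk, d.t_order])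
  rw [← hcent d.t h.t_mem, show (E ⊓ centralizer ({d.t} : Set G)) = E ⊓ d.H from rfl, hEH] at hct
  push_cast at hct
  have hcard := KleinPSL.two_mul_card hodd
  rw [← Nat.card_congr e.toEquiv] at hcard
  set c := Nat.card (torus d E)
  set q := Fintype.card F
  have hqc : (q : ℤ) = δ + 4 * c := by linarith
  obtain ⟨I, hI⟩ : ∃ I : ℕ, Nat.card E = Nat.card (E ⊓ d.H : Subgroup G) * I :=
    Subgroup.card_dvd_of_le inf_le_left
  have hI2 : 2 * (I : ℤ) = q * (q + δ) := by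
    have hne : ((4 : ℤ) * c) ≠ 0 := by
      have : 0 < c := Nat.card_pos
      positivity
    refine mul_left_cancel₀ hne ?_
    have h2 : ((q : ℤ) ^ 2 - 1) = (q - δ) * (q + δ) := by rcases hδ with rfl | rfl <;> ring
    rw [hI, hEH, h2, show (q : ℤ) - δ = 4 * c by linarith] at hcard
    push_cast at hcard
    linarith
  refine ⟨q, I, δ, hδ, hqc, hI2, by rw [hI, hEH]; ring, hI, fun τ hτ hτ1 => ?_⟩
  have hx1 : e ⟨τ, (mem_inf.1 hτ).1⟩ ≠ 1 := fun hh => hτ1 (congrArg Subtype.val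
    (e.injective (hh.trans (map_one e).symm)) :)
  have hxo : Odd (orderOf (e ⟨τ, (mem_inf.1 hτ).1⟩)) := by
    rw [MulEquiv.orderOf_eq, Subgroup.orderOf_mk]; exact d.orderOf_odd (mem_inf.1 hτ).2
  have hev : Even (Nat.card (centralizer ({e ⟨τ, (mem_inf.1 hτ).1⟩} :
      Set (Matrix.ProjectiveSpecialLinearGroup (Fin 2) F)))) := by
    rw [← hcent τ (mem_inf.1 hτ).1, even_iff_two_dvd, ← d.t_order]
    refine Subgroup.orderOf_dvd_natCard _ ⟨h.t_mem, ?_⟩
    exact mem_centralizer_singleton_iff.2 (comm_t (mem_inf.1 hτ).2)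
  have h3 := hcx _ hx1 hxo hev
  rw [← hcent τ (mem_inf.1 hτ).1] at h3
  omega

end Local

/-- The component of a proper subgroup containing the Sylow subgroup, or no odd element of its
part in `H` is moved by the reflection. -/
theorem exists_local (d : Data G) (hm : d.m = 2) (i : ZMod d.m) (hknown : KnownProper G)
    (hfacts : Data.HasCompFacts (G := G)) {L : Subgroup G} (hL : L ≠ ⊤)
    (hlayer : Cfsg.layer L ≠ ⊥) (hS : (d.S : Subgroup G) ≤ L) :
    Local d i L (maxPerfect L) ∨ ∀ x ∈ L, x ∈ d.O → x ∈ d.A i := by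
  have f := hfacts L hL hlayer
  have h8 := not_eight d hm
  have htE : d.t ∈ maxPerfect L := f.mem_of_four h8 _ (hS d.t_mem) d.t_order
  have huE : d.u i ∈ maxPerfect L := f.mem_of_four h8 _ (hS (d.u_mem i)) (d.u_order i)
  have hEtop : maxPerfect L ≠ ⊤ := fun h => hL (top_le_iff.1 (h.symm.le.trans (maxPerfect_le L)))
  have hpsl : IsPSLType L := by
    rcases hknown _ hEtop f.ne_bot (maxPerfect_perfect L) with h | ⟨⟨e⟩⟩
    · exact h
    · exfalso
      refine h8 (dvd_trans ?_ (Subgroup.card_subgroup_dvd_card (maxPerfect L)))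
      refine dvd_trans ?_ (Subgroup.card_quotient_dvd_card (Cfsg.oddCore (maxPerfect L)))
      rw [Nat.card_congr e.toEquiv, nat_card_alternatingGroup, Nat.card_fin]
      decide
  rcases f.centre hpsl with hc | hc
  · exact Or.inl ⟨f, rfl, hpsl, hm, htE, huE, hc⟩
  · refine Or.inr fun x hx hxO => ⟨hxO, mem_centralizer_singleton_iff.2 ?_⟩
    have h1 := hc d.t htE d.t_order x hx (Local.comm_t hxO) (d.orderOf_odd hxO)
    rw [← f.centralizer_eq] at h1
    exact (mem_centralizer_iff.1 h1.2 _ huE).symm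

end Cfsg.Agent.GW.KleinLocal
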