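import Cfsg.Agent.Lib.GW.NoBareQuadratic
import Cfsg.Agent.Techniques.Bender

/-!
# Quadratic elements and the Fitting subgroup of a component-free subgroup
-/

set_option autoImplicit false
set_option linter.style.haveILetI false

namespace Cfsg.Agent.GW.NoBareQuadratic

open Subgroup Cfsg.Agent.Techniques.Bender Cfsg.Agent.Components.MaximalPair
open Cfsg.Agent.Components Cfsg.Agent.Components.Basic Cfsg.Agent.Components.Fitting

universe u

variable {G : Type u} [Group G] [Finite G]

/-- If `F*(K) = F(K)`, an element of `K` centralizing the `q`-cores for `q ≠ p` and quadratic on the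
Frattini quotient of the `p`-core lies in `F(K)`. -/
theorem mem_fit (S : Sylow 2 G) {m : ℕ} (e : (S : Subgroup G) ≃* DihedralGroup m) {p : ℕ}
    [Fact p.Prime] (hp2 : p ≠ 2) {K : Subgroup G} (hK : gfit K = fit K) {x : G} (hx : x ∈ K)
    (hcomm : ∀ z ∈ fit K, (orderOf z).Coprime p → Commute x z)
    (hquad : ⁅⁅core p K, zpowers x⁆, zpowers x⁆ ≤
      (frattini ↥(core p K)).map (core p K).subtype) : x ∈ fit K := by
  set P := Cfsg.pCore p ↥K with hP
  set R := Cfsg.fittingSubgroup ↥K ⊓ Cfsg.pPrimeCore p ↥K with hR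
  haveI : P.Normal := PLocal.Cores.pCore_normal'
  haveI : (Cfsg.fittingSubgroup ↥K).Normal := inferInstance
  haveI : (Cfsg.pPrimeCore p ↥K).Normal :=
    have := PLocal.Cores.pPrimeCore_characteristic (p := p) (G := ↥K)
    inferInstance
  haveI : R.Normal := by rw [hR]; infer_instance
  have hRc : (Nat.card R).Coprime p :=
    Nat.Coprime.coprime_dvd_left (card_dvd_of_le inf_le_right) PLocal.Cores.coprime_card_pPrimeCore
  have hPF : P ≤ Cfsg.fittingSubgroup ↥K := Fitting.pCore_le_fitting p
  have hsplit : Cfsg.fittingSubgroup ↥K ≤ P ⊔ R := by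
    rw [fitting_eq_coreJoin]
    intro z hz
    have h := coreJoin_le_sup (G := ↥K) p hz
    rw [mem_sup_of_normal_left] at h
    obtain ⟨a, ha, b, hb, rfl⟩ := h
    rw [← fitting_eq_coreJoin] at hz
    refine mul_mem_sup ha ⟨?_, hb⟩
    have := mul_mem (inv_mem (hPF ha)) hz
    rwa [inv_mul_cancel_left] at this
  have hself : centralizer (P : Set ↥K) ⊓ centralizer (R : Set ↥K) ≤ P ⊔ R := by
    refine fun z hz => hsplit ?_
    have hle : (centralizer (P : Set ↥K) ⊓ centralizer (R : Set ↥K)).map K.subtype ≤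
        centralizer (gfit K : Set G) := by
      rintro _ ⟨c, hc, rfl⟩
      rw [hK]
      refine mem_centralizer_iff.mpr ?_
      rintro _ ⟨w, hw, rfl⟩
      have hwc : w ∈ centralizer ({c} : Set ↥K) := by
        refine (hsplit.trans (sup_le ?_ ?_)) hw
        · exact fun v hv => mem_centralizer_singleton_iff.mpr (mem_centralizer_iff.mp hc.1 v hv)
        · exact fun v hv => mem_centralizer_singleton_iff.mpr (mem_centralizer_iff.mp hc.2 v hv)
      exact congrArg Subtype.val (mem_centralizer_singleton_iff.mp hwc)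
    obtain ⟨w, hw, hwe⟩ := le_fit_of_centralizes (map_subtype_le _) hle (mem_map_of_mem _ hz)
    rwa [Subtype.ext hwe] at hw
  have hy : (⟨x, hx⟩ : ↥K) ∈ centralizer (R : Set ↥K) := by
    refine mem_centralizer_iff.mpr fun r hr => Subtype.ext ?_
    refine (hcomm r (mem_map_of_mem _ hr.1) ?_).eq.symm
    rw [orderOf_coe]
    exact Nat.Coprime.coprime_dvd_left (Subgroup.orderOf_dvd_natCard _ hr) hRc
  have hq : ⁅⁅P, zpowers (⟨x, hx⟩ : ↥K)⁆, zpowers (⟨x, hx⟩ : ↥K)⁆ ≤
      (frattini ↥P).map P.subtype := by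
    intro w hw
    have h1 : (w : G) ∈ ⁅⁅core p K, zpowers x⁆, zpowers x⁆ := by
      have := mem_map_of_mem K.subtype hw
      rwa [map_commutator, map_commutator, MonoidHom.map_zpowers] at this
    obtain ⟨v, hv, hve⟩ := hquad h1
    let φ := P.equivMapOfInjective K.subtype K.subtype_injective
    refine ⟨φ.symm v, frattini_le_comap_frattini_of_surjective
      (φ := φ.symm.toMonoidHom) φ.symm.surjective hv, Subtype.ext ?_⟩
    rw [← hve]
    conv_rhs => rw [← φ.apply_symm_apply v]
    rfl
  have h := mem_fitting S e hp2 K R hRc hself hy hq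
  exact ⟨⟨x, hx⟩, sup_le hPF (inf_le_left : R ≤ _) h, rfl⟩

end Cfsg.Agent.GW.NoBareQuadratic
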