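import Cfsg.Agent.Lib.GW.NoBareBasic
import Cfsg.Agent.Lib.GW.NoBareQuadraticFit
import Cfsg.Agent.Lib.Coprime.Commutator
import Cfsg.Agent.Lib.Coprime.PGroup

/-!
# No component-free overgroup: the final step

With no common parts of `F` and its conjugate, a conjugate of a moved element acts quadratically on
`F`, hence lies in `F`.
-/

set_option autoImplicit false
set_option linter.style.haveILetI false

namespace Cfsg.Agent.GW.NoBare

open Subgroup Cfsg.Agent.Techniques.Bender Cfsg.Agent.Components.MaximalPair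
open scoped Pointwise commutatorElement

universe v

section Step

variable {H : Type v} [Group H] [Finite H] {P N : Subgroup H} [P.Normal] [N.Normal]

/-- An element inverted by `u` that commutes with the `u`-fixed points of `P` commutes with its
commutators on an abelian section. -/
theorem commute_commutator (hN : ∀ a ∈ P, ∀ b ∈ P, ⁅a, b⁆ ∈ N) (hP : Odd (Nat.card P)) {u y : H}
    (hu : u * u = 1) (hy : Odd (orderOf y)) (hinv : u * y * u⁻¹ = y⁻¹)
    (hc : ∀ a ∈ P, Commute a u → Commute y a) {a : H} (ha : a ∈ P) :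
    Commute (QuotientGroup.mk' N y) (QuotientGroup.mk' N (y * a * y⁻¹ * a⁻¹)) := by
  set π := QuotientGroup.mk' N with hπ
  have hcomm : ∀ a ∈ P, ∀ b ∈ P, Commute (π a) (π b) := fun a ha b hb => by
    have h : π ⁅a, b⁆ = 1 := (QuotientGroup.eq_one_iff _).2 (hN a ha b hb)
    rw [map_commutatorElement] at h
    exact commutatorElement_eq_one_iff_commute.1 h
  have hconj : ∀ g, ∀ a ∈ P, g * a * g⁻¹ ∈ P := fun g a ha => Normal.conj_mem inferInstance a ha g
  -- the images of `a * (u a u⁻¹)` commute with `y`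
  have hfix : ∀ a ∈ P, Commute (π y) (π a * (π u * π a * (π u)⁻¹)) := by
    intro a ha
    set c := a⁻¹ * (u * a * u⁻¹) with hcdef
    have hcP : c ∈ P := mul_mem (inv_mem ha) (hconj u a ha)
    have hui : u⁻¹ = u := inv_eq_of_mul_eq_one_right hu
    have huc : u * c * u⁻¹ = c⁻¹ := by
      rw [hcdef, mul_inv_rev, inv_inv, hui]
      calc u * (a⁻¹ * (u * a * u)) * u = u * a⁻¹ * u * a * (u * u) := by group
        _ = (u * a * u)⁻¹ * a := by
          rw [hu, mul_one, mul_inv_rev, mul_inv_rev, hui, mul_assoc u a⁻¹ u]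
        _ = _ := rfl
    obtain ⟨j, hj⟩ := exists_pow_eq_self_of_coprime (Nat.coprime_two_left.2 (odd_orderOf hP hcP))
    set d := c ^ j with hd
    have hdd : d * d = c := by
      rw [hd, ← pow_add, ← two_mul, pow_mul]
      exact hj
    have hud : u * d * u⁻¹ = d⁻¹ := by rw [hd, ← conj_pow, huc, inv_pow]
    have hdP : d ∈ P := pow_mem hcP j
    have hfixed : Commute (a * d) u := by
      refine (mul_inv_eq_iff_eq_mul.1 ?_).symm
      calc u * (a * d) * u⁻¹ = (u * a * u⁻¹) * (u * d * u⁻¹) := by group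
        _ = a * c * d⁻¹ := by rw [hud, hcdef]; group
        _ = a * d := by rw [← hdd]; group
    have h := ((hc _ (mul_mem ha hdP) hfixed).map π)
    have e : π a * (π u * π a * (π u)⁻¹) = π (a * d) * π (a * d) := by
      rw [← map_inv, ← map_mul, ← map_mul, show u * a * u⁻¹ = a * c by rw [hcdef]; group,
        map_mul π a c, ← hdd, map_mul π d d, map_mul π a d]
      rw [mul_assoc (π a) (π d) (π a * π d), ← mul_assoc (π d) (π a), (hcomm d hdP a ha).eq]
      group
    rw [e]
    exact h.mul_right h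
  set A := π a
  set U := π u
  set Y := π y
  set A' := U * A * U⁻¹ with hA'
  set D := Y * A * Y⁻¹ * A⁻¹ with hD
  have hmap : π (y * a * y⁻¹ * a⁻¹) = D := by simp [hD, A, Y]
  rw [hmap]
  have hUY : U * Y * U⁻¹ = Y⁻¹ := by simp only [U, Y, ← map_inv, ← map_mul, hinv]
  have hDmem : y * a * y⁻¹ * a⁻¹ ∈ P := mul_mem (hconj y a ha) (inv_mem ha)
  have hAA' : Commute A A' := by
    simpa [A, A', U] using hcomm a ha _ (hconj u a ha)
  have h1 : Y * (A * A') * Y⁻¹ = A * A' := mul_inv_eq_iff_eq_mul.2 (hfix a ha).eq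
  have h2 : Y * A' * Y⁻¹ = D⁻¹ * A' := by
    have hA : Commute (Y * A * Y⁻¹) A := by
      simpa [A, Y] using hcomm _ (hconj y a ha) a ha
    have e : Y * A' * Y⁻¹ = (Y * A * Y⁻¹)⁻¹ * (A * A') := by
      conv_rhs => rw [← h1]
      group
    rw [e, hD, mul_inv_rev (Y * A * Y⁻¹) A⁻¹, inv_inv, ← mul_assoc (Y * A * Y⁻¹)⁻¹ A,
      hA.inv_left.eq]
  have h3 : U * D * U⁻¹ = Y⁻¹ * D * Y := by
    calc U * D * U⁻¹ = (U * Y * U⁻¹) * A' * (U * Y * U⁻¹)⁻¹ * A'⁻¹ := by rw [hD, hA']; group
      _ = Y⁻¹ * A' * Y * A'⁻¹ := by rw [hUY, inv_inv]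
      _ = Y⁻¹ * (D * (Y * A' * Y⁻¹)) * Y * A'⁻¹ := by rw [h2]; group
      _ = Y⁻¹ * D * Y := by group
  have h4 : Commute Y (D * (Y⁻¹ * D * Y)) := by
    rw [← h3]
    simpa [hmap] using hfix _ hDmem
  have hDD : Commute D (Y⁻¹ * D * Y) := by
    simpa [hmap, Y] using hcomm _ hDmem _ (hconj y⁻¹ _ hDmem)
  have h5 : Y * D * Y⁻¹ = Y⁻¹ * D * Y := by
    have h := mul_inv_eq_iff_eq_mul.2 h4.eq
    rw [show Y * (D * (Y⁻¹ * D * Y)) * Y⁻¹ = (Y * D * Y⁻¹) * D by group, hDD.eq] at h
    exact mul_right_cancel h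
  refine commute_of_commute_sq (hy.of_dvd_nat (orderOf_map_dvd π y)) ?_
  show Y ^ 2 * D = D * Y ^ 2
  calc Y ^ 2 * D = Y * (Y * D * Y⁻¹) * Y := by rw [pow_two]; group
    _ = D * Y ^ 2 := by rw [h5, pow_two]; group

/-- Such an element acts quadratically on the section. -/
theorem quadratic (hN : ∀ a ∈ P, ∀ b ∈ P, ⁅a, b⁆ ∈ N) (hP : Odd (Nat.card P)) {u y : H}
    (hu : u * u = 1) (hy : Odd (orderOf y)) (hinv : u * y * u⁻¹ = y⁻¹)
    (hc : ∀ a ∈ P, Commute a u → Commute y a) : ⁅⁅P, zpowers y⁆, zpowers y⁆ ≤ N := by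
  set π := QuotientGroup.mk' N with hπ
  have hker : ∀ x, π x = 1 → x ∈ N := fun x hx => (QuotientGroup.eq_one_iff x).1 hx
  have hcomm : ∀ a ∈ P, ∀ b ∈ P, Commute (π a) (π b) := fun a ha b hb => by
    have h : π ⁅a, b⁆ = 1 := (QuotientGroup.eq_one_iff _).2 (hN a ha b hb)
    rw [map_commutatorElement] at h
    exact commutatorElement_eq_one_iff_commute.1 h
  have h1 : ⁅P, zpowers y⁆ ≤ (centralizer ({π y} : Set (H ⧸ N))).comap π := by
    refine commutator_le.2 fun a ha z hz => ?_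
    obtain ⟨i, rfl⟩ := mem_zpowers_iff.1 hz
    rw [mem_comap, mem_centralizer_singleton_iff]
    set d := y * a * y⁻¹ * a⁻¹ with hd
    have hdP : d ∈ P := mul_mem (Normal.conj_mem inferInstance a ha y) (inv_mem ha)
    have hd1 : Commute (π y) (π d) := commute_commutator hN hP hu hy hinv hc ha
    have haP : ⁅a, y ^ i⁆ ∈ P := by
      rw [commutatorElement_def, mul_assoc, mul_assoc, ← mul_assoc (y ^ i)]
      exact mul_mem ha (Normal.conj_mem inferInstance _ (inv_mem ha) _)
    have e : π (y * ⁅a, y ^ i⁆ * y⁻¹) = π ⁅a, y ^ i⁆ := by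
      rw [show y * ⁅a, y ^ i⁆ * y⁻¹ = d * ⁅a, y ^ i⁆ * d⁻¹ * ⁅d, y ^ i⁆ by
        rw [hd, commutatorElement_def, commutatorElement_def]; group]
      rw [map_mul, map_mul, map_mul, (hcomm d hdP _ haP).eq, map_inv, mul_inv_cancel_right,
        map_commutatorElement π d, map_zpow,
        commutatorElement_eq_one_iff_commute.2 (hd1.symm.zpow_right i), mul_one]
    rw [map_mul, map_mul, map_inv] at e
    exact (mul_inv_eq_iff_eq_mul.1 e).symm
  refine commutator_le.2 fun c hc z hz => hker _ ?_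
  obtain ⟨i, rfl⟩ := mem_zpowers_iff.1 hz
  rw [map_commutatorElement, map_zpow]
  exact commutatorElement_eq_one_iff_commute.2
    (Commute.zpow_right (mem_centralizer_singleton_iff.1 (h1 hc)) i)

omit [N.Normal] in
/-- Such an element of order prime to `p` centralizes the `p`-group. -/
theorem commute_of_coprime {p : ℕ} [Fact p.Prime] (hp : IsPGroup p P) (hp2 : p ≠ 2) {u y : H}
    (hu : u * u = 1) (hy : Odd (orderOf y)) (hyp : (orderOf y).Coprime p)
    (hinv : u * y * u⁻¹ = y⁻¹) (hc : ∀ a ∈ P, Commute a u → Commute y a) :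
    ∀ a ∈ P, Commute y a := by
  have hP : Odd (Nat.card P) := by
    obtain ⟨k, hk⟩ := IsPGroup.iff_card.1 hp
    rw [hk]; exact ((Fact.out : p.Prime).odd_of_ne_two hp2).pow
  set N := (frattini P).map P.subtype
  haveI : N.Normal := ConjAct.normal_of_characteristic_of_normal
  have hPn : Group.IsNilpotent P := hp.isNilpotent
  have hN : ∀ a ∈ P, ∀ b ∈ P, ⁅a, b⁆ ∈ N := fun a ha b hb =>
    ⟨⁅(⟨a, ha⟩ : P), ⟨b, hb⟩⁆, Coprime.commutator_le_frattini P
      (commutator_mem_commutator (mem_top _) (mem_top _)), rfl⟩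
  have hA : zpowers y ≤ centralizer (P : Set H) := by
    refine Coprime.le_centralizer_of_frattini (zpowers_le.2 (by
      rw [normalizer_eq_top]; exact mem_top y)) ?_ ?_
    · rw [Nat.card_zpowers]
      obtain ⟨k, hk⟩ := IsPGroup.iff_card.1 (hp.to_subgroup (frattini P))
      rw [hk]; exact hyp.pow_right k
    · intro z hz a ha
      obtain ⟨i, rfl⟩ := mem_zpowers_iff.1 hz
      set π := QuotientGroup.mk' N
      set d := y * a * y⁻¹ * a⁻¹ with hd'
      have hd : Commute (π y) (π d) := commute_commutator hN hP hu hy hinv hc ha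
      have hk : ∀ k : ℕ, π y ^ k * π a * (π y ^ k)⁻¹ = π d ^ k * π a := by
        intro k
        induction k with
        | zero => simp
        | succ k ih =>
          calc π y ^ (k + 1) * π a * (π y ^ (k + 1))⁻¹
              = π y * (π y ^ k * π a * (π y ^ k)⁻¹) * (π y)⁻¹ := by rw [pow_succ']; group
            _ = π y * (π d ^ k * π a) * (π y)⁻¹ := by rw [ih]
            _ = π d ^ k * (π y * π a * (π y)⁻¹) := by
              rw [show π y * (π d ^ k * π a) * (π y)⁻¹ = (π y * π d ^ k) * (π a * (π y)⁻¹) by group,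
                (hd.pow_right k).eq]
              group
            _ = π d ^ (k + 1) * π a := by
              rw [pow_succ, hd', map_mul, map_mul, map_mul, map_inv, map_inv]; group
      have h1 := hk (orderOf y)
      rw [← map_pow, pow_orderOf_eq_one, map_one, one_mul, inv_one, mul_one] at h1
      have hdy : orderOf (π d) ∣ orderOf y := orderOf_dvd_of_pow_eq_one (by simpa using h1.symm)
      have hdP : d ∈ P := mul_mem (Normal.conj_mem inferInstance a ha y) (inv_mem ha)
      obtain ⟨j, hj⟩ := IsPGroup.iff_orderOf.1 hp ⟨d, hdP⟩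
      rw [Subgroup.orderOf_mk] at hj
      have hd1 : π d = 1 := orderOf_eq_one_iff.1
        (Nat.eq_one_of_dvd_coprimes ((hyp.pow_right j)) hdy (hj ▸ orderOf_map_dvd π d))
      have hya : Commute (π y) (π a) := by
        rw [hd', map_mul, map_mul, map_mul, map_inv, map_inv, mul_inv_eq_one,
          mul_inv_eq_iff_eq_mul] at hd1
        exact hd1
      refine (QuotientGroup.eq_one_iff _).1 ?_
      show π (y ^ i * a * (y ^ i)⁻¹ * a⁻¹) = 1
      rw [map_mul, map_mul, map_mul, map_inv, map_inv, map_zpow, (hya.zpow_left i).eq,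
        mul_inv_cancel_right, mul_inv_cancel]
  intro a ha
  exact (mem_centralizer_iff.1 (hA (mem_zpowers y)) a ha).symm

end Step

namespace Frame

variable {G : Type v} [Group G] [Finite G] (f : Frame G)

/-- A moved element fixed by `t * u` gives a link. -/
theorem exists_link_of_fixed (S : Sylow 2 G) {m : ℕ} (e : (S : Subgroup G) ≃* DihedralGroup m)
    {q : ℕ} [Fact q.Prime] (hq2 : q ≠ 2) {x : G} (hx : x ∈ core q f.K) (hx1 : x ≠ 1)
    (hxt : f.t * x * f.t⁻¹ = x⁻¹) (hxtu : Commute x (f.t * f.u)) :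
    ∃ (p : ℕ) (_ : Fact p.Prime) (I : Subgroup G), f.IsLink p I := by
  by_contra hno
  have hI : core q f.K ⊓ f.core1 q = ⊥ := by
    by_contra h
    exact hno ⟨q, inferInstance, _, f.isLink_core q h⟩
  set y := f.g * x * f.g⁻¹ with hy
  have hy1 : y ∈ f.core1 q := Coprime.conj_mem_conj_smul hx
  have hyt : Commute y f.t := by
    have h := (Commute.conj_iff f.g).2 hxtu
    have e : f.g * (f.t * f.u) * f.g⁻¹ = f.t := by
      rw [show f.g * (f.t * f.u) * f.g⁻¹ = (f.g * f.t * f.g⁻¹) * (f.g * f.u * f.g⁻¹) by group,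
        f.conj_t, f.conj_u, ← mul_assoc, f.comm.symm.eq, mul_assoc, f.u_sq, mul_one]
    rwa [e] at h
  have hyu : f.u * y * f.u⁻¹ = y⁻¹ := by
    rw [hy, ← f.conj_t]
    calc f.g * f.t * f.g⁻¹ * (f.g * x * f.g⁻¹) * (f.g * f.t * f.g⁻¹)⁻¹
        = f.g * (f.t * x * f.t⁻¹) * f.g⁻¹ := by group
      _ = (f.g * x * f.g⁻¹)⁻¹ := by rw [hxt]; group
  have hyK : y ∈ f.K := f.mem_K_of_commute hyt
  have hyK1 : y ∈ f.K1 := f.mem_K1.2 (by
    rw [hy, show f.g⁻¹ * (f.g * x * f.g⁻¹) * f.g = x by group]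
    exact map_subtype_le _ hx)
  obtain ⟨k, hk⟩ := IsPGroup.iff_orderOf.1 (f.core1_isPGroup q) ⟨y, hy1⟩
  rw [Subgroup.orderOf_mk] at hk
  have hyodd : Odd (orderOf y) := hk ▸ ((Fact.out : q.Prime).odd_of_ne_two hq2).pow
  -- `y` commutes with the fixed points of `u`
  have hc : ∀ r : ℕ, r.Prime → ∀ a ∈ core r f.K, Commute a f.u → Commute y a := by
    intro r hr a ha hau
    haveI := Fact.mk hr
    have hd : core r f.K ⊓ f.core1 q = ⊥ := by
      by_cases hrq : r = q
      · subst hrq; exact hI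
      · refine disjoint_of_isPGroup (core_isPGroup r f.K) ?_
        obtain ⟨i, hi⟩ := IsPGroup.iff_card.1 (f.core1_isPGroup q)
        rw [hi]
        exact Nat.Coprime.pow_left i
          ((Nat.coprime_primes (Fact.out : q.Prime) hr).2 (Ne.symm hrq))
    exact commute_of_disjoint hd ha hy1 (f.le_normalizer_core1 q (f.mem_K1_of_commute hau))
      (le_normalizer_core r f.K hyK)
  set yK : f.K := ⟨y, hyK⟩
  set uK : f.K := ⟨f.u, f.u_mem_K⟩
  have hyKo : orderOf yK = q ^ k := by rw [Subgroup.orderOf_mk, hk]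
  have huK : uK * uK = 1 := Subtype.ext f.u_sq
  have hinvK : uK * yK * uK⁻¹ = yK⁻¹ := Subtype.ext hyu
  have hcK : ∀ r : ℕ, r.Prime → ∀ a ∈ Cfsg.pCore r ↥f.K, Commute a uK → Commute yK a :=
    fun r hr a ha hau => Subtype.ext
      (hc r hr a (mem_map_of_mem _ ha) (congrArg Subtype.val hau.eq)).eq
  have hyKodd : Odd (orderOf yK) := hyKo ▸ ((Fact.out : q.Prime).odd_of_ne_two hq2).pow
  have hcomm : ∀ z ∈ fit f.K, (orderOf z).Coprime q → Commute y z := by
    intro z hz hzq
    obtain ⟨z', hz', rfl⟩ := hz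
    rw [Subgroup.coe_subtype, Subgroup.orderOf_coe] at hzq
    haveI : (Cfsg.pCore q ↥f.K).Normal := PLocal.Cores.pCore_normal'
    set W := centralizer ({yK} : Set f.K) ⊓ centralizer (Cfsg.pCore q ↥f.K : Set f.K)
    have hle : Cfsg.fittingSubgroup ↥f.K ≤ Cfsg.pCore q ↥f.K ⊔ W := by
      rw [Components.Fitting.fitting_eq_coreJoin]
      refine iSup_le fun r => ?_
      by_cases hrq : (r : ℕ) = q
      · rw [hrq]; exact le_sup_left
      refine le_sup_of_le_right fun a ha => ?_
      haveI := Fact.mk r.2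
      have hrprime : (r : ℕ).Prime := r.2
      refine ⟨mem_centralizer_singleton_iff.2 ?_, mem_centralizer_iff.2 fun b hb =>
        (Cores.pCore_commute hrq ha hb).eq.symm⟩
      by_cases hr2 : (r : ℕ) = 2
      · have : Cfsg.pCore 2 ↥f.K = ⊥ :=
          (map_eq_bot_iff_of_injective _ f.K.subtype_injective).1 f.core_two
        rw [hr2, this, mem_bot] at ha
        simp [ha]
      haveI : (Cfsg.pCore (r : ℕ) ↥f.K).Normal := PLocal.Cores.pCore_normal'
      exact (commute_of_coprime (Cores.pCore_isPGroup (r : ℕ)) hr2 huK hyKodd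
        (hyKo ▸ Nat.Coprime.pow_left k
          ((Nat.coprime_primes (Fact.out : q.Prime) hrprime).2 (Ne.symm hrq)))
        hinvK (hcK r hrprime) a ha).symm.eq
    obtain ⟨a, ha, b, hb, rfl⟩ := mem_sup_of_normal_left.1 (hle hz')
    obtain ⟨i, hi⟩ := IsPGroup.iff_orderOf.1 (Cores.pCore_isPGroup (G := ↥f.K) q) ⟨a, ha⟩
    rw [Subgroup.orderOf_mk] at hi
    have hab : Commute a b := mem_centralizer_iff.1 hb.2 a ha
    have hpow : (a * b) ^ (q ^ i) ∈ centralizer ({yK} : Set f.K) := by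
      rw [hab.mul_pow, ← hi, pow_orderOf_eq_one, one_mul]
      exact pow_mem hb.1 _
    obtain ⟨j, hj⟩ := exists_pow_eq_self_of_coprime (x := a * b) (hzq.symm.pow_left i)
    have hmem : a * b ∈ centralizer ({yK} : Set f.K) := hj ▸ pow_mem hpow j
    exact (congrArg Subtype.val (mem_centralizer_singleton_iff.1 hmem)).symm
  have hquad : ⁅⁅core q f.K, zpowers y⁆, zpowers y⁆ ≤
      (frattini ↥(core q f.K)).map (core q f.K).subtype := by
    set P := Cfsg.pCore q ↥f.K with hPdef
    haveI : P.Normal := PLocal.Cores.pCore_normal'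
    haveI : ((frattini P).map P.subtype).Normal := ConjAct.normal_of_characteristic_of_normal
    have hPn : Group.IsNilpotent P := (Cores.pCore_isPGroup (G := ↥f.K) q).isNilpotent
    have hN : ∀ a ∈ P, ∀ b ∈ P, ⁅a, b⁆ ∈ (frattini P).map P.subtype := fun a ha b hb =>
      ⟨⁅(⟨a, ha⟩ : P), ⟨b, hb⟩⁆, Coprime.commutator_le_frattini P
        (commutator_mem_commutator (mem_top _) (mem_top _)), rfl⟩
    have hPodd : Odd (Nat.card P) := by
      obtain ⟨i, hi⟩ := IsPGroup.iff_card.1 (Cores.pCore_isPGroup (G := ↥f.K) q)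
      rw [hi]; exact ((Fact.out : q.Prime).odd_of_ne_two hq2).pow
    have h := map_mono (f := f.K.subtype)
      (quadratic hN hPodd huK hyKodd hinvK (hcK q Fact.out))
    rw [map_commutator, map_commutator, MonoidHom.map_zpowers] at h
    intro w hw
    obtain ⟨v, ⟨v', hv', rfl⟩, rfl⟩ := h hw
    let φ := P.equivMapOfInjective f.K.subtype f.K.subtype_injective
    exact ⟨φ v', frattini_le_comap_frattini_of_surjective (φ := φ.toMonoidHom) φ.surjective hv', rfl⟩
  have hyF : y ∈ fit f.K := NoBareQuadratic.mem_fit S e hq2 f.gfit_eq_fit hyK hcomm hquad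
  -- `y` is a `q`-element of `F`, so lies in its `q`-part
  have hyq : y ∈ core q f.K := by
    obtain ⟨y', hy', hye⟩ := hyF
    refine ⟨y', ?_, hye⟩
    have h1 := Components.Fitting.coreJoin_le_sup (G := ↥f.K) q
      (Components.Fitting.fitting_eq_coreJoin (G := ↥f.K) ▸ hy')
    haveI : (Cfsg.pCore q ↥f.K).Normal := PLocal.Cores.pCore_normal'
    obtain ⟨a, ha, b, hb, hab⟩ := mem_sup_of_normal_left.1 h1
    obtain ⟨i, hi⟩ := IsPGroup.iff_orderOf.1 (Cores.pCore_isPGroup (G := ↥f.K) q) ⟨a, ha⟩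
    rw [Subgroup.orderOf_mk] at hi
    have hc' : Commute a b :=
      (mem_centralizer_iff.1 (PLocal.Cores.pCore_le_centralizer_pPrimeCore ha) b hb).symm
    have hyo : orderOf y' = q ^ k := by
      rw [← hk, ← hye, Subgroup.coe_subtype, Subgroup.orderOf_coe]
    have hb1 : b = 1 := by
      have hbo : orderOf b ∣ q ^ (i + k) := orderOf_dvd_of_pow_eq_one (by
        have h2 : (a * b) ^ q ^ (i + k) = 1 := by
          rw [hab, pow_add, mul_comm, pow_mul, ← hyo, pow_orderOf_eq_one, one_pow]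
        rw [hc'.mul_pow, show a ^ q ^ (i + k) = 1 by
          rw [pow_add, pow_mul, ← hi, pow_orderOf_eq_one, one_pow], one_mul] at h2
        exact h2)
      exact orderOf_eq_one_iff.1 (Nat.eq_one_of_dvd_coprimes
        ((PLocal.Cores.coprime_card_pPrimeCore (p := q) (G := ↥f.K)).pow_right (i + k))
        (Subgroup.orderOf_dvd_natCard _ hb) hbo)
    rw [← hab, hb1, mul_one]; exact ha
  have hy0 : y ∈ (⊥ : Subgroup G) := hI ▸ mem_inf.2 ⟨hyq, hy1⟩
  rw [mem_bot, hy, conj_eq_one_iff] at hy0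
  exact hx1 hy0

/-- Sections 2 and 3 exclude links, so no frame exists. -/
theorem false_of_no_link (S : Sylow 2 G) {m : ℕ} (e : (S : Subgroup G) ≃* DihedralGroup m)
    (hlink : ∀ (p : ℕ) [Fact p.Prime] (I : Subgroup G), ¬ f.IsLink p I)
    (hlink' : ∀ (p : ℕ) [Fact p.Prime] (I : Subgroup G), ¬ f.swap.IsLink p I) : False := by
  obtain ⟨q, hq, hq2, hmove⟩ := f.exists_core_moved
  haveI := Fact.mk hq
  have hodd : Odd (Nat.card (core q f.K)) := by
    obtain ⟨k, hk⟩ := IsPGroup.iff_card.1 (core_isPGroup q f.K)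
    rw [hk]; exact (hq.odd_of_ne_two hq2).pow
  obtain ⟨x, hx, hx1, hxt, hxu | hxu⟩ := exists_moved f.t_order f.u_order f.ne f.comm
    (le_normalizer_core q f.K f.t_mem_K) (le_normalizer_core q f.K f.u_mem_K) hodd hmove
  · obtain ⟨p, hp, I, hI⟩ := f.swap.exists_link_of_fixed S e hq2 hx hx1 hxt (by
      show Commute x (f.t * (f.t * f.u))
      rwa [← mul_assoc, f.t_sq, one_mul])
    exact hlink' p I hI
  · obtain ⟨p, hp, I, hI⟩ := f.exists_link_of_fixed S e hq2 hx hx1 hxt hxu
    exact hlink p I hI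

end Frame

end Cfsg.Agent.GW.NoBare
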