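import Cfsg.Agent.Lib.GW.NoBareLocal
import Cfsg.Agent.Lib.GW.NoBareFinal
import Cfsg.Agent.Lib.GW.ComponentAction

/-!
# No component-free overgroup: the component case

A maximal overgroup of the normalizer of a link has a component (`linkHasLayer`).  Its odd core is
moved by `t` and `u`, so these are outer, and the parts of `F` at the other primes give two odd
elements in tori of different outer involutions that commute.
-/

set_option autoImplicit false
set_option linter.style.haveILetI false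

namespace Cfsg.Agent.GW.NoBare

open Subgroup Cfsg.Agent.Techniques.Bender Cfsg.Agent.Components.MaximalPair
open Cfsg.Agent.GW.Overgroups
open scoped Pointwise

universe v

variable {G : Type v} [Group G] [Finite G]

theorem odd_conj_smul (h : G) (L : Subgroup G) :
    odd (MulAut.conj h • L) = MulAut.conj h • odd L := by
  rw [odd, odd, show Cfsg.oddCore ↥(MulAut.conj h • L) =
      (Cfsg.oddCore ↥L).map (Subgroup.equivSMul (MulAut.conj h) L).toMonoidHom from
        (PLocal.Cores.map_pPrimeCore_equiv (p := 2) (Subgroup.equivSMul (MulAut.conj h) L)).symm,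
    Subgroup.map_map, Coprime.conj_smul_eq_map h (Subgroup.map _ _), Subgroup.map_map]
  rfl

theorem mem_normalizer_zpowers_of_inv {v z : G} (h : v * z * v⁻¹ = z⁻¹) :
    v ∈ normalizer (zpowers z : Set G) := by
  rw [mem_normalizer_iff]
  intro w
  constructor
  · rintro ⟨i, rfl⟩
    exact ⟨-i, by simp only [← conj_zpow, h, zpow_neg, inv_zpow]⟩
  · rintro ⟨i, hi⟩
    refine ⟨-i, (conj_left_injective (g := v) ?_)⟩
    show v * z ^ (-i) * v⁻¹ = v * w * v⁻¹
    rw [← conj_zpow, h, inv_zpow, zpow_neg, inv_inv]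
    exact hi
where
  conj_left_injective {g : G} {a b : G} (h : g * a * g⁻¹ = g * b * g⁻¹) : a = b :=
    mul_left_cancel (mul_right_cancel h)

/-- An element of `p`-power order of the Fitting subgroup lies in its `p`-part. -/
theorem mem_core_of_orderOf {p k : ℕ} [Fact p.Prime] {M : Subgroup G} {x : G} (hx : x ∈ fit M)
    (hk : orderOf x = p ^ k) : x ∈ core p M := by
  obtain ⟨x', hx', hxe⟩ := hx
  refine ⟨x', ?_, hxe⟩
  have h1 := Components.Fitting.coreJoin_le_sup (G := ↥M) p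
    (Components.Fitting.fitting_eq_coreJoin (G := ↥M) ▸ hx')
  haveI : (Cfsg.pCore p ↥M).Normal := PLocal.Cores.pCore_normal'
  obtain ⟨a, ha, b, hb, hab⟩ := mem_sup_of_normal_left.1 h1
  obtain ⟨i, hi⟩ := IsPGroup.iff_orderOf.1 (Cores.pCore_isPGroup (G := ↥M) p) ⟨a, ha⟩
  rw [Subgroup.orderOf_mk] at hi
  have hc : Commute a b :=
    (mem_centralizer_iff.1 (PLocal.Cores.pCore_le_centralizer_pPrimeCore ha) b hb).symm
  have hxo : orderOf x' = p ^ k := by rw [← hk, ← hxe, Subgroup.coe_subtype, Subgroup.orderOf_coe]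
  have hb1 : b = 1 := by
    have hbo : orderOf b ∣ p ^ (i + k) := orderOf_dvd_of_pow_eq_one (by
      have h2 : (a * b) ^ p ^ (i + k) = 1 := by
        rw [hab, pow_add, mul_comm, pow_mul, ← hxo, pow_orderOf_eq_one, one_pow]
      rw [hc.mul_pow, show a ^ p ^ (i + k) = 1 by
        rw [pow_add, pow_mul, ← hi, pow_orderOf_eq_one, one_pow], one_mul] at h2
      exact h2)
    exact orderOf_eq_one_iff.1 (Nat.eq_one_of_dvd_coprimes
      ((PLocal.Cores.coprime_card_pPrimeCore (p := p) (G := ↥M)).pow_right (i + k))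
      (Subgroup.orderOf_dvd_natCard _ hb) hbo)
  rw [← hab, hb1, mul_one]; exact ha

/-- Commuting with `t` and inverted by `t` forces an odd element to be trivial. -/
theorem eq_one_of_commute_inv {v x : G} (hx : Odd (orderOf x)) (hc : Commute x v)
    (hi : v * x * v⁻¹ = x⁻¹) : x = 1 := by
  rw [← hc.eq, mul_inv_cancel_right] at hi
  exact eq_one_of_inv_eq hx hi.symm

namespace Frame

variable (f : Frame G)

theorem conj_tu : f.g * (f.t * f.u) * f.g⁻¹ = f.t := by
  rw [show f.g * (f.t * f.u) * f.g⁻¹ = (f.g * f.t * f.g⁻¹) * (f.g * f.u * f.g⁻¹) by group,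
    f.conj_t, f.conj_u, ← mul_assoc, f.comm.symm.eq, mul_assoc, f.u_sq, mul_one]

theorem inv_conj_t : f.g⁻¹ * f.t * f.g = f.t * f.u := by
  nth_rw 1 [← f.conj_tu]; group

theorem inv_conj_u : f.g⁻¹ * f.u * f.g = f.t := by
  rw [← f.conj_t]; group

theorem F_le_odd : f.F ≤ odd f.K := by
  refine map_mono (PLocal.Cores.le_pPrimeCore ?_)
  rw [← card_subtype f.K _]
  exact Nat.coprime_two_right.2 f.F_odd

theorem orderOf_odd {r : ℕ} [Fact r.Prime] {x : G} (hx : x ∈ core r f.K) : Odd (orderOf x) :=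
  odd_orderOf f.F_odd (f.core_le_F r hx)

theorem core_eq_bot_or {r : ℕ} [Fact r.Prime] : core r f.K = ⊥ ∨ r ≠ 2 := by
  by_cases h : r = 2
  · subst h; exact Or.inl f.core_two
  · exact Or.inr h

theorem commute_core {p r : ℕ} [Fact p.Prime] [Fact r.Prime] (hrp : r ≠ p) {a b : G}
    (ha : a ∈ core r f.K) (hb : b ∈ core p f.K) : Commute b a :=
  commute_of_disjoint (inf_core_eq_bot hrp f.K f.K) ha hb
    (le_normalizer_core p f.K (map_subtype_le _ ha)) (le_normalizer_core r f.K (map_subtype_le _ hb))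

variable {p : ℕ} [Fact p.Prime] {I : Subgroup G}

theorem link_le_core (hI : f.IsLink p I) : I ≤ core p f.K ⊓ f.core1 p := by
  intro x hx
  obtain ⟨k, hk⟩ := IsPGroup.iff_orderOf.1 hI.isPGroup ⟨x, hx⟩
  rw [Subgroup.orderOf_mk] at hk
  refine ⟨mem_core_of_orderOf (hI.le_F hx) hk, Coprime.mem_conj_smul.2 ?_⟩
  refine mem_core_of_orderOf (k := k) (Coprime.mem_conj_smul.1 (hI.le_F1 hx)) ?_
  have : f.g⁻¹ * x * f.g = MulAut.conj f.g⁻¹ x := by simp
  rw [this, MulEquiv.orderOf_eq, hk]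

/-- Some element of a part of `F` in `N(I)` is moved by `t` and lies in the odd core of `L`. -/
theorem exists_moved_odd {I L : Subgroup G} (hIF : I ≤ f.F) (ht : f.t ∈ normalizer (I : Set G))
    (hu : f.u ∈ normalizer (I : Set G)) (hN : normalizer (I : Set G) ≤ L) (hL : L ≠ ⊤) {r : ℕ}
    [Fact r.Prime] (hmove : ∃ a ∈ core r f.K, ¬ Commute f.t a) :
    ∃ x ∈ core r f.K ⊓ normalizer (I : Set G), x ≠ 1 ∧ f.t * x * f.t⁻¹ = x⁻¹ ∧ x ∈ odd L := by
  set Y := core r f.K ⊓ normalizer (I : Set G)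
  have hYn : ∀ v ∈ f.K, v ∈ normalizer (I : Set G) → v ∈ normalizer (Y : Set G) := by
    intro v hvK hvI
    rw [mem_normalizer_iff]
    intro z
    have e2 : z ∈ normalizer (I : Set G) ↔ v * z * v⁻¹ ∈ normalizer (I : Set G) :=
      ⟨fun h => mul_mem (mul_mem hvI h) (inv_mem hvI), fun h => by
        have := mul_mem (mul_mem (inv_mem hvI) h) hvI
        simpa [mul_assoc] using this⟩
    simp only [Y, mem_inf, ← mem_normalizer_iff.1 (le_normalizer_core r f.K hvK) z, ← e2]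
  have hYmove : ∃ a ∈ Y, ¬ Commute f.t a := by
    by_contra hno
    push Not at hno
    obtain ⟨a, ha, hat⟩ := hmove
    rcases f.core_eq_bot_or (r := r) with h | hr2
    · rw [h, mem_bot] at ha
      exact hat (by rw [ha]; exact Commute.one_right _)
    · refine hat (mem_centralizer_iff.1 (le_centralizer_core (A := zpowers f.t) hIF ?_
        (zpowers_le.2 (le_normalizer_core r f.K f.t_mem_K)) ?_ (mem_zpowers f.t)) a ha).symm
      · rw [Nat.card_zpowers, f.t_order]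
        exact (Nat.coprime_primes Nat.prime_two (Fact.out : r.Prime)).2 (Ne.symm hr2)
      · exact zpowers_le.2 (mem_centralizer_iff.2 fun a ha => (hno a ha).eq.symm)
  obtain ⟨x, hx, hx1, hxt, -⟩ := exists_moved f.t_order f.u_order f.ne f.comm
    (hYn _ f.t_mem_K ht) (hYn _ f.u_mem_K hu)
    (f.F_odd.of_dvd_nat (card_dvd_of_le (inf_le_left.trans (f.core_le_F r)))) hYmove
  exact ⟨x, hx, hx1, hxt,
    f.ov L hL (hN ht) (hN hu) x (hN hx.2) (f.F_le_odd (f.core_le_F r hx.1)) hxt⟩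

theorem t_not_central {I L : Subgroup G} (hIF : I ≤ f.F) (ht : f.t ∈ normalizer (I : Set G))
    (hu : f.u ∈ normalizer (I : Set G)) (hN : normalizer (I : Set G) ≤ L) (hL : L ≠ ⊤) :
    f.t ∉ centralizer (odd L : Set G) := fun h => by
  obtain ⟨q, hq, -, hmove⟩ := f.exists_core_moved
  haveI := Fact.mk hq
  obtain ⟨x, hx, hx1, hxt, hxo⟩ := f.exists_moved_odd hIF ht hu hN hL hmove
  exact hx1 (eq_one_of_commute_inv (f.orderOf_odd hx.1) (mem_centralizer_iff.1 h x hxo) hxt)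

theorem mem_conj_inv {x : G} {H : Subgroup G} :
    x ∈ MulAut.conj f.g⁻¹ • H ↔ f.g * x * f.g⁻¹ ∈ H := by rw [Coprime.mem_conj_smul, inv_inv]

theorem u_not_central (hI : f.IsLink p I) {L : Subgroup G} (hN : normalizer (I : Set G) ≤ L)
    (hL : L ≠ ⊤) : f.u ∉ centralizer (odd L : Set G) := fun h => by
  set I' := MulAut.conj f.g⁻¹ • I
  set L' := MulAut.conj f.g⁻¹ • L
  have hI'F : I' ≤ f.F := fun x hx => by
    have := Coprime.mem_conj_smul.1 (hI.le_F1 (f.mem_conj_inv.1 hx))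
    simpa [mul_assoc] using this
  have hN' : normalizer (I' : Set G) ≤ L' := by
    rw [← Coprime.conj_smul_normalizer]
    exact Subgroup.map_mono hN
  have hmem : ∀ {v}, f.g * v * f.g⁻¹ ∈ normalizer (I : Set G) → v ∈ normalizer (I' : Set G) :=
    fun {v} hv => by rwa [← Coprime.conj_smul_normalizer, f.mem_conj_inv]
  refine f.t_not_central hI'F (hmem (f.conj_t.symm ▸ hI.u_mem))
    (hmem (f.conj_u.symm ▸ mul_mem hI.t_mem hI.u_mem)) hN' (fun hT => hL (eq_top_iff.2 fun x _ => ?_))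
    (mem_centralizer_iff.2 fun x hx => ?_)
  · have := f.mem_conj_inv.1 (hT ▸ mem_top (f.g⁻¹ * x * f.g) : f.g⁻¹ * x * f.g ∈ L')
    simpa [mul_assoc] using this
  · rw [SetLike.mem_coe, odd_conj_smul, f.mem_conj_inv] at hx
    have h1 := (Commute.conj_iff f.g⁻¹).2 (show Commute (f.g * x * f.g⁻¹) f.u from
      mem_centralizer_iff.1 h _ hx)
    rw [inv_inv, f.inv_conj_u, show f.g⁻¹ * (f.g * x * f.g⁻¹) * f.g = x by group] at h1
    exact h1.eq

variable [IsSimpleGroup G]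

theorem exists_pair (S : Sylow 2 G) {m : ℕ} (hm : 2 ≤ m) (e : (S : Subgroup G) ≃* DihedralGroup m)
    (hknown : KnownProper G) (h2 : f.TwoPrimes) (hI : f.IsLink p I) :
    ∃ L : Subgroup G, IsCoatom L ∧ normalizer (I : Set G) ≤ L ∧ Component.Pair L f.t f.u := by
  have hN : normalizer (I : Set G) ≠ ⊤ := fun h => by
    haveI : I.Normal := normalizer_eq_top_iff.1 h
    rcases IsSimpleGroup.eq_bot_or_eq_top_of_normal I inferInstance with h' | h'
    · exact hI.ne_bot h'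
    · exact f.coatom.1 (top_le_iff.1 (h' ▸ hI.le_F.trans f.F_le_K))
  obtain ⟨L, hL, hNL⟩ := (eq_top_or_exists_le_coatom _).resolve_left hN
  exact ⟨L, hL, hNL, Component.pair S hm e hknown hL.1 (f.linkHasLayer h2 p I L hI hL hNL)
    (hNL hI.t_mem) (hNL hI.u_mem) f.t_order f.u_order (Ne.symm f.ne) f.comm
    (f.t_not_central hI.le_F hI.t_mem hI.u_mem hNL hL.1) (f.u_not_central hI hNL hL.1)⟩

variable {L : Subgroup G}

omit [IsSimpleGroup G] in
theorem commute_tu (hP : Component.Pair L f.t f.u) {x : G} (hx : x ∈ odd L) :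
    Commute x (f.t * f.u) :=
  (mem_centralizer_iff.1 (hP.odd_le hx) _ hP.tu_mem).symm

omit [IsSimpleGroup G] in
theorem core_le_of_ne (hI : f.IsLink p I) (hN : normalizer (I : Set G) ≤ L) {r : ℕ} [Fact r.Prime]
    (hrp : r ≠ p) : core r f.K ≤ L ∧ f.core1 r ≤ L := by
  refine ⟨fun a ha => hN (centralizer_le_normalizer _ (mem_centralizer_iff.2 fun b hb => ?_)),
    fun a ha => hN (centralizer_le_normalizer _ (mem_centralizer_iff.2 fun b hb => ?_))⟩
  · exact (f.commute_core hrp ha (f.link_le_core hI hb).1).eq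
  · have h := (Commute.conj_iff f.g).2 (f.commute_core hrp (Coprime.mem_conj_smul.1 ha)
      (Coprime.mem_conj_smul.1 (f.link_le_core hI hb).2))
    simpa [mul_assoc] using h.eq

omit [IsSimpleGroup G] in
/-- At the other primes `t` centralizes the parts of `F`. -/
theorem commute_core_t (hI : f.IsLink p I) (hN : normalizer (I : Set G) ≤ L) (hL : L ≠ ⊤)
    (hP : Component.Pair L f.t f.u) {r : ℕ} [Fact r.Prime] (hrp : r ≠ p) :
    ∀ a ∈ core r f.K, Commute f.t a := by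
  by_contra hno
  push Not at hno
  obtain ⟨h0, h1⟩ := f.core_le_of_ne hI hN hrp
  have hodd : Odd (Nat.card (core r f.K)) :=
    f.F_odd.of_dvd_nat (card_dvd_of_le (f.core_le_F r))
  obtain ⟨x, hx, hx1, hxt, -⟩ := exists_moved f.t_order f.u_order f.ne f.comm
    (le_normalizer_core r f.K f.t_mem_K) (le_normalizer_core r f.K f.u_mem_K) hodd hno
  have htL := hN hI.t_mem
  have huL := hN hI.u_mem
  set y := f.g * x * f.g⁻¹ with hy
  have hyL : y ∈ L := h1 (Coprime.conj_mem_conj_smul hx)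
  have hxK := f.F_le_odd (f.core_le_F r hx)
  have hxo := f.ov L hL htL huL x (h0 hx) hxK hxt
  -- move it by `g`
  have hxo' : x ∈ odd (MulAut.conj f.g⁻¹ • L) := by
    refine f.ov _ (fun hT => hL (eq_top_iff.2 fun w _ => ?_)) ?_ ?_ x (f.mem_conj_inv.2 hyL) hxK hxt
    · have := f.mem_conj_inv.1 (hT ▸ mem_top (f.g⁻¹ * w * f.g) :
        f.g⁻¹ * w * f.g ∈ MulAut.conj f.g⁻¹ • L)
      simpa [mul_assoc] using this
    · rw [f.mem_conj_inv, f.conj_t]; exact huL
    · rw [f.mem_conj_inv, f.conj_u]; exact mul_mem htL huL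
  rw [odd_conj_smul, f.mem_conj_inv] at hxo'
  have hyt : Commute y f.t := by
    have h := (Commute.conj_iff f.g).2 (f.commute_tu hP hxo)
    rwa [f.conj_tu] at h
  have hyu : Commute y f.u := by
    have h := hyt.mul_right (f.commute_tu hP hxo')
    rwa [← mul_assoc, f.t_sq, one_mul] at h
  have hyinv : f.u * y * f.u⁻¹ = y⁻¹ := by
    rw [hy, ← f.conj_t]
    calc f.g * f.t * f.g⁻¹ * (f.g * x * f.g⁻¹) * (f.g * f.t * f.g⁻¹)⁻¹
        = f.g * (f.t * x * f.t⁻¹) * f.g⁻¹ := by group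
      _ = (f.g * x * f.g⁻¹)⁻¹ := by rw [hxt]; group
  have hyodd : Odd (orderOf y) := by
    rw [hy, ← MulAut.conj_apply, MulEquiv.orderOf_eq]; exact f.orderOf_odd hx
  exact hx1 (conj_eq_one_iff.1 (eq_one_of_commute_inv hyodd hyu hyinv))

omit [IsSimpleGroup G] in
theorem mem_of_inverted (hP : Component.Pair L f.t f.u) {w : G} (hwL : w ∈ L) (hw : Odd (orderOf w))
    (hi : f.t * f.u * w * (f.t * f.u)⁻¹ = w⁻¹) :
    w ∈ maxPerfect L ∧ (w ∈ odd L → w = 1) := by
  refine ⟨?_, fun hwo => eq_one_of_commute_inv hw (f.commute_tu hP hwo) hi⟩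
  have h1 : w * (f.t * f.u) * w⁻¹ * (f.t * f.u)⁻¹ = w ^ 2 := by
    have h' : f.t * f.u * w⁻¹ * (f.t * f.u)⁻¹ = w := by
      rw [show f.t * f.u * w⁻¹ * (f.t * f.u)⁻¹ = (f.t * f.u * w * (f.t * f.u)⁻¹)⁻¹ by group, hi,
        inv_inv]
    calc w * (f.t * f.u) * w⁻¹ * (f.t * f.u)⁻¹ = w * (f.t * f.u * w⁻¹ * (f.t * f.u)⁻¹) := by group
      _ = w ^ 2 := by rw [h', sq]
  have h2 : w ^ 2 ∈ maxPerfect L := h1 ▸ mul_mem
    ((mem_normalizer_iff.1 (le_normalizer_maxPerfect L hwL) _).1 hP.tu_mem) (inv_mem hP.tu_mem)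
  obtain ⟨j, hj⟩ := exists_pow_eq_self_of_coprime (x := w) (Nat.coprime_two_left.2 hw)
  exact hj ▸ pow_mem h2 j

/-- Section 3 of `notes/gw-nb-h8.md`. -/
theorem no_link (S : Sylow 2 G) {m : ℕ} (hm : 2 ≤ m) (e : (S : Subgroup G) ≃* DihedralGroup m)
    (hknown : KnownProper G) (h2 : f.TwoPrimes) (p : ℕ) [Fact p.Prime] (I : Subgroup G) :
    ¬ f.IsLink p I := by
  intro hI
  -- a common element
  obtain ⟨L₀, hL₀, hN₀, hP₀⟩ := f.exists_pair S hm e hknown h2 hI
  obtain ⟨q, hq, hq2, hqmove⟩ := f.exists_core_moved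
  haveI := Fact.mk hq
  have hqp : q = p := by
    by_contra hne
    obtain ⟨a, ha, hat⟩ := hqmove
    exact hat (f.commute_core_t hI hN₀ hL₀.1 hP₀ hne a ha)
  subst hqp
  obtain ⟨z, hz, hz1, hzt, hzo⟩ := f.exists_moved_odd hI.le_F hI.t_mem hI.u_mem hN₀ hL₀.1 hqmove
  have hztu := f.commute_tu hP₀ hzo
  have hzu : f.u * z * f.u⁻¹ = z⁻¹ := by
    have e1 : f.u = f.t * (f.t * f.u) := by rw [← mul_assoc, f.t_sq, one_mul]
    calc f.u * z * f.u⁻¹ = f.t * (f.t * f.u * z * (f.t * f.u)⁻¹) * f.t⁻¹ := by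
          nth_rw 1 [e1]; nth_rw 2 [e1]; group
      _ = z⁻¹ := by rw [← hztu.eq, mul_inv_cancel_right, hzt]
  have hz1' : z ∈ f.core1 q := by
    obtain ⟨e₀, he₀, hetu⟩ := hP₀.exists_conj
    have hk : e₀⁻¹ * f.g ∈ f.K := by
      refine f.mem_K_of_commute (mul_inv_eq_iff_eq_mul.1 ?_)
      calc e₀⁻¹ * f.g * f.t * (e₀⁻¹ * f.g)⁻¹ = e₀⁻¹ * (f.g * f.t * f.g⁻¹) * e₀ := by group
        _ = f.t := by rw [f.conj_t, ← hetu]; group
    rw [Coprime.mem_conj_smul]
    have h := (mem_normalizer_iff''.1 (le_normalizer_core q f.K hk) z).1 hz.1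
    have hce : z * e₀ = e₀ * z := (mem_centralizer_iff.1 (hP₀.odd_le hzo) e₀ he₀).symm
    have heq : (e₀⁻¹ * f.g)⁻¹ * z * (e₀⁻¹ * f.g) = f.g⁻¹ * z * f.g := by
      calc (e₀⁻¹ * f.g)⁻¹ * z * (e₀⁻¹ * f.g) = f.g⁻¹ * (e₀ * z) * e₀⁻¹ * f.g := by group
        _ = _ := by rw [← hce]; group
    rwa [heq] at h
  have hI' : f.IsLink q (zpowers z) :=
    { ne_bot := zpowers_ne_bot.2 hz1
      isPGroup := (core_isPGroup q f.K).to_le (zpowers_le.2 hz.1)
      le_F := zpowers_le.2 (f.core_le_F q hz.1)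
      le_F1 := zpowers_le.2 (f.core1_le_F1 q hz1')
      t_mem := mem_normalizer_zpowers_of_inv hzt
      u_mem := mem_normalizer_zpowers_of_inv hzu }
  clear hN₀ hP₀ hzo hI
  obtain ⟨L, hL, hN, hP⟩ := f.exists_pair S hm e hknown h2 hI'
  obtain ⟨r, hr, hrq, hrK⟩ := f.exists_prime_ne h2 hq
  haveI := Fact.mk hr
  have hr2 : r ≠ 2 := fun h => hrK (h ▸ f.core_two)
  obtain ⟨hPL, hP1L⟩ := f.core_le_of_ne hI' hN hrq
  have hPt : ∀ a ∈ core r f.K, Commute f.t a := f.commute_core_t hI' hN hL.1 hP hrq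
  -- the image of `z` centralizes the part at `r`
  set y := f.g * z * f.g⁻¹ with hy
  have hyK : y ∈ f.K := f.mem_K_of_commute (by
    have h := (Commute.conj_iff f.g).2 hztu
    rwa [f.conj_tu] at h)
  have hy1 : y ∈ f.core1 q := Coprime.conj_mem_conj_smul hz.1
  have hyu : f.u * y * f.u⁻¹ = y⁻¹ := by
    rw [hy, ← f.conj_t]
    calc f.g * f.t * f.g⁻¹ * (f.g * z * f.g⁻¹) * (f.g * f.t * f.g⁻¹)⁻¹
        = f.g * (f.t * z * f.t⁻¹) * f.g⁻¹ := by group
      _ = (f.g * z * f.g⁻¹)⁻¹ := by rw [hzt]; group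
  have hdisj : core r f.K ⊓ f.core1 q = ⊥ := by
    refine disjoint_of_isPGroup (core_isPGroup r f.K) ?_
    obtain ⟨k, hk⟩ := IsPGroup.iff_card.1 (f.core1_isPGroup q)
    rw [hk]
    exact Nat.Coprime.pow_left k ((Nat.coprime_primes hq hr).2 (Ne.symm hrq))
  have hyP : ∀ a ∈ core r f.K, Commute y a := by
    intro a ha
    obtain ⟨k, hk⟩ := IsPGroup.iff_orderOf.1 (f.core1_isPGroup q) ⟨y, hy1⟩
    rw [Subgroup.orderOf_mk] at hk
    obtain ⟨a', ha', rfl⟩ := ha
    haveI : (Cfsg.pCore r ↥f.K).Normal := PLocal.Cores.pCore_normal'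
    have hko : orderOf (⟨y, hyK⟩ : f.K) = q ^ k := by rw [Subgroup.orderOf_mk, hk]
    refine congrArg Subtype.val (commute_of_coprime (Cores.pCore_isPGroup r) hr2
      (u := (⟨f.u, f.u_mem_K⟩ : f.K)) (y := ⟨y, hyK⟩) (Subtype.ext f.u_sq)
      (hko ▸ (hq.odd_of_ne_two hq2).pow)
      (hko ▸ Nat.Coprime.pow_left k ((Nat.coprime_primes hq hr).2 (Ne.symm hrq)))
      (Subtype.ext hyu) (fun b hb hbu => Subtype.ext ?_) a' ha').eq
    exact commute_of_disjoint hdisj (mem_map_of_mem _ hb) hy1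
      (f.le_normalizer_core1 q (f.mem_K1_of_commute (congrArg Subtype.val hbu.eq)))
      (le_normalizer_core r f.K hyK)
  have hP2L : ∀ a ∈ core r f.K, f.g⁻¹ * a * f.g ∈ L := by
    intro a ha
    refine hN (centralizer_le_normalizer _ ?_)
    rw [mem_centralizer_iff]
    rintro _ ⟨i, rfl⟩
    have h := (Commute.conj_iff f.g⁻¹).2 (hyP a ha)
    rw [hy, inv_inv, show f.g⁻¹ * (f.g * z * f.g⁻¹) * f.g = z by group] at h
    exact (h.zpow_left i).eq
  obtain ⟨e₁, he₁, hetu⟩ := hP.exists_conj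
  have hk : e₁⁻¹ * f.g ∈ f.K := by
    refine f.mem_K_of_commute (mul_inv_eq_iff_eq_mul.1 ?_)
    calc e₁⁻¹ * f.g * f.t * (e₁⁻¹ * f.g)⁻¹ = e₁⁻¹ * (f.g * f.t * f.g⁻¹) * e₁ := by group
      _ = f.t := by rw [f.conj_t, ← hetu]; group
  have hEL := maxPerfect_le L
  by_cases hPu : ∀ a ∈ core r f.K, Commute f.u a
  · -- everything at `r` centralizes the four-group, so the component
    have hP1 : ∀ b ∈ f.core1 r, Commute b f.t ∧ Commute b f.u := by
      intro b hb
      have hb' := Coprime.mem_conj_smul.1 hb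
      have h1 := (Commute.conj_iff f.g).2 (hPt _ hb').symm
      have h2 := (Commute.conj_iff f.g).2 (hPu _ hb').symm
      rw [f.conj_t, show f.g * (f.g⁻¹ * b * f.g) * f.g⁻¹ = b by group] at h1
      rw [f.conj_u, show f.g * (f.g⁻¹ * b * f.g) * f.g⁻¹ = b by group] at h2
      refine ⟨?_, h1⟩
      have := h2.mul_right h1
      rwa [mul_assoc, f.u_sq, mul_one] at this
    refine f.g_notMem ?_
    suffices he : e₁ ∈ f.K by simpa using mul_mem he hk
    rw [← normalizer_eq_of_coatom f.coatom (map_subtype_le _) (le_normalizer_core r f.K) hrK]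
    refine centralizer_le_normalizer _ (mem_centralizer_iff.2 fun a ha => ?_)
    suffices hao : a ∈ oddPart L from (mem_centralizer_iff.1 (hP.odd_le hao) e₁ he₁).symm
    have haL := hPL ha
    set b := e₁ * a * e₁⁻¹ with hb
    have hb1 : b ∈ f.core1 r := by
      rw [Coprime.mem_conj_smul]
      have h := (mem_normalizer_iff''.1 (le_normalizer_core r f.K hk) a).1 ha
      rw [hb]
      convert h using 1
      group
    have hbL := hP1L hb1
    have hab : a⁻¹ * b ∈ maxPerfect L := by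
      rw [hb, show a⁻¹ * (e₁ * a * e₁⁻¹) = (a⁻¹ * e₁ * a) * e₁⁻¹ by group]
      exact mul_mem ((mem_normalizer_iff''.1 (le_normalizer_maxPerfect L haL) e₁).1 he₁) (inv_mem he₁)
    have hboh : Odd (orderOf b) := by
      rw [hb, ← MulAut.conj_apply, MulEquiv.orderOf_eq]; exact f.orderOf_odd ha
    have habO := hP.mem_of_fixed_coset a haL b hbL (f.orderOf_odd ha) hboh (hPt a ha).symm
      (hPu a ha).symm (hP1 b hb1).1 (hP1 b hb1).2 hab
    have hfirst : ∀ w ∈ maxPerfect L, Commute w f.t → a * w * a⁻¹ * w⁻¹ ∈ oddPart L := by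
      intro w hw hwt
      have hwP : a * w * a⁻¹ * w⁻¹ ∈ core r f.K := by
        rw [show a * w * a⁻¹ * w⁻¹ = a * (w * a⁻¹ * w⁻¹) by group]
        exact mul_mem ha ((mem_normalizer_iff.1 (le_normalizer_core r f.K (f.mem_K_of_commute hwt))
          _).1 (inv_mem ha))
      exact hP.mem_of_fixed _ (mul_mem ((mem_normalizer_iff.1 (le_normalizer_maxPerfect L haL) w).1 hw)
        (inv_mem hw)) (f.orderOf_odd hwP) (hPt _ hwP).symm (hPu _ hwP).symm
    refine hP.mem_of_generate a haL hfirst fun w hw hwu => ?_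
    set w' := e₁⁻¹ * w * e₁ with hw'
    have hw'E : w' ∈ maxPerfect L := mul_mem (mul_mem (inv_mem he₁) hw) he₁
    have hw't : Commute w' f.t := by
      have h := (Commute.conj_iff e₁⁻¹).2 hwu
      rwa [inv_inv, show e₁⁻¹ * f.u * e₁ = f.t by rw [← hetu]; group] at h
    have hO := hfirst w' hw'E hw't
    have hcomm := mem_centralizer_iff.1 (hP.odd_le hO) e₁ he₁
    have hwc : (a⁻¹ * b) * w = w * (a⁻¹ * b) :=
      (mem_centralizer_iff.1 (hP.odd_le habO) w hw).symm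
    have hconj : a * w * a⁻¹ = b * w * b⁻¹ := by
      calc a * w * a⁻¹ = a * (w * (a⁻¹ * b)) * b⁻¹ := by group
        _ = b * w * b⁻¹ := by rw [← hwc]; group
    have : a * w * a⁻¹ * w⁻¹ = a * w' * a⁻¹ * w'⁻¹ := by
      calc a * w * a⁻¹ * w⁻¹ = e₁ * (a * w' * a⁻¹ * w'⁻¹) * e₁⁻¹ := by
            rw [hconj, hb, hw']; group
        _ = _ := by rw [hcomm, mul_inv_cancel_right]
    rw [this]
    exact hO
  · -- two commuting elements of different tori
    push Not at hPu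
    obtain ⟨x, hx, hx1, hxu, -⟩ := exists_moved f.u_order f.t_order (Ne.symm f.ne) f.comm.symm
      (le_normalizer_core r f.K f.u_mem_K) (le_normalizer_core r f.K f.t_mem_K)
      (f.F_odd.of_dvd_nat (card_dvd_of_le (f.core_le_F r))) hPu
    obtain ⟨k, hxk⟩ := IsPGroup.iff_orderOf.1 (core_isPGroup r f.K) ⟨x, hx⟩
    rw [Subgroup.orderOf_mk] at hxk
    rcases k with _ | k
    · exact hx1 (orderOf_eq_one_iff.1 hxk)
    set c := x ^ r ^ k with hc
    have hcP : c ∈ core r f.K := pow_mem hx _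
    have hco : orderOf c = r := by
      show orderOf (x ^ r ^ k) = r
      rw [orderOf_pow' _ (pow_ne_zero _ hr.ne_zero), hxk, Nat.gcd_eq_right (pow_dvd_pow r (Nat.le_succ k)),
        pow_succ, Nat.mul_div_cancel_left _ (pow_pos hr.pos _)]
    have hcodd : Odd (orderOf c) := hco ▸ hr.odd_of_ne_two hr2
    have hct : Commute c f.t := (hPt c hcP).symm
    have hcu : f.u * c * f.u⁻¹ = c⁻¹ := by rw [hc, ← conj_pow, hxu, inv_pow]
    have hcv : f.t * f.u * c * (f.t * f.u)⁻¹ = c⁻¹ := by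
      rw [mul_inv_rev, show f.t * f.u * c * (f.u⁻¹ * f.t⁻¹) = f.t * (f.u * c * f.u⁻¹) * f.t⁻¹ by group,
        hcu]
      exact mul_inv_eq_iff_eq_mul.2 hct.symm.inv_right.eq
    obtain ⟨hcE, hcO⟩ := f.mem_of_inverted hP (hPL hcP) hcodd hcv
    have hc1 : c ≠ 1 := fun h => hr.one_lt.ne (by rw [← hco, h, orderOf_one])
    -- the conjugate under `g`
    set d := f.g * c * f.g⁻¹ with hd
    have hdo : orderOf d = r := by rw [hd, ← MulAut.conj_apply, MulEquiv.orderOf_eq, hco]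
    have hdu : Commute d f.u := by
      have h := (Commute.conj_iff f.g).2 hct
      rwa [f.conj_t] at h
    have hdv : f.t * f.u * d * (f.t * f.u)⁻¹ = d⁻¹ := by
      rw [hd, ← f.conj_u]
      calc f.g * f.u * f.g⁻¹ * (f.g * c * f.g⁻¹) * (f.g * f.u * f.g⁻¹)⁻¹
          = f.g * (f.u * c * f.u⁻¹) * f.g⁻¹ := by group
        _ = _ := by rw [hcu]; group
    have hd1 : d ≠ 1 := fun h => hc1 (conj_eq_one_iff.1 h)
    obtain ⟨hdE, hdO⟩ := f.mem_of_inverted hP (hP1L (Coprime.conj_mem_conj_smul hcP))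
      (hdo ▸ hr.odd_of_ne_two hr2) hdv
    -- the conjugate under `g⁻¹`
    set c2 := f.g⁻¹ * c * f.g with hc2
    have hc2o : orderOf c2 = r := by
      rw [hc2, show f.g⁻¹ * c * f.g = MulAut.conj f.g⁻¹ c by simp, MulEquiv.orderOf_eq, hco]
    have hc2v : Commute c2 (f.t * f.u) := by
      have h := (Commute.conj_iff f.g⁻¹).2 hct
      rwa [inv_inv, f.inv_conj_t] at h
    have hc2t : f.t * c2 * f.t⁻¹ = c2⁻¹ := by
      rw [hc2, ← f.inv_conj_u]
      calc f.g⁻¹ * f.u * f.g * (f.g⁻¹ * c * f.g) * (f.g⁻¹ * f.u * f.g)⁻¹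
          = f.g⁻¹ * (f.u * c * f.u⁻¹) * f.g := by group
        _ = _ := by rw [hcu]; group
    have hc2E := hP.inner c2 (hP2L c hcP) (hc2o ▸ hr.odd_of_ne_two hr2) hc2t
    have hc2O : c2 ∈ oddPart L := (hP.coprime c (mem_sup_left hcE) c2 hc2E r hr hr2 hco hc2o hct
      hc2v).resolve_left fun h => hc1 (hcO h)
    have hcd : Commute c d := by
      have h := (Commute.conj_iff f.g).2
        (show Commute c2 c from (mem_centralizer_iff.1 (hP.odd_le hc2O) c hcE).symm)
      rwa [hc2, show f.g * (f.g⁻¹ * c * f.g) * f.g⁻¹ = c by group] at h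
    rcases hP.cross c (mem_sup_left hcE) d (mem_sup_left hdE) hcodd (hdo ▸ hr.odd_of_ne_two hr2) hct
      hdu hcd with h | h
    · exact hc1 (hcO h)
    · exact hd1 (hdO h)

end Frame

end Cfsg.Agent.GW.NoBare
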