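import Cfsg.Agent.Lib.GW.NoBareMain
import Cfsg.Agent.Lib.GW.NoBareComponent

/-!
# The odd case of the theorem of Bender and Glauberman
-/

set_option autoImplicit false

namespace Cfsg.Agent.GW.NoBare

universe v

/-- No overgroup of the centralizer of an involution has odd Fitting subgroup and no component,
outside the four exceptional groups. -/
theorem oddCase : Assembly.OddCase.{v} :=
  oddCase_of_no_link fun _ _ _ _ d hknown f hf _ _ p _ I =>
    f.no_link d.S d.two_le d.e hknown hf p I

/-- The theorem of Bender and Glauberman, given the proper subgroups. -/
theorem bareOvergroup : Assembly.BareOvergroup.{v} :=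
  Assembly.bareOvergroup_of_oddCase oddCase

end Cfsg.Agent.GW.NoBare
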