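import Cfsg.Agent.Lib.GW.BenderTrivialCores
import Cfsg.Agent.Lib.GW.BenderMaximal
import Cfsg.Agent.Lib.GW.BenderStableInput
import Cfsg.Agent.Lib.GW.BenderPureFour
import Cfsg.Agent.Lib.GW.StableLinear.Input
import Cfsg.Agent.Lib.GW.AbelianFixed
import Cfsg.Agent.Lib.GW.BenderExtraData
import Cfsg.Agent.Lib.GW.NoBareOddCase

/-!
# The theorems of Gorenstein–Walter and Bender–Glauberman: final assembly

From the component facts and the contradiction in the extraspecial case.
-/

set_option autoImplicit false
set_option linter.style.haveILetI false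

namespace Cfsg.Agent.GW.Bender

universe u

/-- The extraspecial case is impossible. -/
def ExtraCase : Prop :=
  ∀ (G : Type u) [Group G] [Finite G] [IsSimpleGroup G] (d : Setting G),
    Overgroups.KnownProper G → d.HasCompFacts → d.Mixed →
      ∀ (p : ℕ) (w b ζ : G), d.ExtraData p w b ζ → False

/-- The mixed case reduces to the extraspecial one. -/
theorem mixedResidual_of (h : ExtraCase.{u}) : MixedResidual.{u} := by
  intro G _ _ _ d hknown hf hM
  obtain ⟨p, w, b, ζ, hE⟩ :=
    d.exists_extraData hf hM (Setting.noAbelianFixed (d := d) hf hM.central hM.alike)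
  exact h G d hknown hf hM p w b ζ hE

/-- `Assembly.TrivialCores` from the component facts and the extraspecial case. -/
theorem trivialCores_of (hcf : CompFactsInput.{u}) (h : ExtraCase.{u}) : Assembly.TrivialCores.{u} :=
  trivialCores maximalOrTrivial hcf stableInput pureEightInput mixedStable (mixedResidual_of h)

/-- The perfect form of the theorem of Gorenstein and Walter. -/
theorem perfectGW_of (hcf : CompFactsInput.{u}) (h : ExtraCase.{u}) : Cons.PerfectGW.{u} :=
  Assembly.perfect_gw (trivialCores_of hcf h) NoBare.bareOvergroup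

/-- The theorem of Bender and Glauberman. -/
theorem benderGlauberman_of (hcf : CompFactsInput.{u}) (h : ExtraCase.{u}) {G : Type u} [Group G]
    [Finite G] [IsSimpleGroup G] (S : Sylow 2 G) (m : ℕ) (eS : (S : Subgroup G) ≃* DihedralGroup m)
    (t : G) (ht : orderOf t = 2) (K : Subgroup G) (hlt : Subgroup.centralizer ({t} : Set G) < K)
    (hK : Cfsg.generalizedFittingSubgroup K = Cfsg.fittingSubgroup K) : Assembly.FourGroups G :=
  Assembly.bender_glauberman (trivialCores_of hcf h) NoBare.bareOvergroup S m eS t ht K hlt hK

end Cfsg.Agent.GW.Bender
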