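import Mathlib
import Cfsg.Agent.S2119

/-!
# Odd subgroups normalised by an involution centraliser: the alternating group of degree seven
-/

set_option autoImplicit false
set_option linter.all false

namespace Cfsg.Agent.GW.NoBareBalance

open Equiv Equiv.Perm

set_option maxRecDepth 100000 in
/-- The non-identity elements of odd order inverted by `(0 1)(2 3)` give an element of order two or four with a
conjugate under the centraliser. -/
theorem altSeven_cands : ∀ x : Perm (Fin 7), ∀ (_ : swap 0 1 * swap 2 3 * x * (swap 0 1 * swap 2 3) * x = 1),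
    (fun y => (y * y) * (y * y)) x = 1 ∨ (fun y => (y * y * y) * (y * y * y)) x = 1 ∧ x * x * x ≠ 1 ∨ sign x = -1 ∨
    (fun z => z ≠ 1 ∧ z * z * (z * z) = 1)
      (x * ((swap 0 2 * swap 2 1 * swap 1 3 * swap 4 6) * x * (swap 4 6 * swap 1 3 * swap 2 1 * swap 0 2))) ∨
    (fun z => z ≠ 1 ∧ z * z * (z * z) = 1)
      (x * ((swap 0 3 * swap 3 1 * swap 1 2 * swap 5 6) * x * (swap 5 6 * swap 1 2 * swap 3 1 * swap 0 3))) ∨
    (fun z => z ≠ 1 ∧ z * z * (z * z) = 1) (x * ((swap 4 6 * swap 6 5) * x * (swap 6 5 * swap 4 6))) := by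
  decide +kernel

/-- An involution of `A₇` is conjugate to `(0 1)(2 3)`. -/
theorem exists_conj_std {t : Perm (Fin 7)} (ht : orderOf t = 2) (hts : sign t = 1) :
    ∃ c : Perm (Fin 7), c * t * c⁻¹ = swap 0 1 * swap 2 3 := by
  refine isConj_iff.1 (isConj_iff_cycleType_eq.2 ?_)
  have hp : Nat.Prime (orderOf t) := by rw [ht]; exact Nat.prime_two
  obtain ⟨n, hn⟩ := cycleType_prime_order hp
  rw [ht] at hn
  have hsum : (n + 1) * 2 ≤ 7 := by
    have h := t.support.card_le_univ
    rw [← sum_cycleType, hn, Multiset.sum_replicate, smul_eq_mul, Fintype.card_fin] at h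
    exact h
  rw [sign_of_cycleType, hn, Multiset.sum_replicate, Multiset.card_replicate, smul_eq_mul] at hts
  have hn2 : n ≤ 2 := by omega
  obtain rfl : n = 1 := by
    interval_cases n <;> first | rfl | (exfalso; revert hts; decide)
  rw [hn]
  decide

/-- An involution of `A₇` inverts no non-identity element of an odd-order subgroup normalised by its
centraliser. -/
theorem perm_case {t : Perm (Fin 7)} (ht : orderOf t = 2) (hts : sign t = 1) (A : Subgroup (Perm (Fin 7)))
    (hodd : Odd (Nat.card A)) (hA : ∀ c : Perm (Fin 7), sign c = 1 → Commute c t → ∀ a ∈ A, c * a * c⁻¹ ∈ A)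
    {x : Perm (Fin 7)} (hx : x ∈ A) (hxs : sign x = 1) (hinv : t * x * t⁻¹ = x⁻¹) : x = 1 := by
  obtain ⟨σ, hσ⟩ := exists_conj_std ht hts
  set t0 : Perm (Fin 7) := swap 0 1 * swap 2 3 with ht0
  set y := σ * x * σ⁻¹ with hy
  have hsgn : ∀ a : Perm (Fin 7), sign (σ * a * σ⁻¹) = sign a := fun a => by
    rw [map_mul, map_mul, map_inv, mul_comm (sign σ), mul_inv_cancel_right]
  have hyo : Odd (orderOf y) := by
    rw [hy, show σ * x * σ⁻¹ = MulAut.conj σ x from rfl, MulEquiv.orderOf_eq]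
    exact hodd.of_dvd_nat (Subgroup.orderOf_dvd_natCard _ hx)
  have hrel : t0 * y * t0 * y = 1 := by
    have h : t * x * t * x = 1 := by
      have ht' : t⁻¹ = t := inv_eq_of_mul_eq_one_right (by rw [← sq, ← ht, pow_orderOf_eq_one])
      rw [ht'] at hinv
      rw [hinv, inv_mul_cancel]
    rw [← hσ, hy]
    calc σ * t * σ⁻¹ * (σ * x * σ⁻¹) * (σ * t * σ⁻¹) * (σ * x * σ⁻¹) = σ * (t * x * t * x) * σ⁻¹ := by group
      _ = 1 := by rw [h, mul_one, mul_inv_cancel]
  have hz : ∀ c : Perm (Fin 7), sign c = 1 → c * t0 = t0 * c → Odd (orderOf (y * (c * y * c⁻¹))) := by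
    intro c hc hct
    have hmem : x * ((σ⁻¹ * c * σ) * x * (σ⁻¹ * c * σ)⁻¹) ∈ A := by
      refine mul_mem hx (hA _ ?_ ?_ x hx)
      · rw [map_mul, map_mul, map_inv, hc, mul_one, inv_mul_cancel]
      · show σ⁻¹ * c * σ * t = t * (σ⁻¹ * c * σ)
        calc σ⁻¹ * c * σ * t = σ⁻¹ * (c * (σ * t * σ⁻¹)) * σ := by group
          _ = σ⁻¹ * (σ * t * σ⁻¹ * c) * σ := by rw [hσ, hct]
          _ = t * (σ⁻¹ * c * σ) := by group
    have ho := hodd.of_dvd_nat (Subgroup.orderOf_dvd_natCard _ hmem)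
    rwa [← MulEquiv.orderOf_eq (MulAut.conj σ), MulAut.conj_apply,
      show σ * (x * ((σ⁻¹ * c * σ) * x * (σ⁻¹ * c * σ)⁻¹)) * σ⁻¹ = y * (c * y * c⁻¹) by rw [hy]; group] at ho
  have hfour : ∀ z : Perm (Fin 7), Odd (orderOf z) → z * z * (z * z) = 1 → z = 1 := fun z ho h => by
    have h4 : z ^ (2 * 2) = 1 := by rw [pow_mul, pow_two, pow_two, h]
    exact orderOf_eq_one_iff.1 (Nat.eq_one_of_dvd_coprimes
      (Nat.Coprime.mul_left (Nat.coprime_two_left.2 ho) (Nat.coprime_two_left.2 ho))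
      (orderOf_dvd_of_pow_eq_one h4) dvd_rfl)
  have hfin : y = 1 := by
    rcases altSeven_cands y hrel with h | ⟨h6, h3⟩ | h | h | h | h
    · exact hfour y hyo h
    · refine absurd ?_ h3
      have h2 : (y ^ 3) ^ 2 = 1 := by rw [pow_two, pow_succ, pow_two]; exact h6
      have ho : Odd (orderOf (y ^ 3)) := hyo.of_dvd_nat (orderOf_pow_dvd 3)
      have := orderOf_eq_one_iff.1 (Nat.eq_one_of_dvd_coprimes (Nat.coprime_two_left.2 ho)
        (orderOf_dvd_of_pow_eq_one h2) dvd_rfl)
      rwa [pow_succ, pow_two] at this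
    · rw [hy, hsgn, hxs] at h
      exact absurd h (by decide)
    · refine absurd (hfour _ ?_ h.2) h.1
      have hh := hz (swap 0 2 * swap 2 1 * swap 1 3 * swap 4 6) (by decide +kernel) (by decide +kernel)
      simp only [mul_inv_rev, mul_assoc, swap_inv] at hh ⊢
      exact hh
    · refine absurd (hfour _ ?_ h.2) h.1
      have hh := hz (swap 0 3 * swap 3 1 * swap 1 2 * swap 5 6) (by decide +kernel) (by decide +kernel)
      simp only [mul_inv_rev, mul_assoc, swap_inv] at hh ⊢
      exact hh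
    · refine absurd (hfour _ ?_ h.2) h.1
      have hh := hz (swap 4 6 * swap 6 5) (by decide +kernel) (by decide +kernel)
      simp only [mul_inv_rev, mul_assoc, swap_inv] at hh ⊢
      exact hh
  rw [hy, conj_eq_one_iff] at hfin
  exact hfin

local notation "A7" => alternatingGroup (Fin 7)

/-- Between `A₇` and its automorphism group without elementary abelian subgroups of order eight, an involution
inverts no non-identity element of an odd-order subgroup normalised by its centraliser. -/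
theorem alt_case (Γ : Subgroup (MulAut A7)) (hΓ : ∀ e : A7, MulAut.conj e ∈ Γ)
    (h8 : ∀ a b c : MulAut A7, a ∈ Γ → b ∈ Γ → c ∈ Γ → orderOf a = 2 → orderOf b = 2 → orderOf c = 2 → a ≠ b →
      Commute a b → Commute c a → Commute c b → c = a ∨ c = b ∨ c = a * b)
    {β : MulAut A7} (hβ : β ∈ Γ) (hβ2 : orderOf β = 2) (A : Subgroup (MulAut A7)) (hAΓ : A ≤ Γ)
    (hodd : Odd (Nat.card A)) (hA : ∀ γ ∈ Γ, Commute γ β → ∀ α ∈ A, γ * α * γ⁻¹ ∈ A)
    {x : MulAut A7} (hx : x ∈ A) (hinv : β * x * β⁻¹ = x⁻¹) : x = 1 := by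
  let j : Perm (Fin 7) →* MulAut A7 := MulAut.conjNormal
  have hj : Function.Bijective j := Cfsg.Agent.S2119.result 7 (by norm_num) (by norm_num)
  have hje : ∀ e : A7, j (e : Perm (Fin 7)) = MulAut.conj e := fun e => MulEquiv.ext fun y =>
    Subtype.ext (by rw [MulAut.conjNormal_apply, MulAut.conj_apply]; rfl)
  have heven : ∀ σ : Perm (Fin 7), j σ ∈ Γ → sign σ = 1 := by
    intro σ hσ
    by_contra hs
    have hs' : sign σ = -1 := (Int.units_eq_one_or _).resolve_left hs
    have hall : ∀ τ : Perm (Fin 7), j τ ∈ Γ := fun τ => by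
      rcases Int.units_eq_one_or (sign τ) with h | h
      · exact (hje ⟨τ, mem_alternatingGroup.2 h⟩).symm ▸ hΓ ⟨τ, mem_alternatingGroup.2 h⟩
      · have hmem : τ * σ⁻¹ ∈ alternatingGroup (Fin 7) := by
          rw [mem_alternatingGroup, map_mul, map_inv, h, hs', mul_inv_cancel]
        have h1 : j (τ * σ⁻¹) ∈ Γ := (hje ⟨_, hmem⟩).symm ▸ hΓ ⟨_, hmem⟩
        have h2 := mul_mem h1 hσ
        rwa [← map_mul, inv_mul_cancel_right] at h2
    have ho : ∀ a : Perm (Fin 7), a * a = 1 ∧ a ≠ 1 → orderOf (j a) = 2 := fun a ha => by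
      rw [orderOf_injective _ hj.1]
      exact orderOf_eq_prime (by rw [pow_two, ha.1]) ha.2
    rcases h8 (j (swap 0 1)) (j (swap 2 3)) (j (swap 4 5)) (hall _) (hall _) (hall _)
      (ho _ (by decide +kernel)) (ho _ (by decide +kernel)) (ho _ (by decide +kernel))
      (fun e => absurd (hj.1 e) (by decide +kernel))
      ((show Commute (swap (0 : Fin 7) 1) (swap 2 3) by unfold Commute SemiconjBy; decide +kernel).map j)
      ((show Commute (swap (4 : Fin 7) 5) (swap 0 1) by unfold Commute SemiconjBy; decide +kernel).map j)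
      ((show Commute (swap (4 : Fin 7) 5) (swap 2 3) by unfold Commute SemiconjBy; decide +kernel).map j) with h | h | h
    · exact absurd (hj.1 h) (by decide +kernel)
    · exact absurd (hj.1 h) (by decide +kernel)
    · rw [← map_mul] at h; exact absurd (hj.1 h) (by decide +kernel)
  obtain ⟨t, rfl⟩ := hj.2 β
  obtain ⟨x', rfl⟩ := hj.2 x
  have h1 := perm_case (x := x') (t := t) (by rwa [orderOf_injective _ hj.1] at hβ2) (heven t hβ) (A.comap j)
    (hodd.of_dvd_nat (Subgroup.card_comap_dvd_of_injective A _ hj.1))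
    (fun c hc hct a ha => by
      rw [Subgroup.mem_comap, map_mul, map_mul, map_inv]
      exact hA _ ((hje ⟨c, mem_alternatingGroup.2 hc⟩).symm ▸ hΓ ⟨c, mem_alternatingGroup.2 hc⟩) (hct.map j) _ ha)
    hx (heven x' (hAΓ hx)) (hj.1 (by rw [map_mul, map_mul, map_inv, map_inv]; exact hinv))
  rw [h1, map_one]

end Cfsg.Agent.GW.NoBareBalance
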