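import Cfsg.Agent.Lib.GW.NoBareBalancePSL
import Cfsg.Agent.Lib.GW.NoBareBalanceAlt
import Cfsg.Agent.Lib.GW.OvergroupsBasic
import Cfsg.Agent.Lib.Involutions.DihedralSylow
import Cfsg.Agent.Lib.Involutions.DihedralEmbedding
import Cfsg.Agent.Lib.Cores.Fitting
import Cfsg.Agent.S0205

/-!
# Balance in the proper subgroups

If the proper perfect subgroups are `PSL₂(q)` or `A₇` modulo odd cores and the Sylow `2`-subgroups are
dihedral, then an element inverted by the involution `t` of a proper subgroup `Y`, lying in an odd-order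
subgroup normalised by `C_Y(t)`, lies in `O(Y)`.
-/

set_option autoImplicit false
set_option linter.all false

namespace Cfsg.Agent.GW.NoBareBalance

open Subgroup Cfsg.Agent.GW.Overgroups Cfsg.Agent.Involutions
open scoped commutatorElement

universe u v

/-- Every `2`-subgroup embeds in the dihedral group. -/
def TwoDihedral (Q : Type u) [Group Q] (m : ℕ) : Prop :=
  ∀ P : Subgroup Q, IsPGroup 2 P → ∃ f : P →* DihedralGroup m, Function.Injective f

section Core

variable {Q : Type u} [Group Q] [Finite Q] {m : ℕ} (hm : 2 ∣ m) (hm0 : m ≠ 0) (hd : TwoDihedral Q m)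

include hm hm0 hd in
/-- Three pairwise commuting involutions lie in a four-group. -/
theorem no_eight {a b c : Q} (ha : orderOf a = 2) (hb : orderOf b = 2) (hc : orderOf c = 2) (hne : a ≠ b)
    (hab : Commute a b) (hca : Commute c a) (hcb : Commute c b) : c = a ∨ c = b ∨ c = a * b := by
  classical
  haveI : Fact (Nat.Prime 2) := ⟨Nat.prime_two⟩
  set E := closure ({a, b, c} : Set Q) with hE
  have hcomm : ∀ x ∈ E, ∀ y ∈ E, x * y = y * x := by
    haveI : IsMulCommutative E := Subgroup.isMulCommutative_closure (by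
      simp only [Set.mem_insert_iff, Set.mem_singleton_iff]
      rintro x (rfl | rfl | rfl) y (rfl | rfl | rfl)
      exacts [rfl, hab.eq, hca.symm.eq, hab.symm.eq, rfl, hcb.symm.eq, hca.eq, hcb.eq, rfl])
    exact fun x hx y hy => congrArg Subtype.val (mul_comm' (⟨x, hx⟩ : E) ⟨y, hy⟩)
  have hsq : ∀ x ∈ E, x * x = 1 := by
    intro x hx
    induction hx using closure_induction with
    | mem y hy =>
      rcases hy with rfl | rfl | rfl
      · rw [← sq, ← ha, pow_orderOf_eq_one]
      · rw [← sq, ← hb, pow_orderOf_eq_one]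
      · rw [← sq, ← hc, pow_orderOf_eq_one]
    | one => exact one_mul 1
    | mul y z hy hz h1 h2 =>
      calc y * z * (y * z) = y * (z * y) * z := by group
        _ = y * (y * z) * z := by rw [hcomm z hz y hy]
        _ = (y * y) * (z * z) := by group
        _ = 1 := by rw [h1, h2, one_mul]
    | inv y hy h1 => rw [← mul_inv_rev, h1, inv_one]
  have h2 : IsPGroup 2 E := fun x => ⟨1, Subtype.ext (by
    show (x : Q) ^ 2 ^ 1 = 1
    rw [pow_one, sq, hsq x x.2])⟩
  obtain ⟨f, hf⟩ := hd E h2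
  have h4 := DihedralEmbedding.card_le_four f hf hm hm0 fun x => Subtype.ext (hsq x x.2)
  by_contra hcon
  push Not at hcon
  have haE : a ∈ E := subset_closure (by simp)
  have hbE : b ∈ E := subset_closure (by simp)
  have hcE : c ∈ E := subset_closure (by simp)
  have ha1 := Involutions.Basic.ne_one ha
  have hb1 := Involutions.Basic.ne_one hb
  have hc1 := Involutions.Basic.ne_one hc
  haveI := Fintype.ofFinite E
  have hsub : ({1, ⟨a, haE⟩, ⟨b, hbE⟩, ⟨a * b, mul_mem haE hbE⟩, ⟨c, hcE⟩} : Finset E).card = 5 := by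
    rw [Finset.card_insert_of_notMem, Finset.card_insert_of_notMem, Finset.card_insert_of_notMem,
      Finset.card_insert_of_notMem, Finset.card_singleton]
    · simp [Subtype.ext_iff, Ne.symm hcon.2.2]
    · simp [Subtype.ext_iff, ha1, Ne.symm hcon.2.1]
    · simp [Subtype.ext_iff, hne, hb1, Ne.symm hcon.1]
    · simp only [Finset.mem_insert, Finset.mem_singleton, Subtype.ext_iff, OneMemClass.coe_one, not_or]
      refine ⟨Ne.symm ha1, Ne.symm hb1, fun h => hne ?_, Ne.symm hc1⟩
      rw [← inv_eq_of_mul_eq_one_right h.symm, Involutions.Basic.inv_eq ha]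
  rw [Nat.card_eq_fintype_card] at h4
  have := Finset.card_le_univ ({1, ⟨a, haE⟩, ⟨b, hbE⟩, ⟨a * b, mul_mem haE hbE⟩, ⟨c, hcE⟩} : Finset E)
  omega

include hm hm0 hd in
/-- The solvable case. -/
theorem solvable_case [Group.IsSolvable Q] (hO : Cfsg.oddCore Q = ⊥) {t : Q} (ht : orderOf t = 2)
    (A : Subgroup Q) (hodd : Odd (Nat.card A)) (hA : ∀ c : Q, Commute c t → ∀ a ∈ A, c * a * c⁻¹ ∈ A)
    {x : Q} (hx : x ∈ A) : x = 1 := by
  classical
  haveI : Fact (Nat.Prime 2) := ⟨Nat.prime_two⟩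
  haveI := Fintype.ofFinite Q
  set F := Cfsg.pCore 2 Q with hF
  haveI : F.Normal := PLocal.Cores.pCore_normal'
  have hFp : IsPGroup 2 F := Cores.pCore_isPGroup 2
  have hfit : Cfsg.fittingSubgroup Q ≤ F := by
    rw [Cores.fittingSubgroup_eq_iSup]
    refine iSup_le fun p => ?_
    haveI : Fact (p : ℕ).Prime := ⟨Nat.prime_of_mem_primeFactors p.2⟩
    by_cases hp : (p : ℕ) = 2
    · rw [hp]
    · haveI : (Cfsg.pCore (p : ℕ) Q).Normal := PLocal.Cores.pCore_normal'
      obtain ⟨k, hk⟩ := IsPGroup.iff_card.1 (Cores.pCore_isPGroup (G := Q) (p : ℕ))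
      have hle : Cfsg.pCore (p : ℕ) Q ≤ Cfsg.oddCore Q := Cores.le_oddCore (by
        rw [hk]
        exact ((Nat.prime_of_mem_primeFactors p.2).odd_of_ne_two hp).pow)
      rw [hO] at hle
      exact hle.trans bot_le
  have hself : ∀ y ∈ centralizer (F : Set Q), y ∈ F := fun y hy =>
    hfit (Cores.centralizer_fittingSubgroup_le (centralizer_le (SetLike.coe_subset_coe.2 hfit) hy))
  have hFne : F ≠ ⊥ := fun h => by
    have := hself t (mem_centralizer_iff.2 fun y hy => by rw [h] at hy; rw [mem_bot.1 hy]; simp)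
    rw [h, mem_bot] at this
    exact Involutions.Basic.ne_one ht this
  -- a central element of `F⟨t⟩`
  obtain ⟨k, hk⟩ := IsPGroup.iff_card.1 hFp
  have hk0 : k ≠ 0 := fun h => hFne (F.eq_bot_of_card_eq (by rw [hk, h, pow_zero]))
  let σ : Equiv.Perm F := (MulAut.conjNormal (H := F) t).toEquiv
  have hσ : σ ^ 2 ^ 1 = 1 := by
    refine Equiv.ext fun y => Subtype.ext ?_
    rw [pow_one, sq, Equiv.Perm.mul_apply]
    show t * (t * (y : Q) * t⁻¹) * t⁻¹ = y
    have h2 : t * t = 1 := by rw [← sq, ← ht, pow_orderOf_eq_one]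
    calc t * (t * (y : Q) * t⁻¹) * t⁻¹ = t * t * y * (t * t)⁻¹ := by group
      _ = y := by rw [h2, one_mul, inv_one, mul_one]
  obtain ⟨⟨z, hzF⟩, hzfix, hz1⟩ := Equiv.Perm.exists_fixed_point_of_prime'
    (show 2 ∣ Fintype.card F by rw [← Nat.card_eq_fintype_card, hk]; exact dvd_pow_self 2 hk0) hσ
    (a := (1 : F)) (map_one (MulAut.conjNormal (H := F) t))
  have hzt : Commute z t := by
    have h : t * z * t⁻¹ = z := congrArg Subtype.val hzfix
    exact (mul_inv_eq_iff_eq_mul.1 h).symm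
  have hdisj : A ⊓ F = ⊥ := by
    refine disjoint_iff.1 (Subgroup.disjoint_of_coprime_natCard ?_)
    rw [hk]
    exact (Nat.coprime_two_right.2 hodd).pow_right k
  have hzx : z * x = x * z := by
    have hm' : z * x * z⁻¹ * x⁻¹ ∈ A ⊓ F := ⟨A.mul_mem (hA z hzt x hx) (A.inv_mem hx), by
      rw [show z * x * z⁻¹ * x⁻¹ = z * (x * z⁻¹ * x⁻¹) by group]
      exact F.mul_mem hzF ((inferInstance : F.Normal).conj_mem _ (F.inv_mem hzF) x)⟩
    rw [hdisj, mem_bot, mul_inv_eq_one, mul_inv_eq_iff_eq_mul] at hm'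
    exact hm'
  have hxo : Odd (orderOf x) := hodd.of_dvd_nat (Subgroup.orderOf_dvd_natCard _ hx)
  obtain ⟨f, hf⟩ := hd F hFp
  have h1 : MulAut.conjNormal (H := F) x = 1 :=
    DihedralEmbedding.eq_one_of_fixed hFp f hf hm hm0 (hxo.of_dvd_nat (orderOf_map_dvd _ x)) hz1
      (Subtype.ext (show x * z * x⁻¹ = z by rw [← hzx, mul_inv_cancel_right]))
  have hxF : x ∈ F := hself x (mem_centralizer_iff.2 fun y hy => by
    have h : x * y * x⁻¹ = y :=
      congrArg (fun σ : MulAut F => ((σ ⟨y, hy⟩ : F) : Q)) h1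
    exact (mul_inv_eq_iff_eq_mul.1 h).symm)
  have : x ∈ A ⊓ F := ⟨hx, hxF⟩
  rwa [hdisj, mem_bot] at this

include hm hm0 hd in
/-- A faithful action on a simple normal subgroup containing a four-group. -/
theorem exists_action (hO : Cfsg.oddCore Q = ⊥) (E : Subgroup Q) [E.Normal] {P : Type v} [Group P]
    (i : E ≃* P) {a b : P} (ha : orderOf a = 2) (hb : orderOf b = 2) (hne : a ≠ b) (hab : Commute a b)
    (hconj : Function.Injective (MulAut.conj : P →* MulAut P)) :
    ∃ φ : Q →* MulAut P, Function.Injective φ ∧ ∀ e : P, MulAut.conj e ∈ φ.range := by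
  let φ : Q →* MulAut P := (MulAut.congr i).toMonoidHom.comp (MulAut.conjNormal (H := E))
  have happ : ∀ (q : Q) (y : E), φ q (i y) = i (MulAut.conjNormal (H := E) q y) := fun q y => by
    show i (MulAut.conjNormal (H := E) q (i.symm (i y))) = _
    rw [MulEquiv.symm_apply_apply]
  refine ⟨φ, (injective_iff_map_eq_one φ).2 ?_, fun e => ⟨(i.symm e : Q), MulEquiv.ext fun w => ?_⟩⟩
  · -- the centralizer of `E` is trivial
    intro q hq
    have hC : φ.ker = ⊥ := by
      haveI : Fact (Nat.Prime 2) := ⟨Nat.prime_two⟩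
      by_contra hne'
      have heven : 2 ∣ Nat.card φ.ker := by
        by_contra h2
        exact hne' (le_bot_iff.1 (hO ▸ Cores.le_oddCore (Nat.not_even_iff_odd.1
          (fun he => h2 (even_iff_two_dvd.1 he)))))
      obtain ⟨⟨c, hc⟩, hc2⟩ := exists_prime_orderOf_dvd_card' (G := φ.ker) 2 heven
      rw [Subgroup.orderOf_mk] at hc2
      have hcE : ∀ y : E, Commute c (y : Q) := fun y => by
        have h := happ c y
        rw [MonoidHom.mem_ker.1 hc] at h
        have h' : y = MulAut.conjNormal (H := E) c y := i.injective h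
        have h'' : (y : Q) = c * y * c⁻¹ := congrArg Subtype.val h'
        exact (mul_inv_eq_iff_eq_mul.1 h''.symm)
      have ho : ∀ p : P, orderOf p = 2 → orderOf ((i.symm p : E) : Q) = 2 := fun p hp => by
        rw [Subgroup.orderOf_coe, MulEquiv.orderOf_eq, hp]
      have hcen : ∀ p : P, (i.symm p : Q) = c → ∀ r : P, Commute p r := fun p hp r => by
        have h := (hcE (i.symm r))
        rw [← hp] at h
        have h' : Commute (i.symm p) (i.symm r) := Subtype.ext h.eq
        simpa using h'.map i.toMonoidHom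
      have hno : ∀ p : P, p ≠ 1 → ¬ ∀ r : P, Commute p r := fun p hp h => hp (hconj (by
        rw [map_one]
        exact MulEquiv.ext fun r => by rw [MulAut.conj_apply, (h r).eq, mul_inv_cancel_right]; rfl))
      rcases no_eight hm hm0 hd (ho a ha) (ho b hb) hc2 (fun h => hne (i.symm.injective (Subtype.ext h)))
          ((hab.map i.symm.toMonoidHom).map E.subtype) (hcE _) (hcE _) with h | h | h
      · exact hno a (Involutions.Basic.ne_one ha) (hcen a h.symm)
      · exact hno b (Involutions.Basic.ne_one hb) (hcen b h.symm)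
      · refine hno (a * b) (fun e => hne ?_) (hcen (a * b) (by rw [map_mul, Subgroup.coe_mul]; exact h.symm))
        rw [← inv_eq_of_mul_eq_one_right e, Involutions.Basic.inv_eq ha]
    exact mem_bot.1 (hC ▸ MonoidHom.mem_ker.2 hq)
  · obtain ⟨y, rfl⟩ := i.surjective w
    rw [happ, MulAut.conj_apply, show MulAut.conjNormal (H := E) (i.symm e : Q) y = i.symm e * y * (i.symm e)⁻¹
      from Subtype.ext (by simp [MulAut.conjNormal_apply]), map_mul, map_mul, map_inv, MulEquiv.apply_symm_apply]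

include hm hm0 hd in
/-- The case of a simple normal subgroup `PSL₂(q)` or `A₇`. -/
theorem simple_case (hO : Cfsg.oddCore Q = ⊥) (E : Subgroup Q) [E.Normal] (hE : IsType E)
    {t : Q} (ht : orderOf t = 2) (A : Subgroup Q) (hodd : Odd (Nat.card A))
    (hA : ∀ c : Q, Commute c t → ∀ a ∈ A, c * a * c⁻¹ ∈ A)
    {x : Q} (hx : x ∈ A) (hinv : t * x * t⁻¹ = x⁻¹) : x = 1 := by
  have transport : ∀ {P : Type} [Group P] (φ : Q →* MulAut P), Function.Injective φ →
      (∀ a b c : MulAut P, a ∈ φ.range → b ∈ φ.range → c ∈ φ.range → orderOf a = 2 → orderOf b = 2 →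
        orderOf c = 2 → a ≠ b → Commute a b → Commute c a → Commute c b → c = a ∨ c = b ∨ c = a * b) ∧
      orderOf (φ t) = 2 ∧ Odd (Nat.card (A.map φ)) ∧ A.map φ ≤ φ.range ∧
      (∀ γ ∈ φ.range, Commute γ (φ t) → ∀ α ∈ A.map φ, γ * α * γ⁻¹ ∈ A.map φ) ∧
      φ t * φ x * (φ t)⁻¹ = (φ x)⁻¹ := by
    intro P _ φ hφ
    refine ⟨?_, ?_, ?_, Subgroup.map_le_range _ _, ?_, ?_⟩
    · rintro _ _ _ ⟨a, rfl⟩ ⟨b, rfl⟩ ⟨c, rfl⟩ ha hb hc hne hab hca hcb
      rw [orderOf_injective _ hφ] at ha hb hc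
      rcases no_eight hm hm0 hd ha hb hc (fun h => hne (h ▸ rfl)) (hφ (by rw [map_mul, map_mul]; exact hab.eq))
          (hφ (by rw [map_mul, map_mul]; exact hca.eq)) (hφ (by rw [map_mul, map_mul]; exact hcb.eq)) with
        h | h | h
      · exact Or.inl (by rw [h])
      · exact Or.inr (Or.inl (by rw [h]))
      · exact Or.inr (Or.inr (by rw [h, map_mul]))
    · rw [orderOf_injective _ hφ, ht]
    · rwa [Subgroup.card_map_of_injective hφ]
    · rintro _ ⟨c, rfl⟩ hc _ ⟨a, ha, rfl⟩
      exact ⟨c * a * c⁻¹, hA c (hφ (by rw [map_mul, map_mul]; exact hc.eq)) a ha,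
        by rw [map_mul, map_mul, map_inv]⟩
    · rw [← map_inv, ← map_mul, ← map_mul, hinv, map_inv]
  rcases hE with ⟨F, i1, i2, hFodd, h3, ⟨i⟩⟩ | ⟨⟨i⟩⟩
  · have h2 : (2 : F) ≠ 0 := Ring.two_ne_zero fun hc => by
      have := FiniteField.even_card_iff_char_two.1 hc
      rw [Nat.odd_iff] at hFodd
      omega
    haveI : IsSimpleGroup (Matrix.ProjectiveSpecialLinearGroup (Fin 2) F) :=
      Classical.Linear.isSimpleGroup_PSL_fin le_rfl fun _ => h3
    have h4 : 2 ∣ Nat.card (Matrix.ProjectiveSpecialLinearGroup (Fin 2) F) := by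
      have hG : Nat.gcd 2 (Fintype.card F - 1) * Nat.card (Matrix.ProjectiveSpecialLinearGroup (Fin 2) F) =
          Fintype.card F * ((Fintype.card F - 1) * (Fintype.card F + 1)) := PSLOrderSpectrum.card_psl_two
      rw [Nat.odd_iff] at hFodd
      rw [Nat.gcd_eq_left (show 2 ∣ Fintype.card F - 1 by omega)] at hG
      obtain ⟨j, hj⟩ : ∃ j, Fintype.card F = 2 * j + 1 := ⟨Fintype.card F / 2, by omega⟩
      rw [hj, Nat.add_sub_cancel] at hG
      exact ⟨(2 * j + 1) * (j * (j + 1)), by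
        refine Nat.eq_of_mul_eq_mul_left two_pos (hG.trans ?_)
        ring⟩
    haveI : Fact (Nat.Prime 2) := ⟨Nat.prime_two⟩
    obtain ⟨a, ha⟩ := exists_prime_orderOf_dvd_card'
      (G := Matrix.ProjectiveSpecialLinearGroup (Fin 2) F) 2 h4
    obtain ⟨b, hb, hfix, hne⟩ := exists_fixed_invol h2 h4 (diag_conj (F := F) ha).2
    rw [MulAut.conj_apply, mul_inv_eq_iff_eq_mul] at hfix
    obtain ⟨φ, hφ, hrange⟩ := exists_action hm hm0 hd hO E i ha hb (fun h => hne (h ▸ rfl)) hfix
      (AutPSL.LocalBalance.conj_injective le_rfl)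
    obtain ⟨h8, ht', hodd', hle, hA', hinv'⟩ := transport φ hφ
    exact hφ ((psl_case h2 h3 h4 φ.range hrange h8 ⟨t, rfl⟩ ht' _ hle hodd'
      (fun B hB => Cfsg.Agent.S0205.result hB) hA' (Subgroup.mem_map_of_mem φ hx) hinv').trans (map_one φ).symm)
  · have hc : Function.Injective (MulAut.conj : alternatingGroup (Fin 7) →* MulAut (alternatingGroup (Fin 7))) := by
      haveI : IsSimpleGroup (alternatingGroup (Fin 7)) := alternatingGroup.isSimpleGroup (by simp)
      refine (MonoidHom.ker_eq_bot_iff _).1 ((inferInstance : MulAut.conj.ker.Normal).eq_bot_or_eq_top.resolve_right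
        fun h => ?_)
      have hk : MulAut.conj (⟨Equiv.swap (0 : Fin 7) 1 * Equiv.swap 2 3, by
          rw [Equiv.Perm.mem_alternatingGroup]; decide⟩ : alternatingGroup (Fin 7)) = 1 :=
        MonoidHom.mem_ker.1 (h ▸ mem_top _)
      have := congrArg Subtype.val (DFunLike.congr_fun hk ⟨Equiv.swap (0 : Fin 7) 2 * Equiv.swap 2 4, by
        rw [Equiv.Perm.mem_alternatingGroup]; decide⟩)
      revert this
      decide +kernel
    obtain ⟨φ, hφ, hrange⟩ := exists_action hm hm0 hd hO E i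
      (a := ⟨Equiv.swap (0 : Fin 7) 1 * Equiv.swap 2 3, by rw [Equiv.Perm.mem_alternatingGroup]; decide⟩)
      (b := ⟨Equiv.swap (0 : Fin 7) 2 * Equiv.swap 1 3, by rw [Equiv.Perm.mem_alternatingGroup]; decide⟩)
      (orderOf_eq_prime (Subtype.ext (by decide +kernel)) (fun h => by
        have := congrArg Subtype.val h; revert this; decide +kernel))
      (orderOf_eq_prime (Subtype.ext (by decide +kernel)) (fun h => by
        have := congrArg Subtype.val h; revert this; decide +kernel))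
      (fun h => by have := congrArg Subtype.val h; revert this; decide +kernel)
      (Subtype.ext (by decide +kernel)) hc
    obtain ⟨h8, ht', hodd', hle, hA', hinv'⟩ := transport φ hφ
    exact hφ ((alt_case φ.range hrange h8 ⟨t, rfl⟩ ht' _ hle hodd' hA'
      (Subgroup.mem_map_of_mem φ hx) hinv').trans (map_one φ).symm)

end Core

section Lift

variable {G : Type u} [Group G] [Finite G]

/-- A subgroup that is not solvable contains a nontrivial perfect subgroup. -/
theorem maxPerfect_ne_bot {Y : Subgroup G} (h : ¬ Group.IsSolvable Y) : maxPerfect Y ≠ ⊥ := by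
  obtain ⟨k, hk⟩ : ∃ k, derivedSeries Y (k + 1) = derivedSeries Y k := by
    by_contra hno
    push Not at hno
    have hlt : ∀ k, Nat.card (derivedSeries Y (k + 1)) < Nat.card (derivedSeries Y k) := fun k => by
      have hle : derivedSeries Y (k + 1) ≤ derivedSeries Y k := derivedSeries_antitone _ (Nat.le_succ k)
      refine lt_of_le_of_ne (Subgroup.card_le_of_le hle) fun he => hno k ?_
      exact Subgroup.eq_of_le_of_card_ge hle he.ge
    have : ∀ k, Nat.card (derivedSeries Y k) + k ≤ Nat.card Y := fun k => by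
      induction k with
      | zero => simp [derivedSeries_zero]
      | succ k ih => have := hlt k; omega
    have := this (Nat.card Y + 1)
    omega
  intro hbot
  refine h ⟨⟨k, ?_⟩⟩
  have hperf : ⁅(derivedSeries Y k).map Y.subtype, (derivedSeries Y k).map Y.subtype⁆ =
      (derivedSeries Y k).map Y.subtype := by
    rw [← Subgroup.map_commutator, ← derivedSeries_succ, hk]
  have hle := le_maxPerfect (K := Y) (map_subtype_le _) hperf
  rw [hbot, le_bot_iff, Subgroup.map_eq_bot_iff_of_injective _ Y.subtype_injective] at hle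
  exact hle

/-- Balance in a proper subgroup. -/
theorem balance (S : Sylow 2 G) {m : ℕ} (hm : 2 ≤ m) (e : (S : Subgroup G) ≃* DihedralGroup m)
    (hknown : KnownProper G) {Y : Subgroup G} (hY : Y ≠ ⊤) {t : G} (htY : t ∈ Y) (ht : orderOf t = 2)
    (A : Subgroup G) (hAY : A ≤ Y) (hodd : Odd (Nat.card A))
    (hA : ∀ c ∈ Y, Commute c t → ∀ a ∈ A, c * a * c⁻¹ ∈ A)
    {x : G} (hx : x ∈ A) (hinv : t * x * t⁻¹ = x⁻¹) : x ∈ oddPart Y := by
  classical
  haveI : Fact (Nat.Prime 2) := ⟨Nat.prime_two⟩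
  have hm2 : 2 ∣ m := DihedralSylow.two_dvd S e hm
  have hm0 : m ≠ 0 := by omega
  haveI : (Cfsg.oddCore Y).Normal := Cores.pPrimeCore_normal 2
  set π := QuotientGroup.mk' (Cfsg.oddCore Y) with hπ
  have hπs : Function.Surjective π := QuotientGroup.mk'_surjective _
  have hO : Cfsg.oddCore (Y ⧸ Cfsg.oddCore Y) = ⊥ := Cores.pPrimeCore_quotient_self 2
  -- the Sylow hypothesis
  have hd : TwoDihedral (Y ⧸ Cfsg.oddCore Y) m := by
    intro P hP
    obtain ⟨T⟩ := (inferInstance : Nonempty (Sylow 2 ↥(P.comap π)))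
    let r : P.comap π →* P := π.subgroupComap P
    have hr : Function.Surjective r := MonoidHom.subgroupComap_surjective_of_surjective π P hπs
    have htop : (T.mapSurjective hr : Subgroup P) = ⊤ :=
      ((T.mapSurjective hr).is_maximal' (hP.to_subgroup ⊤) le_top).symm
    let ρ : (T : Subgroup ↥(P.comap π)) →* P := r.comp (T : Subgroup ↥(P.comap π)).subtype
    have hρs : Function.Surjective ρ := fun y => by
      obtain ⟨c, hc, he⟩ := (htop ▸ mem_top y : y ∈ (T.mapSurjective hr : Subgroup P))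
      exact ⟨⟨c, hc⟩, he⟩
    have hρi : Function.Injective ρ := (injective_iff_map_eq_one ρ).2 fun c hc => by
      have hc' : ((c : P.comap π) : Y) ∈ Cfsg.oddCore Y :=
        (QuotientGroup.eq_one_iff _).1 (congrArg Subtype.val hc)
      obtain ⟨k, hk⟩ := IsPGroup.iff_orderOf.1 T.2 c
      have h1 : orderOf ((c : P.comap π) : Y) = 2 ^ k := by rw [Subgroup.orderOf_coe, Subgroup.orderOf_coe, hk]
      have h2 := Subgroup.orderOf_dvd_natCard _ hc'
      rw [h1] at h2
      have : 2 ^ k = 1 := Nat.eq_one_of_dvd_coprimes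
        ((Nat.coprime_two_left.2 Cores.oddCore_odd).pow_left k) dvd_rfl h2
      rw [this, orderOf_eq_one_iff] at h1
      exact Subtype.ext (Subtype.ext h1)
    have hTp : IsPGroup 2 (((T : Subgroup ↥(P.comap π)).map (P.comap π).subtype).map Y.subtype) :=
      (T.2.map _).map _
    obtain ⟨f, hf⟩ := DihedralSylow.exists_embedding S hTp e
    let j : (T : Subgroup ↥(P.comap π)) ≃* ↥(((T : Subgroup ↥(P.comap π)).map (P.comap π).subtype).map Y.subtype) :=
      (Subgroup.equivMapOfInjective _ _ (P.comap π).subtype_injective).trans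
        (Subgroup.equivMapOfInjective _ _ Y.subtype_injective)
    exact ⟨f.comp ((MulEquiv.ofBijective ρ ⟨hρi, hρs⟩).symm.trans j).toMonoidHom,
      hf.comp (MulEquiv.injective _)⟩
  set tb := π ⟨t, htY⟩ with htb
  have htb2 : orderOf tb = 2 := by
    refine orderOf_eq_prime ?_ fun h1 => ?_
    · rw [htb, ← map_pow, show (⟨t, htY⟩ : Y) ^ 2 = 1 from Subtype.ext (by
        rw [SubmonoidClass.coe_pow, ← ht]; exact pow_orderOf_eq_one t), map_one]
    · have hd' := Subgroup.orderOf_dvd_natCard _ ((QuotientGroup.eq_one_iff _).1 h1)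
      rw [Subgroup.orderOf_mk, ht] at hd'
      exact (Nat.not_even_iff_odd.2 Cores.oddCore_odd) (even_iff_two_dvd.2 hd')
  set Ab := (A.subgroupOf Y).map π with hAb
  have hoddb : Odd (Nat.card Ab) := by
    refine hodd.of_dvd_nat ?_
    rw [← Nat.card_congr (Subgroup.subgroupOfEquivOfLe hAY).toEquiv]
    exact Subgroup.card_map_dvd _ _
  have hAbn : ∀ c, Commute c tb → ∀ a ∈ Ab, c * a * c⁻¹ ∈ Ab := by
    intro c hc b hb
    obtain ⟨a, ha, rfl⟩ := hb
    obtain ⟨⟨c, hcY⟩, rfl⟩ := hπs c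
    have hA2 : zpowers t ≤ normalizer (oddPart Y : Set G) := zpowers_le.2 (le_normalizer_oddPart Y htY)
    obtain ⟨o, ho, hoc⟩ := Coprime.exists_fixed_in_coset (k := c) hA2
      (by rw [Nat.card_zpowers, ht]; exact Nat.coprime_two_left.2 (oddPart_odd Y))
      (Or.inr (oddPart_solvable Y)) (by
        intro z hz
        obtain ⟨j, rfl⟩ := mem_zpowers_iff.1 hz
        refine ⟨(⟨c, hcY⟩ : Y)⁻¹ * ((⟨t, htY⟩ : Y) ^ j * ⟨c, hcY⟩ * ((⟨t, htY⟩ : Y) ^ j)⁻¹), ?_, ?_⟩
        · apply (QuotientGroup.eq_one_iff _).1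
          show π _ = 1
          have hc' : Commute (π ⟨c, hcY⟩) (π ⟨t, htY⟩ ^ j) := Commute.zpow_right hc j
          rw [map_mul, map_inv, map_mul, map_mul, map_inv, map_zpow, ← hc'.eq, mul_inv_cancel_right,
            inv_mul_cancel]
        · simp)
    have hoY : o ∈ Y := oddPart_le Y ho
    have hmem := hA (c * o) (mul_mem hcY hoY) (mem_centralizer_iff.1 hoc t (mem_zpowers t)).symm (a : G) ha
    refine ⟨⟨(c * o) * (a : G) * (c * o)⁻¹, hAY hmem⟩, hmem, ?_⟩
    have ho' : π ⟨o, hoY⟩ = 1 := by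
      obtain ⟨o', ho'', rfl⟩ := ho
      exact (QuotientGroup.eq_one_iff _).2 ho''
    rw [show (⟨(c * o) * (a : G) * (c * o)⁻¹, hAY hmem⟩ : Y) =
      (⟨c, hcY⟩ * ⟨o, hoY⟩) * a * (⟨c, hcY⟩ * ⟨o, hoY⟩)⁻¹ from Subtype.ext rfl]
    rw [map_mul, map_mul, map_inv, map_mul, ho', mul_one]
  have hxb : π ⟨x, hAY hx⟩ ∈ Ab := Subgroup.mem_map_of_mem π (mem_subgroupOf.2 hx)
  have hinvb : tb * π ⟨x, hAY hx⟩ * tb⁻¹ = (π ⟨x, hAY hx⟩)⁻¹ := by
    rw [htb, ← map_inv, ← map_mul, ← map_mul, ← map_inv]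
    exact congrArg π (Subtype.ext hinv)
  suffices h : π ⟨x, hAY hx⟩ = 1 from ⟨_, (QuotientGroup.eq_one_iff _).1 h, rfl⟩
  by_cases hs : Group.IsSolvable Y
  · haveI : Group.IsSolvable (Y ⧸ Cfsg.oddCore Y) := Group.isSolvable_of_surjective hπs
    exact solvable_case hm2 hm0 hd hO htb2 Ab hoddb hAbn hxb
  set E := maxPerfect Y with hEdef
  have hE1 : E ≠ ⊥ := maxPerfect_ne_bot hs
  have hEY : E ≤ Y := maxPerfect_le Y
  have htype : IsType (E ⧸ Cfsg.oddCore E) :=
    hknown E (fun h => hY (top_le_iff.1 (h.symm.le.trans hEY))) hE1 (maxPerfect_perfect Y)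
  haveI : (E.subgroupOf Y).Normal := normal_subgroupOf_of_le_normalizer (le_normalizer_maxPerfect Y)
  haveI : ((E.subgroupOf Y).map π).Normal :=
    (inferInstance : (E.subgroupOf Y).Normal).map π hπs
  haveI : (Cfsg.oddCore E).Normal := Cores.pPrimeCore_normal 2
  let ψ : E →* ↥((E.subgroupOf Y).map π) :=
    (π.subgroupMap (E.subgroupOf Y)).comp (Subgroup.subgroupOfEquivOfLe hEY).symm.toMonoidHom
  have hψs : Function.Surjective ψ :=
    (π.subgroupMap_surjective _).comp (MulEquiv.surjective _)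
  have hker : ψ.ker = Cfsg.oddCore E := by
    ext y
    rw [MonoidHom.mem_ker]
    constructor
    · intro h
      have hy : (⟨(y : G), hEY y.2⟩ : Y) ∈ Cfsg.oddCore Y :=
        (QuotientGroup.eq_one_iff _).1 (congrArg Subtype.val h)
      haveI : ((oddPart Y).subgroupOf E).Normal :=
        normal_subgroupOf_of_le_normalizer (hEY.trans (le_normalizer_oddPart Y))
      exact Cores.le_oddCore (N := (oddPart Y).subgroupOf E)
        ((oddPart_odd Y).of_dvd_nat (Subgroup.card_comap_dvd_of_injective _ _ E.subtype_injective))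
        (mem_subgroupOf.2 ⟨_, hy, rfl⟩)
    · intro hy
      refine Subtype.ext ((QuotientGroup.eq_one_iff _).2 ?_)
      have hn : Y ≤ normalizer (oddPart E : Set G) := fun k hk =>
        mem_normalizer_oddPart (le_normalizer_maxPerfect Y hk)
      haveI : ((oddPart E).subgroupOf Y).Normal :=
        normal_subgroupOf_of_le_normalizer hn
      exact Cores.le_oddCore (N := (oddPart E).subgroupOf Y)
        ((oddPart_odd E).of_dvd_nat (Subgroup.card_comap_dvd_of_injective _ _ Y.subtype_injective))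
        (mem_subgroupOf.2 ⟨y, hy, rfl⟩)
  have hiso : Nonempty (↥((E.subgroupOf Y).map π) ≃* E ⧸ Cfsg.oddCore E) :=
    ⟨((QuotientGroup.quotientMulEquivOfEq hker.symm).trans
      (QuotientGroup.quotientKerEquivOfSurjective ψ hψs)).symm⟩
  have htype' : IsType ↥((E.subgroupOf Y).map π) := by
    obtain ⟨i⟩ := hiso
    rcases htype with ⟨F, i1, i2, h1, h2, ⟨j⟩⟩ | ⟨⟨j⟩⟩
    · exact Or.inl ⟨F, i1, i2, h1, h2, ⟨i.trans j⟩⟩
    · exact Or.inr ⟨i.trans j⟩
  exact simple_case hm2 hm0 hd hO _ htype' htb2 Ab hoddb hAbn hxb hinvb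

end Lift

end Cfsg.Agent.GW.NoBareBalance
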