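import Cfsg.Agent.Lib.GW.OvergroupsPSL
import Cfsg.Agent.Lib.PSLBinary.Invol
import Cfsg.Agent.NormEq.Outer

/-!
# Odd subgroups normalised by an involution centraliser in `PSL₂(q)` and its automorphism group

Let `Γ` lie between `PSL₂(q)` and its automorphism group, with no elementary abelian subgroup of order eight,
`β` an involution of `Γ` and `A` a subgroup of odd order normalised by `C_Γ(β)`.  Then `β` inverts no
non-identity element of `A`.
-/

set_option autoImplicit false
set_option linter.all false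

namespace Cfsg.Agent.GW.NoBareBalance

open Matrix
open scoped MatrixGroups commutatorElement
open Cfsg.Agent.AutPSL Cfsg.Agent.GW

universe u

variable {F : Type u} [Field F]

local notation "M2" => Matrix (Fin 2) (Fin 2) F
local notation "PG" => Matrix.ProjectiveSpecialLinearGroup (Fin 2) F
local notation "π" => Forms.KleinPSL.pi F
local notation "gA" => AutPSL.Basic.gAut (n := 2) (F := F)

/-- A traceless non-scalar matrix commutes only with its multiples among the traceless ones. -/
theorem exists_smul_of_comm (h2 : (2 : F) ≠ 0) {G H : M2}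
    (hG : ¬ (G 0 1 = 0 ∧ G 1 0 = 0 ∧ G 0 0 = G 1 1)) (hGt : G 0 0 + G 1 1 = 0) (hHt : H 0 0 + H 1 1 = 0)
    (hc : G * H = H * G) : ∃ k : F, H = k • G := by
  have c00 := congrFun (congrFun hc 0) 0
  have c01 := congrFun (congrFun hc 0) 1
  have c10 := congrFun (congrFun hc 1) 0
  simp [Matrix.mul_apply, Fin.sum_univ_two] at c00 c01 c10
  have G11 : G 1 1 = -G 0 0 := by linear_combination hGt
  have H11 : H 1 1 = -H 0 0 := by linear_combination hHt
  rw [G11, H11] at c01 c10
  have k1 : G 0 0 * H 0 1 = G 0 1 * H 0 0 := mul_left_cancel₀ h2 (by linear_combination c01)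
  have k2 : G 0 0 * H 1 0 = G 1 0 * H 0 0 := mul_left_cancel₀ h2 (by linear_combination -c10)
  have k3 : G 0 1 * H 1 0 = G 1 0 * H 0 1 := by linear_combination c00
  by_cases ha : G 0 0 = 0
  · by_cases hb : G 0 1 = 0
    · have hc0 : G 1 0 ≠ 0 := fun h => hG ⟨hb, h, by rw [G11, ha, neg_zero]⟩
      refine ⟨H 1 0 / G 1 0, ?_⟩
      rw [ha, zero_mul] at k2
      have hx : H 0 0 = 0 := (mul_eq_zero.1 k2.symm).resolve_left hc0
      rw [hb, zero_mul] at k3
      have hy : H 0 1 = 0 := (mul_eq_zero.1 k3.symm).resolve_left hc0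
      ext i j
      fin_cases i <;> fin_cases j <;> simp [G11, H11, ha, hb, hx, hy, hc0]
    · refine ⟨H 0 1 / G 0 1, ?_⟩
      rw [ha, zero_mul] at k1
      have hx : H 0 0 = 0 := (mul_eq_zero.1 k1.symm).resolve_left hb
      ext i j
      fin_cases i <;> fin_cases j <;> simp [G11, H11, ha, hb, hx] <;> field_simp
      linear_combination k3
  · refine ⟨H 0 0 / G 0 0, ?_⟩
    ext i j
    fin_cases i <;> fin_cases j <;> simp [G11, H11] <;> field_simp
    all_goals first
      | linear_combination k1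
      | linear_combination k2
      | ring

variable [Fintype F] (h2 : (2 : F) ≠ 0)

/-- A diagonal involution. -/
def Diag (β : MulAut PG) : Prop := (∃ g : GL (Fin 2) F, β = gA g) ∧ orderOf β = 2

theorem diag_apply_apply {β : MulAut PG} (hβ : orderOf β = 2) (y : PG) : β (β y) = y := by
  have h : β * β = 1 := Forms.KleinPSL.mul_self_of_order_two hβ
  exact DFunLike.congr_fun h y

/-- A diagonal involution comes from a traceless non-scalar matrix. -/
theorem Diag.exists_traceless {β : MulAut PG} (h : Diag β) :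
    ∃ g : GL (Fin 2) F, β = gA g ∧ (g : M2) 0 0 + (g : M2) 1 1 = 0 ∧
      g ∉ Subgroup.center (GL (Fin 2) F) := by
  obtain ⟨⟨g, rfl⟩, ho⟩ := h
  have hnc : g ∉ Subgroup.center (GL (Fin 2) F) := fun h => by
    rw [(AutPSL.Out.gAut_eq_one_iff le_rfl g).2 h, orderOf_one] at ho
    exact absurd ho (by decide)
  obtain ⟨l, hl⟩ := (OvergroupsPSL.mem_center_iff _).1 ((AutPSL.Out.gAut_eq_one_iff le_rfl (g * g)).1
    (by rw [map_mul]; exact Forms.KleinPSL.mul_self_of_order_two ho))
  rw [Units.val_mul] at hl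
  refine ⟨g, rfl, ?_, hnc⟩
  by_contra hne
  apply OvergroupsPSL.not_scalar hnc
  have e01 := congrFun (congrFun hl 0) 1
  have e10 := congrFun (congrFun hl 1) 0
  have e00 := congrFun (congrFun hl 0) 0
  have e11 := congrFun (congrFun hl 1) 1
  simp [Matrix.mul_apply, Fin.sum_univ_two] at e01 e10 e00 e11
  refine ⟨?_, ?_, ?_⟩
  · exact (mul_eq_zero.1 (show (g : M2) 0 1 * ((g : M2) 0 0 + (g : M2) 1 1) = 0 by
      linear_combination e01)).resolve_right hne
  · exact (mul_eq_zero.1 (show (g : M2) 1 0 * ((g : M2) 0 0 + (g : M2) 1 1) = 0 by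
      linear_combination e10)).resolve_right hne
  · exact sub_eq_zero.1 ((mul_eq_zero.1 (show ((g : M2) 0 0 - (g : M2) 1 1) *
      ((g : M2) 0 0 + (g : M2) 1 1) = 0 by linear_combination e00 - e11)).resolve_right hne)

include h2 in
/-- The fixed points of a diagonal involution contain the odd-order elements commuting with one of them. -/
theorem Diag.fix_of_commute {β : MulAut PG} (h : Diag β) {x y : PG} (hx : β x = x) (hx1 : x ≠ 1)
    (hxo : Odd (orderOf x)) (hy : Odd (orderOf y)) (hc : Commute x y) : β y = y := by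
  obtain ⟨⟨g, rfl⟩, -⟩ := h
  obtain ⟨X, rfl⟩ := Forms.KleinPSL.pi_surjective x
  obtain ⟨Y, rfl⟩ := Forms.KleinPSL.pi_surjective y
  have hgX := OvergroupsPSL.comm_of_fix h2 hx hxo
  have hXY : (X : M2) * Y = (Y : M2) * X := by
    rcases Forms.KleinPSL.comm_cases hc with e | e
    · exact congrArg Subtype.val e
    · exfalso
      have e' := congrArg Subtype.val e
      rw [Matrix.SpecialLinearGroup.coe_mul, Matrix.SpecialLinearGroup.coe_neg,
        Matrix.SpecialLinearGroup.coe_mul] at e'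
      have := OvergroupsPSL.orderOf_pi_of_trace h2 (OvergroupsPSL.trace_of_anti h2
        (Matrix.SpecialLinearGroup.toGL X) (X := (Y : M2)) e')
      rw [this] at hy
      exact absurd hy (by decide)
  have hgY : (g : M2) * Y = (Y : M2) * g :=
    OvergroupsPSL.comm_trans (PSLBinary.pi_ne_one.1 hx1) hgX.symm hXY
  rw [OvergroupsPSL.gAut_pi]
  refine congrArg π (Subtype.ext ?_)
  rw [AutPSL.Basic.conjSL_coe, hgY, mul_assoc, Units.mul_inv, mul_one]

include h2 in
/-- Only one diagonal involution fixes a given non-identity element of odd order. -/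
theorem Diag.unique {β γ : MulAut PG} (hβ : Diag β) (hγ : Diag γ) {x : PG} (hx1 : x ≠ 1)
    (hxo : Odd (orderOf x)) (hb : β x = x) (hc : γ x = x) : β = γ := by
  obtain ⟨g, rfl, hgt, hgn⟩ := hβ.exists_traceless
  obtain ⟨g', rfl, hgt', hgn'⟩ := hγ.exists_traceless
  obtain ⟨X, rfl⟩ := Forms.KleinPSL.pi_surjective x
  have h1 := OvergroupsPSL.comm_of_fix h2 hb hxo
  have h1' := OvergroupsPSL.comm_of_fix h2 hc hxo
  obtain ⟨k, hk⟩ := exists_smul_of_comm h2 (OvergroupsPSL.not_scalar hgn) hgt hgt'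
    (OvergroupsPSL.comm_trans (PSLBinary.pi_ne_one.1 hx1) h1.symm h1'.symm)
  exact NormEq.Outer.gAut_eq_iff.2 ⟨k, hk⟩

theorem diag_conj {x : PG} (hx : orderOf x = 2) : Diag (MulAut.conj x : MulAut PG) := by
  refine ⟨?_, ?_⟩
  · obtain ⟨X, rfl⟩ := Forms.KleinPSL.pi_surjective x
    exact ⟨_, OvergroupsPSL.conj_pi X⟩
  · rw [orderOf_injective _ (AutPSL.LocalBalance.conj_injective le_rfl), hx]

theorem diag_mul {β σ : MulAut PG} (hβ : Diag β) (hσ : Diag σ) (hc : Commute β σ) (hne : σ ≠ β) :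
    Diag (β * σ) := by
  obtain ⟨⟨g, rfl⟩, hg2⟩ := hβ
  obtain ⟨⟨g', rfl⟩, hg2'⟩ := hσ
  have hg : gA g * gA g = 1 := Forms.KleinPSL.mul_self_of_order_two hg2
  have hg' : gA g' * gA g' = 1 := Forms.KleinPSL.mul_self_of_order_two hg2'
  refine ⟨⟨g * g', (map_mul _ _ _).symm⟩, orderOf_eq_prime ?_ fun h => hne ?_⟩
  · rw [sq, Commute.mul_mul_mul_comm hc.symm, hg, hg', one_mul]
  · calc gA g' = (gA g * gA g) * gA g' := by rw [hg, one_mul]
      _ = gA g := by rw [mul_assoc, h, mul_one]

/-- Commuting automorphisms. -/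
theorem commute_conj {γ : MulAut PG} {x : PG} : Commute γ (MulAut.conj x) ↔ γ x = x := by
  have e : γ * MulAut.conj x * γ⁻¹ = MulAut.conj (γ x) := by
    refine MulEquiv.ext fun y => ?_
    simp [MulAut.mul_apply, MulAut.inv_def]
  constructor
  · intro h
    refine AutPSL.LocalBalance.conj_injective le_rfl ?_
    rw [← e, h.eq, mul_inv_cancel_right]
  · intro h
    rw [h] at e
    exact mul_inv_eq_iff_eq_mul.1 e

/-- Some involution is fixed by an automorphism of order two, distinct from it if it is inner. -/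
theorem exists_fixed_invol (h2 : (2 : F) ≠ 0) (h4 : 2 ∣ Nat.card PG) {β : MulAut PG} (hβ : orderOf β = 2) :
    ∃ s : PG, orderOf s = 2 ∧ β s = s ∧ MulAut.conj s ≠ β := by
  classical
  haveI : Fact (Nat.Prime 2) := ⟨Nat.prime_two⟩
  haveI := Fintype.ofFinite PG
  by_cases hin : ∃ a, β = MulAut.conj a
  · obtain ⟨a, rfl⟩ := hin
    have ha : orderOf a = 2 := by rwa [orderOf_injective _ (AutPSL.LocalBalance.conj_injective le_rfl)] at hβ
    have hp := PSLBinary.card_perp h2 ha
    have hpos : 0 < Nat.card (Forms.KleinSL2.Circ F 1) := by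
      rw [← PSLBinary.natCard_centralizer_invol h2 ha]; exact Nat.card_pos
    obtain ⟨s, hs⟩ := Finset.card_pos.1 (show 0 <
      (Finset.univ.filter fun s : PG => orderOf s = 2 ∧ s ≠ a ∧ Commute a s).card by omega)
    obtain ⟨-, hs2, hsa, hc⟩ := Finset.mem_filter.1 hs
    exact ⟨s, hs2, by rw [MulAut.conj_apply, hc.eq, mul_inv_cancel_right],
      fun h => hsa (AutPSL.LocalBalance.conj_injective le_rfl h)⟩
  · let C : Subgroup PG :=
      { carrier := {x | β x = x}
        one_mem' := map_one β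
        mul_mem' := fun {a b} ha hb => by
          show β (a * b) = a * b
          rw [map_mul, show β a = a from ha, show β b = b from hb]
        inv_mem' := fun {a} ha => by
          show β a⁻¹ = a⁻¹
          rw [map_inv, show β a = a from ha] }
    have hσ : (β.toEquiv : Equiv.Perm PG) ^ 2 ^ 1 = 1 := by
      refine Equiv.ext fun x => ?_
      rw [pow_one, sq, Equiv.Perm.mul_apply]
      exact diag_apply_apply hβ x
    have hmod := Equiv.Perm.card_compl_support_modEq hσ
    have hC : Nat.card C = (Equiv.Perm.support (β.toEquiv : Equiv.Perm PG))ᶜ.card := by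
      rw [← Fintype.card_coe, ← Nat.card_eq_fintype_card]
      exact Nat.card_congr (Equiv.subtypeEquivRight fun x => by
        rw [Finset.mem_compl, Equiv.Perm.mem_support, not_not]; rfl)
    have hd : 2 ∣ Nat.card C := by
      rw [hC]
      exact Nat.modEq_zero_iff_dvd.1 (hmod.trans (Nat.modEq_zero_iff_dvd.2 (show 2 ∣ Fintype.card PG by rw [← Nat.card_eq_fintype_card]; exact h4)))
    obtain ⟨s, hs⟩ := exists_prime_orderOf_dvd_card' (G := C) 2 hd
    exact ⟨s, by rw [Subgroup.orderOf_coe, hs], s.2, fun h => hin ⟨_, h.symm⟩⟩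

/-- The derived series of a subgroup. -/
def der (B : Subgroup PG) : ℕ → Subgroup PG
  | 0 => B
  | n + 1 => ⁅der B n, der B n⁆

theorem der_map (B : Subgroup PG) {γ : MulAut PG} (h : B.map γ.toMonoidHom = B) :
    ∀ n, (der B n).map γ.toMonoidHom = der B n
  | 0 => h
  | n + 1 => by rw [der, Subgroup.map_commutator, der_map B h n]

theorem der_le (B : Subgroup PG) : ∀ n, der B n ≤ B
  | 0 => le_rfl
  | n + 1 => Subgroup.commutator_le.2 fun a ha b hb => by
      have ha := der_le B n ha
      have hb := der_le B n hb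
      exact mul_mem (mul_mem (mul_mem ha hb) (inv_mem ha)) (inv_mem hb)

theorem exists_der_eq_bot (B : Subgroup PG) (hB : Group.IsSolvable B) : ∃ n, der B n = ⊥ := by
  obtain ⟨n, hn⟩ := hB.solvable
  refine ⟨n, ?_⟩
  have key : ∀ k, (derivedSeries B k).map B.subtype = der B k := by
    intro k
    induction k with
    | zero => rw [derivedSeries_zero, ← MonoidHom.range_eq_map, B.range_subtype]; rfl
    | succ k ih => rw [derivedSeries_succ, Subgroup.map_commutator, ih]; rfl
  rw [← key, hn, Subgroup.map_bot]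

include h2 in
/-- An odd-order subgroup of `PSL₂(q)` normalised by the centraliser of a diagonal involution is fixed by it. -/
theorem diag_fix (h3 : 3 < Fintype.card F) (h4 : 2 ∣ Nat.card PG) {β : MulAut PG} (hβ : Diag β)
    (Γ : Subgroup (MulAut PG)) (hΓ : ∀ e : PG, MulAut.conj e ∈ Γ) (hβΓ : β ∈ Γ)
    {B : Subgroup PG} (hsol : Group.IsSolvable B) (hodd : Odd (Nat.card B))
    (hB : ∀ γ ∈ Γ, Commute γ β → ∀ b ∈ B, γ b ∈ B) : ∀ b ∈ B, β b = b := by
  classical
  intro b hb
  by_contra hbne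
  have hBo : ∀ x ∈ B, Odd (orderOf x) := fun x hx => hodd.of_dvd_nat (Subgroup.orderOf_dvd_natCard _ hx)
  obtain ⟨n, hn⟩ := exists_der_eq_bot B hsol
  have hne : B ≠ ⊥ := fun h => hbne (by rw [h, Subgroup.mem_bot] at hb; rw [hb, map_one])
  obtain ⟨k, hk, hk1⟩ : ∃ k, der B k ≠ ⊥ ∧ der B (k + 1) = ⊥ := by
    by_contra hno
    push Not at hno
    have : ∀ j, der B j ≠ ⊥ := fun j => by
      induction j with
      | zero => exact hne
      | succ j ih => exact hno j ih
    exact this n hn
  set L := der B k with hLdef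
  have hLB : L ≤ B := der_le B k
  have hLc : ∀ x ∈ L, ∀ y ∈ L, Commute x y := fun x hx y hy => by
    have : ⁅x, y⁆ ∈ der B (k + 1) := Subgroup.commutator_mem_commutator hx hy
    rw [hk1, Subgroup.mem_bot] at this
    exact commutatorElement_eq_one_iff_mul_comm.1 this
  have hLinv : ∀ γ : MulAut PG, (∀ x ∈ B, γ x ∈ B) → ∀ l ∈ L, γ l ∈ L := by
    intro γ hγ l hl
    have hmap : B.map γ.toMonoidHom = B := Subgroup.eq_of_le_of_card_ge
      (by rintro _ ⟨x, hx, rfl⟩; exact hγ x hx)
      (Subgroup.card_map_of_injective γ.injective).ge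
    have h' := Subgroup.mem_map_of_mem γ.toMonoidHom hl
    rw [der_map B hmap k] at h'
    exact h'
  obtain ⟨s, hs, hβs, hsne⟩ := exists_fixed_invol h2 h4 hβ.2
  have hcσ : Commute β (MulAut.conj s) := commute_conj.2 hβs
  have hσB : ∀ x ∈ B, (MulAut.conj s) x ∈ B := hB _ (hΓ s) hcσ.symm
  have hββ : ∀ y, β (β y) = y := diag_apply_apply hβ.2
  have hσσ : ∀ y, (MulAut.conj s) ((MulAut.conj s) y) = y := diag_apply_apply (diag_conj hs).2
  -- one of the three involutions fixes a non-identity element of `L`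
  obtain ⟨w, l, hw, hlL, hl1, hwl, hwβ⟩ : ∃ (w : MulAut PG) (l : PG), Diag w ∧ l ∈ L ∧ l ≠ 1 ∧ w l = l ∧
      (w = β ∨ ((∀ x, β x = x → w x = x → (MulAut.conj s) x = x) ∧
        ∀ a : PG, β = MulAut.conj a → ∃ a', w = MulAut.conj a')) := by
    obtain ⟨⟨l, hl⟩, hl1'⟩ := Subgroup.ne_bot_iff_exists_ne_one.1 hk
    have hl1 : l ≠ 1 := fun h => hl1' (Subtype.ext h)
    have hβl := hLinv β (hB β hβΓ (Commute.refl β)) l hl
    have hσl := hLinv _ hσB l hl
    by_cases h1 : l * β l = 1
    swap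
    · exact ⟨β, _, hβ, mul_mem hl hβl, h1, by rw [map_mul, hββ, (hLc _ hl _ hβl).eq], Or.inl rfl⟩
    by_cases h2' : l * (MulAut.conj s) l = 1
    swap
    · exact ⟨_, _, diag_conj hs, mul_mem hl hσl, h2', by rw [map_mul, hσσ, (hLc _ hl _ hσl).eq],
        Or.inr ⟨fun x _ h => h, fun _ _ => ⟨s, rfl⟩⟩⟩
    refine ⟨_, l, diag_mul hβ (diag_conj hs) hcσ hsne, hl, hl1, ?_,
      Or.inr ⟨fun x h h' => ?_, fun a ha => ⟨a * s, by rw [ha, map_mul]⟩⟩⟩
    · rw [MulAut.mul_apply, eq_inv_of_mul_eq_one_right h2', map_inv, eq_inv_of_mul_eq_one_right h1, inv_inv]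
    · rw [MulAut.mul_apply] at h'
      have := congrArg β h'
      rwa [hββ, h] at this
  have hwfix : ∀ y ∈ L, w y = y := fun y hy =>
    hw.fix_of_commute h2 hwl hl1 (hBo l (hLB hlL)) (hBo y (hLB hy)) (hLc l hlL y hy)
  -- automorphisms stabilising `B` commute with `w`
  have hcomm : ∀ γ : MulAut PG, (∀ x ∈ B, γ x ∈ B) → (∃ g, γ = gA g) → Commute γ w := by
    intro γ hγ ⟨g, hg⟩
    obtain ⟨g0, hg0⟩ := hw.1
    have hd : Diag (γ * w * γ⁻¹) :=
      ⟨⟨g * g0 * g⁻¹, by rw [map_mul, map_mul, map_inv, hg, hg0]⟩,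
        by
          show orderOf (MulAut.conj γ w) = 2
          rw [MulEquiv.orderOf_eq]; exact hw.2⟩
    have hγl := hLinv γ hγ l hlL
    have : γ * w * γ⁻¹ = w := hd.unique h2 hw (x := γ l) (fun h => hl1 (γ.injective (h.trans (map_one γ).symm)))
      (hBo _ (hLB hγl)) (by simp [MulAut.mul_apply, MulAut.inv_def, hwl]) (hwfix _ hγl)
    exact mul_inv_eq_iff_eq_mul.1 this
  have hconj : ∀ e : PG, ∃ g, (MulAut.conj e : MulAut PG) = gA g := fun e => by
    obtain ⟨E, rfl⟩ := Forms.KleinPSL.pi_surjective e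
    exact ⟨_, OvergroupsPSL.conj_pi E⟩
  have hBfix : ∀ x ∈ B, w x = x := fun x hx => commute_conj.1 (hcomm (MulAut.conj x)
    (fun y hy => by rw [MulAut.conj_apply]; exact mul_mem (mul_mem hx hy) (inv_mem hx)) (hconj x)).symm
  rcases hwβ with rfl | ⟨hkey, hwin⟩
  · exact hbne (hBfix b hb)
  -- the fixed points of `β` centralise `s`
  have hsC : ∀ e, β e = e → Commute e s := by
    intro e he
    have hce : Commute β (MulAut.conj e) := commute_conj.2 he
    have hwe := commute_conj.1 (hcomm _ (hB _ (hΓ e) hce.symm) (hconj e)).symm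
    have := hkey e he hwe
    rw [MulAut.conj_apply, mul_inv_eq_iff_eq_mul] at this
    exact this.symm
  by_cases hin : ∃ a, β = MulAut.conj a
  · obtain ⟨a, rfl⟩ := hin
    have ha : orderOf a = 2 := by
      have := hβ.2
      rwa [orderOf_injective _ (AutPSL.LocalBalance.conj_injective le_rfl)] at this
    have hsa : s ≠ a := fun h => hsne (by rw [h])
    have hcs : Commute a s := by
      rw [MulAut.conj_apply, mul_inv_eq_iff_eq_mul] at hβs; exact hβs
    have hsmall : Nat.card (Subgroup.centralizer ({a} : Set PG)) ≤ 4 := by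
      haveI := Fintype.ofFinite PG
      rw [Nat.card_eq_fintype_card, Fintype.card_subtype]
      refine (Finset.card_le_card (t := {1, a, s, a * s}) fun z hz => ?_).trans
        ((Finset.card_insert_le _ _).trans (Nat.succ_le_succ ((Finset.card_insert_le _ _).trans
          (Nat.succ_le_succ Finset.card_le_two))))
      have hz' : Commute z a := Subgroup.mem_centralizer_singleton_iff.1 (Finset.mem_filter.1 hz).2
      simp only [Finset.mem_insert, Finset.mem_singleton]
      exact PSLBinary.mem_four h2 ha hs (Ne.symm hsa) hcs hz'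
        (hsC z (by rw [MulAut.conj_apply, hz'.symm.eq, mul_inv_cancel_right]))
    obtain ⟨a', ha'⟩ := hwin a rfl
    subst ha'
    have ha'2 : orderOf a' = 2 := by
      have := hw.2
      rwa [orderOf_injective _ (AutPSL.LocalBalance.conj_injective le_rfl)] at this
    have hbc : b ∈ Subgroup.centralizer ({a'} : Set PG) := by
      have := hBfix b hb
      rw [MulAut.conj_apply, mul_inv_eq_iff_eq_mul] at this
      exact Subgroup.mem_centralizer_singleton_iff.2 this.symm
    have hd := Subgroup.orderOf_dvd_natCard _ hbc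
    have hd2 := Subgroup.orderOf_dvd_natCard _ (show a' ∈ Subgroup.centralizer ({a'} : Set PG) from
      Subgroup.mem_centralizer_singleton_iff.2 rfl)
    rw [ha'2] at hd2
    rw [PSLBinary.natCard_centralizer_invol h2 ha'2, ← PSLBinary.natCard_centralizer_invol h2 ha] at hd hd2
    have hb1 : orderOf b = 1 := by
      have ho := hBo b hb
      set c := Nat.card (Subgroup.centralizer ({a} : Set PG))
      have hc0 : 0 < c := Nat.card_pos
      rcases (show c = 2 ∨ c = 4 by omega) with h | h <;> rw [h] at hd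
      · have := Nat.le_of_dvd two_pos hd
        interval_cases orderOf b <;> first | rfl | exact absurd ho (by decide) | simp_all
      · have := Nat.le_of_dvd (by norm_num) hd
        interval_cases orderOf b <;> first | rfl | exact absurd ho (by decide) | omega
    rw [orderOf_eq_one_iff] at hb1
    exact hbne (by rw [hb1, map_one])
  · obtain ⟨g, hg⟩ := hβ.1
    obtain ⟨S, hSs, hfr⟩ := OvergroupsPSL.exists_frame h2 hs g hg hβ.2
      (fun ⟨a, ha⟩ => hin ⟨a, ha.symm⟩) hβs
    obtain ⟨W, hWo, hWfix, hWbig⟩ := hfr.exists_big h2 h3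
    refine lt_irrefl _ (hWbig W hWo fun z hz => Subgroup.mem_centralizer_singleton_iff.2 ?_)
    rw [hSs]
    exact hsC z (hg ▸ hWfix z hz)

include h2 in
/-- In `Γ` between `PSL₂(q)` and its automorphism group without elementary abelian subgroups of order eight, an
involution inverts no non-identity element of an odd-order subgroup normalised by its centraliser. -/
theorem psl_case (h3 : 3 < Fintype.card F) (h4 : 2 ∣ Nat.card PG) (Γ : Subgroup (MulAut PG))
    (hΓ : ∀ e : PG, MulAut.conj e ∈ Γ)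
    (h8 : ∀ a b c : MulAut PG, a ∈ Γ → b ∈ Γ → c ∈ Γ → orderOf a = 2 → orderOf b = 2 → orderOf c = 2 → a ≠ b →
      Commute a b → Commute c a → Commute c b → c = a ∨ c = b ∨ c = a * b)
    {β : MulAut PG} (hβ : β ∈ Γ) (hβ2 : orderOf β = 2) (A : Subgroup (MulAut PG)) (hAΓ : A ≤ Γ)
    (hodd : Odd (Nat.card A)) (hsol : ∀ B : Subgroup PG, Odd (Nat.card B) → Group.IsSolvable B)
    (hA : ∀ γ ∈ Γ, Commute γ β → ∀ α ∈ A, γ * α * γ⁻¹ ∈ A)
    {x : MulAut PG} (hx : x ∈ A) (hinv : β * x * β⁻¹ = x⁻¹) : x = 1 := by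
  obtain ⟨ψ, -, hker⟩ := AutPSL.Out.exists_proj_two (F := F)
  have hψ : ∀ α, ψ α = 1 ↔ ∃ g, α = gA g := fun α => by
    rw [← MonoidHom.mem_ker, hker]
    exact ⟨fun ⟨g, hg⟩ => ⟨g, hg.symm⟩, fun ⟨g, hg⟩ => ⟨g, hg.symm⟩⟩
  have hψcomm : ∀ a b : F ≃+* F, a * b = b * a := fun a b => by
    obtain ⟨p, hc⟩ := CharP.exists F
    haveI := hc
    haveI : Fact p.Prime := ⟨CharP.char_is_prime F p⟩
    obtain ⟨f, -, hf⟩ := FiniteField.card F p
    obtain ⟨e⟩ := AutPSL.Out.exists_ringAut_equiv (F := F) hf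
    exact e.injective (by rw [map_mul, map_mul, mul_comm])
  have hinj : Function.Injective (MulAut.conj : PG →* MulAut PG) := AutPSL.LocalBalance.conj_injective le_rfl
  have hψconj : ∀ e : PG, ψ (MulAut.conj e) = 1 := fun e => by
    obtain ⟨E, rfl⟩ := Forms.KleinPSL.pi_surjective e
    exact (hψ _).2 ⟨_, OvergroupsPSL.conj_pi E⟩
  -- the involution is diagonal
  have hdiag : Diag β := by
    refine ⟨(hψ β).1 ?_, hβ2⟩
    by_contra hne
    obtain ⟨a, b, ha, hb, hab, hcab, hβa, hβb⟩ := OvergroupsPSL.exists_four_fixed h2 ψ hψ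
      (Forms.KleinPSL.mul_self_of_order_two hβ2) hne
    rcases h8 (MulAut.conj a) (MulAut.conj b) β (hΓ a) (hΓ b) hβ (by rw [orderOf_injective _ hinj, ha])
      (by rw [orderOf_injective _ hinj, hb]) hβ2 (fun h => hab (hinj h)) (hcab.map _)
      (commute_conj.2 hβa) (commute_conj.2 hβb) with h | h | h <;> apply hne <;> rw [h]
    · exact hψconj a
    · exact hψconj b
    · rw [map_mul, hψconj, hψconj, one_mul]
  -- the inverted element is inner
  have hxo : Odd (orderOf x) := hodd.of_dvd_nat (Subgroup.orderOf_dvd_natCard _ hx)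
  have hψx : ψ x = 1 := by
    have h := congrArg ψ hinv
    rw [map_mul, map_mul, map_inv, map_inv, hψcomm (ψ β) (ψ x), mul_inv_cancel_right] at h
    have h2' : ψ x ^ 2 = 1 := by rw [sq]; nth_rw 2 [h]; exact mul_inv_cancel _
    have hd := Nat.eq_one_of_dvd_coprimes (Nat.coprime_two_left.2 hxo)
      (orderOf_dvd_of_pow_eq_one h2') (orderOf_map_dvd ψ x)
    exact orderOf_eq_one_iff.1 hd
  obtain ⟨g, hg⟩ := (hψ x).1 hψx
  obtain ⟨e, he⟩ := OvergroupsPSL.inner_of_odd (g := g) (hg ▸ hxo)
  set B : Subgroup PG := A.comap MulAut.conj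
  have hBodd : Odd (Nat.card B) := hodd.of_dvd_nat (Subgroup.card_comap_dvd_of_injective A _ hinj)
  have hfix := diag_fix h2 h3 h4 hdiag Γ hΓ hβ (hsol B hBodd) hBodd (fun γ hγ hc b hb => by
    show MulAut.conj (γ b) ∈ A
    rw [show (MulAut.conj (γ b) : MulAut PG) = γ * MulAut.conj b * γ⁻¹ from
      MulEquiv.ext fun y => by simp [MulAut.mul_apply, MulAut.inv_def]]
    exact hA γ hγ hc _ hb) e (show MulAut.conj e ∈ A by rw [← he, ← hg]; exact hx)
  have hxc : β * x * β⁻¹ = x := by
    rw [hg, he, (commute_conj.2 hfix).eq, mul_inv_cancel_right]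
  rw [hxc] at hinv
  have h2' : x ^ 2 = 1 := by rw [sq]; nth_rw 2 [hinv]; exact mul_inv_cancel x
  exact orderOf_eq_one_iff.1 (Nat.eq_one_of_dvd_coprimes (Nat.coprime_two_left.2 hxo)
    (orderOf_dvd_of_pow_eq_one h2') dvd_rfl)

end Cfsg.Agent.GW.NoBareBalance
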