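import Cfsg.Agent.Lib.GW.NoBareSetting

/-!
# No component-free overgroup: elementary facts

Elements moved by `t`, and the parts of `F(K)` under conjugation by `g`.
-/

set_option autoImplicit false
set_option linter.style.haveILetI false

namespace Cfsg.Agent.GW.NoBare

open Subgroup Cfsg.Agent.Techniques.Bender Cfsg.Agent.Components.MaximalPair
open scoped Pointwise

universe v

variable {G : Type v} [Group G]

/-- An element of odd order commuting with `a` twice over commutes with it. -/
theorem commute_of_commute_sq [Finite G] {y d : G} (hy : Odd (orderOf y))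
    (h : Commute (y ^ 2) d) : Commute y d := by
  obtain ⟨j, hj⟩ := exists_pow_eq_self_of_coprime (Nat.coprime_two_left.2 hy)
  rw [← hj]
  exact h.pow_left j

/-- An element of odd order equal to its inverse is trivial. -/
theorem eq_one_of_inv_eq {x : G} (hx : Odd (orderOf x)) (h : x⁻¹ = x) : x = 1 := by
  have h2 : x ^ 2 = 1 := by
    rw [pow_two]; nth_rw 1 [← h]; exact inv_mul_cancel x
  have := Nat.eq_one_of_dvd_coprimes (Nat.coprime_two_left.2 hx) (orderOf_dvd_of_pow_eq_one h2) dvd_rfl
  exact orderOf_eq_one_iff.1 this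

theorem odd_orderOf [Finite G] {Y : Subgroup G} (hY : Odd (Nat.card Y)) {x : G} (hx : x ∈ Y) :
    Odd (orderOf x) :=
  hY.of_dvd_nat (Subgroup.orderOf_dvd_natCard _ hx)

/-- The set of elements of the four-group generated by two commuting involutions. -/
theorem mem_four {t u x : G} (ht : t * t = 1) (hu : u * u = 1) (h : Commute t u)
    (hx : x ∈ closure ({t, u} : Set G)) : x = 1 ∨ x = t ∨ x = u ∨ x = t * u := by
  have htu : (t * u) * (t * u) = 1 := by
    rw [Commute.mul_mul_mul_comm h.symm t u, ht, hu, one_mul]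
  have hstep : ∀ y ∈ ({t, u} : Set G), ∀ a, (a = 1 ∨ a = t ∨ a = u ∨ a = t * u) →
      (y * a = 1 ∨ y * a = t ∨ y * a = u ∨ y * a = t * u) := by
    intro y hy a ha
    have e1 : u * t = t * u := h.symm.eq
    have e2 : t * (t * u) = u := by rw [← mul_assoc, ht, one_mul]
    have e3 : u * (t * u) = t := by rw [← mul_assoc, e1, mul_assoc, hu, mul_one]
    rcases hy with e | e
    · rcases ha with ha | ha | ha | ha <;> simp [e, ha, ht, e2]
    · rw [Set.mem_singleton_iff] at e
      rcases ha with ha | ha | ha | ha <;> simp [e, ha, hu, e1, e3]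
  induction hx using closure_induction_left with
  | one => exact Or.inl rfl
  | mul_left y hy z _ hz => exact hstep y hy z hz
  | inv_mul_cancel y hy z _ hz =>
    have hy2 : y⁻¹ = y := by
      refine inv_eq_of_mul_eq_one_right ?_
      rcases hy with e | e
      · rw [e, ht]
      · rw [Set.mem_singleton_iff] at e; rw [e, hu]
    rw [hy2]; exact hstep y hy z hz

/-- An odd-order subgroup moved by `t` contains an element inverted by `t` and fixed by `u` or by
`t * u`. -/
theorem exists_moved [Finite G] {t u : G} (ht : orderOf t = 2) (hu : orderOf u = 2) (hne : u ≠ t)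
    (hc : Commute t u) {Y : Subgroup G} (htY : t ∈ normalizer (Y : Set G))
    (huY : u ∈ normalizer (Y : Set G)) (hodd : Odd (Nat.card Y))
    (hmove : ∃ a ∈ Y, ¬ Commute t a) :
    ∃ x ∈ Y, x ≠ 1 ∧ t * x * t⁻¹ = x⁻¹ ∧ (Commute x u ∨ Commute x (t * u)) := by
  have ht2 : t * t = 1 := by rw [← sq, ← ht, pow_orderOf_eq_one]
  have hu2 : u * u = 1 := by rw [← sq, ← hu, pow_orderOf_eq_one]
  have ht1 : t⁻¹ = t := inv_eq_of_mul_eq_one_right ht2
  set V := closure ({t, u} : Set G) with hV
  haveI : IsMulCommutative V := by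
    refine isMulCommutative_iff_of_setLike.mpr fun a ha b hb => ?_
    rcases mem_four ht2 hu2 hc ha with rfl | rfl | rfl | rfl <;>
      rcases mem_four ht2 hu2 hc hb with rfl | rfl | rfl | rfl <;>
      first
      | exact (Commute.one_left _).eq
      | exact (Commute.one_right _).eq
      | rfl
      | exact hc.eq
      | exact hc.symm.eq
      | exact ((Commute.refl _).mul_right hc).eq
      | exact ((Commute.refl _).mul_right hc).symm.eq
      | exact (hc.symm.mul_right (Commute.refl _)).eq
      | exact (hc.symm.mul_right (Commute.refl _)).symm.eq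
  have htV : t ∈ V := subset_closure (by simp)
  have huV : u ∈ V := subset_closure (by simp)
  have htu2 : (t * u) * (t * u) = 1 := by
    rw [Commute.mul_mul_mul_comm hc.symm t u, ht2, hu2, one_mul]
  have hsq : ∀ a : V, a ^ 2 = 1 := fun a => Subtype.ext (by
    rw [SubmonoidClass.coe_pow, OneMemClass.coe_one, pow_two]
    rcases mem_four ht2 hu2 hc a.2 with e | e | e | e <;> rw [e]
    exacts [one_mul 1, ht2, hu2, htu2])
  have hncyc : ¬ IsCyclic V := by
    intro hcy
    classical
    haveI := Fintype.ofFinite V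
    have h := IsCyclic.card_pow_eq_one_le (α := V) two_pos
    have : ({⟨1, one_mem _⟩, ⟨t, htV⟩, ⟨u, huV⟩} : Finset V) ⊆
        (Finset.univ.filter fun a : V => a ^ 2 = 1) := fun a _ =>
      Finset.mem_filter.2 ⟨Finset.mem_univ _, hsq a⟩
    have h3 := (Finset.card_le_card this).trans h
    rw [Finset.card_insert_of_notMem, Finset.card_insert_of_notMem, Finset.card_singleton] at h3
    · omega
    · simp [Subtype.ext_iff, Ne.symm hne]
    · simp [Subtype.ext_iff, Ne.symm (Involutions.Basic.ne_one ht),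
        Ne.symm (Involutions.Basic.ne_one hu)]
  have hVY : V ≤ normalizer (Y : Set G) := (closure_le _).2 (by
    intro z hz; rcases hz with rfl | rfl
    · exact htY
    · exact huY)
  haveI : Fact (Nat.Prime 2) := ⟨Nat.prime_two⟩
  have hV2 : IsPGroup 2 V := fun a => ⟨1, by rw [pow_one]; exact hsq a⟩
  have hcop : (Nat.card V).Coprime (Nat.card Y) := by
    obtain ⟨k, hk⟩ := IsPGroup.iff_card.1 hV2
    rw [hk]
    exact (Nat.coprime_two_left.2 hodd).pow_left k
  have hgen := Coprime.fixedGen_eq hncyc hVY hcop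
  -- one of the fixed-point groups of `u`, `t * u` is moved
  obtain ⟨v, hv, hvt, a, haY, hav, hat⟩ : ∃ v, (v = u ∨ v = t * u) ∧ Commute t v ∧
      ∃ a ∈ Y, Commute a v ∧ ¬ Commute t a := by
    by_contra hno
    obtain ⟨a, haY, hat⟩ := hmove
    have : Y ≤ centralizer ({t} : Set G) := by
      rw [← hgen]
      refine iSup₂_le fun v hv => ?_
      intro b hb
      obtain ⟨hbY, hbv⟩ := mem_inf.1 hb
      rw [mem_centralizer_singleton_iff] at hbv ⊢
      by_contra hbt
      rcases mem_four ht2 hu2 hc hv.1 with rfl | rfl | rfl | rfl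
      · exact hv.2 rfl
      · exact hbt hbv
      · exact hno ⟨v, Or.inl rfl, hc, b, hbY, hbv, fun h => hbt h.symm.eq⟩
      · exact hno ⟨_, Or.inr rfl, (Commute.refl t).mul_right hc, b, hbY, hbv, fun h => hbt h.symm.eq⟩
    exact hat (mem_centralizer_singleton_iff.1 (this haY)).symm
  refine ⟨a⁻¹ * (t * a * t⁻¹), mul_mem (inv_mem haY) ((mem_normalizer_iff.1 htY a).1 haY), fun h => ?_,
    ?_, ?_⟩
  · rw [inv_mul_eq_one, eq_comm, mul_inv_eq_iff_eq_mul] at h
    exact hat h
  · have e : t * (a⁻¹ * (t * a * t⁻¹)) * t⁻¹ = (t * a⁻¹ * t) * a * (t⁻¹ * t⁻¹) := by group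
    rw [e, ← mul_inv_rev, ht2, inv_one, mul_one, mul_inv_rev (a := a⁻¹), inv_inv, mul_inv_rev,
      mul_inv_rev, inv_inv, ht1]
    group
  · have h1 : Commute (a⁻¹ * (t * a * t⁻¹)) v :=
      hav.inv_left.mul_left ((hvt.mul_left hav).mul_left hvt.inv_left)
    rcases hv with rfl | rfl
    · exact Or.inl h1
    · exact Or.inr h1

namespace Frame

variable [Finite G] (f : Frame G)

theorem t_mem_K1 : f.t ∈ f.K1 := f.mem_K1_of_commute f.comm

theorem u_mem_K1 : f.u ∈ f.K1 := f.mem_K1_of_commute (Commute.refl _)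

theorem core_le_F (r : ℕ) [Fact r.Prime] : core r f.K ≤ f.F := core_le_fitting r f.K

theorem F_le_K : f.F ≤ f.K := map_subtype_le _

theorem F_odd : Odd (Nat.card f.F) := by
  haveI : Fact (Nat.Prime 2) := ⟨Nat.prime_two⟩
  rw [show Nat.card f.F = Nat.card (Cfsg.fittingSubgroup ↥f.K) from
    card_subtype f.K _, Nat.odd_iff]
  by_contra h
  exact (dvd_card_fitting_iff f.K).1 (Nat.dvd_of_mod_eq_zero (by omega)) f.core_two

/-- The part of `F1` at a prime. -/
abbrev core1 (r : ℕ) : Subgroup G := MulAut.conj f.g • core r f.K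

theorem core1_isPGroup (r : ℕ) : IsPGroup r (f.core1 r) := (core_isPGroup r f.K).map _

theorem core1_le_F1 (r : ℕ) [Fact r.Prime] : f.core1 r ≤ f.F1 :=
  Subgroup.map_mono (f.core_le_F r)

theorem le_normalizer_core1 (r : ℕ) : f.K1 ≤ normalizer (f.core1 r : Set G) := fun x hx => by
  rw [← Coprime.conj_smul_normalizer, Coprime.mem_conj_smul]
  exact le_normalizer_core r f.K ((f.mem_K1).1 hx)

theorem inf_mem_normalizer (q r : ℕ) {x : G} (hx : x ∈ f.K) (hx1 : x ∈ f.K1) :
    x ∈ normalizer ((core r f.K ⊓ f.core1 q : Subgroup G) : Set G) := by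
  rw [mem_normalizer_iff]
  intro z
  simp only [mem_inf, ← mem_normalizer_iff.1 (le_normalizer_core r f.K hx) z,
    ← mem_normalizer_iff.1 (f.le_normalizer_core1 q hx1) z]

/-- A nontrivial common part is a link. -/
theorem isLink_core (q : ℕ) [Fact q.Prime] (hne : core q f.K ⊓ f.core1 q ≠ ⊥) :
    f.IsLink q (core q f.K ⊓ f.core1 q) where
  ne_bot := hne
  isPGroup := (core_isPGroup q f.K).to_le inf_le_left
  le_F := inf_le_left.trans (f.core_le_F q)
  le_F1 := inf_le_right.trans (f.core1_le_F1 q)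
  t_mem := f.inf_mem_normalizer q q f.t_mem_K f.t_mem_K1
  u_mem := f.inf_mem_normalizer q q f.u_mem_K f.u_mem_K1

theorem t_not_mem_centralizer_F : f.t ∉ centralizer (f.F : Set G) := fun h => by
  have hz : zpowers f.t ≤ fit f.K := le_fit_of_centralizes (zpowers_le.2 f.t_mem_K) (zpowers_le.2 (by
    rw [f.gfit_eq_fit]; exact h))
  have := odd_orderOf f.F_odd (hz (mem_zpowers f.t))
  rw [f.t_order] at this
  exact absurd this (by decide)

/-- Some part of `F` is moved by `t`. -/
theorem exists_core_moved :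
    ∃ q : ℕ, q.Prime ∧ q ≠ 2 ∧ ∃ a ∈ core q f.K, ¬ Commute f.t a := by
  by_contra hno
  refine f.t_not_mem_centralizer_F (le_centralizer_fit (fun r hr => zpowers_le.2 ?_) (mem_zpowers f.t))
  refine mem_centralizer_iff.2 fun a ha => ?_
  by_contra h
  by_cases h2 : r = 2
  · subst h2
    rw [f.core_two, SetLike.mem_coe, mem_bot] at ha
    subst ha; simp at h
  · exact hno ⟨r, hr, h2, a, ha, fun hc => h hc.symm.eq⟩

end Frame

end Cfsg.Agent.GW.NoBare
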