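import Cfsg.Agent.Lib.Coprime.Commutator
import Cfsg.Agent.Lib.Coprime.PGroup
import Cfsg.Agent.Lib.Involutions.Basic

/-!
# Fixed-point-free quadratic action forces a trivial action

Section 2c of `notes/gw-nb-h8.md`, without eigencharacters: `R` abelian of odd order prime to `p`
inverted by `u`, `Z` a `p`-group commuting with `u` and without fixed points on `R`; if `Z` acts
quadratically on the fixed points of `u` in the `p`-group `P`, then `R` centralizes `P`.
-/

set_option autoImplicit false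
set_option linter.style.haveILetI false

namespace Cfsg.Agent.GW.NoBare

open Subgroup
open scoped commutatorElement

section Abstract

variable {V H : Type*} [CommGroup V] [Group H]

/-- The norm of a finite subgroup acting on a commutative group. -/
def norm (φ : H →* MulAut V) (R : Subgroup H) [Fintype R] (v : V) : V := ∏ x : R, φ x v

theorem norm_mul (φ : H →* MulAut V) (R : Subgroup H) [Fintype R] (v w : V) :
    norm φ R (v * w) = norm φ R v * norm φ R w := by
  simp only [norm, map_mul, Finset.prod_mul_distrib]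

/-- The abstract form: every element is fixed by `R`. -/
theorem fixed_of_quadratic [Finite V] (φ : H →* MulAut V) (R : Subgroup H) [Fintype R] {u z : H}
    (hcomm : ∀ x ∈ R, ∀ y ∈ R, x * y = y * x) (hodd : Odd (Nat.card R))
    (hcop : (Nat.card R).Coprime (Nat.card V)) (hu : u * u = 1)
    (hinv : ∀ x ∈ R, u * x * u⁻¹ = x⁻¹) (hzR : ∀ x ∈ R, z * x * z⁻¹ ∈ R)
    (hzu : Commute z u) (hzo : Odd (orderOf z)) (hfix : ∀ x ∈ R, Commute z x → x = 1)
    (hquad : ∀ v : V, φ u v = v → φ z (φ z v) * v = φ z v * φ z v) :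
    ∀ x ∈ R, ∀ v : V, φ x v = v := by
  classical
  set n := Nat.card R with hn
  have hpow : ∀ {v w : V}, v ^ n = w ^ n → v = w := fun {v w} h =>
    (powCoprime hcop.symm).injective h
  have hmul : ∀ (g h : H) (v : V), φ (g * h) v = φ g (φ h v) := fun g h v => by
    rw [map_mul]; rfl
  have hone : ∀ v : V, φ 1 v = v := fun v => by rw [map_one]; rfl
  -- equivariance of the norm
  have hreindex : ∀ (g : H) (σ : R → R), Function.Bijective σ →
      (∀ x : R, g * (x : H) = (σ x : H) * g) → ∀ v, φ g (norm φ R v) = norm φ R (φ g v) := by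
    intro g σ hσ h v
    rw [norm, norm, map_prod, ← hσ.prod_comp (fun x : R => φ (x : H) (φ g v))]
    exact Finset.prod_congr rfl fun x _ => by rw [← hmul, ← hmul, h x]
  have hNu : ∀ v, φ u (norm φ R v) = norm φ R (φ u v) := by
    refine hreindex u (fun x => x⁻¹) (Equiv.inv R).bijective fun x => ?_
    rw [InvMemClass.coe_inv, ← hinv x x.2, inv_mul_cancel_right]
  have hzinj : Function.Injective (fun x : R => (⟨z * x * z⁻¹, hzR x x.2⟩ : R)) :=
    fun x y h => Subtype.ext (by simpa using congrArg Subtype.val h)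
  have hNz : ∀ v, φ z (norm φ R v) = norm φ R (φ z v) := by
    refine hreindex z _ (Finite.injective_iff_bijective.mp hzinj) fun x => ?_
    show z * (x : H) = z * x * z⁻¹ * z
    group
  have hNx : ∀ y : R, ∀ v, φ (y : H) (norm φ R v) = norm φ R v := by
    intro y v
    rw [norm, map_prod]
    exact Fintype.prod_equiv (Equiv.mulLeft y) _ _ fun x => (hmul _ _ v).symm
  have hNN : ∀ v, norm φ R (norm φ R v) = norm φ R v ^ n := by
    intro v
    show ∏ x : R, φ x (norm φ R v) = _
    rw [Finset.prod_congr rfl fun x _ => hNx x v, Finset.prod_const, Finset.card_univ,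
      hn, Nat.card_eq_fintype_card]
  have hNpow : ∀ v, norm φ R (v ^ n) = norm φ R v ^ n := fun v => by
    simp only [norm, map_pow, Finset.prod_pow]
  -- no element of the squares is inverted or fixed by `z`
  have hz2 : ∀ x ∈ R, Commute (z * z) x → x = 1 := by
    intro x hx h
    refine hfix x hx ?_
    obtain ⟨k, hk⟩ := hzo
    have hz : z = (z * z) ^ (k + 1) := by
      rw [← pow_two, ← pow_mul, show 2 * (k + 1) = orderOf z + 1 by omega, pow_succ,
        pow_orderOf_eq_one, one_mul]
    rw [hz]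
    exact h.pow_left _
  have hRsq : ∀ x ∈ R, x * x = 1 → x = 1 := fun x hx h => by
    have h1 : orderOf (⟨x, hx⟩ : R) ∣ 2 :=
      orderOf_dvd_of_pow_eq_one (Subtype.ext (by simpa [pow_two] using h))
    have h2 := hodd.of_dvd_nat (orderOf_dvd_natCard (⟨x, hx⟩ : R))
    rcases (Nat.dvd_prime Nat.prime_two).mp h1 with h3 | h3
    · exact congrArg Subtype.val (orderOf_eq_one_iff.mp h3)
    · rw [h3] at h2; exact absurd h2 (by decide)
  -- the maps `x ↦ x⁻¹ * (c x)^±1` are bijective
  have hbij : ∀ (c : R →* R), (∀ x, c x = x → x = 1) →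
      Function.Bijective (fun x : R => x⁻¹ * c x) := by
    intro c hc
    refine Finite.injective_iff_bijective.mp fun x y h => ?_
    refine mul_inv_eq_one.mp (hc (x * y⁻¹) ?_)
    rw [map_mul, map_inv]
    have h' : c x = x * (y⁻¹ * c y) := by
      have := congrArg (fun w => x * w) h
      simpa using this
    rw [h', ← mul_assoc, mul_inv_cancel_right]
  let c1 : R →* R := MonoidHom.mk' (fun x => ⟨z * x * z⁻¹, hzR x x.2⟩)
    (fun x y => Subtype.ext (by show z * ((x : H) * y) * z⁻¹ = _; simp [mul_assoc]))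
  haveI : IsMulCommutative R := ⟨⟨fun x y => Subtype.ext (hcomm x x.2 y y.2)⟩⟩
  letI : CommGroup R := { (inferInstance : Group R) with
    mul_comm := fun x y => Subtype.ext (hcomm x x.2 y y.2) }
  have hc1 : ∀ x : R, ((c1 x : R) : H) = z * x * z⁻¹ := fun x => rfl
  have hc2 : ∀ x : R, ((c1 (c1 x) : R) : H) = z * z * x * (z * z)⁻¹ := fun x => by
    rw [hc1, hc1]; group
  have hfix1 : ∀ x : R, c1 x = x → x = 1 := fun x h => Subtype.ext (hfix x x.2 (by
    have h' : z * (x : H) * z⁻¹ = x := congrArg Subtype.val h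
    exact mul_inv_eq_iff_eq_mul.mp h'))
  have hfix2 : ∀ x : R, c1 (c1 x) = x → x = 1 := fun x h => Subtype.ext (hz2 x x.2 (by
    have h' := (hc2 x).symm.trans (congrArg Subtype.val h)
    exact mul_inv_eq_iff_eq_mul.mp h'))
  have hinv1 : ∀ x : R, c1 x = x⁻¹ → x = 1 := fun x h => hfix2 x (by rw [h, map_inv, h, inv_inv])
  have hinv2 : ∀ x : R, c1 (c1 x) = x⁻¹ → x = 1 := by
    intro x h
    -- then `z ^ 4`, whence `z`, fixes `x`
    have h4 : Commute ((z * z) * (z * z)) (x : H) := by
      have h' := (hc2 x).symm.trans (congrArg Subtype.val h)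
      rw [InvMemClass.coe_inv] at h'
      have h'' : (z * z) * (x : H)⁻¹ * (z * z)⁻¹ = x := by
        rw [show (z * z) * (x : H)⁻¹ * (z * z)⁻¹ = ((z * z) * (x : H) * (z * z)⁻¹)⁻¹ by generalize z * z = w; group, h',
          inv_inv]
      show (z * z) * (z * z) * (x : H) = x * ((z * z) * (z * z))
      calc (z * z) * (z * z) * (x : H)
          = (z * z) * ((z * z) * (x : H) * (z * z)⁻¹) * (z * z) := by generalize z * z = w; group
        _ = (z * z) * (x : H)⁻¹ * (z * z) := by rw [h']
        _ = ((z * z) * (x : H)⁻¹ * (z * z)⁻¹) * ((z * z) * (z * z)) := by generalize z * z = w; group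
        _ = x * ((z * z) * (z * z)) := by rw [h'']
    refine Subtype.ext (hz2 x x.2 ?_)
    obtain ⟨k, hk⟩ := hzo
    have hz : z * z = ((z * z) * (z * z)) ^ (k + 1) := by
      rw [← pow_two (z * z), ← pow_mul, ← pow_two z, ← pow_mul,
        show 2 * (2 * (k + 1)) = 2 + orderOf z + orderOf z by omega, pow_add, pow_add,
        pow_orderOf_eq_one, mul_one, mul_one]
    rw [hz]
    exact h4.pow_left _
  -- fixed points of `u` and `z` are fixed by `R`
  have hez : ∀ e : V, φ u e = e → φ z e = e → e ^ n = norm φ R e := by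
    intro e heu hez
    have hterm : ∀ σ : R → R, Function.Bijective σ →
        (∏ x : R, φ (σ x : H) e) = norm φ R e := fun σ hσ =>
      hσ.prod_comp (fun x : R => φ (x : H) e)
    have hq : ∀ x : R, φ z (φ z (φ (x : H) e * φ ((x : H)⁻¹) e)) * (φ (x : H) e * φ ((x : H)⁻¹) e) =
        φ z (φ (x : H) e * φ ((x : H)⁻¹) e) * φ z (φ (x : H) e * φ ((x : H)⁻¹) e) := by
      intro x
      refine hquad _ ?_
      rw [map_mul, ← hmul, ← hmul, show u * (x : H) = (x : H)⁻¹ * u by
          rw [← hinv x x.2, inv_mul_cancel_right],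
        show u * (x : H)⁻¹ = x * u by
          have h := hinv _ (inv_mem x.2)
          rw [inv_inv] at h
          exact mul_inv_eq_iff_eq_mul.mp h
          , hmul, hmul, heu, mul_comm]
    have hz1 : ∀ x : R, φ z (φ (x : H) e) = φ (c1 x : H) e := fun x => by
      rw [hc1, ← hmul, hmul (z * (x : H)) z⁻¹]
      congr 1
      conv_rhs => rw [← hez, ← hmul, inv_mul_cancel, hone]
    have hi : ∀ x : R, φ z (φ ((x : H)⁻¹) e) = φ ((c1 x : H)⁻¹) e := fun x => by
      rw [← InvMemClass.coe_inv, hz1, map_inv, InvMemClass.coe_inv]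
    have hq' : ∀ x : R, φ ((x⁻¹ * c1 (c1 x) : R) : H) e * φ ((x⁻¹ * (c1 (c1 x))⁻¹ : R) : H) e *
        (e * φ ((x⁻¹ * x⁻¹ : R) : H) e) =
        (φ ((x⁻¹ * c1 x : R) : H) e * φ ((x⁻¹ * (c1 x)⁻¹ : R) : H) e) *
          (φ ((x⁻¹ * c1 x : R) : H) e * φ ((x⁻¹ * (c1 x)⁻¹ : R) : H) e) := by
      intro x
      have h := congrArg (φ ((x : H)⁻¹)) (hq x)
      simp only [map_mul, hz1, hi] at h
      simp only [← hmul] at h
      simp only [Subgroup.coe_mul, InvMemClass.coe_inv]
      rw [inv_mul_cancel, hone] at h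
      exact h
    have h := Finset.prod_congr (s₁ := (Finset.univ : Finset R)) rfl fun x _ => hq' x
    simp only [Finset.prod_mul_distrib] at h
    have b2 := hterm _ (hbij (c1.comp c1) fun x hx => hfix2 x hx)
    have b2' := hterm _ (hbij (invMonoidHom.comp (c1.comp c1)) fun x hx => hinv2 x (by
      rw [← inv_inv (c1 (c1 x))]; exact congrArg (·⁻¹) hx))
    have b1 := hterm _ (hbij c1 hfix1)
    have b1' := hterm _ (hbij (invMonoidHom.comp c1) fun x hx => hinv1 x (by
      rw [← inv_inv (c1 x)]; exact congrArg (·⁻¹) hx))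
    have b0 := hterm _ (hbij invMonoidHom fun x hx => by
      refine Subtype.ext (hRsq x x.2 ?_)
      have h' : ((x : H))⁻¹ = x := congrArg Subtype.val hx
      nth_rewrite 1 [← h']
      exact inv_mul_cancel _)
    simp only [MonoidHom.coe_comp, Function.comp_apply, invMonoidHom_apply] at b2 b2' b1 b1' b0
    rw [b2, b2', b1, b1', b0, Finset.prod_const, Finset.card_univ, ← Nat.card_eq_fintype_card,
      ← hn] at h
    rw [mul_comm (e ^ n) (norm φ R e), ← mul_assoc] at h
    refine mul_left_cancel (a := norm φ R e * norm φ R e * norm φ R e) ?_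
    rw [h]
    simp only [mul_assoc]
  -- elements of norm one fixed by `u` are trivial
  have hM : ∀ v : V, φ u v = v → norm φ R v = 1 → v = 1 := by
    intro v hvu hvN
    have hz0 : ∀ d : V, φ u d = d → norm φ R d = 1 → φ z d = d → d = 1 := by
      intro d h1 h2 h3
      exact hpow (by rw [hez d h1 h3, h2, one_pow])
    have hd1 : φ u (φ z v) = φ z v := by rw [← hmul, ← hzu.eq, hmul, hvu]
    have hd : φ z v / v = 1 := by
      refine hz0 _ (by rw [map_div, hd1, hvu]) ?_ ?_
      · have h := norm_mul φ R (φ z v / v) v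
        rw [div_mul_cancel, ← hNz, hvN, map_one, mul_one] at h
        exact h.symm
      · rw [map_div, div_eq_div_iff_mul_eq_mul]
        exact hquad v hvu
    exact hz0 v hvu hvN (div_eq_one.mp hd)
  -- fixed points of `u` are fixed by `R`
  have hu1 : ∀ x ∈ R, ∀ v : V, φ u v = v → φ x v = v := by
    intro x hx v hv
    have h1 : v ^ n / norm φ R v = 1 := by
      refine hM _ (by rw [map_div, map_pow, hv, hNu, hv]) ?_
      have h := norm_mul φ R (v ^ n / norm φ R v) (norm φ R v)
      rw [div_mul_cancel, hNpow, hNN] at h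
      exact mul_eq_right.mp h.symm
    refine hpow ?_
    rw [div_eq_one.mp h1, ← map_pow, div_eq_one.mp h1, hNx ⟨x, hx⟩]
  intro x hx v
  set F := v * φ u v with hF
  have hFu : φ u F = F := by rw [hF, map_mul, ← hmul, hu, hone, mul_comm]
  have huv : φ u v = F / v := by rw [hF, mul_div_cancel_left]
  have hG : φ u (φ x v * φ u (φ x v)) = φ x v * φ u (φ x v) := by
    rw [map_mul, ← hmul u u, hu, hone, mul_comm]
  have h1 := hu1 x hx _ hG
  have hux : φ u (φ x v) = φ x⁻¹ (φ u v) := by
    rw [← hmul, ← hmul, ← hinv x hx, inv_mul_cancel_right]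
  rw [hux, huv, map_div, hu1 x⁻¹ (inv_mem hx) F hFu, map_mul, map_div,
    hu1 x hx F hFu, ← hmul x x⁻¹, mul_inv_cancel, hone] at h1
  -- the quotient of the two translates is fixed by `x`
  set a := φ x v with ha
  set b := φ x⁻¹ v with hb
  set w := φ x a / v with hw
  have hw1 : w = a / b := by
    rw [hw, div_eq_div_iff_mul_eq_mul]
    rw [mul_div_assoc', mul_div_assoc', div_eq_div_iff_mul_eq_mul] at h1
    calc φ x a * b = (φ x a * F * b) / F := by rw [mul_right_comm, mul_div_cancel_right]
      _ = (a * F * v) / F := by rw [h1]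
      _ = a * v := by rw [mul_right_comm, mul_div_cancel_right]
  have hxw : φ x w = w := by
    conv_lhs => rw [hw1]
    rw [map_div, hb, ← hmul x x⁻¹, mul_inv_cancel, hone]
  have hiter : ∀ k : ℕ, φ ((x * x) ^ k) v = v * w ^ k := by
    intro k
    induction k with
    | zero => rw [pow_zero, hone, pow_zero, mul_one]
    | succ k ih =>
      rw [pow_succ', hmul, ih, map_mul, map_pow, hmul, hmul, hxw, hxw, ← ha,
        show φ x a = v * w by rw [hw, mul_div_cancel], pow_succ', mul_assoc]
  have hxn : (x * x) ^ n = 1 := by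
    have h : ((⟨x, hx⟩ * ⟨x, hx⟩ : R)) ^ n = 1 := by rw [hn]; exact pow_card_eq_one'
    simpa using congrArg Subtype.val h
  have hwn : w ^ n = 1 := by
    have h := hiter n
    rw [hxn, hone] at h
    exact mul_eq_left.mp h.symm
  have hw0 : φ x (φ x v) = v := div_eq_one.mp (show w = 1 from hpow (by rw [hwn, one_pow]))
  obtain ⟨k, hk⟩ := hodd
  have hev : φ ((x * x) ^ (k + 1)) v = v := by
    rw [hiter, show w = 1 from div_eq_one.mpr hw0, one_pow, mul_one]
  have hxx : (x * x) ^ (k + 1) = x := by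
    rw [← pow_two, ← pow_mul, show 2 * (k + 1) = n + 1 by omega, pow_succ]
    have h : (⟨x, hx⟩ : R) ^ n = 1 := by rw [hn]; exact pow_card_eq_one'
    rw [show x ^ n = 1 by simpa using congrArg Subtype.val h, one_mul]
  rwa [hxx] at hev

end Abstract

variable {G : Type*} [Group G] [Finite G]

/-- The orbit lemma: a fixed-point-free quadratic action forces `R` to centralize `P`. -/
theorem le_centralizer_of_fixed_quadratic {p : ℕ} [Fact p.Prime] (hp : p ≠ 2) {P R Z : Subgroup G}
    {u : G} (hu : orderOf u = 2) (huP : u ∈ normalizer (P : Set G)) (hP : IsPGroup p P)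
    (hRP : R ≤ normalizer (P : Set G)) (hRc : IsMulCommutative R)
    (hRp : (Nat.card R).Coprime p) (hRo : Odd (Nat.card R))
    (hinv : ∀ x ∈ R, u * x * u⁻¹ = x⁻¹) (hZ : IsPGroup p Z)
    (hZP : Z ≤ normalizer (P : Set G)) (hZR : Z ≤ normalizer (R : Set G))
    (hZu : ∀ z ∈ Z, Commute z u) (hfix : R ⊓ centralizer (Z : Set G) = ⊥)
    (hquad : ∀ a ∈ P, Commute a u → ∀ z ∈ Z, ⁅⁅a, z⁆, z⁆ = 1) :
    R ≤ centralizer (P : Set G) := by
  obtain ⟨l, hl⟩ := IsPGroup.iff_card.mp hZ
  obtain ⟨i, hi⟩ := IsPGroup.iff_card.mp hP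
  have hRZ : (Nat.card Z).Coprime (Nat.card R) := by rw [hl]; exact hRp.symm.pow_left l
  have hsplit := Coprime.commutator_sup_inf_centralizer hZR hRZ
    (Or.inr (Group.isSolvable_of_comm fun a b => mul_comm' a b))
  rw [hfix, sup_bot_eq] at hsplit
  rw [← hsplit, commutator_le]
  intro r hr z hz
  set R1 := ⁅R, zpowers z⁆ with hR1
  suffices h : R1 ≤ centralizer (P : Set G) from h (commutator_mem_commutator hr (mem_zpowers z))
  have hzR' : zpowers z ≤ normalizer (R : Set G) := zpowers_le.mpr (hZR hz)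
  have hR1R : R1 ≤ R := Coprime.commutator_le_of_le_normalizer hzR'
  have hzo : Odd (orderOf z) := by
    obtain ⟨k, hk⟩ := hZ ⟨z, hz⟩
    exact ((Fact.out : p.Prime).odd_of_ne_two hp).pow.of_dvd_nat
      (orderOf_dvd_of_pow_eq_one (show z ^ p ^ k = 1 by simpa using congrArg Subtype.val hk))
  have hcopz : (Nat.card (zpowers z)).Coprime (Nat.card R) :=
    hRZ.coprime_dvd_left (card_dvd_of_le (zpowers_le.mpr hz))
  haveI := hRc
  have hbot := Coprime.inf_centralizer_inf_commutator hzR' hcopz
  have hzR1 : ∀ x ∈ R1, z * x * z⁻¹ ∈ R1 := by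
    have hle : R1.map (MulAut.conj z).toMonoidHom ≤ R1 := by
      rw [hR1, map_commutator]
      refine commutator_mono ?_ ?_
      · rintro _ ⟨y, hy, rfl⟩
        exact (mem_normalizer_iff.mp (hZR hz) y).mp hy
      · rw [MonoidHom.map_zpowers]
        simp
    exact fun x hx => hle ⟨x, hx, rfl⟩
  set Φ := (frattini P).map P.subtype with hΦ
  have hR1P : R1 ≤ normalizer (P : Set G) := hR1R.trans hRP
  have hR1c : (Nat.card R1).Coprime p := hRp.coprime_dvd_left (card_dvd_of_le hR1R)
  refine Coprime.le_centralizer_of_frattini hR1P ?_ ?_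
  · obtain ⟨j, hj⟩ := IsPGroup.iff_card.mp (hP.to_subgroup (frattini P))
    rw [hj]; exact hR1c.pow_right j
  haveI : Group.IsNilpotent P := hP.isNilpotent
  haveI : (frattini P).Normal := inferInstance
  letI : CommGroup (P ⧸ frattini P) :=
    { (inferInstance : Group (P ⧸ frattini P)) with
      mul_comm := fun a b => by
        obtain ⟨a, rfl⟩ := QuotientGroup.mk'_surjective _ a
        obtain ⟨b, rfl⟩ := QuotientGroup.mk'_surjective _ b
        rw [← commutatorElement_eq_one_iff_mul_comm, ← map_commutatorElement]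
        exact (QuotientGroup.eq_one_iff _).mpr (Coprime.commutator_le_frattini P
          (commutator_mem_commutator (mem_top a) (mem_top b))) }
  let H : Subgroup G := normalizer (P : Set G)
  let φ : H →* MulAut (P ⧸ frattini P) := MonoidHom.mk'
    (fun h => QuotientGroup.congr _ _ (P.normalizerMonoidHom h)
      (characteristic_iff_map_eq.mp inferInstance _))
    (fun a b => MulEquiv.ext fun w => by
      obtain ⟨w, rfl⟩ := QuotientGroup.mk'_surjective _ w
      rw [map_mul]; rfl)
  have hφ : ∀ (h : H) (a : P) (ha : (h : G) * a * (h : G)⁻¹ ∈ P),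
      φ h (QuotientGroup.mk a) = QuotientGroup.mk ⟨_, ha⟩ := fun h a ha => rfl
  haveI : Fintype (R1.subgroupOf H) := Fintype.ofFinite _
  have hu2 : u * u = 1 := by rw [← pow_two, ← hu, pow_orderOf_eq_one]
  have hcardR1 : Nat.card (R1.subgroupOf H) = Nat.card R1 :=
    Nat.card_congr (subgroupOfEquivOfLe hR1P).toEquiv
  have key := fixed_of_quadratic φ (R1.subgroupOf H) (u := ⟨u, huP⟩) (z := ⟨z, hZP hz⟩)
    (fun x hx y hy => Subtype.ext (setLike_mul_comm (hR1R hx) (hR1R hy)))
    (by rw [hcardR1]; exact hRo.of_dvd_nat (card_dvd_of_le hR1R))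
    (by
      obtain ⟨j, hj⟩ := IsPGroup.iff_card.mp (hP.to_quotient (frattini P))
      rw [hcardR1, hj]; exact hR1c.pow_right j)
    (Subtype.ext hu2) (fun x hx => Subtype.ext (hinv _ (hR1R hx)))
    (fun x hx => hzR1 _ hx) (Subtype.ext (hZu z hz).eq)
    (by rwa [Subgroup.orderOf_mk])
    (fun x hx hc => Subtype.ext (by
      have hm : (x : G) ∈ (R ⊓ centralizer (zpowers z : Set G)) ⊓ ⁅R, zpowers z⁆ := by
        refine ⟨⟨hR1R hx, ?_⟩, hx⟩
        rintro _ ⟨k, rfl⟩
        exact ((congrArg Subtype.val hc : z * (x : G) = x * z) |> fun h =>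
          (Commute.zpow_left (show Commute z (x : G) from h) k).eq)
      rw [hbot] at hm
      exact hm))
    (fun v hv => by
      obtain ⟨⟨a, ha⟩, rfl⟩ := QuotientGroup.mk_surjective v
      have hua : u * a * u⁻¹ ∈ P := (mem_normalizer_iff.mp huP a).mp ha
      rw [hφ _ _ hua, QuotientGroup.eq] at hv
      -- lift to a fixed point of `u`
      have hmem : ∀ b : P, b ∈ frattini P → (b : G) ∈ Φ := fun b hb => mem_map_of_mem _ hb
      have huΦ : zpowers u ≤ normalizer (Φ : Set G) := by
        rw [zpowers_le]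
        have hle : ∀ b ∈ Φ, u * b * u⁻¹ ∈ Φ := by
          rintro _ ⟨b, hb, rfl⟩
          have h1 : P.normalizerMonoidHom ⟨u, huP⟩ b ∈ frattini P :=
            characteristic_iff_map_le.mp inferInstance _ (mem_map_of_mem _ hb)
          exact mem_map_of_mem P.subtype h1
        refine mem_normalizer_iff.mpr fun b => ⟨hle b, fun hb => ?_⟩
        have h2 := hle _ hb
        rwa [show u * (u * b * u⁻¹) * u⁻¹ = (u * u) * b * (u * u)⁻¹ by group, hu2, one_mul,
          inv_one, mul_one] at h2
      obtain ⟨c, hc, hcu⟩ := Coprime.exists_fixed_in_coset (k := a) huΦ (by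
          obtain ⟨j, hj⟩ := IsPGroup.iff_card.mp (hP.to_subgroup (frattini P))
          rw [Nat.card_zpowers, hu, Subgroup.card_subtype, hj]
          exact (Nat.coprime_primes Nat.prime_two Fact.out).mpr (Ne.symm hp) |>.pow_right j)
        (Or.inl (Group.isSolvable_of_comm fun a b => mul_comm' a b)) (by
          intro b hb
          rw [mem_zpowers_iff] at hb
          obtain ⟨k, rfl⟩ := hb
          rcases Int.even_or_odd k with hk | hk
          · obtain ⟨k, rfl⟩ := hk
            rw [show u ^ (k + k) = 1 by rw [zpow_add, ← (Commute.refl u).mul_zpow, hu2, one_zpow]]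
            simp
          · obtain ⟨k, rfl⟩ := hk
            rw [show u ^ (2 * k + 1) = u by
              rw [zpow_add, zpow_one, zpow_mul, show u ^ (2 : ℤ) = 1 by rw [zpow_two, hu2],
                one_zpow, one_mul]]
            have := hmem _ (inv_mem hv)
            simpa [mul_assoc] using this)
      obtain ⟨⟨c, hcP⟩, hcΦ, rfl⟩ := hc
      have hb : a * c ∈ P := mul_mem ha hcP
      have hcomm : Commute (a * c) u :=
        (mem_centralizer_iff.mp hcu u (mem_zpowers u)).symm
      have hmk : (QuotientGroup.mk ⟨a, ha⟩ : P ⧸ frattini P) = QuotientGroup.mk ⟨a * c, hb⟩ := by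
        rw [QuotientGroup.eq, show (⟨a, ha⟩ : P)⁻¹ * ⟨a * c, hb⟩ = ⟨c, hcP⟩ from
          Subtype.ext (by simp)]
        exact hcΦ
      rw [hmk]
      have hzb : z * (a * c) * z⁻¹ ∈ P := (mem_normalizer_iff.mp (hZP hz) _).mp hb
      have hzzb : z * (z * (a * c) * z⁻¹) * z⁻¹ ∈ P := (mem_normalizer_iff.mp (hZP hz) _).mp hzb
      rw [hφ _ _ hzb, hφ _ _ hzzb]
      have hd := hquad _ hb hcomm z hz
      set b := a * c
      have hd' : (z * b * z⁻¹) * (z * (z * b * z⁻¹) * z⁻¹)⁻¹ = b * (z * b * z⁻¹)⁻¹ := by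
        have h := mul_inv_eq_one.mp (show (⁅b, z⁆ * z) * (z * ⁅b, z⁆)⁻¹ = 1 by
          rw [← hd, commutatorElement_def ⁅b, z⁆ z]; group)
        simp only [commutatorElement_def] at h ⊢
        have h2 := congrArg (· * z⁻¹) h
        simp only [mul_assoc] at h2
        simp only [mul_assoc, mul_inv_rev, inv_inv] at h2 ⊢
        simpa using h2.symm
      rw [mul_comm _ (QuotientGroup.mk _ : P ⧸ frattini P)]
      have he : (QuotientGroup.mk ⟨_, hzb⟩ : P ⧸ frattini P) / QuotientGroup.mk ⟨_, hzzb⟩ =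
          QuotientGroup.mk ⟨_, hb⟩ / QuotientGroup.mk ⟨_, hzb⟩ := by
        rw [div_eq_mul_inv, div_eq_mul_inv, ← QuotientGroup.mk_inv, ← QuotientGroup.mk_inv,
          ← QuotientGroup.mk_mul, ← QuotientGroup.mk_mul]
        exact congrArg _ (Subtype.ext hd')
      rw [div_eq_div_iff_mul_eq_mul] at he
      exact he.symm)
  intro x hx a ha
  have hxa : x * a * x⁻¹ ∈ P := (mem_normalizer_iff.mp (hR1P hx) a).mp ha
  have h := key ⟨x, hR1P hx⟩ hx (QuotientGroup.mk ⟨a, ha⟩)
  rw [hφ _ _ hxa, QuotientGroup.eq] at h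
  have h' : (⟨x * a * x⁻¹, hxa⟩ : P) * (⟨a, ha⟩ : P)⁻¹ ∈ frattini P := by
    rw [← QuotientGroup.eq_one_iff, QuotientGroup.mk_mul, QuotientGroup.mk_inv,
      (QuotientGroup.eq.mpr h : (QuotientGroup.mk ⟨x * a * x⁻¹, hxa⟩ : P ⧸ frattini P) = _),
      mul_inv_cancel]
  exact mem_map_of_mem P.subtype h'

end Cfsg.Agent.GW.NoBare
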