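import Cfsg.Agent.Lib.GW.NoBareBasic
import Cfsg.Agent.Lib.GW.NoBareOrbit
import Cfsg.Agent.Lib.PLocal.Cores
import Cfsg.Agent.Lib.Cores.Nilpotent

/-!
# No component-free overgroup: a maximal overgroup of the normalizer of a link has a component

Otherwise some `r`-core of it, with `r` not dividing `|F|`, is inverted by `t` and `u`; a conjugate
of it acts on `F` against the orbit lemma.
-/

set_option autoImplicit false
set_option linter.style.haveILetI false

namespace Cfsg.Agent.GW.NoBare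

open Subgroup Cfsg.Agent.Techniques.Bender Cfsg.Agent.Components.MaximalPair
open scoped Pointwise commutatorElement

universe v

variable {G : Type v} [Group G] [Finite G]

theorem core_conj_smul (r : ℕ) [Fact r.Prime] (h : G) (L : Subgroup G) :
    core r (MulAut.conj h • L) = MulAut.conj h • core r L := by
  rw [core, core, ← PLocal.Cores.map_pCore_equiv (Subgroup.equivSMul (MulAut.conj h) L),
    Subgroup.map_map, Coprime.conj_smul_eq_map h (Subgroup.map _ _), Subgroup.map_map]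
  rfl

theorem layer_conj_smul (h : G) (L : Subgroup G) (hL : Cfsg.layer ↥L = ⊥) :
    Cfsg.layer ↥(MulAut.conj h • L) = ⊥ := by
  rw [← Components.Basic.layer_map_equiv (Subgroup.equivSMul (MulAut.conj h) L), hL, Subgroup.map_bot]

theorem isCoatom_conj_smul (h : G) {L : Subgroup G} (hL : IsCoatom L) :
    IsCoatom (MulAut.conj h • L) := by
  have := (OrderIso.isCoatom_iff (MulEquiv.mapSubgroup (MulAut.conj h)) L).2 hL
  exact this

theorem inverts_of_inf_centralizer_eq_bot {v : G} (hv : v * v = 1) {R : Subgroup G}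
    (hn : v ∈ normalizer (R : Set G)) (hR : R ⊓ centralizer ({v} : Set G) = ⊥) {x : G} (hx : x ∈ R) :
    v * x * v⁻¹ = x⁻¹ := by
  have hvi : v⁻¹ = v := inv_eq_of_mul_eq_one_right hv
  have hm : ∀ y : R, (y : G)⁻¹ * (v * y * v⁻¹) ∈ R := fun y =>
    mul_mem (inv_mem y.2) ((mem_normalizer_iff.1 hn y).1 y.2)
  have hinj : Function.Injective (fun y : R => (⟨_, hm y⟩ : R)) := by
    intro a b hab
    have h1 : (a : G)⁻¹ * (v * a * v⁻¹) = (b : G)⁻¹ * (v * b * v⁻¹) := congrArg Subtype.val hab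
    have h2 : v * ((b : G) * (a : G)⁻¹) * v⁻¹ = (b : G) * (a : G)⁻¹ := by
      calc v * ((b : G) * (a : G)⁻¹) * v⁻¹
          = (v * b * v⁻¹) * (v * a * v⁻¹)⁻¹ := by group
        _ = (b : G) * ((b : G)⁻¹ * (v * b * v⁻¹)) * (v * a * v⁻¹)⁻¹ := by group
        _ = (b : G) * ((a : G)⁻¹ * (v * a * v⁻¹)) * (v * a * v⁻¹)⁻¹ := by rw [h1]
        _ = _ := by group
    have h4 : (b : G) * (a : G)⁻¹ ∈ R ⊓ centralizer ({v} : Set G) :=
      mem_inf.2 ⟨mul_mem b.2 (inv_mem a.2),
        mem_centralizer_singleton_iff.2 (mul_inv_eq_iff_eq_mul.1 h2).symm⟩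
    rw [hR] at h4
    exact Subtype.ext (mul_inv_eq_one.1 (mem_bot.1 h4)).symm
  obtain ⟨y, hy⟩ := (Finite.injective_iff_surjective.1 hinj) ⟨x, hx⟩
  obtain rfl : (y : G)⁻¹ * (v * y * v⁻¹) = x := congrArg Subtype.val hy
  simp only [mul_inv_rev, inv_inv, hvi, mul_assoc, hv, mul_one]

namespace Frame

variable (f : Frame G)

/-- No element of order two of `K` centralizes `F`. -/
theorem not_mem_centralizer_F {v : G} (hvK : v ∈ f.K) (hv : orderOf v = 2) :
    v ∉ centralizer (f.F : Set G) := fun h => by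
  have hz : zpowers v ≤ fit f.K := le_fit_of_centralizes (zpowers_le.2 hvK) (zpowers_le.2 (by
    rw [f.gfit_eq_fit]; exact h))
  have := odd_orderOf f.F_odd (hz (mem_zpowers v))
  rw [hv] at this
  exact absurd this (by decide)

theorem exists_prime_ne (h2 : f.TwoPrimes) {q : ℕ} (hq : q.Prime) :
    ∃ s : ℕ, s.Prime ∧ s ≠ q ∧ core s f.K ≠ ⊥ := by
  by_contra hno
  refine h2 q hq ((core_isPGroup q f.K).to_le (map_mono ?_))
  rw [Components.Fitting.fitting_eq_coreJoin]
  refine iSup_le fun s => ?_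
  by_cases hs : (s : ℕ) = q
  · rw [hs]
  · have : core (s : ℕ) f.K = ⊥ := by_contra fun h => hno ⟨s, s.2, hs, h⟩
    rw [(map_eq_bot_iff_of_injective _ f.K.subtype_injective).1 this]
    exact bot_le

variable [IsSimpleGroup G]

theorem not_comm (f : Frame G) : ¬ IsMulCommutative G := fun h => by
  refine f.g_notMem (f.centralizer_le (mem_centralizer_singleton_iff.2 ?_))
  exact h.is_comm.comm _ _

/-- A bare maximal overgroup of the normalizer of a subgroup of `F` is `K` or has an exceptional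
core. -/
theorem eq_or_exceptional (h2 : f.TwoPrimes) {I L : Subgroup G} (hI1 : I ≠ ⊥) (hIF : I ≤ f.F)
    (hL : IsCoatom L) (hN : normalizer (I : Set G) ≤ L) (hlay : Cfsg.layer ↥L = ⊥) :
    L = f.K ∨ ∃ r : ℕ, r.Prime ∧ core r f.K = ⊥ ∧ core r L ≠ ⊥ ∧ core r L ⊓ f.K = ⊥ := by
  by_contra hno
  rw [not_or] at hno
  have hlead : Leads f.K L I := ⟨hI1, hIF, inf_le_right.trans hN⟩
  have hlayL : lay L = ⊥ := by rw [lay, hlay, Subgroup.map_bot]
  have hgL : gfit L = fit L := by rw [gfit_eq, hlayL, bot_sup_eq]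
  -- every core of `L` lies in `K`
  have hfitK : fit L ≤ f.K := by
    rw [fit, Components.Fitting.fitting_eq_coreJoin, Components.Fitting.coreJoin, Subgroup.map_iSup]
    refine iSup_le fun r => ?_
    haveI := Fact.mk r.2
    show core (r : ℕ) L ≤ f.K
    by_cases hrK : core (r : ℕ) f.K = ⊥
    · by_cases hrL : core (r : ℕ) L = ⊥
      · rw [hrL]; exact bot_le
      · exact absurd ⟨(r : ℕ), r.2, hrK, hrL, core_inf_eq_bot hlead hrK⟩ hno.2
    · obtain ⟨s, hs, hsr, hsK⟩ := f.exists_prime_ne h2 r.2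
      haveI := Fact.mk hs
      exact core_le_of_two f.coatom hlead hsr hrK hsK
  have hfit1 : fit L ≠ ⊥ := fun h => by
    have hle : L ≤ fit L := le_fit_of_centralizes le_rfl (by
      rw [hgL, h]
      exact fun x _ => mem_centralizer_iff.2 fun y hy => by
        rw [SetLike.mem_coe, mem_bot] at hy; simp [hy])
    obtain ⟨⟨x, hx⟩, hx1⟩ := Subgroup.ne_bot_iff_exists_ne_one.1 hI1
    exact hx1 (Subtype.ext (mem_bot.1 (h ▸ hle (hN (le_normalizer hx)))))
  have hback : Leads L f.K (fit L) := ⟨hfit1, le_rfl, inf_le_left.trans (hgL ▸ hfitK)⟩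
  rcases eq_or_isPGroup f.not_comm f.coatom hL hlead hback with h | ⟨p, hp, hpK, -⟩
  · exact hno.1 h.symm
  · refine h2 p hp ?_
    have := hpK.map f.K.subtype
    show IsPGroup p ↥(fit f.K)
    rw [← f.gfit_eq_fit]
    exact this

/-- Section 2 of `notes/gw-nb-h8.md`. -/
theorem linkHasLayer (h2 : f.TwoPrimes) : f.LinkHasLayer := by
  intro p I L hI hL hN hlay
  have htL : f.t ∈ L := hN hI.t_mem
  have huL : f.u ∈ L := hN hI.u_mem
  have hlead : Leads f.K L I := ⟨hI.ne_bot, hI.le_F, inf_le_right.trans hN⟩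
  set L' := MulAut.conj f.g⁻¹ • L with hL'
  set I' := MulAut.conj f.g⁻¹ • I with hI'
  have hI'F : I' ≤ f.F := by
    have := Subgroup.map_mono (f := (MulAut.conj f.g⁻¹).toMonoidHom) hI.le_F1
    rwa [← Coprime.conj_smul_eq_map, ← Coprime.conj_smul_eq_map, Coprime.conj_inv_smul_smul] at this
  have hI'1 : I' ≠ ⊥ := fun h => hI.ne_bot (by
    rw [hI', Coprime.conj_smul_eq_map] at h
    exact (map_eq_bot_iff_of_injective _ (MulAut.conj f.g⁻¹).injective).1 h)
  have hN' : normalizer (I' : Set G) ≤ L' := by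
    rw [hI', ← Coprime.conj_smul_normalizer]
    exact Subgroup.map_mono hN
  have hlead' : Leads f.K L' I' := ⟨hI'1, hI'F, inf_le_right.trans hN'⟩
  -- an exceptional prime
  obtain ⟨r, hr, hrK, hrL⟩ : ∃ r : ℕ, r.Prime ∧ core r f.K = ⊥ ∧ core r L ≠ ⊥ := by
    rcases f.eq_or_exceptional h2 hI.ne_bot hI.le_F hL hN hlay with h | ⟨r, hr, a, b, -⟩
    · rcases f.eq_or_exceptional h2 hI'1 hI'F (isCoatom_conj_smul _ hL) hN'
          (layer_conj_smul _ L hlay) with h' | ⟨r, hr, a, b, -⟩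
      · exfalso
        have hn : f.g⁻¹ ∈ normalizer (f.K : Set G) :=
          Coprime.conj_smul_eq_self_iff.1 (by rw [← h]; exact h'.trans h.symm)
        rw [normalizer_eq_of_coatom f.coatom le_rfl le_normalizer fun hb => by
          have := f.t_mem_K
          rw [hb, mem_bot] at this
          exact Involutions.Basic.ne_one f.t_order this] at hn
        exact f.g_notMem (inv_mem_iff.1 hn)
      · haveI := Fact.mk hr
        refine ⟨r, hr, a, fun h0 => b ?_⟩
        rw [core_conj_smul, h0, Coprime.conj_smul_eq_map, Subgroup.map_bot]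
    · exact ⟨r, hr, a, b⟩
  haveI := Fact.mk hr
  set R := core r L with hRdef
  have hRK : R ⊓ f.K = ⊥ := core_inf_eq_bot hlead hrK
  have hR'K : core r L' ⊓ f.K = ⊥ := core_inf_eq_bot hlead' hrK
  -- `O₂(L) = 1`
  have hr2 : r ≠ 2 := by
    rintro rfl
    haveI : Fact (Nat.Prime 2) := ⟨Nat.prime_two⟩
    -- an involution of the core fixed by `t` and `u`
    set Y := f.F ⊓ normalizer (I : Set G)
    have hYL : Y ≤ L := inf_le_right.trans hN
    have hVn : ∀ v ∈ L, v ∈ normalizer (R : Set G) := fun v hv => le_normalizer_core 2 L hv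
    set V := closure ({f.t, f.u} : Set G)
    have hVL : V ≤ L := (closure_le _).2 (by
      intro z hz; rcases hz with rfl | rfl
      · exact htL
      · exact huL)
    have hV2 : IsPGroup 2 V := fun a => ⟨1, by
      rw [pow_one, pow_two]
      refine Subtype.ext ?_
      rw [Subgroup.coe_mul, OneMemClass.coe_one]
      rcases mem_four f.t_sq f.u_sq f.comm a.2 with e | e | e | e <;> rw [e]
      exacts [one_mul 1, f.t_sq, f.u_sq, by
        rw [Commute.mul_mul_mul_comm f.comm.symm f.t f.u, f.t_sq, f.u_sq, one_mul]]⟩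
    have hRV : IsPGroup 2 ↥(R ⊔ V) :=
      (core_isPGroup 2 L).to_sup_of_normal_left' hV2 (fun v hv => hVn v (hVL hv))
    haveI := hRV.isNilpotent
    haveI : (R.subgroupOf (R ⊔ V)).Normal :=
      normal_subgroupOf_of_le_normalizer (sup_le le_normalizer fun v hv => hVn v (hVL hv))
    have hne : R.subgroupOf (R ⊔ V) ≠ ⊥ := fun h => hrL (by
      rw [eq_bot_iff]
      intro x hx
      have := h ▸ (mem_subgroupOf (h := ⟨x, mem_sup_left hx⟩)).2 hx
      simpa using this)
    obtain ⟨⟨x, hx, hxc⟩, hx1⟩ := Subgroup.ne_bot_iff_exists_ne_one.1 (Cores.inf_center_ne_bot hne)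
    have hx' : (x : G) ∈ R := hx
    obtain ⟨k, hk⟩ := IsPGroup.iff_orderOf.1 (core_isPGroup 2 L) ⟨(x : G), hx'⟩
    replace hk : orderOf (x : G) = 2 ^ k := (Subgroup.orderOf_mk (x : G) hx').symm.trans hk
    rcases k with _ | k
    · exact hx1 (Subtype.ext (Subtype.ext (orderOf_eq_one_iff.1 hk)))
    set v := (x : G) ^ 2 ^ k
    have hv2 : orderOf v = 2 := by
      show orderOf ((x : G) ^ 2 ^ k) = 2
      rw [orderOf_pow' _ (by positivity), hk, Nat.gcd_eq_right (pow_dvd_pow 2 (Nat.le_succ k)),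
        pow_succ, Nat.mul_div_cancel_left _ (by positivity)]
    have hvR : v ∈ R := pow_mem hx' _
    have hvc : ∀ y ∈ V, Commute v y := fun y hy => by
      have e : Commute y (x : G) :=
        congrArg Subtype.val (mem_center_iff.1 hxc ⟨y, mem_sup_right hy⟩)
      exact (e.pow_right (2 ^ k)).symm
    have hvt := hvc _ (subset_closure (by simp : f.t ∈ ({f.t, f.u} : Set G)))
    have hvu := hvc _ (subset_closure (by simp : f.u ∈ ({f.t, f.u} : Set G)))
    have hvK : v ∈ f.K := f.mem_K_of_commute hvt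
    -- it centralizes `F ⊓ N(I)`
    have hYodd : Odd (Nat.card Y) := f.F_odd.of_dvd_nat (card_dvd_of_le inf_le_left)
    have hVY : ∀ w, w ∈ f.K → w ∈ normalizer (I : Set G) → w ∈ normalizer (Y : Set G) := by
      intro w hwK hwI
      rw [mem_normalizer_iff]
      intro z
      have e1 := mem_normalizer_iff.1
        ((le_normalizer_map_of_normal f.K (Cfsg.fittingSubgroup ↥f.K)) hwK) z
      have e2 : z ∈ normalizer (I : Set G) ↔ w * z * w⁻¹ ∈ normalizer (I : Set G) :=
        ⟨fun h => mul_mem (mul_mem hwI h) (inv_mem hwI), fun h => by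
          have := mul_mem (mul_mem (inv_mem hwI) h) hwI
          simpa [mul_assoc] using this⟩
      simp only [Y, mem_inf, ← e1, ← e2]
    obtain ⟨w, hw2, hwne, hwv, hwK, hwI⟩ : ∃ w, orderOf w = 2 ∧ w ≠ v ∧ Commute v w ∧ w ∈ f.K ∧
        w ∈ normalizer (I : Set G) := by
      by_cases hvt' : v = f.t
      · exact ⟨f.u, f.u_order, hvt' ▸ f.ne, hvu, f.u_mem_K, hI.u_mem⟩
      · exact ⟨f.t, f.t_order, Ne.symm hvt', hvt, f.t_mem_K, hI.t_mem⟩
    have hvI : v ∈ normalizer (I : Set G) := by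
      rcases f.fix_four v hv2 hvt hvu with h | h | h <;> rw [h]
      exacts [hI.t_mem, hI.u_mem, mul_mem hI.t_mem hI.u_mem]
    have hvY : ∀ a ∈ Y, Commute v a := by
      by_contra hno
      push Not at hno
      obtain ⟨z, hz, hz1, hzv, -⟩ := exists_moved hv2 hw2 hwne hwv (hVY v hvK hvI) (hVY w hwK hwI)
        hYodd hno
      have hzR : v * z * v⁻¹ * z⁻¹ ∈ R := by
        rw [show v * z * v⁻¹ * z⁻¹ = v * (z * v⁻¹ * z⁻¹) by group]
        exact mul_mem hvR ((mem_normalizer_iff.1 (hVn z (hYL hz)) v⁻¹).1 (inv_mem hvR))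
      rw [hzv] at hzR
      obtain ⟨i, hi⟩ := IsPGroup.iff_orderOf.1 (core_isPGroup 2 L) ⟨_, hzR⟩
      rw [Subgroup.orderOf_mk] at hi
      have hodd : Odd (orderOf (z⁻¹ * z⁻¹)) :=
        odd_orderOf hYodd (mul_mem (inv_mem hz) (inv_mem hz))
      have h1 := Nat.eq_one_of_dvd_coprimes ((Nat.coprime_two_right.2 hodd).pow_right i) dvd_rfl
        (dvd_of_eq hi)
      rw [orderOf_eq_one_iff, ← mul_inv_rev, inv_eq_one] at h1
      exact hz1 (eq_one_of_inv_eq (odd_orderOf hYodd hz) (inv_eq_of_mul_eq_one_right h1))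
    refine f.not_mem_centralizer_F hvK hv2
      (le_centralizer_fit (M := f.K) (A := zpowers v) (fun s hs => ?_) (mem_zpowers v))
    haveI := Fact.mk hs
    by_cases hs2 : s = 2
    · subst hs2
      rw [f.core_two]
      exact fun z _ => mem_centralizer_iff.2 fun y hy => by
        rw [SetLike.mem_coe, mem_bot] at hy; simp [hy]
    refine le_centralizer_core hI.le_F ?_ (zpowers_le.2 (le_normalizer_core s f.K hvK)) ?_
    · rw [Nat.card_zpowers, hv2]
      exact (Nat.coprime_primes Nat.prime_two hs).2 (Ne.symm hs2)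
    · refine zpowers_le.2 (mem_centralizer_iff.2 fun a ha => ?_)
      exact (hvY a ⟨f.core_le_F s ha.1, ha.2⟩).eq.symm
  have hRodd : Odd (Nat.card R) := by
    obtain ⟨k, hk⟩ := IsPGroup.iff_card.1 (core_isPGroup r L)
    rw [hk]; exact (hr.odd_of_ne_two hr2).pow
  -- `t` and `u` invert `R`
  have hinvt : ∀ x ∈ R, f.t * x * f.t⁻¹ = x⁻¹ := fun x hx =>
    inverts_of_inf_centralizer_eq_bot f.t_sq (le_normalizer_core r L htL)
      (le_bot_iff.1 (hRK ▸ inf_le_inf_left R f.centralizer_le)) hx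
  have hinvu : ∀ x ∈ R, f.u * x * f.u⁻¹ = x⁻¹ := fun x hx => by
    refine inverts_of_inf_centralizer_eq_bot f.u_sq (le_normalizer_core r L huL) ?_ hx
    rw [eq_bot_iff]
    rintro y ⟨hyR, hyu⟩
    have hy' : f.g⁻¹ * y * f.g ∈ core r L' ⊓ f.K := by
      refine ⟨?_, f.mem_K1.1 (f.mem_K1_of_commute (mem_centralizer_singleton_iff.1 hyu))⟩
      rw [hL', core_conj_smul]
      have := Coprime.conj_mem_conj_smul (g := f.g⁻¹) (show y ∈ core r L from hyR)
      rwa [inv_inv] at this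
    rw [hR'K, mem_bot] at hy'
    rw [mem_bot, show y = f.g * (f.g⁻¹ * y * f.g) * f.g⁻¹ by group, hy']
    group
  have hRc : ∀ a ∈ R, ∀ b ∈ R, Commute a b := fun a ha b hb => by
    have h := hinvt _ (mul_mem ha hb)
    rw [show f.t * (a * b) * f.t⁻¹ = (f.t * a * f.t⁻¹) * (f.t * b * f.t⁻¹) by group, hinvt a ha,
      hinvt b hb, mul_inv_rev] at h
    have h' := congrArg (·⁻¹) h
    simp only [mul_inv_rev, inv_inv] at h'
    exact h'.symm
  -- move `R` by `g`
  set R' := MulAut.conj f.g • R with hR'def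
  have hgtu : f.g * (f.t * f.u) * f.g⁻¹ = f.t := by
    rw [show f.g * (f.t * f.u) * f.g⁻¹ = (f.g * f.t * f.g⁻¹) * (f.g * f.u * f.g⁻¹) by group,
      f.conj_t, f.conj_u, ← mul_assoc, f.comm.symm.eq, mul_assoc, f.u_sq, mul_one]
  have hR't : ∀ y ∈ R', Commute y f.t := by
    intro y hy
    rw [hR'def, Coprime.mem_conj_smul] at hy
    have h1 : Commute (f.g⁻¹ * y * f.g) (f.t * f.u) := by
      refine (mul_inv_eq_iff_eq_mul.1 ?_).symm
      rw [mul_inv_rev, show f.t * f.u * (f.g⁻¹ * y * f.g) * (f.u⁻¹ * f.t⁻¹) =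
        f.t * (f.u * (f.g⁻¹ * y * f.g) * f.u⁻¹) * f.t⁻¹ by group, hinvu _ hy,
        show f.t * (f.g⁻¹ * y * f.g)⁻¹ * f.t⁻¹ = (f.t * (f.g⁻¹ * y * f.g) * f.t⁻¹)⁻¹ by group,
        hinvt _ hy, inv_inv]
    have h2 := (Commute.conj_iff f.g).2 h1
    rwa [hgtu, show f.g * (f.g⁻¹ * y * f.g) * f.g⁻¹ = y by group] at h2
  have hR'u : ∀ y ∈ R', f.u * y * f.u⁻¹ = y⁻¹ := by
    intro y hy
    rw [hR'def, Coprime.mem_conj_smul] at hy
    have h := congrArg (fun z => f.g * z * f.g⁻¹) (hinvt _ hy)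
    rw [← f.conj_t]
    calc f.g * f.t * f.g⁻¹ * y * (f.g * f.t * f.g⁻¹)⁻¹
        = f.g * (f.t * (f.g⁻¹ * y * f.g) * f.t⁻¹) * f.g⁻¹ := by group
      _ = y⁻¹ := by rw [h]; group
  have hR'leK : R' ≤ f.K := fun y hy => f.mem_K_of_commute (hR't y hy)
  have hR'p : IsPGroup r R' := (core_isPGroup r L).map _
  have hR'ne : R' ≠ ⊥ := fun h => hrL (by
    rw [hR'def, Coprime.conj_smul_eq_map] at h
    exact (map_eq_bot_iff_of_injective _ (MulAut.conj f.g).injective).1 h)
  -- it moves some part of `F`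
  obtain ⟨s, hs, hsmove⟩ : ∃ s : ℕ, s.Prime ∧ ¬ R' ≤ centralizer (core s f.K : Set G) := by
    by_contra hno
    push Not at hno
    refine hR'ne ?_
    have hle : R' ≤ fit f.K := le_fit_of_centralizes hR'leK (by
      rw [f.gfit_eq_fit]
      exact le_centralizer_fit hno)
    by_contra hne
    obtain ⟨k, hk0, hk⟩ := hR'p.nontrivial_iff_card.mp ((Subgroup.nontrivial_iff_ne_bot R').mpr hne)
    have hd : r ∣ Nat.card ↥(Cfsg.fittingSubgroup ↥f.K) := by
      rw [← card_subtype f.K (Cfsg.fittingSubgroup ↥f.K)]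
      exact (hk ▸ dvd_pow_self r hk0.ne').trans (card_dvd_of_le hle)
    exact (dvd_card_fitting_iff f.K).1 hd hrK
  haveI := Fact.mk hs
  have hsK : core s f.K ≠ ⊥ := fun h => hsmove (by
    rw [h]
    exact fun z _ => mem_centralizer_iff.2 fun y hy => by
      rw [SetLike.mem_coe, mem_bot] at hy; simp [hy])
  have hs2 : s ≠ 2 := fun h => hsK (h ▸ f.core_two)
  have hsr : s ≠ r := fun h => hsK (h ▸ hrK)
  -- the fixed-point-free `s`-group
  set Zs := core s f.K ⊓ centralizer (core s f.K : Set G) with hZs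
  have hZL : Zs ≤ L := hlead.center_core_le s
  set Z := Zs ⊓ centralizer ({f.t} : Set G) ⊓ centralizer ({f.u} : Set G) with hZ
  have hZfix : R ⊓ centralizer (Z : Set G) = ⊥ := by
    rw [eq_bot_iff]
    rintro x ⟨hxR, hxZ⟩
    have hxK : x ∈ f.K := by
      refine center_core_normalizer f.coatom hsK (mem_centralizer_iff.2 fun a ha => ?_)
      change a ∈ Zs at ha
      have hnR : ∀ b ∈ Zs, ∀ y ∈ R, b * y * b⁻¹ ∈ R := fun b hb y hy =>
        (mem_normalizer_iff.1 (le_normalizer_core r L (hZL hb)) y).1 hy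
      have hsame : ∀ v, (v = f.t ∨ v = f.u) → ∀ b ∈ Zs, ∀ y ∈ R,
          v * b * v⁻¹ * y * (v * b * v⁻¹)⁻¹ = b * y * b⁻¹ := by
        intro v hv b hb y hy
        have hinv : ∀ y ∈ R, v * y * v⁻¹ = y⁻¹ := by
          rcases hv with rfl | rfl
          · exact hinvt
          · exact hinvu
        have hvL : v ∈ L := by rcases hv with rfl | rfl <;> assumption
        have hvi : v⁻¹ * y * v = y⁻¹ := by
          have hy' : v⁻¹ * y * v ∈ R := by
            have := (mem_normalizer_iff''.1 (le_normalizer_core r L hvL) y).1 hy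
            exact this
          have := hinv _ hy'
          rw [show v * (v⁻¹ * y * v) * v⁻¹ = y by group] at this
          rw [eq_comm, inv_eq_iff_eq_inv]
          exact this
        calc v * b * v⁻¹ * y * (v * b * v⁻¹)⁻¹ = v * (b * (v⁻¹ * y * v) * b⁻¹) * v⁻¹ := by group
          _ = (b * y⁻¹ * b⁻¹)⁻¹ := by rw [hvi, hinv _ (hnR b hb _ (inv_mem hy))]
          _ = b * y * b⁻¹ := by group
      have hnZ : ∀ v, v ∈ f.K → ∀ b ∈ Zs, v * b * v⁻¹ ∈ Zs := fun v hv b hb => by
        refine ⟨(mem_normalizer_iff.1 (le_normalizer_core s f.K hv) b).1 hb.1,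
          mem_centralizer_iff.2 fun y hy => ?_⟩
        have hy' : v⁻¹ * y * v ∈ core s f.K :=
          (mem_normalizer_iff''.1 (le_normalizer_core s f.K hv) y).1 hy
        have h := mem_centralizer_iff.1 hb.2 _ hy'
        calc y * (v * b * v⁻¹) = v * ((v⁻¹ * y * v) * b) * v⁻¹ := by group
          _ = v * (b * (v⁻¹ * y * v)) * v⁻¹ := by rw [h]
          _ = _ := by group
      have habel : ∀ b ∈ Zs, ∀ c ∈ Zs, Commute b c := fun b hb c hc =>
        (mem_centralizer_iff.1 hc.2 b hb.1)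
      set b := a * (f.t * a * f.t⁻¹) with hb
      have hbZ : b ∈ Zs := mul_mem ha (hnZ _ f.t_mem_K a ha)
      set c := b * (f.u * b * f.u⁻¹) with hc
      have hfixv : ∀ v, v * v = 1 → ∀ d, d ∈ Zs → v * d * v⁻¹ ∈ Zs →
          v * (d * (v * d * v⁻¹)) * v⁻¹ = d * (v * d * v⁻¹) := by
        intro v hv d hd hd'
        have hvi : v⁻¹ = v := inv_eq_of_mul_eq_one_right hv
        calc v * (d * (v * d * v⁻¹)) * v⁻¹ = (v * d * v⁻¹) * ((v * v) * d * (v * v)⁻¹) := by group
          _ = (v * d * v⁻¹) * d := by rw [hv]; group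
          _ = _ := (habel _ hd _ hd').symm.eq
      have hbt := hfixv f.t f.t_sq a ha (hnZ _ f.t_mem_K a ha)
      have hcu := hfixv f.u f.u_sq b hbZ (hnZ _ f.u_mem_K b hbZ)
      rw [← hb] at hbt
      rw [← hc] at hcu
      have hct : f.t * c * f.t⁻¹ = c := by
        calc f.t * c * f.t⁻¹
            = (f.t * b * f.t⁻¹) * ((f.t * f.u) * b * (f.t * f.u)⁻¹) := by rw [hc]; group
          _ = b * ((f.u * f.t) * b * (f.u * f.t)⁻¹) := by rw [hbt, f.comm.eq]
          _ = b * (f.u * (f.t * b * f.t⁻¹) * f.u⁻¹) := by group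
          _ = c := by rw [hbt]
      have hcZ : c ∈ Z := mem_inf.2 ⟨mem_inf.2 ⟨mul_mem hbZ (hnZ _ f.u_mem_K b hbZ),
        mem_centralizer_singleton_iff.2 (mul_inv_eq_iff_eq_mul.1 hct).symm⟩,
        mem_centralizer_singleton_iff.2 (mul_inv_eq_iff_eq_mul.1 hcu).symm⟩
      have hcx : c * x * c⁻¹ = x := mul_inv_eq_iff_eq_mul.2 (mem_centralizer_iff.1 hxZ c hcZ)
      -- `c` acts on `R` as `a ^ 4`
      have hb2 : ∀ y ∈ R, b * y * b⁻¹ = a * (a * y * a⁻¹) * a⁻¹ := fun y hy => by
        rw [← hsame f.t (Or.inl rfl) a ha y hy, hb]; group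
      have hc4 : c * x * c⁻¹ = a ^ 4 * x * (a ^ 4)⁻¹ := by
        calc c * x * c⁻¹ = b * (f.u * b * f.u⁻¹ * x * (f.u * b * f.u⁻¹)⁻¹) * b⁻¹ := by
              rw [hc]; group
          _ = b * (b * x * b⁻¹) * b⁻¹ := by rw [hsame f.u (Or.inr rfl) b hbZ x hxR]
          _ = a ^ 4 * x * (a ^ 4)⁻¹ := by
            rw [hb2 _ (hnR b hbZ x hxR), hb2 x hxR]
            simp only [pow_succ, pow_zero, one_mul, mul_inv_rev, mul_assoc]
      rw [hcx] at hc4
      have haodd : Odd (orderOf a) := by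
        obtain ⟨k, hk⟩ := IsPGroup.iff_orderOf.1 (core_isPGroup s f.K) ⟨a, ha.1⟩
        rw [Subgroup.orderOf_mk] at hk
        exact hk ▸ (hs.odd_of_ne_two hs2).pow
      obtain ⟨j, hj⟩ := exists_pow_eq_self_of_coprime (x := a)
        ((Nat.coprime_two_left.2 haodd).pow_left 2)
      have h4 : Commute (a ^ (2 ^ 2)) x := mul_inv_eq_iff_eq_mul.1 (by norm_num; exact hc4.symm)
      exact hj ▸ (h4.pow_left j).eq
    exact hRK ▸ mem_inf.2 ⟨hxR, hxK⟩
  set Z' := MulAut.conj f.g • Z with hZ'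
  have hZmem : ∀ z ∈ Z', f.g⁻¹ * z * f.g ∈ Z := fun z hz => Coprime.mem_conj_smul.1 hz
  have hZ'u : ∀ z ∈ Z', Commute z f.u := fun z hz => by
    have h := (Commute.conj_iff f.g).2
      (show Commute (f.g⁻¹ * z * f.g) f.t from
        mem_centralizer_singleton_iff.1 (hZmem z hz).1.2)
    rwa [f.conj_t, show f.g * (f.g⁻¹ * z * f.g) * f.g⁻¹ = z by group] at h
  have hZ'K : Z' ≤ f.K := fun z hz => f.mem_K_of_commute (by
    have h := (Commute.conj_iff f.g).2
      ((show Commute (f.g⁻¹ * z * f.g) f.t from mem_centralizer_singleton_iff.1 (hZmem z hz).1.2).mul_right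
        (mem_centralizer_singleton_iff.1 (hZmem z hz).2))
    rwa [hgtu, show f.g * (f.g⁻¹ * z * f.g) * f.g⁻¹ = z by group] at h)
  haveI hR'comm : IsMulCommutative R' := isMulCommutative_iff_of_setLike.mpr fun a ha b hb => by
    rw [hR'def, Coprime.mem_conj_smul] at ha hb
    have h := (Commute.conj_iff f.g).2 (hRc _ ha _ hb)
    simpa [mul_assoc] using h.eq
  have hR'cop : (Nat.card R').Coprime s := by
    obtain ⟨k, hk⟩ := IsPGroup.iff_card.1 hR'p
    rw [hk]
    exact Nat.Coprime.pow_left k ((Nat.coprime_primes hr hs).2 (Ne.symm hsr))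
  have hR'odd : Odd (Nat.card R') := by
    rw [hR'def, Coprime.card_conj_smul]; exact hRodd
  refine hsmove (le_centralizer_of_fixed_quadratic hs2 f.u_order (le_normalizer_core s f.K f.u_mem_K)
    (core_isPGroup s f.K) (hR'leK.trans (le_normalizer_core s f.K)) hR'comm hR'cop hR'odd hR'u
    (((core_isPGroup s f.K).to_le (inf_le_left.trans (inf_le_left.trans inf_le_left))).map _)
    (hZ'K.trans (le_normalizer_core s f.K)) (fun z hz => ?_) hZ'u ?_ ?_)
  · rw [hR'def, ← Coprime.conj_smul_normalizer, Coprime.mem_conj_smul]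
    exact le_normalizer_core r L (hZL (hZmem z hz).1.1)
  · rw [eq_bot_iff]
    rintro y ⟨hy, hyZ⟩
    have hy' : f.g⁻¹ * y * f.g ∈ R ⊓ centralizer (Z : Set G) := by
      refine ⟨Coprime.mem_conj_smul.1 hy, mem_centralizer_iff.2 fun z hz => ?_⟩
      have := mem_centralizer_iff.1 hyZ _ (Coprime.conj_mem_conj_smul hz)
      have h := (Commute.conj_iff f.g⁻¹).2 (show Commute (f.g * z * f.g⁻¹) y from this)
      simpa [mul_assoc] using h.eq
    rw [hZfix, mem_bot] at hy'
    rw [mem_bot, show y = f.g * (f.g⁻¹ * y * f.g) * f.g⁻¹ by group, hy']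
    group
  · -- quadratic: `z` is central in its core, which `a` normalizes
    intro a ha hau z hz
    have hz1 : z ∈ f.core1 s := Coprime.mem_conj_smul.2 (hZmem z hz).1.1.1
    have hw : ⁅a, z⁆ ∈ f.core1 s := by
      rw [commutatorElement_def]
      exact mul_mem
        ((mem_normalizer_iff.1 (f.le_normalizer_core1 s (f.mem_K1_of_commute hau)) z).1 hz1)
        (inv_mem hz1)
    rw [commutatorElement_eq_one_iff_commute]
    have h := mem_centralizer_iff.1 (hZmem z hz).1.1.2 _ (Coprime.mem_conj_smul.1 hw)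
    have h' := (Commute.conj_iff f.g).2
      (show Commute (f.g⁻¹ * ⁅a, z⁆ * f.g) (f.g⁻¹ * z * f.g) from h)
    simpa [mul_assoc] using h'

end Frame

end Cfsg.Agent.GW.NoBare
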