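import Mathlib

/-!
The arithmetic of the two order identities when the overgroup has a normal four group.
-/

set_option autoImplicit false
set_option linter.all false

namespace Cfsg.Agent.GW.S3287Four

/-- `x = d + 4 j`, `I` the index, `k` the index of the centralizer of a reflection in the odd core. -/
theorem arith {I k : ℕ} {d x e2 e3 : ℤ} (hd : d = 1 ∨ d = -1) (hx2 : 2 ≤ x) (hmod : ∃ j, x = d + 4 * j)
    (hI : Odd I) (hk : Odd k) (he2 : e2 ≠ 0) (he3 : e3 ≠ 0)
    (hR : 1 + d * x + e2 + e3 = 0)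
    (hF : 3 * (I : ℚ) * ((x : ℚ) - d) ^ 2 = 8 * (1 + (k : ℚ)) ^ 2 * x * (x + d))
    (hS : 3 * (I : ℚ) * (1 + (d : ℚ) / x + 1 / e2 + 1 / e3) = 32 * k) :
    (d = -1 ∧ x = 7) ∨ (d = 1 ∧ x = 9 ∧ k = 1 ∧ I = 15) ∨ (d = -1 ∧ x = 15 ∧ k = 3 ∧ I = 35) := by
  obtain ⟨j, hj⟩ := hmod
  have hj1 : 1 ≤ j := by omega
  obtain ⟨kk, hkk⟩ := hk
  obtain ⟨II, hII⟩ := hI
  have hd2 : d * d = 1 := by rcases hd with rfl | rfl <;> norm_num
  -- the first identity
  have hF' : 3 * (I : ℤ) * j ^ 2 = (1 + (k : ℤ)) ^ 2 * ((4 * j + d) * (2 * j + d)) := by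
    have h : 3 * (I : ℤ) * (x - d) ^ 2 = 8 * (1 + (k : ℤ)) ^ 2 * x * (x + d) := by exact_mod_cast hF
    subst hj
    refine mul_left_cancel₀ (show (16 : ℤ) ≠ 0 by norm_num) ?_
    linear_combination h
  have hcop : IsCoprime j ((4 * j + d) * (2 * j + d)) :=
    (IsCoprime.mul_right ⟨-(4 * d), d, by linear_combination hd2⟩ ⟨-(2 * d), d, by linear_combination hd2⟩)
  obtain ⟨l, hl⟩ : j ∣ 1 + (k : ℤ) := by
    have h1 : j ^ 2 ∣ (1 + (k : ℤ)) ^ 2 * ((4 * j + d) * (2 * j + d)) := ⟨3 * I, by linear_combination -hF'⟩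
    have h2 := (IsCoprime.pow_left (m := 2) hcop).dvd_of_dvd_mul_right h1
    exact (Int.pow_dvd_pow_iff (by norm_num)).1 h2
  have hl1 : 1 ≤ l := by
    by_contra h
    push Not at h
    nlinarith
  have hI3 : 3 * (I : ℤ) = (4 * j + d) * (2 * j + d) * l ^ 2 := by
    refine mul_right_cancel₀ (pow_ne_zero 2 (by omega : j ≠ 0)) ?_
    linear_combination hF' + ((4 * j + d) * (2 * j + d)) * (1 + (k : ℤ) + j * l) * hl
  -- parities
  have hlodd : l % 2 = 1 := by
    rcases Int.even_or_odd l with ⟨r, hr⟩ | ho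
    · exfalso
      have : (3 * (I : ℤ)) % 2 = 0 := by rw [hI3, hr]; ring_nf; omega
      omega
    · exact Int.odd_iff.1 ho
  have hjeven : j % 2 = 0 := by
    rcases Int.even_or_odd j with he | ho
    · exact Int.even_iff.1 he
    · exfalso
      have h1 : Odd (j * l) := ho.mul (Int.odd_iff.2 hlodd)
      rw [← hl, hkk] at h1
      push_cast at h1
      rw [Int.odd_iff] at h1
      omega
  have hj2 : 2 ≤ j := by omega
  -- the discriminant
  set p := (2 * j + d) * l with hp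
  set Q := p ^ 2 - 16 * (k : ℤ) with hQ
  have hEQ : e2 * e3 * Q = d * x * p ^ 2 := by
    have h : 3 * (I : ℤ) * (x * (e2 * e3) + d * (e2 * e3) + x * (e3 + e2)) = 32 * k * (x * (e2 * e3)) := by
      have hx0 : (x : ℚ) ≠ 0 := by exact_mod_cast (by omega : x ≠ 0)
      have h2 : (e2 : ℚ) ≠ 0 := by exact_mod_cast he2
      have h3 : (e3 : ℚ) ≠ 0 := by exact_mod_cast he3
      field_simp at hS
      have : ((3 * (I : ℤ) * (x * (e2 * e3) + d * (e2 * e3) + x * (e3 + e2)) : ℤ) : ℚ) =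
          ((32 * k * (x * (e2 * e3)) : ℤ) : ℚ) := by
        push_cast
        linear_combination hS
      exact_mod_cast this
    rw [hI3, show e3 + e2 = -(1 + d * x) by linarith] at h
    have hx0 : x ≠ 0 := by omega
    refine mul_left_cancel₀ (mul_ne_zero two_ne_zero hx0) ?_
    subst hj
    rw [hQ, hp]
    rcases hd with rfl | rfl <;> linear_combination h
  have hDQ : (e2 - e3) ^ 2 * Q = (4 * (2 * j + d) * ((k : ℤ) - 1)) ^ 2 := by
    have hsum : e2 + e3 = -(2 * d * (2 * j + d)) := by subst hj; linear_combination hR + hd2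
    have e : (e2 - e3) ^ 2 * Q = (e2 + e3) ^ 2 * Q - 4 * (e2 * e3 * Q) := by ring
    rw [e, hsum, hEQ, hQ, hp]
    subst hj
    rcases hd with rfl | rfl
    · linear_combination (-16) * (2 * j + 1) ^ 2 * (1 + (k : ℤ) + j * l) * hl
    · linear_combination (-16) * (2 * j - 1) ^ 2 * (1 + (k : ℤ) + j * l) * hl
  by_cases hk1 : k = 1
  · -- the index of the reflection centralizer is one
    subst hk1
    have hj' : j = 2 ∧ l = 1 := by
      have h1 : j * l = 2 := by rw [← hl]; norm_num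
      have : j ≤ 2 := by nlinarith
      have hj' : j = 2 := by omega
      subst hj'
      omega
    obtain ⟨rfl, rfl⟩ := hj'
    rcases hd with rfl | rfl
    · exact Or.inr (Or.inl ⟨rfl, by omega, rfl, by omega⟩)
    · exact Or.inl ⟨rfl, by omega⟩
  have hk3 : 3 ≤ (k : ℤ) := by omega
  -- the discriminant is a square
  obtain ⟨R, hR0, hRQ⟩ : ∃ R : ℤ, 0 ≤ R ∧ R ^ 2 = Q := by
    have hn : e2 - e3 ≠ 0 := by
      intro h
      rw [h] at hDQ
      have h0 : 4 * (2 * j + d) * ((k : ℤ) - 1) = 0 := by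
        have : (4 * (2 * j + d) * ((k : ℤ) - 1)) ^ 2 = 0 := by rw [← hDQ]; ring
        exact pow_eq_zero_iff two_ne_zero |>.1 this
      have : 0 < 4 * (2 * j + d) * ((k : ℤ) - 1) := by
        rcases hd with rfl | rfl <;> exact mul_pos (by omega) (by omega)
      omega
    obtain ⟨q, hq⟩ : (e2 - e3) ∣ 4 * (2 * j + d) * ((k : ℤ) - 1) :=
      (Int.pow_dvd_pow_iff (n := 2) (by norm_num)).1 ⟨Q, hDQ.symm⟩
    refine ⟨|q|, abs_nonneg q, ?_⟩
    rw [sq_abs]
    refine mul_left_cancel₀ (pow_ne_zero 2 hn) ?_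
    rw [← mul_pow, ← hq, hDQ]
  -- the difference `p - R`
  have hp0 : 0 < p := mul_pos (by rcases hd with rfl | rfl <;> omega) (by omega)
  have hjl : j * l = 1 + (k : ℤ) := hl.symm
  have hpodd : p % 2 = 1 := by
    rw [hp, Int.mul_emod, hlodd, show (2 * j + d) % 2 = 1 by rcases hd with rfl | rfl <;> omega]
    norm_num
  have hRodd : R % 2 = 1 := by
    have h : R ^ 2 % 2 = 1 := by
      rw [hRQ, hQ, Int.sub_emod, pow_two, Int.mul_emod, hpodd]
      norm_num [Int.mul_emod]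
    rcases Int.even_or_odd R with ⟨r, hr⟩ | ho
    · exfalso; rw [hr] at h; ring_nf at h; omega
    · exact Int.odd_iff.1 ho
  have hlt : R < p := by
    have : R ^ 2 < p ^ 2 := by rw [hRQ, hQ]; linarith
    nlinarith
  obtain ⟨s, hs⟩ : ∃ s, p - R = 2 * s := ⟨(p - R) / 2, by omega⟩
  have hs1 : 1 ≤ s := by omega
  have hsp : 2 * s ≤ p := by omega
  have hsk : s * (p - s) = 4 * (k : ℤ) := by
    have : R = p - 2 * s := by omega
    rw [this, hQ] at hRQ
    refine mul_left_cancel₀ (show (4 : ℤ) ≠ 0 by norm_num) ?_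
    linear_combination -hRQ
  rcases hd with rfl | rfl
  · -- `d = 1`
    exfalso
    have hpv : p = 2 * (1 + (k : ℤ)) + l := by rw [hp, ← hjl]; ring
    have hl2 : 2 * l ≤ 1 + (k : ℤ) := hjl ▸ mul_le_mul_of_nonneg_right hj2 (by omega)
    rcases eq_or_lt_of_le hs1 with h | h
    · rw [← h] at hsk
      omega
    · have := mul_nonneg (show 0 ≤ s - 2 by omega) (show 0 ≤ p - s - 2 by omega)
      ring_nf at this hsk
      omega
  · -- `d = -1`
    have hpv : p = 2 * (1 + (k : ℤ)) - l := by rw [hp, ← hjl]; ring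
    rcases eq_or_lt_of_le hj2 with hj4 | hj4
    · exact Or.inl ⟨rfl, by omega⟩
    have hj4' : 4 ≤ j := by omega
    have hl4 : 4 * l ≤ 1 + (k : ℤ) := hjl ▸ mul_le_mul_of_nonneg_right hj4' (by omega)
    have hs3 : 3 ≤ s := by
      rcases (show s = 1 ∨ s = 2 ∨ 3 ≤ s by omega) with h | h | h
      · subst h; omega
      · subst h; omega
      · exact h
    have hk9 : (k : ℤ) ≤ 3 := by
      have := mul_nonneg (show 0 ≤ s - 3 by omega) (show 0 ≤ p - s - 3 by omega)
      ring_nf at this hsk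
      omega
    have hk' : k = 3 := by omega
    subst hk'
    push_cast at hl4 hjl
    have hl' : l = 1 := by omega
    subst hl'
    have hj' : j = 4 := by omega
    subst hj'
    exact Or.inr (Or.inr ⟨rfl, by omega, rfl, by omega⟩)

end Cfsg.Agent.GW.S3287Four
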