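import Mathlib
import Cfsg.Agent.Lib.CharTheory.DihedralPrincipal.OrderFormula

/-!
An overgroup of an involution centralizer with a normal `2`-subgroup, Sylow `2`-subgroup dihedral of order at
least eight: the normal subgroup is a four group and the Sylow subgroup has order eight.
-/

set_option autoImplicit false
set_option linter.all false

namespace Cfsg.Agent.GW.S3287Four

open Cfsg.Agent.CharTheory.DihedralPrincipal

universe u

variable {G : Type u} [Group G] [Finite G]

/-- A normal `2`-subgroup lies in every Sylow `2`-subgroup. -/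
theorem normal_le_sylow {K : Type*} [Group K] {N : Subgroup K} [N.Normal] (hN : IsPGroup 2 N)
    (Q : Sylow 2 K) : N ≤ (Q : Subgroup K) :=
  le_sup_left.trans (Q.is_maximal' (hN.to_sup_of_normal_left Q.2) le_sup_right).le

theorem exists_basis {P : Sylow 2 G} {σ τ : G} {k : ℕ} (h : DihSylow P σ τ k) {K : Subgroup G}
    (hlt : Subgroup.centralizer ({σ ^ k} : Set G) < K) (N : Subgroup K) [N.Normal] (hN : N ≠ ⊥)
    (hN2 : IsPGroup 2 N) :
    ∃ u, k = 2 ∧ DihSylow P σ u 2 ∧ N.map K.subtype ≤ (P : Subgroup G) ∧ u ∈ N.map K.subtype ∧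
      σ ∉ N.map K.subtype := by
  haveI := Fintype.ofFinite G
  haveI := Fintype.ofFinite (Cfsg.IrrCharacter G)
  have hk := h.two_le
  have hPK : (P : Subgroup G) ≤ K := h.sylow_le.trans hlt.le
  set NG := N.map K.subtype with hNG
  have hNP : NG ≤ (P : Subgroup G) := by
    rintro x ⟨y, hy, rfl⟩
    exact normal_le_sylow hN2 (P.subtype hPK) hy
  have hconj : ∀ g ∈ K, ∀ x ∈ NG, g * x * g⁻¹ ∈ NG := by
    rintro g hg x ⟨y, hy, rfl⟩
    exact ⟨⟨g, hg⟩ * y * ⟨g, hg⟩⁻¹, Subgroup.Normal.conj_mem inferInstance y hy _, rfl⟩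
  have hnot : ¬ K ≤ Subgroup.centralizer ({σ ^ k} : Set G) := not_le_of_gt hlt
  -- no rotation of order above two
  have hrot : ∀ x ∈ NG, x ∈ Subgroup.zpowers σ → orderOf x ≤ 2 := fun x hx hxσ => by
    by_contra ho
    rw [not_le] at ho
    refine hnot fun g hg => Subgroup.mem_centralizer_singleton_iff.2 ?_
    have hy := hconj g hg x hx
    have hoy : orderOf (g * x * g⁻¹) = orderOf x := BlockCharsA.RegularPart.orderOf_conj' _ _
    have hyσ : g * x * g⁻¹ ∈ Subgroup.zpowers σ := by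
      obtain ⟨i, hi | hi⟩ := h.cases _ (hNP hy)
      · exact DihSylow.mem_of_pow i hi
      · rw [hi, h.orderOf_refl i] at hoy; omega
    have hx1 : x ≠ 1 := fun e => by rw [e, orderOf_one] at ho; omega
    have hy1 : g * x * g⁻¹ ≠ 1 := fun e => by rw [e, orderOf_one] at hoy; omega
    have e1 := (h.pow_half hxσ hx1).2
    have e2 := (h.pow_half hyσ hy1).2
    rw [hoy, conj_pow, e1] at e2
    exact mul_inv_eq_iff_eq_mul.1 e2
  -- a reflection
  obtain ⟨i, hi⟩ : ∃ i, σ ^ i * τ ∈ NG := by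
    by_contra hno
    push Not at hno
    have hσN : ∀ x ∈ NG, x ∈ Subgroup.zpowers σ := fun x hx => by
      obtain ⟨i, hi | hi⟩ := h.cases _ (hNP hx)
      · exact DihSylow.mem_of_pow i hi
      · exact absurd (hi ▸ hx) (hno i)
    have hJ : σ ^ k ∈ NG := by
      obtain ⟨y, hy, hy1⟩ := (Subgroup.bot_or_exists_ne_one N).resolve_left hN
      have hx : (y : G) ∈ NG := ⟨y, hy, rfl⟩
      rw [← (h.pow_half (hσN _ hx) (fun e => hy1 (Subtype.ext e))).2]
      exact pow_mem hx _
    refine hnot fun g hg => Subgroup.mem_centralizer_singleton_iff.2 ?_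
    have hy := hconj g hg _ hJ
    have hoy : orderOf (g * σ ^ k * g⁻¹) = 2 :=
      (BlockCharsA.RegularPart.orderOf_conj' _ _).trans h.orderOf_J
    have e2 := (h.pow_half (hσN _ hy) (fun e => by rw [e, orderOf_one] at hoy; omega)).2
    rw [hoy, Nat.div_self two_pos, pow_one] at e2
    exact mul_inv_eq_iff_eq_mul.1 e2
  have hrel : σ ^ i * τ * σ * (σ ^ i * τ)⁻¹ = σ⁻¹ := by
    calc σ ^ i * τ * σ * (σ ^ i * τ)⁻¹ = σ ^ i * (τ * σ * τ⁻¹) * (σ ^ i)⁻¹ := by group
      _ = σ⁻¹ := by rw [h.rel]; group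
  have h2 : σ ^ 2 ∈ NG := by
    have e := mul_mem (hconj σ (hPK h.σ_mem) _ hi) (inv_mem hi)
    rw [show σ * (σ ^ i * τ) * σ⁻¹ = σ ^ (i + 2 * 1) * τ by
      have := h.conj_refl i 1; rwa [pow_one] at this] at e
    rw [show σ ^ 2 = σ ^ (i + 2 * 1) * τ * (σ ^ i * τ)⁻¹ by group]
    exact e
  have hk2 : k = 2 := by
    have ho := hrot _ h2 (pow_mem (Subgroup.mem_zpowers σ) 2)
    rw [orderOf_pow, h.order_σ, Nat.gcd_eq_right (dvd_mul_right 2 k), Nat.mul_div_cancel_left _ two_pos] at ho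
    omega
  subst hk2
  have hn := h.refl_ne i
  have hu : σ ^ i * τ ∈ (P : Subgroup G) := hNP hi
  refine ⟨σ ^ i * τ, rfl, ⟨h.σ_mem, hu, h.order_σ, h.refl_sq i, hrel, hn, h.even, h.m_pow,
    exists_cases_of_card h.σ_mem hu h.order_σ hn h.card_sylow⟩, hNP, hi, fun hs => ?_⟩
  have := hrot σ hs (Subgroup.mem_zpowers σ)
  rw [h.order_σ] at this
  omega

section Struct

variable {P : Sylow 2 G} {σ τ : G} (h : DihSylow P σ τ 2)

include h in
theorem refl_comm {v : G} (hv : v ∈ (P : Subgroup G)) : Commute (σ ^ 2) v := (h.commute_J hv).symm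

include h in
/-- The centralizer of `J` and a reflection. -/
theorem card_pair {π : Subgroup.centralizer ({σ ^ 2} : Set G) →* (P : Subgroup G)}
    (hπ : ∀ c : Subgroup.centralizer ({σ ^ 2} : Set G), ∀ hc : (c : G) ∈ (P : Subgroup G),
      π c = ⟨c, hc⟩) (i : ℕ) :
    Nat.card (Subgroup.centralizer ({σ ^ 2, σ ^ i * τ} : Set G)) =
      4 * Nat.card (π.ker.map (Subgroup.subtype _) ⊓ Subgroup.centralizer ({σ ^ i * τ} : Set G) :
        Subgroup G) := by
  haveI := Fintype.ofFinite G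
  haveI := Fintype.ofFinite (Cfsg.IrrCharacter G)
  set u := σ ^ i * τ with hu
  set D := Subgroup.centralizer ({σ ^ 2, u} : Set G)
  have huP : u ∈ (P : Subgroup G) := mul_mem (pow_mem h.σ_mem i) h.τ_mem
  have hD : D ≤ Subgroup.centralizer ({σ ^ 2} : Set G) := Subgroup.centralizer_le (by simp)
  have hmem : ∀ z : G, z ∈ D ↔ Commute (σ ^ 2) z ∧ Commute u z := fun z => by
    simp [D, Subgroup.mem_centralizer_iff, Commute, SemiconjBy]
  set ρ := π.comp (Subgroup.inclusion hD) with hρ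
  have hJD : σ ^ 2 ∈ D := (hmem _).2 ⟨Commute.refl _, (refl_comm h huP).symm⟩
  have huD : u ∈ D := (hmem _).2 ⟨refl_comm h huP, Commute.refl _⟩
  have hr : Nat.card ρ.range = 4 := by
    have hd : Nat.card ρ.range ∣ 8 := by
      have := ρ.range.card_subgroup_dvd_card
      rwa [h.card_sylow] at this
    have hne : ρ.range ≠ ⊤ := fun e => by
      obtain ⟨z, hz⟩ := e ▸ Subgroup.mem_top (⟨σ, h.σ_mem⟩ : (P : Subgroup G))
      have e1 : π (Subgroup.inclusion hD z) * π ⟨u, h.sylow_le huP⟩ =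
          π ⟨u, h.sylow_le huP⟩ * π (Subgroup.inclusion hD z) := by
        rw [← map_mul, ← map_mul]
        exact congrArg π (Subtype.ext ((hmem _).1 z.2).2.symm.eq)
      rw [hπ ⟨u, h.sylow_le huP⟩ huP, show π (Subgroup.inclusion hD z) = ⟨σ, h.σ_mem⟩ from hz] at e1
      have e2 : σ * u = u * σ := congrArg Subtype.val e1
      have e3 := h.conj_refl i 1
      rw [pow_one, ← hu, e2, mul_inv_cancel_right, hu] at e3
      have e4 : σ ^ i = σ ^ (i + 2 * 1) := mul_right_cancel e3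
      rw [pow_add, left_eq_mul] at e4
      exact h.J_ne_one e4
    have hlt8 : Nat.card ρ.range ≠ 8 := fun e => hne (Subgroup.eq_top_of_card_eq _ (e.trans h.card_sylow.symm))
    have h3 : 3 ≤ Nat.card ρ.range := by
      haveI := Fintype.ofFinite ρ.range
      rw [Nat.card_eq_fintype_card]
      have hJ1 : (⟨σ ^ 2, pow_mem h.σ_mem 2⟩ : (P : Subgroup G)) ∈ ρ.range :=
        ⟨⟨σ ^ 2, hJD⟩, hπ _ (pow_mem h.σ_mem 2)⟩
      have hu1 : (⟨u, huP⟩ : (P : Subgroup G)) ∈ ρ.range := ⟨⟨u, huD⟩, hπ _ huP⟩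
      refine Fintype.two_lt_card_iff.2 ⟨1, ⟨_, hJ1⟩, ⟨_, hu1⟩, fun e => ?_, fun e => ?_, fun e => ?_⟩
      · exact h.J_ne_one (congrArg (fun z : ρ.range => ((z : (P : Subgroup G)) : G)) e).symm
      · have e' : (1 : G) = σ ^ i * τ := congrArg (fun z : ρ.range => ((z : (P : Subgroup G)) : G)) e
        exact h.refl_ne i (e' ▸ one_mem _)
      · have e' : σ ^ 2 = σ ^ i * τ := congrArg (fun z : ρ.range => ((z : (P : Subgroup G)) : G)) e
        exact h.refl_ne i (e' ▸ pow_mem (Subgroup.mem_zpowers σ) 2)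
    have := Nat.le_of_dvd (by norm_num) hd
    interval_cases hc : Nat.card ρ.range <;> omega
  have hk : ρ.ker.map D.subtype =
      (π.ker.map (Subgroup.subtype _) ⊓ Subgroup.centralizer ({u} : Set G) : Subgroup G) := by
    ext z
    constructor
    · rintro ⟨w, hw, rfl⟩
      exact ⟨⟨Subgroup.inclusion hD w, hw, rfl⟩,
        Subgroup.mem_centralizer_singleton_iff.2 ((hmem _).1 w.2).2.symm.eq⟩
    · rintro ⟨⟨w, hw, rfl⟩, hz⟩
      have hwD : (w : G) ∈ D := (hmem _).2
        ⟨(show Commute (w : G) (σ ^ 2) from Subgroup.mem_centralizer_singleton_iff.1 w.2).symm,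
          (show Commute (w : G) u from Subgroup.mem_centralizer_singleton_iff.1 hz).symm⟩
      exact ⟨⟨w, hwD⟩, hw, rfl⟩
  rw [← ρ.ker.card_mul_index, Subgroup.index_ker, hr, ← hk,
    Subgroup.card_map_of_injective (Subgroup.subtype_injective D), mul_comm]

include h in
/-- The structure of the overgroup. -/
theorem exists_struct {K : Subgroup G} (hlt : Subgroup.centralizer ({σ ^ 2} : Set G) < K)
    {N : Subgroup K} [N.Normal] (hNP : N.map K.subtype ≤ (P : Subgroup G))
    (hτ : τ ∈ N.map K.subtype) (hσ : σ ∉ N.map K.subtype) :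
    ∃ O : Subgroup G, Odd (Nat.card O) ∧
      (∀ y ∈ O, ¬ 2 ∣ orderOf y ∧ Commute (σ ^ 2) y ∧ Commute τ y) ∧
      Nat.card (Subgroup.centralizer ({σ ^ 2} : Set G)) = 8 * Nat.card O ∧
      Nat.card (Subgroup.centralizer ({σ ^ 2, τ} : Set G)) = 4 * Nat.card O ∧
      Nat.card (Subgroup.centralizer ({σ ^ 2, σ * τ} : Set G)) =
        4 * Nat.card (O ⊓ Subgroup.centralizer ({σ * τ} : Set G) : Subgroup G) ∧
      Nat.card K = 24 * Nat.card O := by
  classical
  haveI := Fintype.ofFinite G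
  haveI := Fintype.ofFinite (Cfsg.IrrCharacter G)
  haveI : Fact (Nat.Prime 2) := ⟨Nat.prime_two⟩
  set J := σ ^ 2 with hJ
  set C := Subgroup.centralizer ({J} : Set G) with hC
  set NG := N.map K.subtype with hNG
  have hPK : (P : Subgroup G) ≤ K := h.sylow_le.trans hlt.le
  have hconj : ∀ g ∈ K, ∀ x ∈ NG, g * x * g⁻¹ ∈ NG := by
    rintro g hg x ⟨y, hy, rfl⟩
    exact ⟨⟨g, hg⟩ * y * ⟨g, hg⟩⁻¹, Subgroup.Normal.conj_mem inferInstance y hy _, rfl⟩
  obtain ⟨π, hπ, hker⟩ := h.exists_retract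
  set O : Subgroup G := π.ker.map C.subtype with hO
  have hodd : ∀ y ∈ O, ¬ 2 ∣ orderOf y := by
    rintro y ⟨c, hc, rfl⟩
    rw [Subgroup.coe_subtype, Subgroup.orderOf_coe]
    exact (hker c).1 hc
  have hoddc : Odd (Nat.card O) := by
    rw [← Nat.not_even_iff_odd, even_iff_two_dvd]
    intro hd
    obtain ⟨y, hy⟩ := exists_prime_orderOf_dvd_card' 2 hd
    exact hodd y y.2 (by rw [Subgroup.orderOf_coe, hy])
  have hJO : ∀ y ∈ O, Commute J y := by
    rintro y ⟨c, hc, rfl⟩
    exact (show Commute (c : G) J from Subgroup.mem_centralizer_singleton_iff.1 c.2).symm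
  have hτO : ∀ y ∈ O, Commute τ y := by
    rintro y ⟨c, hc, rfl⟩
    have hτC : τ ∈ C := h.sylow_le h.τ_mem
    set w : C := c * ⟨τ, hτC⟩ * c⁻¹ * (⟨τ, hτC⟩ : C)⁻¹ with hw
    have hwN : (w : G) ∈ NG := mul_mem (hconj _ (hlt.le c.2) _ hτ) (inv_mem hτ)
    have hw1 : π w = 1 := by
      simp only [hw, map_mul, map_inv, MonoidHom.mem_ker.1 hc, one_mul, inv_one, mul_one, mul_inv_cancel]
    rw [hπ w (hNP hwN)] at hw1
    have h1 : (w : G) = 1 := congrArg Subtype.val hw1
    simp only [hw, Subgroup.coe_mul, Subgroup.coe_inv] at h1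
    exact (mul_inv_eq_iff_eq_mul.1 (mul_inv_eq_one.1 h1)).symm
  have hc : Nat.card C = 8 * Nat.card O := by
    have hsurj : π.range = ⊤ := (Subgroup.eq_top_iff' _).2 fun y => ⟨⟨y, h.sylow_le y.2⟩, hπ _ y.2⟩
    rw [← π.ker.card_mul_index, Subgroup.index_ker, hsurj, Subgroup.card_top, h.card_sylow, hO,
      Subgroup.card_map_of_injective (Subgroup.subtype_injective C), mul_comm]
  have hτc : Nat.card (Subgroup.centralizer ({J, τ} : Set G)) = 4 * Nat.card O := by
    have e := card_pair h hπ 0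
    rw [pow_zero, one_mul] at e
    rw [e, inf_eq_left.2 fun y hy => Subgroup.mem_centralizer_singleton_iff.2 (hτO y hy).symm.eq]
  have hσc : Nat.card (Subgroup.centralizer ({J, σ * τ} : Set G)) =
      4 * Nat.card (O ⊓ Subgroup.centralizer ({σ * τ} : Set G) : Subgroup G) := by
    have e := card_pair h hπ 1
    rwa [pow_one] at e
  have hσ4 : σ ^ 4 = 1 := by
    have := pow_orderOf_eq_one σ
    rwa [h.order_σ] at this
  -- the three conjugates of `J`
  have hinv : ∀ x ∈ NG, orderOf x = 2 → x = J ∨ x = τ ∨ x = J * τ := by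
    intro x hx ho
    have hσ3 : σ ^ 3 ∉ NG := fun h3 => hσ (by
      have := pow_mem h3 3
      rwa [← pow_mul, show 3 * 3 = 2 * 4 + 1 by norm_num, pow_add, pow_one, pow_mul',
        hσ4, one_pow, one_mul] at this)
    obtain ⟨i, hi | hi⟩ := h.cases x (hNP hx) <;>
      rw [← h.pow_mod i] at hi <;>
      obtain e | e | e | e : i % (2 * 2) = 0 ∨ i % (2 * 2) = 1 ∨ i % (2 * 2) = 2 ∨ i % (2 * 2) = 3 := by omega
    all_goals rw [e] at hi; try simp only [pow_zero, pow_one, one_mul] at hi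
    · rw [hi, orderOf_one] at ho; omega
    · exact absurd (hi ▸ hx) hσ
    · exact Or.inl hi
    · exact absurd (hi ▸ hx) hσ3
    · exact Or.inr (Or.inl hi)
    · refine absurd ?_ hσ
      have := mul_mem (hi ▸ hx) (inv_mem hτ)
      rwa [mul_inv_cancel_right] at this
    · exact Or.inr (Or.inr hi)
    · refine absurd ?_ hσ3
      have := mul_mem (hi ▸ hx) (inv_mem hτ)
      rwa [mul_inv_cancel_right] at this
  have hJN : J ∈ NG := by
    have e := mul_mem (hconj σ (hPK h.σ_mem) _ hτ) (inv_mem hτ)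
    have e1 := h.conj_refl 0 1
    rw [pow_zero, one_mul, pow_one, zero_add, mul_one] at e1
    rwa [e1, mul_inv_cancel_right] at e
  let f : K → G := fun g => (g : G) * J * (g : G)⁻¹
  have hfN : ∀ g, f g ∈ NG ∧ orderOf (f g) = 2 := fun g =>
    ⟨hconj g g.2 J hJN, (BlockCharsA.RegularPart.orderOf_conj' _ _).trans h.orderOf_J⟩
  have hfeq : ∀ a b : K, f a = f b ↔ a⁻¹ * b ∈ C.subgroupOf K := fun a b => by
    simp only [f, Subgroup.mem_subgroupOf, hC, Subgroup.mem_centralizer_singleton_iff,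
      Subgroup.coe_mul, Subgroup.coe_inv]
    constructor
    · intro e
      calc (a : G)⁻¹ * b * J = (a : G)⁻¹ * (b * J * (b : G)⁻¹) * b := by group
        _ = J * ((a : G)⁻¹ * b) := by rw [← e]; group
    · intro e
      calc (a : G) * J * (a : G)⁻¹ = a * (J * ((a : G)⁻¹ * b)) * (b : G)⁻¹ := by group
        _ = b * J * (b : G)⁻¹ := by rw [← e]; group
  let f' : K ⧸ C.subgroupOf K → G := Quotient.lift f fun a b hab =>
    (hfeq a b).2 (QuotientGroup.leftRel_apply.1 hab)
  have hinj : Function.Injective f' := by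
    intro x y
    induction x using Quotient.inductionOn with
    | _ a => induction y using Quotient.inductionOn with
      | _ b => exact fun e => Quotient.sound (QuotientGroup.leftRel_apply.2 ((hfeq a b).1 e))
  have hswap : ∀ x : G, x = τ ∨ x = J * τ → σ * x * σ⁻¹ ≠ x ∧ (σ * x * σ⁻¹ = τ ∨ σ * x * σ⁻¹ = J * τ) := by
    rintro x (rfl | rfl)
    · have e1 := h.conj_refl 0 1
      rw [pow_zero, one_mul, pow_one, zero_add, mul_one] at e1
      rw [e1]
      refine ⟨fun e => h.J_ne_one ?_, Or.inr rfl⟩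
      exact mul_eq_right.1 e
    · have e1 := h.conj_refl 2 1
      rw [pow_one, show 2 + 2 * 1 = 4 by norm_num, hσ4,
        one_mul] at e1
      rw [e1]
      exact ⟨fun e => h.J_ne_one (mul_eq_right.1 e.symm), Or.inl rfl⟩
  have hrange : Set.range f' = ({J, τ, J * τ} : Set G) := by
    refine Set.Subset.antisymm ?_ ?_
    · rintro _ ⟨x, rfl⟩
      induction x using Quotient.inductionOn with
      | _ a =>
        show f a ∈ ({J, τ, J * τ} : Set G)
        simpa using hinv _ (hfN a).1 (hfN a).2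
    · obtain ⟨g, hgK, hgC⟩ := Set.exists_of_ssubset hlt
      have hg : f ⟨g, hgK⟩ ≠ J := fun e => hgC
        (Subgroup.mem_centralizer_singleton_iff.2 (mul_inv_eq_iff_eq_mul.1 e))
      have hcases := (hinv _ (hfN ⟨g, hgK⟩).1 (hfN ⟨g, hgK⟩).2).resolve_left hg
      obtain ⟨hne, hcases'⟩ := hswap _ hcases
      have hσg : f (⟨σ, hPK h.σ_mem⟩ * ⟨g, hgK⟩) = σ * f ⟨g, hgK⟩ * σ⁻¹ := by
        simp only [f, Subgroup.coe_mul]; group
      rw [← hσg] at hne hcases'
      have hmem : ∀ a, f a ∈ Set.range f' := fun a => ⟨⟦a⟧, rfl⟩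
      intro x hx
      simp only [Set.mem_insert_iff, Set.mem_singleton_iff] at hx
      rcases hx with rfl | hx
      · exact ⟨⟦1⟧, by show f 1 = J; simp [f]⟩
      · rcases hcases with e | e <;> rcases hcases' with e' | e'
        · exact absurd (e'.trans e.symm) hne
        · rcases hx with rfl | rfl
          · exact e ▸ hmem _
          · exact e' ▸ hmem _
        · rcases hx with rfl | rfl
          · exact e' ▸ hmem _
          · exact e ▸ hmem _
        · exact absurd (e'.trans e.symm) hne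
  have hK : Nat.card K = 24 * Nat.card O := by
    have h3 : ({J, τ, J * τ} : Set G).ncard = 3 := by
      have h1 : J ≠ τ := fun e => h.τ_notMem (e ▸ pow_mem (Subgroup.mem_zpowers σ) 2)
      have h2 : J ≠ J * τ := fun e => h.τ_notMem (by
        rw [left_eq_mul.1 e]; exact one_mem _)
      have h3 : τ ≠ J * τ := fun e => h.J_ne_one (mul_eq_right.1 e.symm)
      exact Set.ncard_eq_three.2 ⟨J, τ, J * τ, h1, h2, h3, rfl⟩
    have hidx : (C.subgroupOf K).index = 3 := by
      rw [Subgroup.index_eq_card, ← Nat.card_range_of_injective hinj, hrange,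
        Nat.card_coe_set_eq, h3]
    rw [← (C.subgroupOf K).card_mul_index, hidx,
      Nat.card_congr (Subgroup.subgroupOfEquivOfLe hlt.le).toEquiv, hc]
    ring
  exact ⟨O, hoddc, fun y hy => ⟨hodd y hy, hJO y hy, hτO y hy⟩, hc, hτc, hσc, hK⟩

end Struct

end Cfsg.Agent.GW.S3287Four
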