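import Mathlib
import Cfsg.Agent.Lib.GW.OrderBounds
import Cfsg.Agent.Lib.GW.SigmaIdentity
import Cfsg.Agent.Lib.GW.S3287FourArith
import Cfsg.Agent.Lib.GW.S3287FourChar
import Cfsg.Agent.Lib.GW.S3287FourStruct

/-!
The three possible orders of a simple group with Sylow `2`-subgroup dihedral of order eight and an overgroup of an
involution centralizer normalizing a four group.
-/

set_option autoImplicit false
set_option linter.all false

namespace Cfsg.Agent.GW.S3287Four

open Cfsg.Agent.CharTheory.DihedralPrincipal Cfsg.Agent.Blocks Cfsg.Agent.Characters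

universe u

variable {G : Type u} [Group G]

theorem order_cases [Finite G] [IsSimpleGroup G] (hG : ¬ IsMulCommutative G) {P : Sylow 2 G} {σ τ : G}
    (h : DihSylow P σ τ 2) (hone : ∀ u v : G, orderOf u = 2 → orderOf v = 2 → IsConj u v)
    {K : Subgroup G} (hlt : Subgroup.centralizer ({σ ^ 2} : Set G) < K) {N : Subgroup K} [N.Normal]
    (hNP : N.map K.subtype ≤ (P : Subgroup G)) (hτ : τ ∈ N.map K.subtype) (hσ : σ ∉ N.map K.subtype) :
    Nat.card G = 168 ∨ Nat.card G = 360 ∨ Nat.card G = 2520 := by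
  classical
  haveI := Fintype.ofFinite G
  haveI := Fintype.ofFinite (Cfsg.IrrCharacter G)
  haveI : Fact (Nat.Prime 2) := ⟨Nat.prime_two⟩
  obtain ⟨M, hM⟩ := BlockCharsA.DefectZeroVanish.exists_modular Nat.prime_two
  obtain ⟨ζ, hζ⟩ : ∃ ζ : ℂ, IsPrimitiveRoot ζ (2 * 2) :=
    ⟨_, Complex.isPrimitiveRoot_exp (2 * 2) (by omega)⟩
  obtain ⟨c1, c2, c3, d1, d2, d3, X, T⟩ := exists_principal h hM hζ
  obtain ⟨hc1, hc2⟩ := OrderBounds.conj_of_one_class h hone
  obtain ⟨O, hO, hOy, hc, hcτ, hcσ, hK⟩ := exists_struct h hlt hNP hτ hσ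
  set A : Subgroup G := O ⊓ Subgroup.centralizer ({σ * τ} : Set G) with hA
  obtain ⟨k, hk⟩ : Nat.card A ∣ Nat.card O := Subgroup.card_dvd_of_le inf_le_left
  have hkodd : Odd k := Nat.Odd.of_mul_right (hk ▸ hO)
  set I := K.index with hI
  have hPK : (P : Subgroup G) ≤ K := h.sylow_le.trans hlt.le
  have hIodd : Odd I := by
    rw [← Nat.not_even_iff_odd, even_iff_two_dvd]
    exact fun hd => P.not_dvd_index (hd.trans (Subgroup.index_dvd_of_le hPK))
  have hcard : Nat.card G = 24 * Nat.card O * I := by rw [← K.card_mul_index, hK]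
  -- the two identities
  have key := order_formula h hM hζ hc1 hc2 T
  have key2 := sigma_identity h hM hζ hc1 hc2 T
  simp only at key key2
  rw [hc, hcτ, hcσ, hcard] at key key2
  obtain ⟨hreg, hregX⟩ := T.reg 1 (by simp)
  have hx := hregX 1 one_pos (by omega)
  rw [← charDegree_cast c1, ← charDegree_cast (X 1)] at key hx
  rw [← charDegree_cast c1, ← charDegree_cast c2, ← charDegree_cast c3] at key2 hreg
  set x := Cfsg.charDegree (c1 : G → ℂ) with hxdef
  set y := Cfsg.charDegree ((X 1 : Cfsg.IrrCharacter G) : G → ℂ)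
  set x2 := Cfsg.charDegree (c2 : G → ℂ)
  set x3 := Cfsg.charDegree (c3 : G → ℂ)
  have hxp : 0 < x := charDegree_pos c1
  have hyp : (0 : ℚ) < y := Nat.cast_pos.2 (charDegree_pos (X 1))
  have hx1 : x ≠ 1 := fun e => by
    have hχ1 : (c1 : G → ℂ) 1 = 1 := by rw [← charDegree_cast, ← hxdef, e, Nat.cast_one]
    refine T.ne1 (Subtype.ext (funext fun g => ?_))
    rw [← linearOfDegreeOne_apply (irr_isCharacter c1) hχ1 g, SmallSimple.Basic.hom_eq_one hG]
    simp [trivIrr]
  have hmod : ∃ j : ℤ, (x : ℤ) = d1 + 4 * j := by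
    obtain ⟨u, -, hu⟩ := DihSylow.exists_mult hζ h c1
    have e0 := hu 0 (Nat.zero_le _)
    rw [Finset.sum_congr rfl fun l _ => show gv ζ 0 l * (c1 : G → ℂ) (σ ^ l) =
        2 * (c1 : G → ℂ) (σ ^ l) by simp only [gv, Nat.zero_mul, pow_zero, inv_one]; norm_num,
      ← Finset.mul_sum, show 2 * 2 = 3 + 1 from rfl, Finset.sum_range_succ', pow_zero, ← charDegree_cast c1,
      Finset.sum_congr rfl fun l hl => T.val1 (l + 1) (by omega)
        (by have := Finset.mem_range.1 hl; omega),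
      Finset.sum_const, Finset.card_range, nsmul_eq_mul, ← hxdef] at e0
    have e1 : (4 : ℤ) * 2 * u 0 = 2 * (3 * d1 + x) := by exact_mod_cast e0
    exact ⟨u 0 - d1, by linarith⟩
  have hd1 : d1 = 1 ∨ d1 = -1 := mul_self_eq_one_iff.1 T.sq1
  have hxq : (d1 : ℚ) * y = 1 + d1 * x := by
    have : (((d1 : ℚ) * y : ℚ) : ℂ) = ((1 + d1 * x : ℚ) : ℂ) := by push_cast; exact hx
    exact_mod_cast this
  have hy : (y : ℚ) = x + d1 := by
    rcases hd1 with e | e <;> rw [e] at hxq ⊢ <;> push_cast at hxq ⊢ <;> linarith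
  set o := Nat.card O with ho
  set a := Nat.card A with ha
  have hop : (0 : ℚ) < o := Nat.cast_pos.2 Nat.card_pos
  have hap : (0 : ℚ) < a := Nat.cast_pos.2 Nat.card_pos
  have hok : (o : ℚ) = a * k := by exact_mod_cast hk
  have eτ : (8 : ℚ) * o / (4 * o) = 2 := by field_simp; norm_num
  have eσ : (8 : ℚ) * o / (4 * a) = 2 * k := by rw [hok]; field_simp; ring
  have eI : (24 : ℚ) * o * I / (8 * o) = 3 * I := by field_simp; ring
  have kq : (24 * o * I : ℚ) / (8 * o) * (-1 - (d1 : ℚ) / x + 4 * d1 / y) =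
      -2 * ((8 * o : ℚ) / (4 * o) + 8 * o / (4 * a)) ^ 2 := by
    apply (Rat.cast_injective (α := ℂ))
    push_cast at key ⊢
    exact key
  have kS : (24 * o * I : ℚ) / (8 * o) * (1 + (d1 : ℚ) / x + (d2 : ℚ) / x2 + (d3 : ℚ) / x3) =
      8 * ((8 * o : ℚ) / (4 * o)) * (8 * o / (4 * a)) := by
    apply (Rat.cast_injective (α := ℂ))
    push_cast at key2 ⊢
    exact key2
  rw [eτ, eσ, eI] at kq kS
  have hxq0 : (0 : ℚ) < x := Nat.cast_pos.2 hxp
  have hxd : (0 : ℚ) < x + d1 := hy ▸ hyp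
  have hF : 3 * (I : ℚ) * (((x : ℤ) : ℚ) - d1) ^ 2 = 8 * (1 + (k : ℚ)) ^ 2 * ((x : ℤ) : ℚ) *
      (((x : ℤ) : ℚ) + d1) := by
    push_cast
    have e3 : -1 - (d1 : ℚ) / x + 4 * d1 / y = -((x : ℚ) - d1) ^ 2 / ((x : ℚ) * (x + d1)) := by
      rw [hy]
      have : (d1 : ℚ) * d1 = 1 := by exact_mod_cast T.sq1
      field_simp
      linear_combination (0 : ℚ) * this
    rw [e3, mul_div_assoc', div_eq_iff (by positivity)] at kq
    linear_combination -kq
  have hinv : ∀ (d : ℤ) (n : ℕ), d * d = 1 → 1 / ((d * n : ℤ) : ℚ) = (d : ℚ) / n := fun d n hd => by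
    rcases mul_self_eq_one_iff.1 hd with rfl | rfl <;> push_cast
    · rw [one_mul]
    · rw [neg_one_mul, one_div_neg_eq_neg_one_div, neg_div]
  have hS : 3 * (I : ℚ) * (1 + (d1 : ℚ) / ((x : ℤ) : ℚ) + 1 / ((d2 * x2 : ℤ) : ℚ) + 1 / ((d3 * x3 : ℤ) : ℚ)) =
      32 * k := by
    rw [hinv d2 x2 T.sq2, hinv d3 x3 T.sq3]
    push_cast
    linear_combination kS
  have hR : 1 + d1 * (x : ℤ) + d2 * (x2 : ℤ) + d3 * (x3 : ℤ) = 0 := by exact_mod_cast hreg
  have hne : ∀ (d : ℤ) (χ : Cfsg.IrrCharacter G), d * d = 1 → d * (Cfsg.charDegree (χ : G → ℂ) : ℤ) ≠ 0 :=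
    fun d χ hd => mul_ne_zero (fun e => by rw [e] at hd; norm_num at hd)
      (by exact_mod_cast (charDegree_pos χ).ne')
  have harith := arith (I := I) (k := k) hd1 (show (2 : ℤ) ≤ x by omega) hmod hIodd hkodd (hne d2 c2 T.sq2)
    (hne d3 c3 T.sq3) hR hF hS
  -- consequences of small degree
  have small : ∀ (R : Subgroup G), R ≤ (P : Subgroup G) → x < 2 * Nat.card R →
      ∀ y : G, ¬ 2 ∣ orderOf y → (∀ v ∈ R, Commute v y) → y = 1 := fun R hR hlt y hy hcm =>
    eq_one_of_small h hM hζ hc1 hc2 T R hR (fun d hd => by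
      rw [← charDegree_cast, ← hxdef] at hd
      have : x = d := by exact_mod_cast hd
      omega) hy hcm
  have hJy : ∀ y ∈ O, ∀ i : ℕ, Commute ((σ ^ 2) ^ i) y := fun y hy i => (hOy y hy).2.1.pow_left i
  rcases harith with ⟨hd, hx⟩ | ⟨-, hx, hk1, hI15⟩ | ⟨-, hx, hk3, hI35⟩
  · -- `x = 7`
    left
    set V : Subgroup G := Subgroup.zpowers (σ ^ 2) ⊔ Subgroup.zpowers τ with hV
    have hVP : V ≤ (P : Subgroup G) :=
      sup_le (Subgroup.zpowers_le.2 (pow_mem h.σ_mem 2)) (Subgroup.zpowers_le.2 h.τ_mem)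
    have hV4 : 4 ≤ Nat.card V := by
      have hd : Nat.card V ∣ 8 := by
        have := Subgroup.card_dvd_of_le hVP
        rwa [h.card_sylow] at this
      have h3 : 3 ≤ Nat.card V := by
        rw [Nat.card_eq_fintype_card]
        refine Fintype.two_lt_card_iff.2 ⟨1, ⟨σ ^ 2, Subgroup.mem_sup_left (Subgroup.mem_zpowers _)⟩,
          ⟨τ, Subgroup.mem_sup_right (Subgroup.mem_zpowers _)⟩, fun e => ?_, fun e => ?_, fun e => ?_⟩
        · exact h.J_ne_one (congrArg Subtype.val e).symm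
        · have e' : (1 : G) = τ := congrArg Subtype.val e
          exact h.τ_notMem (e' ▸ one_mem _)
        · have e' : σ ^ 2 = τ := congrArg Subtype.val e
          exact h.τ_notMem (e' ▸ pow_mem (Subgroup.mem_zpowers σ) 2)
      have := Nat.le_of_dvd (by norm_num) hd
      interval_cases hc : Nat.card V <;> omega
    have hO1 : o = 1 := by
      rw [ho, Subgroup.card_eq_one, Subgroup.eq_bot_iff_forall]
      intro y hy
      refine small V hVP (by omega) y (hOy y hy).1 fun v hv => ?_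
      have hle : V ≤ Subgroup.centralizer ({y} : Set G) :=
        sup_le (Subgroup.zpowers_le.2 (Subgroup.mem_centralizer_singleton_iff.2 (hOy y hy).2.1.eq))
          (Subgroup.zpowers_le.2 (Subgroup.mem_centralizer_singleton_iff.2 (hOy y hy).2.2.eq))
      exact Subgroup.mem_centralizer_singleton_iff.1 (hle hv)
    have hk1 : k = 1 := by
      rw [hO1] at hk
      exact Nat.eq_one_of_mul_eq_one_left hk.symm
    rw [hd, hx, hk1] at hF
    norm_num at hF
    have hI7 : I = 7 := by
      have : (I : ℚ) = 7 := by linarith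
      exact_mod_cast this
    rw [hcard, hO1, hI7]
  · -- `x = 9`
    right; left
    have hAO : A = O := Subgroup.eq_of_le_of_card_ge inf_le_left (by rw [← ha, ← ho, hk, hk1, mul_one])
    have hO1 : o = 1 := by
      rw [ho, Subgroup.card_eq_one, Subgroup.eq_bot_iff_forall]
      intro y hy
      refine small P le_rfl (by rw [h.card_sylow]; omega) y (hOy y hy).1 fun v hv => ?_
      have hτy := (hOy y hy).2.2
      have hστy : Commute (σ * τ) y :=
        (show Commute y (σ * τ) from Subgroup.mem_centralizer_singleton_iff.1 (hAO.ge hy).2).symm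
      have hσy : Commute σ y := by
        have := hστy.mul_left hτy
        rwa [mul_assoc, h.τ_sq, mul_one] at this
      obtain ⟨i, rfl | rfl⟩ := h.cases v hv
      · exact hσy.pow_left i
      · exact (hσy.pow_left i).mul_left hτy
    rw [hcard, hO1, hI15]
  · -- `x = 15`
    right; right
    have hA1 : a = 1 := by
      rw [ha, Subgroup.card_eq_one, Subgroup.eq_bot_iff_forall]
      intro y hy
      refine small P le_rfl (by rw [h.card_sylow]; omega) y (hOy y hy.1).1 fun v hv => ?_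
      have hτy := (hOy y hy.1).2.2
      have hστy : Commute (σ * τ) y :=
        (show Commute y (σ * τ) from Subgroup.mem_centralizer_singleton_iff.1 hy.2).symm
      have hσy : Commute σ y := by
        have := hστy.mul_left hτy
        rwa [mul_assoc, h.τ_sq, mul_one] at this
      obtain ⟨i, rfl | rfl⟩ := h.cases v hv
      · exact hσy.pow_left i
      · exact (hσy.pow_left i).mul_left hτy
    rw [hcard, hk, hA1, hk3, hI35]

end Cfsg.Agent.GW.S3287Four
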