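import Mathlib
import Cfsg.Prelude.Def_Solvable
import Cfsg.Agent.Lib.GW.S3287FourOrders
import Cfsg.Agent.Lib.SmallSimple.Order360
import Cfsg.Agent.Lib.Classical.Linear
import Cfsg.Agent.S3278
import Cfsg.Agent.S0984
import Cfsg.Agent.S0495

/-!
A simple group with dihedral Sylow `2`-subgroups in which the centralizer of an involution is properly contained in a
subgroup with a nontrivial normal `2`-subgroup is `A₅`, `A₇`, `PSL₃(2)` or `PSL₂(9)`.
-/

set_option autoImplicit false
set_option linter.all false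

namespace Cfsg.Agent.GW.S3287Four

open Cfsg.Agent.CharTheory.DihedralPrincipal

universe u

variable {G : Type u} [Group G] [Finite G] [IsSimpleGroup G]

theorem natCard_psl_three_two :
    Nat.card (Matrix.ProjectiveSpecialLinearGroup (Fin 3) (ZMod 2)) = 168 := by
  haveI : Fact (Nat.Prime 2) := ⟨Nat.prime_two⟩
  have hcard := Classical.Linear.gcd_mul_natCard_PSL_fin (F := ZMod 2) (show 1 ≤ 3 by omega)
  have hSL := Classical.Linear.mul_natCard_SL_fin (F := ZMod 2) (show 1 ≤ 3 by omega)
  rw [ZMod.card, Fin.prod_univ_three] at hSL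
  rw [ZMod.card] at hcard
  norm_num at hSL hcard
  rw [Nat.card_eq_fintype_card]
  omega

theorem natCard_psl_two_nine {F : Type} [Field F] [Fintype F] (hF : Fintype.card F = 9) :
    Nat.card (Matrix.ProjectiveSpecialLinearGroup (Fin 2) F) = 360 := by
  have hcard := Classical.Linear.gcd_mul_natCard_PSL_fin (F := F) (show 1 ≤ 2 by omega)
  have hSL := Classical.Linear.mul_natCard_SL_fin (F := F) (show 1 ≤ 2 by omega)
  rw [hF, Fin.prod_univ_two] at hSL
  rw [hF] at hcard
  norm_num at hSL hcard
  omega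

theorem recognize (h : Nat.card G = 168 ∨ Nat.card G = 360 ∨ Nat.card G = 2520) :
    Nonempty (G ≃* ↥(alternatingGroup (Fin 5))) ∨ Nonempty (G ≃* ↥(alternatingGroup (Fin 7))) ∨
      (∃ (F : Type) (_ : Field F) (_ : Fintype F), Fintype.card F = 2 ∧
        Nonempty (G ≃* Matrix.ProjectiveSpecialLinearGroup (Fin 3) F)) ∨
      (∃ (F : Type) (_ : Field F) (_ : Fintype F), Fintype.card F = 9 ∧
        Nonempty (G ≃* Matrix.ProjectiveSpecialLinearGroup (Fin 2) F)) := by
  rcases h with h | h | h
  · refine Or.inr (Or.inr (Or.inl ?_))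
    haveI : Fact (Nat.Prime 2) := ⟨Nat.prime_two⟩
    haveI : Fact (Nat.Prime 7) := ⟨by norm_num⟩
    haveI := Classical.Linear.isSimpleGroup_PSL_fin (n := 3) (F := ZMod 2) (by omega) (fun e => absurd e (by omega))
    obtain ⟨e1⟩ := S0495.result h (F := ZMod 7) (ZMod.card 7)
    obtain ⟨e2⟩ := S0495.result natCard_psl_three_two (F := ZMod 7) (ZMod.card 7)
    exact ⟨ZMod 2, inferInstance, inferInstance, ZMod.card 2, ⟨e1.trans e2.symm⟩⟩
  · refine Or.inr (Or.inr (Or.inr ?_))
    haveI : Fact (Nat.Prime 3) := ⟨Nat.prime_three⟩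
    letI : Fintype (GaloisField 3 2) := Fintype.ofFinite _
    have hF : Fintype.card (GaloisField 3 2) = 9 := by
      rw [Fintype.card_eq_nat_card, GaloisField.card 3 2 two_ne_zero]; rfl
    haveI := Classical.Linear.isSimpleGroup_PSL_fin (n := 2) (F := GaloisField 3 2) le_rfl (fun _ => by omega)
    obtain ⟨e1⟩ := SmallSimple.Order360.mulEquiv_model h
    obtain ⟨e2⟩ := SmallSimple.Order360.mulEquiv_model (natCard_psl_two_nine hF)
    exact ⟨GaloisField 3 2, inferInstance, inferInstance, hF, ⟨e1.trans e2.symm⟩⟩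
  · exact Or.inr (Or.inl (S0984.result h))

theorem main_aux (S : Sylow 2 G) {m : ℕ} (hm : 2 ≤ m) (e : (S : Subgroup G) ≃* DihedralGroup m) {t : G}
    (ht : orderOf t = 2) (K : Subgroup G) (hlt : Subgroup.centralizer ({t} : Set G) < K) (N : Subgroup K)
    [N.Normal] (hN : N ≠ ⊥) (hN2 : IsPGroup 2 N) :
    Nonempty (G ≃* ↥(alternatingGroup (Fin 5))) ∨ Nat.card G = 168 ∨ Nat.card G = 360 ∨ Nat.card G = 2520 := by
  classical
  haveI := Fintype.ofFinite G
  haveI : Fact (Nat.Prime 2) := ⟨Nat.prime_two⟩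
  have hcS : 2 * m ∣ Nat.card G := by
    have := S.toSubgroup.card_subgroup_dvd_card
    rwa [Nat.card_congr e.toEquiv, DihedralGroup.nat_card] at this
  have h2 := Involutions.DihedralSylow.two_dvd S e hm
  have h4 : 4 ∣ Nat.card G := dvd_trans (by obtain ⟨j, rfl⟩ := h2; exact ⟨j, by ring⟩) hcS
  have hG2 : 2 < Nat.card G := by
    have := Nat.le_of_dvd Nat.card_pos h4; omega
  have hG : ¬ IsMulCommutative G := SmallSimple.Basic.not_comm_of_not_prime fun hp => by
    have := (hp.eq_one_or_self_of_dvd 2 (dvd_trans (by norm_num) h4)); omega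
  have hone := OrderBounds.one_class hG2 S hm e
  rcases hm.lt_or_eq with hlt2 | rfl
  · obtain ⟨P, σ, τ, k, rfl, h, rfl⟩ := OrderBounds.exists_dihSylow hG2 S hlt2 e ht
    obtain ⟨u, rfl, hu, hNP, huN, hσN⟩ := exists_basis h hlt N hN hN2
    exact Or.inr (order_cases hG hu hone hlt hNP huN hσN)
  · left
    obtain ⟨g, hg⟩ := isConj_iff.1 (hone _ t (Involutions.DihedralSylow.orderOf_z S e h2 (by omega)) ht)
    set P : Sylow 2 G := g • S with hPdef
    have hP4 : IsKleinFour (P : Subgroup G) := by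
      refine ⟨?_, ?_⟩
      · rw [Nat.card_congr ((Sylow.equiv (g • S) S).trans e).toEquiv, DihedralGroup.nat_card]
      · rw [Monoid.exponent_eq_of_mulEquiv ((Sylow.equiv (g • S) S).trans e)]
        exact IsKleinFour.exponent_two
    have htP : t ∈ (P : Subgroup G) := by
      rw [← hg]
      show g * _ * g⁻¹ ∈ ((g • S : Sylow 2 G) : Set G)
      rw [Sylow.coe_smul]
      exact ⟨_, (e.symm _).2, rfl⟩
    have hPC : (P : Subgroup G) ≤ Subgroup.centralizer ({t} : Set G) := fun x hx =>
      Subgroup.mem_centralizer_singleton_iff.2 (ZStar.KleinFour.sylow_comm P hP4 hx htP).eq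
    have hPK : (P : Subgroup G) ≤ K := hPC.trans hlt.le
    set NG := N.map K.subtype with hNG
    have hNP : NG ≤ (P : Subgroup G) := by
      rintro x ⟨y, hy, rfl⟩
      exact normal_le_sylow hN2 (P.subtype hPK) hy
    have hNne : Nat.card NG ≠ 1 := fun e1 => hN (Subgroup.card_eq_one.1 (by
      rwa [hNG, Subgroup.card_map_of_injective (Subgroup.subtype_injective K)] at e1))
    have hd : Nat.card NG ∣ 2 ^ 2 := by
      have := Subgroup.card_dvd_of_le hNP
      rwa [hP4.card_four] at this
    obtain ⟨j, hj, hjc⟩ := (Nat.dvd_prime_pow Nat.prime_two).1 hd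
    obtain rfl | rfl : j = 1 ∨ j = 2 := by
      rcases Nat.eq_zero_or_pos j with rfl | hj0
      · exact absurd hjc hNne
      · omega
    · -- a normal subgroup of order two
      exfalso
      obtain ⟨z, hz⟩ := exists_prime_orderOf_dvd_card' (G := NG) 2 (by rw [hjc]; norm_num)
      have hz2 : orderOf (z : G) = 2 := by rw [Subgroup.orderOf_coe, hz]
      have hKz : K ≤ Subgroup.centralizer ({(z : G)} : Set G) := by
        intro x hx
        rw [Subgroup.mem_centralizer_singleton_iff]
        obtain ⟨y, hy, hyz⟩ := z.2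
        have hmem : x * z * x⁻¹ ∈ NG :=
          ⟨⟨x, hx⟩ * y * ⟨x, hx⟩⁻¹, Subgroup.Normal.conj_mem inferInstance y hy _, by rw [← hyz]; rfl⟩
        have hne : x * (z : G) * x⁻¹ ≠ 1 := fun e1 => by
          have := BlockCharsA.RegularPart.orderOf_conj' (z : G) x
          rw [e1, orderOf_one, hz2] at this; omega
        have hz1 : z ≠ 1 := fun e1 => by rw [e1, orderOf_one] at hz; omega
        have huniq : (⟨_, hmem⟩ : NG) = z := by
          haveI := Fintype.ofFinite NG
          have h2' : Fintype.card NG ≤ 2 := by rw [← Nat.card_eq_fintype_card, hjc]; norm_num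
          by_contra hne2
          have : 2 < Fintype.card NG :=
            Fintype.two_lt_card_iff.2 ⟨1, ⟨_, hmem⟩, z, fun e1 => hne (congrArg Subtype.val e1).symm,
              hz1.symm, hne2⟩
          omega
        exact mul_inv_eq_iff_eq_mul.1 (congrArg Subtype.val huniq)
      obtain ⟨a, ha⟩ := isConj_iff.1 (hone (z : G) t hz2 ht)
      have hle : Nat.card (Subgroup.centralizer ({(z : G)} : Set G)) ≤
          Nat.card (Subgroup.centralizer ({t} : Set G)) :=
        Nat.card_le_card_of_injective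
          (fun x => ⟨a * x * a⁻¹, Subgroup.mem_centralizer_singleton_iff.2 (by
            have hx := Subgroup.mem_centralizer_singleton_iff.1 x.2
            rw [← ha]
            calc a * (x : G) * a⁻¹ * (a * z * a⁻¹) = a * ((x : G) * z) * a⁻¹ := by group
              _ = a * z * a⁻¹ * (a * x * a⁻¹) := by rw [hx]; group)⟩)
          fun x y hxy => Subtype.ext (mul_left_cancel (mul_right_cancel (congrArg Subtype.val hxy)))
      have h1 := Subgroup.card_le_of_le hKz
      exact hlt.ne (Subgroup.eq_of_le_of_card_ge hlt.le (h1.trans hle))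
    · -- the Sylow subgroup is normal
      have hNeq : NG = (P : Subgroup G) :=
        Subgroup.eq_of_le_of_card_ge hNP (by rw [hjc, hP4.card_four]; norm_num)
      refine S3278.result t ht (P : Subgroup G) hPC hP4 ?_ ?_
      · intro hdvd
        refine P.not_dvd_index (hdvd.trans ?_)
        exact ⟨_, (Subgroup.relIndex_mul_index hPC).symm⟩
      · refine ⟨fun x hx y => ?_⟩
        rw [Subgroup.mem_subgroupOf] at hx ⊢
        rw [← hNeq] at hx ⊢
        obtain ⟨w, hw, hwx⟩ := hx
        exact ⟨⟨(y : G), hlt.le y.2⟩ * w * ⟨(y : G), hlt.le y.2⟩⁻¹, Subgroup.Normal.conj_mem inferInstance w hw _,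
          by simp only [map_mul, map_inv, Subgroup.coe_subtype, Subgroup.coe_mul, Subgroup.coe_inv] at hwx ⊢; rw [hwx]⟩

/-- The case of S3287 in which the overgroup has a nontrivial normal `2`-subgroup. -/
theorem main (S : Sylow 2 G) {m : ℕ} (hm : 2 ≤ m) (e : (S : Subgroup G) ≃* DihedralGroup m) {t : G}
    (ht : orderOf t = 2) (K : Subgroup G) (hlt : Subgroup.centralizer ({t} : Set G) < K) (N : Subgroup K)
    [N.Normal] (hN : N ≠ ⊥) (hN2 : IsPGroup 2 N) :
    Nonempty (G ≃* ↥(alternatingGroup (Fin 5))) ∨ Nonempty (G ≃* ↥(alternatingGroup (Fin 7))) ∨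
      (∃ (F : Type) (_ : Field F) (_ : Fintype F), Fintype.card F = 2 ∧
        Nonempty (G ≃* Matrix.ProjectiveSpecialLinearGroup (Fin 3) F)) ∨
      (∃ (F : Type) (_ : Field F) (_ : Fintype F), Fintype.card F = 9 ∧
        Nonempty (G ≃* Matrix.ProjectiveSpecialLinearGroup (Fin 2) F)) := by
  rcases main_aux S hm e ht K hlt N hN hN2 with h | h
  · exact Or.inl h
  · exact recognize h

end Cfsg.Agent.GW.S3287Four
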