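import Mathlib
import Cfsg.Agent.Lib.GW.SimpleAssemblyData
import Cfsg.Agent.Lib.GW.S3287FourMain
import Cfsg.Agent.Lib.GW.ConsFull
import Cfsg.Agent.S0494
import Cfsg.Agent.S0495
import Cfsg.Agent.S0508

/-!
# The dihedral Sylow theorem: the induction

The simple and perfect forms of the theorem of Gorenstein and Walter, from two statements about a
group whose proper subgroups are known: trivial fixed points on the core, and no overgroup of `H`
with odd Fitting subgroup.
-/

set_option autoImplicit false
set_option linter.style.haveILetI false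

namespace Cfsg.Agent.GW.Assembly

open Subgroup

universe u

/-- The conclusion of the simple form of the theorem. -/
def Concl (G : Type u) [Group G] : Prop :=
  (∃ (F : Type) (_ : Field F) (_ : Fintype F), Odd (Fintype.card F) ∧
    Nonempty (G ≃* Matrix.ProjectiveSpecialLinearGroup (Fin 2) F)) ∨
  Nonempty (G ≃* alternatingGroup (Fin 7))

/-- The simple form of the theorem. -/
def SimpleGW : Prop :=
  ∀ (G : Type u) [Group G] [Finite G] [IsSimpleGroup G] (S : Sylow 2 G) (m : ℕ), 2 ≤ m →
    Nonempty ((S : Subgroup G) ≃* DihedralGroup m) → Concl G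

/-- The perfect form of the theorem for the groups of order less than `n`. -/
def PerfectGWBelow (n : ℕ) : Prop :=
  ∀ {X : Type u} [Group X] [Finite X] [Group.IsPerfect X] (S : Sylow 2 X) (m : ℕ),
    Nat.card X < n → 2 ≤ m → Nonempty ((S : Subgroup X) ≃* DihedralGroup m) →
      (∃ (F : Type) (_ : Field F) (_ : Fintype F), Odd (Fintype.card F) ∧ 3 < Fintype.card F ∧
        Nonempty (X ⧸ Cfsg.oddCore X ≃* Matrix.ProjectiveSpecialLinearGroup (Fin 2) F)) ∨
      Nonempty (X ⧸ Cfsg.oddCore X ≃* alternatingGroup (Fin 7))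

/-- The conclusion of the theorem of Bender and Glauberman. -/
def FourGroups (G : Type u) [Group G] : Prop :=
  Nonempty (G ≃* ↥(alternatingGroup (Fin 5))) ∨ Nonempty (G ≃* ↥(alternatingGroup (Fin 7))) ∨
    (∃ (F : Type) (_ : Field F) (_ : Fintype F), Fintype.card F = 2 ∧
      Nonempty (G ≃* Matrix.ProjectiveSpecialLinearGroup (Fin 3) F)) ∨
    (∃ (F : Type) (_ : Field F) (_ : Fintype F), Fintype.card F = 9 ∧
      Nonempty (G ≃* Matrix.ProjectiveSpecialLinearGroup (Fin 2) F))

/-- In a minimal counterexample without bare overgroup the reflections fix nothing in the core. -/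
def TrivialCores : Prop :=
  ∀ (G : Type u) [Group G] [Finite G] [IsSimpleGroup G] (d : Bender.Data G),
    PerfectGWBelow.{u} (Nat.card G) → d.NoBareOvergroup → ∀ i, d.A i = ⊥

/-- The theorem of Bender and Glauberman, given the proper subgroups. -/
def BareOvergroup : Prop :=
  ∀ (G : Type u) [Group G] [Finite G] [IsSimpleGroup G] (d : Bender.Data G),
    PerfectGWBelow.{u} (Nat.card G) → ∀ K : Subgroup G, d.H < K → K ≠ ⊤ →
      Cfsg.generalizedFittingSubgroup K = Cfsg.fittingSubgroup K → FourGroups G

/-- The odd case of the theorem of Bender and Glauberman. -/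
def OddCase : Prop :=
  ∀ (G : Type u) [Group G] [Finite G] [IsSimpleGroup G] (d : Bender.Data G),
    PerfectGWBelow.{u} (Nat.card G) → ∀ K : Subgroup G, d.H < K → K ≠ ⊤ →
      Cfsg.generalizedFittingSubgroup K = Cfsg.fittingSubgroup K → Cfsg.pCore 2 K = ⊥ → FourGroups G

/-- The odd case suffices. -/
theorem bareOvergroup_of_oddCase (h : OddCase.{u}) : BareOvergroup.{u} := by
  intro G _ _ _ d hbelow K hlt htop hF
  by_cases hne : Cfsg.pCore 2 K = ⊥
  · exact h G d hbelow K hlt htop hF hne
  · haveI : Fact (Nat.Prime 2) := ⟨Nat.prime_two⟩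
    haveI : (Cfsg.pCore 2 K).Normal := Cores.pCore_normal 2
    exact S3287Four.main d.S d.two_le d.e d.t_order K hlt (Cfsg.pCore 2 K) hne (Cores.pCore_isPGroup 2)

theorem concl_of_s3287 {G : Type u} [Group G] [Finite G] [IsSimpleGroup G] (h : FourGroups G) :
    Concl G := by
  rcases h with ⟨⟨f⟩⟩ | h | ⟨F, _, _, hF, ⟨f⟩⟩ | ⟨F, i1, i2, hF, h⟩
  · haveI : Fact (Nat.Prime 5) := ⟨Nat.prime_five⟩
    haveI := Classical.Linear.isSimpleGroup_PSL_fin (n := 2) (F := ZMod 5) le_rfl
      (fun _ => by rw [ZMod.card]; omega)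
    have hc := PSLOrderSpectrum.card_psl_two (F := ZMod 5)
    rw [ZMod.card, show Nat.gcd 2 (5 - 1) = 2 from rfl] at hc
    obtain ⟨e⟩ := S0494.result (G := Matrix.ProjectiveSpecialLinearGroup (Fin 2) (ZMod 5)) (by omega)
    exact Or.inl ⟨ZMod 5, inferInstance, inferInstance, by rw [ZMod.card]; decide, ⟨f.trans e.symm⟩⟩
  · exact Or.inr h
  · haveI : Fact (Nat.Prime 7) := ⟨by norm_num⟩
    haveI : Fact (Nat.Prime 2) := ⟨Nat.prime_two⟩
    have hc : Nat.card G = 168 := by
      rw [Nat.card_congr f.toEquiv]
      have hcard := Classical.Linear.gcd_mul_natCard_PSL_fin (F := F) (show 1 ≤ 3 by omega)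
      have hSL := Classical.Linear.mul_natCard_SL_fin (F := F) (show 1 ≤ 3 by omega)
      rw [hF, Fin.prod_univ_three] at hSL
      rw [hF] at hcard
      norm_num at hSL hcard
      omega
    obtain ⟨e⟩ := S0495.result hc (F := ZMod 7) (ZMod.card 7)
    exact Or.inl ⟨ZMod 7, inferInstance, inferInstance, by rw [ZMod.card]; decide, ⟨e⟩⟩
  · exact Or.inl ⟨F, i1, i2, by rw [hF]; decide, h⟩

/-- Trivial fixed points and no bare overgroup give the hypotheses of Brauer, Suzuki and Wall. -/
theorem concl_of_trivial {G : Type u} [Group G] [Finite G] [IsSimpleGroup G] (d : Bender.Data G)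
    (hA : ∀ i, d.A i = ⊥) (hNB : d.NoBareOvergroup) : Concl G := by
  obtain ⟨ha, hb, hc⟩ := d.bsw_conditions_of hA fun Y hY hn h1 =>
    normalizer_eq_of_no_bare d hA hNB hY hn h1
  exact Or.inl (S0508.result d.S d.m d.two_le ⟨d.e⟩ d.t d.t_order d.t_mem
    (fun s hs => mul_inv_eq_iff_eq_mul.1 (Involutions.DihedralSylow.z_conj d.S d.e d.dvd hs))
    d.O rfl ha hb hc)

/-- The step of the induction. -/
theorem concl_step (hT : TrivialCores.{u}) (hB : BareOvergroup.{u}) {G : Type u} [Group G]
    [Finite G] [IsSimpleGroup G] (S : Sylow 2 G) {m : ℕ} (hm : 2 ≤ m)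
    (e : (S : Subgroup G) ≃* DihedralGroup m) (hbelow : PerfectGWBelow.{u} (Nat.card G)) :
    Concl G := by
  obtain ⟨d, -, -⟩ := exists_data S e hm
  by_cases h : d.NoBareOvergroup
  · exact concl_of_trivial d (hT G d hbelow h) h
  · rw [Bender.Data.NoBareOvergroup] at h
    push Not at h
    obtain ⟨K, hlt, htop, hF⟩ := h
    exact concl_of_s3287 (hB G d hbelow K hlt htop hF)

/-- The perfect form below a bound, from the simple form below it. -/
theorem perfectGWBelow_of {n : ℕ}
    (H : ∀ (G : Type u) [Group G] [Finite G] [IsSimpleGroup G] (S : Sylow 2 G) (m : ℕ),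
      Nat.card G < n → 2 ≤ m → Nonempty ((S : Subgroup G) ≃* DihedralGroup m) → Concl G) :
    PerfectGWBelow.{u} n := by
  intro X _ _ _ S m hX hm hS
  exact PerfectReduction.of_simple_le
    (fun G _ _ _ T k hG hk hT => H G T k (hG.trans_lt hX) hk hT) S m hm hS

/-- The simple form of the theorem of Gorenstein and Walter. -/
theorem simple_gw (hT : TrivialCores.{u}) (hB : BareOvergroup.{u}) : SimpleGW.{u} := by
  have key : ∀ (n : ℕ) (G : Type u) [Group G] [Finite G] [IsSimpleGroup G] (S : Sylow 2 G) (m : ℕ),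
      Nat.card G < n → 2 ≤ m → Nonempty ((S : Subgroup G) ≃* DihedralGroup m) → Concl G := by
    intro n
    induction n with
    | zero => intro G _ _ _ S m h; omega
    | succ n ih =>
      intro G _ _ _ S m hG hm ⟨e⟩
      exact concl_step hT hB S hm e
        (perfectGWBelow_of fun H _ _ _ T k hH hk hT' => ih H T k (by omega) hk hT')
  exact fun G _ _ _ S m hm hS => key (Nat.card G + 1) G S m (Nat.lt_succ_self _) hm hS

/-- The perfect form of the theorem of Gorenstein and Walter. -/
theorem perfect_gw (hT : TrivialCores.{u}) (hB : BareOvergroup.{u}) : Cons.PerfectGW.{u} := by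
  intro X _ _ _ S n hn hS
  exact PerfectReduction.of_simple (fun G _ _ _ T k hk hT' => simple_gw hT hB G T k hk hT') S n hn hS

/-- The perfect form holds below every bound. -/
theorem perfectGWBelow (hT : TrivialCores.{u}) (hB : BareOvergroup.{u}) (n : ℕ) : PerfectGWBelow.{u} n :=
  fun S m _ hm hS => perfect_gw hT hB S m hm hS

theorem isPerfect_of_simple {G : Type u} [Group G] [IsSimpleGroup G] (h : ¬ IsMulCommutative G) :
    Group.IsPerfect G := by
  refine ⟨((inferInstance : (commutator G).Normal).eq_bot_or_eq_top).resolve_left fun hb => h ?_⟩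
  exact ⟨⟨fun a b => commutatorElement_eq_one_iff_mul_comm.1 (Subgroup.mem_bot.1
    (hb ▸ commutator_mem_commutator (mem_top a) (mem_top b)))⟩⟩

theorem generalizedFitting_map_equiv {A B : Type u} [Group A] [Group B] [Finite A] [Finite B] (f : A ≃* B)
    (h : Cfsg.generalizedFittingSubgroup A = Cfsg.fittingSubgroup A) :
    Cfsg.generalizedFittingSubgroup B = Cfsg.fittingSubgroup B := by
  rw [Cfsg.generalizedFittingSubgroup, sup_eq_right, ← Components.Basic.layer_map_equiv f,
    ← Components.Fitting.fitting_map_equiv f]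
  refine Subgroup.map_mono ?_
  rw [Cfsg.generalizedFittingSubgroup, sup_eq_right] at h
  exact h

/-- The theorem of Bender and Glauberman in the form of the list. -/
theorem bender_glauberman (hT : TrivialCores.{u}) (hB : BareOvergroup.{u}) {G : Type u} [Group G]
    [Finite G] [IsSimpleGroup G] (S : Sylow 2 G) (m : ℕ) (eS : (S : Subgroup G) ≃* DihedralGroup m)
    (t : G) (ht : orderOf t = 2) (K : Subgroup G) (hlt : centralizer ({t} : Set G) < K)
    (hK : Cfsg.generalizedFittingSubgroup K = Cfsg.fittingSubgroup K) : FourGroups G := by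
  haveI : Fact (Nat.Prime 2) := ⟨Nat.prime_two⟩
  have hne : centralizer ({t} : Set G) ≠ ⊤ := ne_top_of_lt hlt
  have hcomm : ¬ IsMulCommutative G := fun h => hne (eq_top_iff.2 fun x _ =>
    mem_centralizer_singleton_iff.2 (h.is_comm.comm x t))
  have hm0 : m ≠ 0 := by
    rintro rfl
    haveI := Finite.of_equiv _ eS.toEquiv
    exact not_finite (DihedralGroup 0)
  have hm : 2 ≤ m := by
    by_contra hlt'
    obtain rfl : m = 1 := by omega
    obtain ⟨f, hf⟩ : ∃ f : (S : Subgroup G) →* DihedralGroup 1, Function.Injective f :=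
      ⟨eS.toMonoidHom, eS.injective⟩
    haveI : IsCyclic (S : Subgroup G) := isCyclic_of_prime_card (p := 2) (by
      rw [Nat.card_congr eS.toEquiv, DihedralGroup.nat_card])
    haveI : Group.IsPerfect G := isPerfect_of_simple hcomm
    exact Cons.not_cyclic_of_perfect inferInstance
      (even_iff_two_dvd.2 (ht ▸ orderOf_dvd_natCard t)) S inferInstance
  have hG2 : 2 < Nat.card G := by
    have := Nat.le_of_dvd Nat.card_pos S.toSubgroup.card_subgroup_dvd_card
    rw [Nat.card_congr eS.toEquiv, DihedralGroup.nat_card] at this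
    omega
  obtain ⟨d, -, -⟩ := exists_data S eS hm
  obtain ⟨g, hg⟩ := isConj_iff.1 (OrderBounds.one_class hG2 S hm eS t d.t ht d.t_order)
  have hKtop : K ≠ ⊤ := by
    rintro rfl
    have h1 := generalizedFitting_map_equiv Subgroup.topEquiv hK
    haveI : Group.IsPerfect G := isPerfect_of_simple hcomm
    have hq : Cfsg.IsComponent (⊤ : Subgroup G) :=
      ⟨.top, Components.Basic.quasisimple_of_mulEquiv Subgroup.topEquiv.symm
        (Components.Basic.isQuasisimple_of_normal inferInstance inferInstance fun N hN =>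
          hN.eq_bot_or_eq_top.symm.imp id fun (h : N = ⊥) => le_of_eq_of_le h bot_le)⟩
    have hle : (⊤ : Subgroup G) ≤ Cfsg.fittingSubgroup G :=
      h1 ▸ (Components.Basic.le_layer hq).trans le_sup_left
    haveI : Group.IsNilpotent (Cfsg.fittingSubgroup G) := Cores.fittingSubgroup_isNilpotent
    refine Components.Basic.component_not_le_of_isSolvable hq ?_ hle
    infer_instance
  set K' : Subgroup G := K.map (MulAut.conj g).toMonoidHom with hK'
  have hH : (centralizer ({t} : Set G)).map (MulAut.conj g).toMonoidHom = d.H := by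
    ext x
    constructor
    · rintro ⟨c, hc, rfl⟩
      rw [Bender.Data.H, mem_centralizer_singleton_iff, ← hg]
      exact ((Commute.conj_iff g).2 (mem_centralizer_singleton_iff.1 hc)).eq
    · intro hx
      refine ⟨g⁻¹ * x * g, mem_centralizer_singleton_iff.2 ?_, by show g * (g⁻¹ * x * g) * g⁻¹ = x; group⟩
      have := (Commute.conj_iff g⁻¹).2 (mem_centralizer_singleton_iff.1 hx : Commute x d.t)
      rw [← hg] at this
      simpa [mul_assoc] using this.eq
  refine hB G d (perfectGWBelow hT hB _) K' ?_ ?_ ?_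
  · rw [← hH]
    exact (map_lt_map_iff_of_injective (MulAut.conj g).injective).2 hlt
  · intro h
    exact hKtop (map_injective (MulAut.conj g).injective (h.trans
      (map_top_of_surjective _ (MulAut.conj g).surjective).symm))
  · exact generalizedFitting_map_equiv (K.equivMapOfInjective _ (MulAut.conj g).injective) hK

end Cfsg.Agent.GW.Assembly
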