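import Cfsg.Agent.Lib.GW.SimpleAssembly
import Cfsg.Agent.Lib.GW.OvergroupsBasic

/-!
# The proper subgroups of a minimal counterexample

The perfect form below the order of `G` gives the structure of its proper perfect subgroups.
-/

set_option autoImplicit false
set_option linter.style.haveILetI false

namespace Cfsg.Agent.GW.Assembly

open Subgroup

universe u

variable {G : Type u} [Group G] [Finite G]

/-- The induction hypothesis gives `Overgroups.KnownProper`. -/
theorem knownProper (d : Bender.Data G) (h : PerfectGWBelow.{u} (Nat.card G)) :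
    Overgroups.KnownProper G := by
  intro P hP hP1 hPP
  haveI : Fact (Nat.Prime 2) := ⟨Nat.prime_two⟩
  haveI : NeZero d.m := ⟨d.ne_zero⟩
  haveI hperf : Group.IsPerfect P := Subgroup.isPerfect_iff.2 hPP
  haveI : Nontrivial P := (Subgroup.nontrivial_iff_ne_bot P).2 hP1
  have heven : Even (Nat.card P) := Nat.not_odd_iff_even.1 fun ho =>
    Group.IsPerfect.not_isSolvable P (Cfsg.Agent.S0205.result ho)
  obtain ⟨R⟩ := (inferInstance : Nonempty (Sylow 2 P))
  obtain ⟨k, hk, hR⟩ := (Cons.sylow_sub_dihedral d.S d.e P R).resolve_left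
    (Cons.not_cyclic_of_perfect hperf heven R)
  refine h R k ?_ hk hR
  exact lt_of_le_of_ne (Subgroup.card_le_card_group P) fun he => hP (Subgroup.eq_top_of_card_eq P he)

end Cfsg.Agent.GW.Assembly
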