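import Cfsg.Agent.Lib.GW.NoBarePrime
import Cfsg.Agent.Lib.GW.NoBareBalance
import Cfsg.Agent.Lib.GW.SimpleAssembly
import Cfsg.Agent.Lib.GW.SimpleAssemblyKnown
import Cfsg.Agent.Lib.GW.NoBareFinal
import Cfsg.Agent.Lib.GW.BenderKey
import Cfsg.Agent.Lib.Involutions.KleinSylow

/-!
# No component-free overgroup of an involution centralizer: the reductions

`notes/gw-nb-h8.md`, section 0: an overgroup of the centralizer of an involution without component
gives one of the four groups or a frame for the local analysis.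
-/

set_option autoImplicit false
set_option linter.all false

namespace Cfsg.Agent.GW.NoBare

open Subgroup Cfsg.Agent.Techniques.Bender Cfsg.Agent.Components.MaximalPair
open Cfsg.Agent.Involutions Cfsg.Agent.GW.Overgroups

universe v

variable {G : Type v} [Group G] [Finite G] (d : Bender.Data G)

/-- Every `2`-subgroup embeds in the dihedral group. -/
theorem twoDihedral : NoBareBalance.TwoDihedral G d.m := fun _ hP =>
  DihedralSylow.exists_embedding d.S hP d.e

/-- The Sylow `2`-subgroup moves a reflection to its product with the central involution. -/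
theorem exists_swap_refl (h4 : 4 ∣ d.m) (i : ZMod d.m) :
    ∃ r ∈ (d.S : Subgroup G), r * d.t * r⁻¹ = d.t ∧ r * d.u i * r⁻¹ = d.t * d.u i := by
  obtain ⟨r, hrS, hrN, hrC⟩ := DihedralSylow.rot_swap d.S d.e d.dvd h4 d.ne_zero i
  have hrt : r * d.t * r⁻¹ = d.t := DihedralSylow.z_conj d.S d.e d.dvd hrS
  have htu : d.t * d.u i = DihedralSylow.refl d.S d.e (i + DihedralEmbedding.half d.m) :=
    Assembly.z_mul_refl d.S d.e d.dvd i
  have humem : d.u i ∈ DihedralSylow.four d.S d.e d.dvd i :=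
    (DihedralSylow.mem_four d.S d.e d.dvd i).2 (Or.inr (Or.inr (Or.inl rfl)))
  have hu1 := Involutions.Basic.ne_one (d.u_order i)
  rcases (DihedralSylow.mem_four d.S d.e d.dvd i).1 ((mem_normalizer_iff.1 hrN _).1 humem) with h | h | h | h
  · exact absurd (conj_eq_one_iff.1 h) hu1
  · exact absurd (mul_left_cancel (mul_right_cancel (h.trans hrt.symm))) (d.u_ne_t i)
  · refine absurd (mem_centralizer_iff.2 fun x hx => ?_) hrC
    have hcom : ∀ w : G, r * w * r⁻¹ = w → w * r = r * w := fun w hw => (mul_inv_eq_iff_eq_mul.1 hw).symm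
    rcases (DihedralSylow.mem_four d.S d.e d.dvd i).1 hx with rfl | rfl | rfl | rfl
    · rw [one_mul, mul_one]
    · exact hcom _ hrt
    · exact hcom _ h
    · refine hcom _ ?_
      rw [← htu, ← conj_mul, hrt]
      exact congrArg (d.t * ·) h
  · exact ⟨r, hrS, hrt, h.trans htu.symm⟩

/-- Involutions of a subgroup over the Sylow `2`-subgroup are conjugate to the central involution or to a
reflection. -/
theorem exists_conj_cases {K : Subgroup G} (hS : (d.S : Subgroup G) ≤ K) {s : G} (hs : s ∈ K)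
    (h2 : orderOf s = 2) : ∃ c ∈ K, c * s * c⁻¹ = d.t ∨ ∃ i, c * s * c⁻¹ = d.u i := by
  haveI : Fact (Nat.Prime 2) := ⟨Nat.prime_two⟩
  have hz : IsPGroup 2 (zpowers (⟨s, hs⟩ : K)) :=
    IsPGroup.of_card (n := 1) (by rw [Nat.card_zpowers, Subgroup.orderOf_mk, h2, pow_one])
  obtain ⟨Q, hQ⟩ := hz.exists_le_sylow
  obtain ⟨c, hc⟩ := MulAction.exists_smul_eq K Q (d.S.subtype hS)
  have hmem : c * ⟨s, hs⟩ * c⁻¹ ∈ ((d.S.subtype hS : Sylow 2 K) : Subgroup K) := by
    rw [← hc, Sylow.coe_subgroup_smul]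
    exact ⟨_, hQ (mem_zpowers _), rfl⟩
  rw [Sylow.coe_subtype, mem_subgroupOf] at hmem
  refine ⟨c, c.2, ?_⟩
  exact d.involution_cases (s := (c : G) * s * (c : G)⁻¹) hmem
    (by rw [Involutions.Basic.orderOf_conj, h2])

/-- A nontrivial perfect normal subgroup over the Sylow `2`-subgroup contains the central involution. -/
theorem t_mem_of_perfect {K E : Subgroup G} (hS : (d.S : Subgroup G) ≤ K) (hE : E ≤ K)
    (hKE : K ≤ normalizer (E : Set G)) (hperf : ⁅E, E⁆ = E) (hE1 : E ≠ ⊥) : d.t ∈ E := by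
  haveI : Fact (Nat.Prime 2) := ⟨Nat.prime_two⟩
  haveI hp : Group.IsPerfect E := Subgroup.isPerfect_iff.2 hperf
  haveI : Nontrivial E := (Subgroup.nontrivial_iff_ne_bot E).2 hE1
  have heven : Even (Nat.card E) := Nat.not_odd_iff_even.1 fun ho =>
    Group.IsPerfect.not_isSolvable E (Cfsg.Agent.S0205.result ho)
  by_cases h4 : 4 ∣ d.m
  · obtain ⟨⟨s, hs⟩, hs2⟩ := exists_prime_orderOf_dvd_card' (G := E) 2 (even_iff_two_dvd.1 heven)
    rw [Subgroup.orderOf_mk] at hs2
    obtain ⟨c, hc, h | ⟨i, h⟩⟩ := exists_conj_cases d hS (hE hs) hs2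
    · exact h ▸ (mem_normalizer_iff.1 (hKE hc) s).1 hs
    · have hu : d.u i ∈ E := h ▸ (mem_normalizer_iff.1 (hKE hc) s).1 hs
      obtain ⟨r, hr, -, hru⟩ := exists_swap_refl d h4 i
      have htu : d.t * d.u i ∈ E := hru ▸ (mem_normalizer_iff.1 (hKE (hS hr)) _).1 hu
      have := mul_mem htu hu
      rwa [mul_assoc, d.u_sq, mul_one] at this
  · have hm2 : d.m = 2 := by
      by_contra hne
      exact h4 (DihedralSylow.four_dvd d.S d.e (by have := d.two_le; omega))
    have hS4 : Nat.card (d.S : Subgroup G) = 4 := by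
      rw [Nat.card_congr d.e.toEquiv, DihedralGroup.nat_card, hm2]
    obtain ⟨P⟩ := (inferInstance : Nonempty (Sylow 2 E))
    obtain ⟨Q, hQ⟩ := ((P.2.map (Subgroup.inclusion hE))).exists_le_sylow
    obtain ⟨c, hc⟩ := MulAction.exists_smul_eq K Q (d.S.subtype hS)
    -- the conjugate of the Sylow subgroup of `E` is all of `S`
    set f : E →* G := (MulAut.conj (c : G)).toMonoidHom.comp E.subtype
    have hf : Function.Injective f := (MulAut.conj (c : G)).injective.comp E.subtype_injective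
    have hPS : (P : Subgroup E).map f ≤ (d.S : Subgroup G) := by
      rintro _ ⟨x, hx, rfl⟩
      have hxS : c * Subgroup.inclusion hE x * c⁻¹ ∈ ((d.S.subtype hS : Sylow 2 K) : Subgroup K) := by
        rw [← hc, Sylow.coe_subgroup_smul]
        exact ⟨_, hQ ⟨x, hx, rfl⟩, rfl⟩
      rw [Sylow.coe_subtype, mem_subgroupOf] at hxS
      exact hxS
    have hncyc := Cons.not_cyclic_of_perfect hp heven P
    have hcard : 4 ≤ Nat.card (P : Subgroup E) := by
      by_contra hlt
      obtain ⟨k, hk⟩ := IsPGroup.iff_card.1 P.2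
      rcases k with _ | _ | k
      · rw [pow_zero] at hk
        haveI := (Nat.card_eq_one_iff_unique.1 hk).1
        exact hncyc inferInstance
      · exact hncyc (isCyclic_of_prime_card (p := 2) (by rw [hk, pow_one]))
      · rw [pow_succ, pow_succ] at hk
        have := Nat.one_le_two_pow (n := k)
        omega
    have heq : (P : Subgroup E).map f = (d.S : Subgroup G) :=
      Subgroup.eq_of_le_of_card_ge hPS (by rw [Subgroup.card_map_of_injective hf, hS4]; exact hcard)
    have ht : d.t ∈ (P : Subgroup E).map f := heq ▸ d.t_mem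
    obtain ⟨x, -, hx⟩ := ht
    exact hx ▸ (mem_normalizer_iff.1 (hKE c.2) x).1 x.2

variable [IsSimpleGroup G]

/-- A maximal overgroup of the centralizer has no component. -/
theorem genFitting_eq (hknown : KnownProper G) {K0 K : Subgroup G} (hH : d.H ≤ K0) (hle : K0 ≤ K)
    (hK : IsCoatom K) (hF : Cfsg.generalizedFittingSubgroup K0 = Cfsg.fittingSubgroup K0)
    (h2 : Cfsg.pCore 2 K0 = ⊥) : Cfsg.generalizedFittingSubgroup K = Cfsg.fittingSubgroup K := by
  haveI : Fact (Nat.Prime 2) := ⟨Nat.prime_two⟩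
  by_contra hne
  have hSK : (d.S : Subgroup G) ≤ K := d.S_le.trans (hH.trans hle)
  obtain ⟨hE, -, hcen⟩ := component_structure hknown hK.1 hne
  have htE := t_mem_of_perfect d hSK (maxPerfect_le K) (le_normalizer_maxPerfect K) (maxPerfect_perfect K) hE
  -- the central involution centralises `O(K0)`
  have hfix : ∀ a ∈ oddPart K0, Commute d.t a := by
    intro a ha
    have htK0 : d.t ∈ normalizer (oddPart K0 : Set G) := le_normalizer_oddPart K0 (hH d.t_mem_H)
    set x := a⁻¹ * (d.t * a * d.t⁻¹) with hx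
    have hxA : x ∈ oddPart K0 := mul_mem (inv_mem ha) ((mem_normalizer_iff.1 htK0 a).1 ha)
    have hinv : d.t * x * d.t⁻¹ = x⁻¹ := by
      rw [hx, mul_inv_rev, inv_inv]
      calc d.t * (a⁻¹ * (d.t * a * d.t⁻¹)) * d.t⁻¹
          = d.t * a⁻¹ * d.t⁻¹ * ((d.t * d.t) * a * (d.t * d.t)⁻¹) := by group
        _ = (d.t * a * d.t⁻¹)⁻¹ * a := by rw [d.t_sq]; group
    have hxK := NoBareBalance.balance d.S d.two_le d.e hknown hK.1 (hSK d.t_mem) d.t_order (oddPart K0)
      ((oddPart_le K0).trans hle) (oddPart_odd K0)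
      (fun c _ hc b hb => (mem_normalizer_iff.1 (le_normalizer_oddPart K0
        (hH (mem_centralizer_singleton_iff.2 hc.eq))) b).1 hb) hxA hinv
    have hc : x * d.t = d.t * x := (mem_centralizer_iff.1 (hcen hxK) d.t htE).symm
    have hx1 : x = 1 := Bender.Data.eq_one_of_odd
      ((oddPart_odd K0).of_dvd_nat (Subgroup.orderOf_dvd_natCard _ hxA))
      (by rw [← hinv, ← hc, mul_inv_cancel_right])
    rw [hx, inv_mul_eq_one] at hx1
    exact mul_inv_eq_iff_eq_mul.1 hx1.symm
  haveI : (Cfsg.oddCore K0).Normal := Cores.pPrimeCore_normal 2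
  have hFle : Cfsg.fittingSubgroup K0 ≤ Cfsg.oddCore K0 := by
    rw [Cores.fittingSubgroup_eq_iSup]
    refine iSup_le fun p => ?_
    haveI : Fact (p : ℕ).Prime := ⟨Nat.prime_of_mem_primeFactors p.2⟩
    by_cases hp : (p : ℕ) = 2
    · rw [hp, h2]; exact bot_le
    · haveI : (Cfsg.pCore (p : ℕ) K0).Normal := PLocal.Cores.pCore_normal'
      obtain ⟨k, hk⟩ := IsPGroup.iff_card.1 (Cores.pCore_isPGroup (G := K0) (p : ℕ))
      exact Cores.le_oddCore (by rw [hk]; exact ((Nat.prime_of_mem_primeFactors p.2).odd_of_ne_two hp).pow)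
  have hcz : (⟨d.t, hH d.t_mem_H⟩ : K0) ∈ Cfsg.generalizedFittingSubgroup K0 :=
    Components.Fitting.centralizer_genFitting_le (mem_centralizer_iff.2 fun y hy => Subtype.ext
      ((hfix y ⟨y, hFle (hF ▸ hy), rfl⟩).symm).eq)
  rw [hF] at hcz
  have hd := Subgroup.orderOf_dvd_natCard _ (hFle hcz)
  rw [Subgroup.orderOf_mk, d.t_order] at hd
  exact (Nat.not_even_iff_odd.2 Cores.oddCore_odd) (even_iff_two_dvd.2 hd)

/-- If a reflection is conjugate to `t` in `K` then so is its product with `t`. -/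
theorem not_conj_mul {K : Subgroup G} (hS : (d.S : Subgroup G) ≤ K) {i : ZMod d.m}
    (hu : ∀ k ∈ K, k * d.t * k⁻¹ ≠ d.u i) : ∀ k ∈ K, k * d.t * k⁻¹ ≠ d.t * d.u i := by
  haveI : Fact (Nat.Prime 2) := ⟨Nat.prime_two⟩
  intro k hk h
  by_cases h4 : 4 ∣ d.m
  · obtain ⟨r, hr, hrt, hru⟩ := exists_swap_refl d h4 i
    refine hu (r⁻¹ * k) (mul_mem (inv_mem (hS hr)) hk) ?_
    calc r⁻¹ * k * d.t * (r⁻¹ * k)⁻¹ = r⁻¹ * (k * d.t * k⁻¹) * r := by group
      _ = d.u i := by rw [h, ← hru]; group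
  · have hm2 : d.m = 2 := by
      by_contra hne
      exact h4 (DihedralSylow.four_dvd d.S d.e (by have := d.two_le; omega))
    have hmem : ∀ x ∈ (d.S : Subgroup G), x = 1 ∨ x = d.t ∨ x = d.u i ∨ x = d.t * d.u i := by
      have hfour : (DihedralSylow.four d.S d.e d.dvd i : Subgroup G) = d.S :=
        Subgroup.eq_of_le_of_card_ge (DihedralSylow.four_le d.S d.e d.dvd i) (by
          rw [(DihedralSylow.four_isKleinFour d.S d.e d.dvd d.ne_zero i).card_four,
            Nat.card_congr d.e.toEquiv, DihedralGroup.nat_card, hm2])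
      intro x hx
      rw [← hfour] at hx
      rcases (DihedralSylow.mem_four d.S d.e d.dvd i).1 hx with h' | h' | h' | h'
      · exact Or.inl h'
      · exact Or.inr (Or.inl h')
      · exact Or.inr (Or.inr (Or.inl h'))
      · exact Or.inr (Or.inr (Or.inr (h'.trans (Assembly.z_mul_refl d.S d.e d.dvd i).symm)))
    set P : Sylow 2 K := d.S.subtype hS with hP
    have hPmem : ∀ y : K, y ∈ (P : Subgroup K) ↔ (y : G) ∈ (d.S : Subgroup G) := fun y => by
      rw [hP, Sylow.coe_subtype, mem_subgroupOf]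
    have hP4 : IsKleinFour (P : Subgroup K) := by
      refine (TwoGroups.isKleinFour_iff _).2 ⟨?_, fun x hx => Subtype.ext ?_⟩
      · rw [hP, Sylow.coe_subtype, Nat.card_congr (Subgroup.subgroupOfEquivOfLe hS).toEquiv,
          Nat.card_congr d.e.toEquiv, DihedralGroup.nat_card, hm2]
      · show (x : G) * x = 1
        rcases hmem _ ((hPmem x).1 hx) with h' | h' | h' | h' <;> rw [h']
        · exact one_mul 1
        · exact d.t_sq
        · exact d.u_sq i
        · rw [← h, conj_mul, d.t_sq, mul_one, mul_inv_cancel]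
    have htu : d.t * d.u i ∈ (d.S : Subgroup G) := mul_mem d.t_mem (d.u_mem i)
    obtain ⟨n, hn, hne⟩ := KleinSylow.exists_normalizer_conj P hP4
      (a := ⟨d.t, hS d.t_mem⟩) ((hPmem _).2 d.t_mem) (g := ⟨k, hk⟩) ((hPmem _).2 (by
        show k * d.t * k⁻¹ ∈ _
        rw [h]; exact htu))
    have hnt : (n : G) * d.t * (n : G)⁻¹ = d.t * d.u i := (congrArg Subtype.val hne).trans h
    have hnS : ∀ x ∈ (d.S : Subgroup G), (n : G) * x * (n : G)⁻¹ ∈ (d.S : Subgroup G) := fun x hx =>
      (hPmem _).1 ((mem_normalizer_iff.1 hn ⟨x, hS hx⟩).1 ((hPmem _).2 hx))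
    have hnu : (n : G) * d.u i * (n : G)⁻¹ = d.u i := by
      rcases hmem _ (hnS _ (d.u_mem i)) with h' | h' | h' | h'
      · exact absurd (conj_eq_one_iff.1 h') (Involutions.Basic.ne_one (d.u_order i))
      · exfalso
        refine hu _ (inv_mem n.2) ?_
        rw [← h', inv_inv]
        simp [mul_assoc]
      · exact h'
      · exact absurd (mul_left_cancel (mul_right_cancel (h'.trans hnt.symm))) (d.u_ne_t i)
    have hntu : (n : G) * (d.t * d.u i) * (n : G)⁻¹ = d.t := by
      rw [← conj_mul, hnt, hnu, mul_assoc, d.u_sq, mul_one]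
    -- an odd power still moves `t`
    have hpow : ∀ j : ℕ, (n : G) ^ (2 * j + 1) * d.t * ((n : G) ^ (2 * j + 1))⁻¹ = d.t * d.u i := by
      intro j
      induction j with
      | zero => simpa using hnt
      | succ j ih =>
        calc (n : G) ^ (2 * (j + 1) + 1) * d.t * ((n : G) ^ (2 * (j + 1) + 1))⁻¹
            = (n : G) * ((n : G) * ((n : G) ^ (2 * j + 1) * d.t * ((n : G) ^ (2 * j + 1))⁻¹) * (n : G)⁻¹) *
              (n : G)⁻¹ := by
              rw [show 2 * (j + 1) + 1 = 2 + (2 * j + 1) by ring, pow_add, pow_two]; group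
          _ = d.t * d.u i := by rw [ih, hntu, hnt]
    obtain ⟨a, b, hb, hab⟩ := Nat.exists_eq_two_pow_mul_odd (n := orderOf n) (orderOf_pos n).ne'
    obtain ⟨j, rfl⟩ := hb
    have hm' : n ^ (2 * j + 1) ∈ (P : Subgroup K) := by
      have hord : orderOf (n ^ (2 * j + 1)) = 2 ^ a := by
        rw [orderOf_pow' n (by omega), hab, Nat.gcd_eq_right (dvd_mul_left _ _), Nat.mul_div_cancel _ (by omega)]
      have hz : IsPGroup 2 (zpowers (n ^ (2 * j + 1))) :=
        IsPGroup.of_card (n := a) (by rw [Nat.card_zpowers, hord])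
      have hle : zpowers (n ^ (2 * j + 1)) ≤ normalizer ((P : Subgroup K) : Set K) :=
        zpowers_le.2 (pow_mem hn _)
      have hsup := P.3 (P.2.to_sup_of_normal_left' hz hle) le_sup_left
      exact hsup ▸ mem_sup_right (mem_zpowers _)
    have hcomm : Commute ((n : G) ^ (2 * j + 1)) d.t := by
      have hx := (hPmem _).1 hm'
      rw [SubmonoidClass.coe_pow] at hx
      have hc := IsKleinFour.isMulCommutative (G := (P : Subgroup K))
      have h'' := congrArg (fun z : (P : Subgroup K) => ((z : K) : G))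
        (mul_comm' (⟨_, hm'⟩ : (P : Subgroup K)) ⟨⟨d.t, hS d.t_mem⟩, (hPmem _).2 d.t_mem⟩)
      simpa [Commute, SemiconjBy] using h''
    have := hpow j
    rw [hcomm.eq, mul_inv_cancel_right] at this
    exact Involutions.Basic.ne_one (d.u_order i) (mul_left_cancel (this.symm.trans (mul_one _).symm))

/-- The reductions: one of the four groups, or a frame. -/
theorem four_or_frame (hknown : KnownProper G) (K0 : Subgroup G) (hlt : d.H < K0) (htop : K0 ≠ ⊤)
    (hF : Cfsg.generalizedFittingSubgroup K0 = Cfsg.fittingSubgroup K0) (h2 : Cfsg.pCore 2 K0 = ⊥) :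
    Assembly.FourGroups G ∨ ∃ f : Frame G, d.H ≤ f.K ∧ f.t = d.t ∧ (∃ i, f.u = d.u i) ∧
      (∀ k ∈ f.K, k * f.t * k⁻¹ ≠ f.u) ∧ (∀ k ∈ f.K, k * f.t * k⁻¹ ≠ f.t * f.u) := by
  haveI : Fact (Nat.Prime 2) := ⟨Nat.prime_two⟩
  obtain ⟨K, hK, hle⟩ := (eq_top_or_exists_le_coatom K0).resolve_left htop
  have hHK : d.H < K := hlt.trans_le hle
  by_cases hK2 : Cfsg.pCore 2 K = ⊥
  swap
  · haveI : (Cfsg.pCore 2 K).Normal := Cores.pCore_normal 2
    exact Or.inl (S3287Four.main d.S d.two_le d.e d.t_order K hHK (Cfsg.pCore 2 K) hK2 (Cores.pCore_isPGroup 2))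
  have hSK : (d.S : Subgroup G) ≤ K := d.S_le.trans hHK.le
  have hKF := genFitting_eq d hknown hlt.le hle hK hF h2
  by_cases hall : ∀ i, ∃ k ∈ K, k * d.t * k⁻¹ = d.u i
  · left; left
    refine OrderBounds.alt_five_of_overgroup d.S d.two_le d.e d.t_order hK.1 hHK.le fun a b ha hb => ?_
    have key : ∀ s : K, orderOf s = 2 → IsConj (⟨d.t, hSK d.t_mem⟩ : K) s := by
      intro s hs
      rw [← Subgroup.orderOf_coe] at hs
      obtain ⟨c, hc, h | ⟨i, h⟩⟩ := exists_conj_cases d hSK s.2 hs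
      · exact (isConj_iff.2 ⟨⟨c, hc⟩, Subtype.ext h⟩).symm
      · obtain ⟨k, hk, hk'⟩ := hall i
        exact (show IsConj (⟨d.t, hSK d.t_mem⟩ : K) ⟨d.u i, hSK (d.u_mem i)⟩ from
            isConj_iff.2 ⟨⟨k, hk⟩, Subtype.ext hk'⟩).trans
          (show IsConj s ⟨d.u i, hSK (d.u_mem i)⟩ from isConj_iff.2 ⟨⟨c, hc⟩, Subtype.ext h⟩).symm
    exact (key a ha).symm.trans (key b hb)
  push Not at hall
  obtain ⟨i, hu⟩ := hall
  obtain ⟨g, hgt, hgu⟩ := d.rho i
  refine Or.inr ⟨{
    K := K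
    t := d.t
    u := d.u i
    g := g
    coatom := hK
    t_order := d.t_order
    u_order := d.u_order i
    ne := d.u_ne_t i
    comm := (mem_centralizer_singleton_iff.1 (d.u_mem_H i) : Commute (d.u i) d.t).symm
    conj_t := hgt
    conj_u := hgu
    g_notMem := fun hg => hu g hg hgt
    centralizer_le := hHK.le
    fix_four := fun z hz h1 h2' => NoBareBalance.no_eight d.dvd d.ne_zero (twoDihedral d) d.t_order
      (d.u_order i) hz (Ne.symm (d.u_ne_t i))
      (mem_centralizer_singleton_iff.1 (d.u_mem_H i) : Commute (d.u i) d.t).symm h1 h2'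
    gfit_eq_fit := by rw [gfit, fit, hKF]
    core_two := by rw [core, hK2, Subgroup.map_bot]
    ov := fun Y hY htY _ x hxY hxK hinv =>
      NoBareBalance.balance d.S d.two_le d.e hknown hY htY d.t_order (Y ⊓ odd K) inf_le_left
        (Odd.of_dvd_nat (oddPart_odd K) (card_dvd_of_le inf_le_right))
        (fun c hcY hc a ha => ⟨Y.mul_mem (Y.mul_mem hcY ha.1) (Y.inv_mem hcY),
          (mem_normalizer_iff.1 (le_normalizer_oddPart K
            (hHK.le (mem_centralizer_singleton_iff.2 hc.eq))) a).1 ha.2⟩) ⟨hxY, hxK⟩ hinv },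
    hHK.le, rfl, ⟨i, rfl⟩, hu, not_conj_mul d hSK hu⟩

/-- The reductions with the prime-power case. -/
theorem four_or_twoPrimes (hknown : KnownProper G) (K0 : Subgroup G) (hlt : d.H < K0) (htop : K0 ≠ ⊤)
    (hF : Cfsg.generalizedFittingSubgroup K0 = Cfsg.fittingSubgroup K0) (h2 : Cfsg.pCore 2 K0 = ⊥) :
    Assembly.FourGroups G ∨ ∃ f : Frame G, f.TwoPrimes ∧
      (∀ k ∈ f.K, k * f.t * k⁻¹ ≠ f.u) ∧ (∀ k ∈ f.K, k * f.t * k⁻¹ ≠ f.t * f.u) := by
  rcases four_or_frame d hknown K0 hlt htop hF h2 with h | ⟨f, -, -, -, hu, htu⟩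
  · exact Or.inl h
  · exact Or.inr ⟨f, f.twoPrimes d.S d.e hu htu, hu, htu⟩

/-- The odd case of the theorem of Bender and Glauberman, given that frames have no links. -/
theorem oddCase_of_no_link
    (hlink : ∀ (H : Type v) [Group H] [Finite H] [IsSimpleGroup H] (d : Bender.Data H), KnownProper H →
      ∀ f : Frame H, f.TwoPrimes → (∀ k ∈ f.K, k * f.t * k⁻¹ ≠ f.u) →
        (∀ k ∈ f.K, k * f.t * k⁻¹ ≠ f.t * f.u) →
        ∀ (p : ℕ) [Fact p.Prime] (I : Subgroup H), ¬ f.IsLink p I) : Assembly.OddCase.{v} := by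
  intro H _ _ _ d hbelow K hlt htop hF h2
  have hknown := Assembly.knownProper d hbelow
  rcases four_or_twoPrimes d hknown K hlt htop hF h2 with h | ⟨f, hf, hu, htu⟩
  · exact h
  · exfalso
    refine f.false_of_no_link d.S d.e (hlink H d hknown f hf hu htu) (hlink H d hknown f.swap hf htu ?_)
    intro k hk h
    refine hu k hk (h.trans ?_)
    show f.t * (f.t * f.u) = f.u
    rw [← mul_assoc, f.t_sq, one_mul]

end Cfsg.Agent.GW.NoBare
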