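import Cfsg.Agent.Lib.GW.NoBareQuadratic
import Cfsg.Agent.Techniques.SL2.ZJFusion
import Cfsg.Agent.S2795
import Cfsg.Agent.Techniques.KInf.Stable
import Cfsg.Agent.Lib.PLocal.ZJCenterFusion

/-!
In a group with dihedral Sylow `2`-subgroups the centre of the Thompson subgroup controls fusion at odd primes.
-/

set_option autoImplicit false
set_option linter.all false

namespace Cfsg.Agent.GW.NoBare

open Cfsg.Agent.GW.NoBareQuadratic

universe u

variable {G : Type u} [Group G] [Finite G] {p : ℕ} [Fact p.Prime]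

/-- The conjugation action of any subgroup on a normal `p`-subgroup is stable. -/
theorem stableOn (S : Sylow 2 G) {m : ℕ} (e : (S : Subgroup G) ≃* DihedralGroup m) (hp : p ≠ 2)
    (K : Subgroup G) : ∀ (V : Subgroup K) [V.Normal], IsPGroup p V → Cfsg.IsPStableOn p V := by
  intro V _ hV
  refine Cfsg.Agent.Techniques.SL2.ZJFusion.isPStableOn_of_stable ?_ V hV
  exact Techniques.SL2.ZJFusion.stable_of_free hp
    (PLocal.ZJCenterFusion.qd_free_of_sl_two_free (not_involves_subgroup S e hp K))

/-- Fusion in a Sylow subgroup is controlled by the normalizer of the centre of its Thompson subgroup. -/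
theorem fusion (S : Sylow 2 G) {m : ℕ} (e : (S : Subgroup G) ≃* DihedralGroup m) (hp : p ≠ 2) (T : Sylow p G)
    {a g : G} (ha : a ∈ (T : Subgroup G)) (hga : g * a * g⁻¹ ∈ (T : Subgroup G)) :
    ∃ x ∈ Subgroup.normalizer (Cfsg.centerThompsonOf p (T : Subgroup G) : Set G), g * a * g⁻¹ = x * a * x⁻¹ := by
  obtain ⟨x, hx, he⟩ := PLocal.ZJCenterFusion.fusion_of_free hp
    (PLocal.ZJCenterFusion.qd_free_of_sl_two_free (not_involves S e hp)) T {a}
    (Set.singleton_subset_iff.2 ha) g (by rw [Set.image_singleton]; exact Set.singleton_subset_iff.2 hga)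
  exact ⟨x, hx, he a rfl⟩

end Cfsg.Agent.GW.NoBare
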