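import Cfsg.Agent.Lib.GW.NoBareBasic
import Cfsg.Agent.Lib.GW.NoBareSection
import Cfsg.Agent.Lib.PLocal.ThompsonComplement

/-!
# No component-free overgroup of an involution centralizer: the prime-power case

`notes/gw-nb-h8.md`, section 1: the order of `F(K)` has two prime divisors.
-/

set_option autoImplicit false
set_option linter.all false

namespace Cfsg.Agent.GW.NoBare

open Subgroup Cfsg.Agent.Techniques.Bender Cfsg.Agent.Components.MaximalPair
open Cfsg.Agent.Involutions Cfsg.Agent.PLocal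

universe v

variable {G : Type v} [Group G] [Finite G]

/-- An element with nontrivial square commutes with at most one involution of a dihedral group. -/
theorem dihedral_eq {m : ℕ} {w a b : DihedralGroup m} (hw : w * w ≠ 1) (ha : a * a = 1) (hb : b * b = 1)
    (ha1 : a ≠ 1) (hb1 : b ≠ 1) (hwa : Commute w a) (hwb : Commute w b) : a = b := by
  rcases w with i | i
  swap
  · exact absurd (DihedralGroup.sr_mul_self i) hw
  have hno : ∀ j : ZMod m, ¬ Commute (DihedralGroup.r i) (DihedralGroup.sr j) := fun j h => by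
    apply hw
    have h' : DihedralGroup.sr (j - i) = DihedralGroup.sr (j + i) := by simpa [Commute, SemiconjBy] using h
    rw [DihedralGroup.r_mul_r, DihedralGroup.one_def]
    injection h' with h''
    congr 1
    linear_combination -h''
  rcases a with j | j
  swap
  · exact absurd hwa (hno j)
  rcases b with k | k
  swap
  · exact absurd hwb (hno k)
  rw [DihedralGroup.r_mul_r, DihedralGroup.one_def] at ha hb
  injection ha with ha'
  injection hb with hb'
  have hj : j ≠ 0 := fun h => ha1 (by rw [h, DihedralGroup.r_zero])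
  have hk : k ≠ 0 := fun h => hb1 (by rw [h, DihedralGroup.r_zero])
  congr 1
  by_contra hjk
  rcases m with _ | m
  · exact hj (by simpa using (show (j : ℤ) + j = 0 from ha'))
  · have hj2 : 2 * j.val = m + 1 := by
      have h := congrArg ZMod.val ha'
      rw [ZMod.val_zero, ZMod.val_add] at h
      have hlt := ZMod.val_lt j
      have hne : j.val ≠ 0 := fun h0 => hj ((ZMod.val_eq_zero j).1 h0)
      obtain ⟨c, hc⟩ := Nat.dvd_of_mod_eq_zero h
      have hc2 : c < 2 := by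
        by_contra hc2
        have := Nat.mul_le_mul_left (m + 1) (not_lt.1 hc2)
        omega
      have : c = 1 := by
        rcases c with _ | _ | c <;> omega
      subst this; omega
    have hk2 : 2 * k.val = m + 1 := by
      have h := congrArg ZMod.val hb'
      rw [ZMod.val_zero, ZMod.val_add] at h
      have hlt := ZMod.val_lt k
      have hne : k.val ≠ 0 := fun h0 => hk ((ZMod.val_eq_zero k).1 h0)
      obtain ⟨c, hc⟩ := Nat.dvd_of_mod_eq_zero h
      have hc2 : c < 2 := by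
        by_contra hc2
        have := Nat.mul_le_mul_left (m + 1) (not_lt.1 hc2)
        omega
      have : c = 1 := by
        rcases c with _ | _ | c <;> omega
      subst this; omega
    exact hjk (ZMod.val_injective _ (by omega))

/-- A four-group equals its centralizer in each `2`-subgroup containing it. -/
theorem mem_four_of_commute (S : Sylow 2 G) {m : ℕ} (e : (S : Subgroup G) ≃* DihedralGroup m) (f : Frame G)
    {Q : Subgroup G} (hQ : IsPGroup 2 Q) (ht : f.t ∈ Q) (hu : f.u ∈ Q) {w : G} (hw : w ∈ Q)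
    (hwt : Commute w f.t) (hwu : Commute w f.u) : w = 1 ∨ w = f.t ∨ w = f.u ∨ w = f.t * f.u := by
  haveI : Fact (Nat.Prime 2) := ⟨Nat.prime_two⟩
  by_cases hw1 : w = 1
  · exact Or.inl hw1
  refine Or.inr (f.fix_four w (orderOf_eq_prime ?_ hw1) hwt hwu)
  by_contra hsq
  obtain ⟨φ, hφ⟩ := DihedralSylow.exists_embedding S hQ e
  have key := dihedral_eq (w := φ ⟨w, hw⟩) (a := φ ⟨f.t, ht⟩) (b := φ ⟨f.u, hu⟩) ?_ ?_ ?_ ?_ ?_ ?_ ?_
  · exact f.ne (congrArg Subtype.val (hφ key)).symm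
  · intro h
    rw [← map_mul, ← map_one φ] at h
    exact hsq (by rw [sq]; exact congrArg Subtype.val (hφ h))
  · rw [← map_mul, ← map_one φ]; exact congrArg φ (Subtype.ext f.t_sq)
  · rw [← map_mul, ← map_one φ]; exact congrArg φ (Subtype.ext f.u_sq)
  · intro h
    rw [← map_one φ] at h
    exact Involutions.Basic.ne_one f.t_order (congrArg Subtype.val (hφ h))
  · intro h
    rw [← map_one φ] at h
    exact Involutions.Basic.ne_one f.u_order (congrArg Subtype.val (hφ h))
  · exact (show Commute (⟨w, hw⟩ : Q) ⟨f.t, ht⟩ from Subtype.ext hwt.eq).map φ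
  · exact (show Commute (⟨w, hw⟩ : Q) ⟨f.u, hu⟩ from Subtype.ext hwu.eq).map φ

namespace Frame

variable (f : Frame G)

theorem centralizer_fit_le {x : G} (hx : x ∈ f.K) (hc : ∀ y ∈ f.F, y * x = x * y) : x ∈ f.F := by
  have hc' : x ∈ centralizer (gfit f.K : Set G) := by
    rw [f.gfit_eq_fit]; exact mem_centralizer_iff.2 hc
  have h : x ∈ gfit f.K := centralizer_inf_le (N := f.K) ⟨hc', hx⟩
  rwa [f.gfit_eq_fit] at h

/-- A Sylow `2`-subgroup of the stabiliser of `{x, x⁻¹}` is the four-group, so a conjugate of `t` in the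
centralizer of `x` is a conjugate of `u`. -/
theorem false_of_fused (S : Sylow 2 G) {m : ℕ} (e : (S : Subgroup G) ≃* DihedralGroup m)
    (hu : ∀ k ∈ f.K, k * f.t * k⁻¹ ≠ f.u) (htu : ∀ k ∈ f.K, k * f.t * k⁻¹ ≠ f.t * f.u)
    {x : G} (hxu : Commute f.u x) (hxt : f.t * x * f.t⁻¹ = x⁻¹) (hx2 : x * x ≠ 1)
    {k : G} (hk : k ∈ f.K) (hkx : Commute (k * f.t * k⁻¹) x) : False := by
  haveI : Fact (Nat.Prime 2) := ⟨Nat.prime_two⟩
  let N : Subgroup G :=
    { carrier := {n | n ∈ f.K ∧ (n * x * n⁻¹ = x ∨ n * x * n⁻¹ = x⁻¹)}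
      one_mem' := ⟨one_mem _, Or.inl (by group)⟩
      mul_mem' := fun {a b} ha hb => by
        refine ⟨mul_mem ha.1 hb.1, ?_⟩
        rw [show a * b * x * (a * b)⁻¹ = a * (b * x * b⁻¹) * a⁻¹ by group]
        rcases hb.2 with h | h <;> rw [h]
        · exact ha.2
        · rw [← conj_inv]
          rcases ha.2 with h' | h' <;> rw [h']
          · exact Or.inr rfl
          · exact Or.inl (inv_inv x)
      inv_mem' := fun {a} ha => by
        refine ⟨inv_mem ha.1, ?_⟩
        rcases ha.2 with h | h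
        · left; calc a⁻¹ * x * a⁻¹⁻¹ = a⁻¹ * (a * x * a⁻¹) * a⁻¹⁻¹ := by rw [h]
            _ = x := by group
        · right; calc a⁻¹ * x * a⁻¹⁻¹ = (a⁻¹ * x⁻¹ * a)⁻¹ := by group
            _ = (a⁻¹ * (a * x * a⁻¹) * a)⁻¹ := by rw [h]
            _ = x⁻¹ := by group }
  have htN : f.t ∈ N := ⟨f.t_mem_K, Or.inr hxt⟩
  have huN : f.u ∈ N := ⟨f.u_mem_K, Or.inl (by rw [hxu.eq, mul_inv_cancel_right])⟩
  let V : Subgroup G := closure ({f.t, f.u} : Set G)
  have htV : f.t ∈ V := subset_closure (by simp)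
  have huV : f.u ∈ V := subset_closure (by simp)
  have hVmem : ∀ v, v ∈ V ↔ v = 1 ∨ v = f.t ∨ v = f.u ∨ v = f.t * f.u := fun v =>
    ⟨mem_four f.t_sq f.u_sq f.comm, by
      rintro (rfl | rfl | rfl | rfl)
      exacts [one_mem _, htV, huV, mul_mem htV huV]⟩
  have hVN : V ≤ N := fun v hv => by
    rcases (hVmem v).1 hv with rfl | rfl | rfl | rfl
    exacts [one_mem _, htN, huN, mul_mem htN huN]
  have hVp : IsPGroup 2 V := by
    rintro ⟨v, hv⟩
    refine ⟨1, Subtype.ext ?_⟩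
    show v ^ 2 ^ 1 = 1
    rw [pow_one, sq]
    rcases (hVmem v).1 hv with rfl | rfl | rfl | rfl
    · exact one_mul 1
    · exact f.t_sq
    · exact f.u_sq
    · rw [← sq]; have := pow_orderOf_eq_one (f.t * f.u); rwa [f.tu_order] at this
  have hcases : ∀ n ∈ N, ∀ v, v * x * v⁻¹ = x → v * (n * x * n⁻¹) * v⁻¹ = n * x * n⁻¹ := by
    intro n hn v hv
    rcases hn.2 with h | h <;> rw [h]
    · exact hv
    · rw [← conj_inv, hv]
  -- the four-group is a Sylow subgroup of `N`
  have hmax : ∀ P : Subgroup G, IsPGroup 2 P → P ≤ N → V ≤ P → P = V := by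
    intro P hP hPN hVP
    by_contra hne
    haveI : Group.IsNilpotent P := hP.isNilpotent
    have hlt := Group.normalizerCondition_of_isNilpotent (G := P) (V.subgroupOf P)
      (lt_top_iff_ne_top.2 (fun h => hne (le_antisymm (subgroupOf_eq_top.1 h) hVP)))
    obtain ⟨⟨w, hwP⟩, hw, hwV⟩ := SetLike.exists_of_lt hlt
    rw [mem_subgroupOf] at hwV
    have hconj : ∀ v ∈ V, w * v * w⁻¹ ∈ V := fun v hv =>
      mem_subgroupOf.1 ((mem_normalizer_iff.1 hw ⟨v, hVP hv⟩).1 (mem_subgroupOf.2 hv))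
    have hinj : ∀ {a b : G}, w * a * w⁻¹ = b → w * a = b * w := fun {a b} h => mul_inv_eq_iff_eq_mul.1 h
    have hwN := hPN hwP
    have hu' : w * f.u * w⁻¹ = f.u := by
      have hfix : (w * f.u * w⁻¹) * x * (w * f.u * w⁻¹)⁻¹ = x := by
        have h := hcases w⁻¹ (inv_mem hwN) f.u (by rw [hxu.eq, mul_inv_cancel_right])
        calc (w * f.u * w⁻¹) * x * (w * f.u * w⁻¹)⁻¹
            = w * (f.u * (w⁻¹ * x * w⁻¹⁻¹) * f.u⁻¹) * w⁻¹ := by group
          _ = w * (w⁻¹ * x * w⁻¹⁻¹) * w⁻¹ := by rw [h]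
          _ = x := by group
      have hbad : f.t * x * f.t⁻¹ ≠ x := fun h => hx2 (by
        have e' := hxt.symm.trans h
        calc x * x = x⁻¹ * x := by rw [e']
          _ = 1 := inv_mul_cancel x)
      rcases (hVmem _).1 (hconj _ huV) with h | h | h | h
      · exact absurd (conj_eq_one_iff.1 h) (Involutions.Basic.ne_one f.u_order)
      · exact absurd (h ▸ hfix) hbad
      · exact h
      · rw [h] at hfix
        refine absurd ?_ hbad
        calc f.t * x * f.t⁻¹ = f.t * (f.u * x * f.u⁻¹) * f.t⁻¹ := by rw [hxu.eq, mul_inv_cancel_right]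
          _ = f.t * f.u * x * (f.t * f.u)⁻¹ := by group
          _ = x := hfix
    have hwK : w ∈ f.K := hwN.1
    have ht' : w * f.t * w⁻¹ = f.t := by
      rcases (hVmem _).1 (hconj _ htV) with h | h | h | h
      · exact absurd (conj_eq_one_iff.1 h) (Involutions.Basic.ne_one f.t_order)
      · exact h
      · exact absurd h (hu w hwK)
      · exact absurd h (htu w hwK)
    exact hwV ((hVmem w).2 (mem_four_of_commute S e f hP (hVP ((hVmem _).2 (by simp)))
      (hVP ((hVmem _).2 (by simp))) hwP (hinj ht') (hinj hu')))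
  obtain ⟨P, hP⟩ := (hVp.comap_subtype (K := N)).exists_le_sylow
  have hPV : (P : Subgroup N).map N.subtype = V := hmax _ (P.2.map _) (map_subtype_le _) fun v hv =>
    ⟨⟨v, hVN hv⟩, hP (mem_subgroupOf.2 hv), rfl⟩
  -- the conjugate of `t` moves into it
  set t' := k * f.t * k⁻¹ with ht'
  have ht'N : t' ∈ N := ⟨mul_mem (mul_mem hk f.t_mem_K) (inv_mem hk), Or.inl (by rw [hkx.eq, mul_inv_cancel_right])⟩
  have hz : IsPGroup 2 (zpowers (⟨t', ht'N⟩ : N)) :=
    IsPGroup.of_card (n := 1) (by rw [Nat.card_zpowers, Subgroup.orderOf_mk, ht',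
      Involutions.Basic.orderOf_conj, f.t_order, pow_one])
  obtain ⟨Q, hQ⟩ := hz.exists_le_sylow
  obtain ⟨n, hn⟩ := MulAction.exists_smul_eq N Q P
  have hnV : (n : G) * t' * (n : G)⁻¹ ∈ V := by
    rw [← hPV]
    refine ⟨n * ⟨t', ht'N⟩ * n⁻¹, ?_, rfl⟩
    rw [← hn]
    show n * ⟨t', ht'N⟩ * n⁻¹ ∈ ((n • Q : Sylow 2 N) : Set N)
    rw [Sylow.coe_smul]
    exact ⟨_, hQ (mem_zpowers _), rfl⟩
  have hnfix : ((n : G) * t' * (n : G)⁻¹) * x * ((n : G) * t' * (n : G)⁻¹)⁻¹ = x := by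
    have h := hcases _ (inv_mem n.2) t' (by rw [hkx.eq, mul_inv_cancel_right])
    calc ((n : G) * t' * (n : G)⁻¹) * x * ((n : G) * t' * (n : G)⁻¹)⁻¹
        = (n : G) * (t' * ((n : G)⁻¹ * x * (n : G)⁻¹⁻¹) * t'⁻¹) * (n : G)⁻¹ := by group
      _ = (n : G) * ((n : G)⁻¹ * x * (n : G)⁻¹⁻¹) * (n : G)⁻¹ := by rw [h]
      _ = x := by group
  have hnk : (n : G) * k ∈ f.K := mul_mem n.2.1 hk
  have heq : (n : G) * k * f.t * ((n : G) * k)⁻¹ = (n : G) * t' * (n : G)⁻¹ := by rw [ht']; group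
  rcases (hVmem _).1 hnV with h | h | h | h
  · rw [← heq] at h
    exact absurd (conj_eq_one_iff.1 h) (Involutions.Basic.ne_one f.t_order)
  · rw [h] at hnfix
    refine hx2 ?_
    calc x * x = x * (f.t * x * f.t⁻¹) := by rw [hnfix]
      _ = 1 := by rw [hxt, mul_inv_cancel]
  · exact hu _ hnk (heq.trans h)
  · exact htu _ hnk (heq.trans h)

/-- The contradiction from an element of `F` inverted by `t` and fixed by `u`. -/
theorem false_of_element [IsSimpleGroup G] (S : Sylow 2 G) {m : ℕ} (e : (S : Subgroup G) ≃* DihedralGroup m)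
    (hu : ∀ k ∈ f.K, k * f.t * k⁻¹ ≠ f.u) (htu : ∀ k ∈ f.K, k * f.t * k⁻¹ ≠ f.t * f.u)
    {p : ℕ} [Fact p.Prime] (hp : IsPGroup p f.F) (hp2 : p ≠ 2)
    {x : G} (hxF : x ∈ f.F) (hx1 : x ≠ 1) (hxu : Commute f.u x) (hxt : f.t * x * f.t⁻¹ = x⁻¹) : False := by
  have hpf : f.F ≤ core p f.K := map_mono (Cores.le_pCore (hp.of_equiv
    (Subgroup.equivMapOfInjective _ _ f.K.subtype_injective).symm))
  have hself : centralizer (Cfsg.pCore p f.K : Set f.K) ≤ Cfsg.pCore p f.K := by
    intro y hy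
    have hmem : (y : G) ∈ core p f.K := hpf (f.centralizer_fit_le y.2 fun z hz => by
      obtain ⟨z', hz', rfl⟩ := hpf hz
      exact congrArg Subtype.val (mem_centralizer_iff.1 hy z' hz'))
    obtain ⟨y', hy', he⟩ := hmem
    rwa [Subtype.ext (show (y' : G) = y from he)] at hy'
  obtain ⟨T⟩ := (inferInstance : Nonempty (Sylow p f.K))
  haveI hWn : (Cfsg.centerThompsonOf p (T : Subgroup f.K)).Normal :=
    ZJCenter.centerThompson_normal hp2 hself (stableOn S e hp2 f.K) T
  set TG := (T : Subgroup f.K).map f.K.subtype with hTG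
  set W := Cfsg.centerThompsonOf p TG with hW
  have hTp : IsPGroup p TG := T.2.map _
  have hFT : f.F ≤ TG := hpf.trans (map_mono (Cores.pCore_le_sylow T))
  have hTne : TG ≠ ⊥ := fun h => hx1 (mem_bot.1 (h ▸ hFT hxF))
  have hWmap : W = (Cfsg.centerThompsonOf p (T : Subgroup f.K)).map f.K.subtype := by
    rw [hW, hTG]
    show ThompsonComplement.Z _ = (ThompsonComplement.Z _).map _
    rw [← ThompsonComplement.map_J f.K.subtype_injective.injOn,
      ThompsonComplement.map_Z f.K.subtype_injective.injOn]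
  have hWK : normalizer (W : Set G) = f.K := by
    refine normalizer_eq_of_coatom f.coatom (hWmap ▸ map_subtype_le _) (hWmap ▸ le_normalizer_map_of_normal _ _) ?_
    exact ThompsonComplement.Z_ne_bot (hTp.to_le (ThompsonComplement.J_le TG))
      (ThompsonComplement.J_ne_bot hTp hTne)
  obtain ⟨P, hTP⟩ := hTp.exists_le_sylow
  have hPT : (P : Subgroup G) = TG := by
    by_contra hne
    haveI : Group.IsNilpotent (P : Subgroup G) := P.2.isNilpotent
    have hlt := Group.normalizerCondition_of_isNilpotent (G := (P : Subgroup G)) (TG.subgroupOf P)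
      (lt_top_iff_ne_top.2 fun h => hne (le_antisymm (subgroupOf_eq_top.1 h) hTP))
    obtain ⟨⟨w, hwP⟩, hw, hwT⟩ := SetLike.exists_of_lt hlt
    rw [mem_subgroupOf] at hwT
    have hwN : w ∈ normalizer (TG : Set G) := by
      refine mem_normalizer_iff.2 fun v => ⟨fun hv => ?_, fun hv => ?_⟩
      · exact mem_subgroupOf.1 ((mem_normalizer_iff.1 hw ⟨v, hTP hv⟩).1 (mem_subgroupOf.2 hv))
      · have hvP : v ∈ (P : Subgroup G) := by
          have := mul_mem (mul_mem (inv_mem hwP) (hTP hv)) hwP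
          rwa [show w⁻¹ * (w * v * w⁻¹) * w = v by group] at this
        exact mem_subgroupOf.1 ((mem_normalizer_iff.1 hw ⟨v, hvP⟩).2 (mem_subgroupOf.2 hv))
    have hwK : w ∈ f.K := hWK ▸ (ThompsonComplement.normalizer_le_J TG).trans
      (ThompsonComplement.normalizer_le_Z _) hwN
    have hle : ((P : Subgroup G).subgroupOf f.K) = T :=
      T.is_maximal' (P.2.comap_subtype) fun v hv => mem_subgroupOf.2 (hTP ⟨v, hv, rfl⟩)
    exact hwT ⟨⟨w, hwK⟩, hle ▸ mem_subgroupOf.2 hwP, rfl⟩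
  -- the second conjugate of `x` lies in `K`
  set y := f.g * f.g * x * (f.g * f.g)⁻¹ with hy
  have hgu : f.g * f.g * f.u * (f.g * f.g)⁻¹ = f.t := by
    rw [show f.g * f.g * f.u * (f.g * f.g)⁻¹ = f.g * (f.g * f.u * f.g⁻¹) * f.g⁻¹ by group, f.conj_u,
      ← conj_mul, f.conj_t, f.conj_u]
    rw [← mul_assoc, f.comm.symm.eq, mul_assoc, f.u_sq, mul_one]
  have hyK : y ∈ f.K := f.mem_K_of_commute (by
    have h := (Commute.conj_iff (f.g * f.g)).2 hxu
    rw [hgu] at h
    exact h.symm)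
  -- a `p`-element of `K` conjugates into `T`
  have hypp : IsPGroup p (zpowers (⟨y, hyK⟩ : f.K)) := by
    obtain ⟨a, ha⟩ := IsPGroup.iff_orderOf.1 hp ⟨x, hxF⟩
    refine IsPGroup.of_card (n := a) ?_
    rw [Nat.card_zpowers, Subgroup.orderOf_mk, hy, Involutions.Basic.orderOf_conj, ← ha, Subgroup.orderOf_mk]
  obtain ⟨Q, hQ⟩ := hypp.exists_le_sylow
  obtain ⟨k1, hk1⟩ := MulAction.exists_smul_eq f.K Q T
  have hk1T : (k1 : G) * y * (k1 : G)⁻¹ ∈ TG := by
    refine ⟨k1 * ⟨y, hyK⟩ * k1⁻¹, ?_, rfl⟩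
    rw [← hk1]
    show k1 * ⟨y, hyK⟩ * k1⁻¹ ∈ ((k1 • Q : Sylow p f.K) : Set f.K)
    rw [Sylow.coe_smul]
    exact ⟨_, hQ (mem_zpowers _), rfl⟩
  have heq : (k1 : G) * f.g * f.g * x * ((k1 : G) * f.g * f.g)⁻¹ = (k1 : G) * y * (k1 : G)⁻¹ := by
    rw [hy]; group
  obtain ⟨z, hz, hze⟩ := fusion S e hp2 P (a := x) (g := (k1 : G) * f.g * f.g)
    (hPT ▸ hFT hxF) (heq ▸ hPT ▸ hk1T)
  rw [hPT, ← hW, hWK] at hz
  rw [heq] at hze
  have hk : z⁻¹ * (k1 : G) ∈ f.K := mul_mem (inv_mem hz) k1.2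
  have hkyx : z⁻¹ * (k1 : G) * y * (z⁻¹ * (k1 : G))⁻¹ = x := by
    calc z⁻¹ * (k1 : G) * y * (z⁻¹ * (k1 : G))⁻¹ = z⁻¹ * ((k1 : G) * y * (k1 : G)⁻¹) * z := by group
      _ = z⁻¹ * (z * x * z⁻¹) * z := by rw [hze]
      _ = x := by group
  refine f.false_of_fused S e hu htu hxu hxt ?_ hk ?_
  · intro h2
    obtain ⟨a, ha⟩ := IsPGroup.iff_orderOf.1 hp ⟨x, hxF⟩
    rw [Subgroup.orderOf_mk] at ha
    have hd : orderOf x ∣ 2 := orderOf_dvd_of_pow_eq_one (by rw [sq, h2])
    rw [ha] at hd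
    rcases (Nat.dvd_prime Nat.prime_two).1 hd with h | h
    · exact hx1 (orderOf_eq_one_iff.1 (ha.trans h))
    · exact hp2 ((Nat.prime_dvd_prime_iff_eq Nat.prime_two Fact.out).1
        (Nat.prime_two.dvd_of_dvd_pow (by rw [h]))).symm
  · have hc : Commute f.t y := by
      have h := (Commute.conj_iff (f.g * f.g)).2 hxu
      rwa [hgu] at h
    have h := (Commute.conj_iff (z⁻¹ * (k1 : G))).2 hc
    rwa [hkyx] at h

/-- Section 1: the order of `F(K)` has two prime divisors. -/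
theorem twoPrimes [IsSimpleGroup G] (S : Sylow 2 G) {m : ℕ} (e : (S : Subgroup G) ≃* DihedralGroup m)
    (hu : ∀ k ∈ f.K, k * f.t * k⁻¹ ≠ f.u) (htu : ∀ k ∈ f.K, k * f.t * k⁻¹ ≠ f.t * f.u) : f.TwoPrimes := by
  intro p hp hF
  haveI := Fact.mk hp
  have hp2 : p ≠ 2 := by
    rintro rfl
    have hle : f.F ≤ core 2 f.K := map_mono (Cores.le_pCore (hF.of_equiv
      (Subgroup.equivMapOfInjective _ _ f.K.subtype_injective).symm))
    have hbot : f.F = ⊥ := le_bot_iff.1 (hle.trans f.core_two.le)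
    have ht := f.centralizer_fit_le f.t_mem_K (fun y hy => by rw [hbot, mem_bot] at hy; simp [hy])
    rw [hbot, mem_bot] at ht
    exact Involutions.Basic.ne_one f.t_order ht
  obtain ⟨y0, hy0, hne⟩ : ∃ y ∈ f.F, ¬ Commute f.t y := by
    by_contra h
    push Not at h
    exact f.t_not_mem_centralizer_F (mem_centralizer_iff.2 fun y hy => (h y hy).eq.symm)
  obtain ⟨x, hxF, hx1, hxt, hxv⟩ := exists_moved f.t_order f.u_order f.ne f.comm
    (le_normalizer_map_of_normal f.K _ f.t_mem_K) (le_normalizer_map_of_normal f.K _ f.u_mem_K) f.F_odd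
    ⟨y0, hy0, hne⟩
  rcases hxv with hv | hv
  · exact f.false_of_element S e hu htu hF hp2 hxF hx1 hv.symm hxt
  · refine f.swap.false_of_element S e htu ?_ hF hp2 hxF hx1 hv.symm hxt
    intro k hk h
    refine hu k hk (h.trans ?_)
    show f.t * (f.t * f.u) = f.u
    rw [← mul_assoc, f.t_sq, one_mul]

end Frame

end Cfsg.Agent.GW.NoBare
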