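import Cfsg.Agent.Techniques.SL2.Nonstable
import Cfsg.Agent.Lib.Involutions.DihedralSylow
import Cfsg.Agent.Lib.Coprime.Commutator

/-!
# Quadratic elements in groups with dihedral Sylow 2-subgroups

Such a group involves no `SL₂(p)`, so all its sections are `p`-stable; consequently a quadratic
element on the top of `O_p` centralizing the rest of the Fitting subgroup lies in it.
-/

set_option autoImplicit false
set_option linter.style.haveILetI false
set_option linter.unusedSectionVars false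

namespace Cfsg.Agent.GW.NoBareQuadratic

open Subgroup Cfsg.Agent.Involutions Cfsg.Agent.Techniques
open scoped MatrixGroups commutatorElement

variable {G : Type*} [Group G] [Finite G]

section NoSL

variable (S : Sylow 2 G) {m : ℕ} (e : (S : Subgroup G) ≃* DihedralGroup m)

include e in
/-- Two elements of one 2-subgroup whose squares are nontrivial commute. -/
theorem commute_of_sq_ne_one {Q : Subgroup G} (hQ : IsPGroup 2 Q) {a b : Q} (ha : a ^ 2 ≠ 1)
    (hb : b ^ 2 ≠ 1) : a * b = b * a := by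
  obtain ⟨f, hf⟩ := DihedralSylow.exists_embedding S hQ e
  have rot : ∀ {c : Q}, c ^ 2 ≠ 1 → ∃ i : ZMod m, f c = DihedralGroup.r i := by
    intro c hc
    rcases h : f c with i | i
    · exact ⟨i, rfl⟩
    · refine absurd (hf ?_) hc
      rw [map_pow, h, map_one, sq, DihedralGroup.sr_mul_self]
  obtain ⟨i, hi⟩ := rot ha
  obtain ⟨j, hj⟩ := rot hb
  apply hf
  rw [map_mul, map_mul, hi, hj, DihedralGroup.r_mul_r, DihedralGroup.r_mul_r, add_comm]

include e in
/-- A group with dihedral Sylow 2-subgroups has no section `SL₂(p)`. -/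
theorem not_involves {p : ℕ} [hp : Fact p.Prime] (hp2 : p ≠ 2) :
    ¬ Cfsg.Involves SL(2, ZMod p) G := by
  intro h
  obtain ⟨K, f, hf⟩ := SL2.Qd.exists_surj h
  obtain ⟨a, b, hab⟩ := ZMod.sq_add_sq p (-1 : ZMod p)
  obtain ⟨x, hxm⟩ : ∃ x : SL(2, ZMod p),
      (x : Matrix (Fin 2) (Fin 2) (ZMod p)) = !![0, 1; -1, 0] :=
    ⟨⟨!![0, 1; -1, 0], by simp [Matrix.det_fin_two_of]⟩, rfl⟩
  obtain ⟨y, hym⟩ : ∃ y : SL(2, ZMod p),
      (y : Matrix (Fin 2) (Fin 2) (ZMod p)) = !![a, b; b, -a] :=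
    ⟨⟨!![a, b; b, -a], by rw [Matrix.det_fin_two_of]; linear_combination -hab⟩, rfl⟩
  let z : SL(2, ZMod p) := -1
  have hzm : (z : Matrix (Fin 2) (Fin 2) (ZMod p)) = !![-1, 0; 0, -1] := by
    show ((-1 : SL(2, ZMod p)) : Matrix (Fin 2) (Fin 2) (ZMod p)) = _
    rw [Matrix.SpecialLinearGroup.coe_neg, Matrix.SpecialLinearGroup.coe_one]
    ext i j
    fin_cases i <;> fin_cases j <;> simp
  have hx : x * x = z := by
    refine Subtype.ext ?_
    rw [Matrix.SpecialLinearGroup.coe_mul, hxm, hzm, Matrix.mul_fin_two]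
    ext i j
    fin_cases i <;> fin_cases j <;> simp
  have hy : y * y = z := by
    refine Subtype.ext ?_
    rw [Matrix.SpecialLinearGroup.coe_mul, hym, hzm, Matrix.mul_fin_two]
    ext i j
    fin_cases i <;> fin_cases j <;> simp <;>
      first | linear_combination hab | linear_combination -hab | ring
  have hyx : y * x = z * (x * y) := by
    refine Subtype.ext ?_
    simp only [Matrix.SpecialLinearGroup.coe_mul, hxm, hym, hzm, Matrix.mul_fin_two]
    ext i j
    fin_cases i <;> fin_cases j <;> simp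
  have hz : z ≠ 1 := by
    intro h
    have h0 : (z : Matrix (Fin 2) (Fin 2) (ZMod p)) 0 0 = 1 := by rw [h]; simp
    have h2 : ((2 : ℕ) : ZMod p) = 0 := by
      rw [hzm] at h0
      simp at h0
      push_cast
      linear_combination -h0
    rw [ZMod.natCast_eq_zero_iff] at h2
    exact hp2 ((Nat.prime_dvd_prime_iff_eq hp.out Nat.prime_two).mp h2)
  have hz2 : z * z = 1 := by simp [z]
  have hx4 : x ^ (2 ^ 2) = 1 := by
    rw [show (2 : ℕ) ^ 2 = 2 * 2 from rfl, pow_mul, pow_two x, hx, pow_two, hz2]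
  have hy4 : y ^ (2 ^ 2) = 1 := by
    rw [show (2 : ℕ) ^ 2 = 2 * 2 from rfl, pow_mul, pow_two y, hy, pow_two, hz2]
  have hp2' : ∀ {g : SL(2, ZMod p)}, g ^ (2 ^ 2) = 1 → IsPGroup 2 (zpowers g) := by
    rintro g hg ⟨w, k, rfl⟩
    refine ⟨2, Subtype.ext ?_⟩
    show (g ^ k) ^ (2 ^ 2) = 1
    rw [← zpow_natCast, ← zpow_mul, mul_comm, zpow_mul, zpow_natCast, hg, one_zpow]
  have hzc : z * x = x * z := by rw [← hx, mul_assoc]
  have hnorm : zpowers y ≤ normalizer (zpowers x : Set SL(2, ZMod p)) := by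
    rw [zpowers_le]
    have hc : y * x * y⁻¹ = z * x := by rw [hyx, mul_assoc, mul_assoc, mul_inv_cancel, mul_one]
    have hzx : z * x ∈ zpowers x := by
      rw [← hx]; exact mul_mem (mul_mem (mem_zpowers x) (mem_zpowers x)) (mem_zpowers x)
    have hle : ∀ g ∈ zpowers x, y * g * y⁻¹ ∈ zpowers x := by
      rintro g ⟨k, rfl⟩
      rw [← conj_zpow, hc]
      exact zpow_mem hzx k
    refine mem_normalizer_iff.mpr fun g => ⟨hle g, fun hg => ?_⟩
    have h4 : ∀ n : ℕ, ∀ g ∈ zpowers x, y ^ n * g * (y ^ n)⁻¹ ∈ zpowers x := by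
      intro n
      induction n with
      | zero => intro g hg; simpa using hg
      | succ n ih =>
        intro g hg
        rw [pow_succ', show y * y ^ n * g * (y * y ^ n)⁻¹ = y * (y ^ n * g * (y ^ n)⁻¹) * y⁻¹ by
          group]
        exact hle _ (ih g hg)
    have h5 := h4 3 _ hg
    rw [show y ^ 3 * (y * g * y⁻¹) * (y ^ 3)⁻¹ = y ^ (2 ^ 2) * g * (y ^ (2 ^ 2))⁻¹ by group,
      hy4] at h5
    simpa using h5
  set Q8 := zpowers x ⊔ zpowers y
  have hQ8 : IsPGroup 2 Q8 :=
    IsPGroup.to_sup_of_normal_left' (hp2' hx4) (hp2' hy4) hnorm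
  obtain ⟨T⟩ := (inferInstance : Nonempty (Sylow 2 ↥(Q8.comap f)))
  let r : Q8.comap f →* Q8 := f.subgroupComap Q8
  have hr : Function.Surjective r := MonoidHom.subgroupComap_surjective_of_surjective f Q8 hf
  have htop : (T.mapSurjective hr : Subgroup Q8) = ⊤ :=
    ((T.mapSurjective hr).is_maximal' (hQ8.to_subgroup ⊤) le_top).symm
  have lift : ∀ g ∈ Q8, ∃ c ∈ (T : Subgroup ↥(Q8.comap f)), f (c : K) = g := by
    intro g hg
    obtain ⟨c, hc, he⟩ := (htop ▸ mem_top (⟨g, hg⟩ : Q8) : (⟨g, hg⟩ : Q8) ∈ _)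
    exact ⟨c, hc, congrArg Subtype.val he⟩
  obtain ⟨c, hc, hcx⟩ := lift x (mem_sup_left (mem_zpowers x))
  obtain ⟨d, hd, hdy⟩ := lift y (mem_sup_right (mem_zpowers y))
  set T' : Subgroup G := ((T : Subgroup ↥(Q8.comap f)).map (Q8.comap f).subtype).map K.subtype
  have hT' : IsPGroup 2 T' := (T.isPGroup'.map _).map _
  have hc2 : ((c : K) : G) ^ 2 ≠ 1 := fun h => by
    apply hz
    have : (c : K) ^ 2 = 1 := Subtype.ext (by simpa using h)
    rw [← hx, ← hcx, ← map_mul, ← pow_two, this, map_one]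
  have hd2 : ((d : K) : G) ^ 2 ≠ 1 := fun h => by
    apply hz
    have : (d : K) ^ 2 = 1 := Subtype.ext (by simpa using h)
    rw [← hy, ← hdy, ← map_mul, ← pow_two, this, map_one]
  have hcomm := commute_of_sq_ne_one S e hT'
    (a := ⟨((c : K) : G), mem_map_of_mem _ (mem_map_of_mem _ hc)⟩)
    (b := ⟨((d : K) : G), mem_map_of_mem _ (mem_map_of_mem _ hd)⟩)
    (fun h => hc2 (congrArg Subtype.val h)) (fun h => hd2 (congrArg Subtype.val h))
  have hcd : (c : K) * d = d * c := Subtype.ext (by simpa using congrArg Subtype.val hcomm)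
  have hxy : x * y = y * x := by rw [← hcx, ← hdy, ← map_mul, hcd, map_mul]
  apply hz
  rw [hyx] at hxy
  exact (mul_eq_right.mp hxy.symm)

include e in
/-- The hypothesis of Glauberman's theorem on fusion. -/
theorem sl_two_free {p : ℕ} [Fact p.Prime] (hp2 : p ≠ 2) :
    ¬ ∃ (H K : Subgroup G) (_ : (K.subgroupOf H).Normal),
      Nonempty ((H ⧸ K.subgroupOf H) ≃* Matrix.SpecialLinearGroup (Fin 2) (ZMod p)) :=
  fun ⟨H, K, hK, h⟩ => not_involves S e hp2 ⟨H, K, hK, h⟩

include e in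
/-- No subgroup involves `SL₂(p)`. -/
theorem not_involves_subgroup {p : ℕ} [Fact p.Prime] (hp2 : p ≠ 2) (K : Subgroup G) :
    ¬ Cfsg.Involves SL(2, ZMod p) K :=
  fun h => not_involves S e hp2 (SL2.Qd.involves_trans (MonoidHom.id ↥K) Function.surjective_id h)

end NoSL

section Stable

variable {p : ℕ} [Fact p.Prime] {H : Type*} [Group H] [Finite H]

/-- Quotients of a group without sections `SL₂(p)` are stable. -/
theorem stable_quotient (hp2 : p ≠ 2) (hfree : ¬ Cfsg.Involves SL(2, ZMod p) H) (N : Subgroup H)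
    [N.Normal] : Cfsg.IsNormalizerPStable p (H ⧸ N) := by
  by_contra hns
  obtain ⟨P, -, -, -, hSL⟩ := SL2.Nonstable.involves_of_not_stable hp2 hns
  refine hfree (SL2.Qd.involves_trans (L := (⊤ : Subgroup H))
    ((QuotientGroup.mk' N).comp (⊤ : Subgroup H).subtype) ?_
    (SL2.Qd.involves_trans (MonoidHom.id _) Function.surjective_id hSL))
  intro y
  obtain ⟨x, rfl⟩ := QuotientGroup.mk'_surjective N y
  exact ⟨⟨x, mem_top x⟩, rfl⟩

/-- A quadratic element on `Q / N` centralizing `R` lies in `O_p ⊔ R`, when the elements of order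
prime to `p` trivial on `Q / N` centralize `Q` and the centralizer of `Q ⊔ R` is inside it. -/
theorem mem_core_sup (hp2 : p ≠ 2) (hfree : ¬ Cfsg.Involves SL(2, ZMod p) H)
    (Q R N : Subgroup H) [Q.Normal] [R.Normal] [N.Normal] (hQ : IsPGroup p Q)
    (hR : (Nat.card R).Coprime p)
    (hfaith : ∀ g : H, (orderOf g).Coprime p → (∀ q ∈ Q, ⁅g, q⁆ ∈ N) →
      g ∈ centralizer (Q : Set H))
    (hself : centralizer (Q : Set H) ⊓ centralizer (R : Set H) ≤ Q ⊔ R)
    {y : H} (hy : y ∈ centralizer (R : Set H))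
    (hquad : ⁅⁅Q, zpowers y⁆, zpowers y⁆ ≤ N) : y ∈ Cfsg.pCore p H ⊔ R := by
  have hp : p.Prime := Fact.out
  set π := QuotientGroup.mk' N
  set W := Q.map π with hW
  haveI : W.Normal := (inferInstance : Q.Normal).map π (QuotientGroup.mk'_surjective N)
  have hnW : ∀ w : H ⧸ N, w ∈ normalizer (W : Set (H ⧸ N)) :=
    fun w => le_normalizer_of_normal (mem_top w)
  have hst := stable_quotient hp2 hfree N W (hQ.map π) (π y) (hnW _) (by
    rw [hW, ← MonoidHom.map_zpowers, ← map_commutator, ← map_commutator, Subgroup.map_eq_bot_iff,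
      QuotientGroup.ker_mk']
    exact hquad)
  set C := (centralizer (W : Set (H ⧸ N))).subgroupOf (normalizer (W : Set (H ⧸ N))) with hC
  let f : H →* normalizer (W : Set (H ⧸ N)) ⧸ C :=
    (QuotientGroup.mk' C).comp (π.codRestrict _ fun w => hnW _)
  haveI : (Cfsg.pCore p (normalizer (W : Set (H ⧸ N)) ⧸ C)).Normal :=
    Cfsg.Agent.PLocal.Cores.pCore_normal'
  set D := (Cfsg.pCore p (normalizer (W : Set (H ⧸ N)) ⧸ C)).comap f ⊓ centralizer (R : Set H)
    with hD
  haveI : (centralizer (R : Set H)).Normal := inferInstance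
  haveI : D.Normal := by rw [hD]; infer_instance
  set Z := R ⊓ centralizer (R : Set H) ⊓ centralizer (Q : Set H) with hZ
  have hfC : ∀ g : H, f g = 1 ↔ ∀ q ∈ Q, ⁅g, q⁆ ∈ N := by
    intro g
    show QuotientGroup.mk' C _ = 1 ↔ _
    rw [QuotientGroup.mk'_apply, QuotientGroup.eq_one_iff, hC, mem_subgroupOf,
      mem_centralizer_iff]
    constructor
    · intro h q hq
      rw [← QuotientGroup.eq_one_iff, ← QuotientGroup.mk'_apply, map_commutatorElement,
        commutatorElement_eq_one_iff_mul_comm]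
      exact (h _ (mem_map_of_mem π hq)).symm
    · rintro h _ ⟨q, hq, rfl⟩
      refine (commutatorElement_eq_one_iff_mul_comm.mp ?_).symm
      show ⁅π g, π q⁆ = 1
      rw [← map_commutatorElement]
      exact (QuotientGroup.eq_one_iff _).mpr (h q hq)
  -- high powers of elements of `D` are in `Z`
  have hpow : ∀ g ∈ D, ∃ k : ℕ, g ^ p ^ k ∈ Z := by
    intro g hg
    obtain ⟨k, hk⟩ := (Cfsg.Agent.PLocal.Cores.isPGroup_pCore (p := p)
      (G := normalizer (W : Set (H ⧸ N)) ⧸ C)) ⟨f g, hg.1⟩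
    obtain ⟨j, hj⟩ := KInf.exists_pow_coprime (p := p) (g ^ p ^ k)
    refine ⟨k + j, ?_⟩
    rw [pow_add, pow_mul]
    set g' := (g ^ p ^ k) ^ p ^ j with hg'
    have h1 : f g' = 1 := by
      rw [hg', map_pow, map_pow,
        show f g ^ p ^ k = 1 by simpa using congrArg Subtype.val hk, one_pow]
    have hgR : g' ∈ centralizer (R : Set H) := pow_mem (pow_mem hg.2 _) _
    have hgQ := hfaith g' hj ((hfC g').mp h1)
    refine ⟨⟨?_, hgR⟩, hgQ⟩
    have hm := hself ⟨hgQ, hgR⟩
    rw [mem_sup_of_normal_right] at hm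
    obtain ⟨q, hq, r, hr, hqr⟩ := hm
    obtain ⟨i, hi⟩ := hQ ⟨q, hq⟩
    have hi' : q ^ p ^ i = 1 := by simpa using congrArg Subtype.val hi
    show g' ∈ R
    rw [← QuotientGroup.eq_one_iff]
    have h2 : (QuotientGroup.mk g' : H ⧸ R) ^ p ^ i = 1 := by
      rw [← hqr, QuotientGroup.mk_mul, (QuotientGroup.eq_one_iff r).mpr hr, mul_one,
        ← QuotientGroup.mk_pow, hi', QuotientGroup.mk_one]
    exact orderOf_eq_one_iff.mp (Nat.eq_one_of_dvd_coprimes (hj.pow_right i)
      (orderOf_map_dvd (QuotientGroup.mk' R) g') (orderOf_dvd_of_pow_eq_one h2))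
  have hZD : Z ≤ D := fun z hz => ⟨by
    show f z ∈ Cfsg.pCore p _
    rw [(hfC z).mpr fun q hq => ?_]
    · exact one_mem _
    · rw [commutatorElement_eq_one_iff_mul_comm.mpr ((mem_centralizer_iff.mp hz.2 q hq).symm)]
      exact one_mem _, hz.1.2⟩
  set Z' := Z.subgroupOf D with hZ'
  have hcen : ∀ z ∈ Z', ∀ g : D, g * z = z * g := fun z hz g => Subtype.ext
    ((mem_centralizer_iff.mp g.2.2 (z : H) hz.1.1).symm)
  haveI : Z'.Normal := ⟨fun z hz g => by rw [hcen z hz g, mul_inv_cancel_right]; exact hz⟩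
  have hDp : IsPGroup p (D ⧸ Z') := by
    intro w
    obtain ⟨g, rfl⟩ := QuotientGroup.mk'_surjective Z' w
    obtain ⟨k, hk⟩ := hpow g g.2
    exact ⟨k, by rw [← map_pow, QuotientGroup.mk'_apply, QuotientGroup.eq_one_iff]; exact hk⟩
  obtain ⟨n, hn⟩ := IsPGroup.iff_card.mp hDp
  obtain ⟨T⟩ := (inferInstance : Nonempty (Sylow p ↥D))
  have hTZ : (T : Subgroup D) ⊔ Z' = ⊤ := by
    rw [← Subgroup.index_eq_one]
    refine Nat.eq_one_of_dvd_coprimes (Nat.Coprime.pow_right n (Nat.coprime_comm.mp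
      ((hp.coprime_iff_not_dvd).mpr T.not_dvd_index)))
      (Subgroup.index_dvd_of_le le_sup_left) ?_
    rw [← hn]
    exact Subgroup.index_dvd_of_le le_sup_right
  haveI hTn : (T : Subgroup D).Normal := by
    rw [← normalizer_eq_top_iff, eq_top_iff, ← hTZ, sup_le_iff]
    refine ⟨le_normalizer, fun z hz => mem_normalizer_iff.mpr fun g => ?_⟩
    rw [← hcen z hz g, mul_inv_cancel_right]
  haveI : (T : Subgroup D).Characteristic := T.characteristic_of_normal hTn
  have hTc : (T : Subgroup D).map D.subtype ≤ Cfsg.pCore p H :=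
    Cfsg.Agent.PLocal.Cores.le_pCore (T.isPGroup'.map _)
  have hyD : y ∈ D := ⟨hst, hy⟩
  have h := mem_map_of_mem D.subtype (hTZ ▸ mem_top (⟨y, hyD⟩ : D))
  rw [Subgroup.map_sup] at h
  exact sup_le_sup hTc ((map_comap_le _ _).trans (inf_le_left.trans inf_le_left)) h

/-- The same modulo the Frattini subgroup of `Q`. -/
theorem mem_core_sup_frattini (hp2 : p ≠ 2) (hfree : ¬ Cfsg.Involves SL(2, ZMod p) H)
    (Q R : Subgroup H) [Q.Normal] [R.Normal] (hQ : IsPGroup p Q) (hR : (Nat.card R).Coprime p)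
    (hself : centralizer (Q : Set H) ⊓ centralizer (R : Set H) ≤ Q ⊔ R)
    {y : H} (hy : y ∈ centralizer (R : Set H))
    (hquad : ⁅⁅Q, zpowers y⁆, zpowers y⁆ ≤ (frattini Q).map Q.subtype) :
    y ∈ Cfsg.pCore p H ⊔ R := by
  refine mem_core_sup hp2 hfree Q R ((frattini Q).map Q.subtype) hQ hR (fun g hg hgN => ?_)
    hself hy hquad
  obtain ⟨n, hn⟩ := IsPGroup.iff_card.mp (hQ.to_subgroup (frattini Q))
  refine Coprime.le_centralizer_of_frattini (A := zpowers g) (K := Q) ?_ ?_ ?_ (mem_zpowers g)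
  · exact le_top.trans (le_normalizer_of_normal (H := Q))
  · rw [Nat.card_zpowers, hn]
    exact hg.pow_right n
  · have hN : ((frattini Q).map Q.subtype).Normal := inferInstance
    have hle : zpowers g ≤ (centralizer ((Q.map (QuotientGroup.mk' ((frattini Q).map Q.subtype)) :
        Subgroup (H ⧸ (frattini Q).map Q.subtype)) : Set _)).comap
        (QuotientGroup.mk' ((frattini Q).map Q.subtype)) := by
      rw [zpowers_le, mem_comap, mem_centralizer_iff]
      rintro _ ⟨q, hq, rfl⟩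
      refine (commutatorElement_eq_one_iff_mul_comm.mp ?_).symm
      rw [← map_commutatorElement]
      exact (QuotientGroup.eq_one_iff _).mpr (hgN q hq)
    intro a ha q hq
    have h := mem_centralizer_iff.mp (mem_comap.mp (hle ha)) _ (mem_map_of_mem _ hq)
    rw [← QuotientGroup.eq_one_iff, ← QuotientGroup.mk'_apply, map_mul, map_mul, map_mul, map_inv,
      map_inv, ← h]
    group

end Stable

/-- In a subgroup of a group with dihedral Sylow 2-subgroups. -/
theorem mem_fitting (S : Sylow 2 G) {m : ℕ} (e : (S : Subgroup G) ≃* DihedralGroup m) {p : ℕ}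
    [Fact p.Prime] (hp2 : p ≠ 2) (K : Subgroup G) (R : Subgroup K) [R.Normal]
    (hR : (Nat.card R).Coprime p)
    (hself : centralizer (Cfsg.pCore p K : Set K) ⊓ centralizer (R : Set K) ≤ Cfsg.pCore p K ⊔ R)
    {y : K} (hy : y ∈ centralizer (R : Set K))
    (hquad : ⁅⁅Cfsg.pCore p K, zpowers y⁆, zpowers y⁆ ≤
      (frattini (Cfsg.pCore p K)).map (Cfsg.pCore p K).subtype) :
    y ∈ Cfsg.pCore p K ⊔ R := by
  haveI : (Cfsg.pCore p K).Normal := Cfsg.Agent.PLocal.Cores.pCore_normal'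
  exact mem_core_sup_frattini hp2 (not_involves_subgroup S e hp2 K) _ R
    Cfsg.Agent.PLocal.Cores.isPGroup_pCore hR hself hy hquad

end Cfsg.Agent.GW.NoBareQuadratic
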