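import Cfsg.Agent.Techniques.Bender
import Cfsg.Agent.Lib.Coprime.Generation
import Cfsg.Agent.Lib.Cores.Fitting
import Cfsg.Agent.Lib.Involutions.Basic

/-!
# No component-free overgroup of an involution centralizer: the setting

`notes/gw-nb-h8.md`.  `K` is maximal over the centralizer of `t`, `F*(K) = F(K)` has odd order, and
`g` cycles the involutions `t`, `u`, `t * u` of a four-group without lying in `K`.
-/

set_option autoImplicit false
set_option linter.style.haveILetI false

namespace Cfsg.Agent.GW.NoBare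

open Subgroup Cfsg.Agent.Techniques.Bender Cfsg.Agent.Components.MaximalPair
open scoped Pointwise

universe v

variable {G : Type v} [Group G] [Finite G]

/-- `O(Y)` in the ambient group. -/
abbrev odd (Y : Subgroup G) : Subgroup G := (Cfsg.oddCore ↥Y).map Y.subtype

/-- The hypotheses shared by the local analysis. -/
structure Frame (G : Type v) [Group G] [Finite G] where
  K : Subgroup G
  t : G
  u : G
  g : G
  coatom : IsCoatom K
  t_order : orderOf t = 2
  u_order : orderOf u = 2
  ne : u ≠ t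
  comm : Commute t u
  conj_t : g * t * g⁻¹ = u
  conj_u : g * u * g⁻¹ = t * u
  g_notMem : g ∉ K
  centralizer_le : centralizer ({t} : Set G) ≤ K
  fix_four : ∀ z : G, orderOf z = 2 → Commute z t → Commute z u → z = t ∨ z = u ∨ z = t * u
  gfit_eq_fit : gfit K = fit K
  core_two : core 2 K = ⊥
  ov : ∀ Y : Subgroup G, Y ≠ ⊤ → t ∈ Y → u ∈ Y →
    ∀ x ∈ Y, x ∈ odd K → t * x * t⁻¹ = x⁻¹ → x ∈ odd Y

namespace Frame

variable (f : Frame G)

/-- The conjugate of `K` over the centralizer of `u`. -/
abbrev K1 : Subgroup G := MulAut.conj f.g • f.K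

/-- `F(K)`. -/
abbrev F : Subgroup G := fit f.K

/-- `F` of the conjugate. -/
abbrev F1 : Subgroup G := MulAut.conj f.g • fit f.K

/-- The order of `F` has at least two prime divisors. -/
def TwoPrimes : Prop := ∀ p : ℕ, p.Prime → ¬ IsPGroup p f.F

/-- A candidate for a nontrivial common `p`-subgroup of `F` and `F1`. -/
structure IsLink (p : ℕ) (I : Subgroup G) : Prop where
  ne_bot : I ≠ ⊥
  isPGroup : IsPGroup p I
  le_F : I ≤ f.F
  le_F1 : I ≤ f.F1
  t_mem : f.t ∈ normalizer (I : Set G)
  u_mem : f.u ∈ normalizer (I : Set G)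

/-- The statement of section 2: a maximal overgroup of the normalizer of a link has a component. -/
def LinkHasLayer : Prop :=
  ∀ (p : ℕ) (I L : Subgroup G), f.IsLink p I → IsCoatom L → normalizer (I : Set G) ≤ L →
    Cfsg.layer ↥L ≠ ⊥

theorem t_sq : f.t * f.t = 1 := by rw [← sq, ← f.t_order, pow_orderOf_eq_one]

theorem u_sq : f.u * f.u = 1 := by rw [← sq, ← f.u_order, pow_orderOf_eq_one]

theorem t_inv : f.t⁻¹ = f.t := inv_eq_of_mul_eq_one_right f.t_sq

theorem u_inv : f.u⁻¹ = f.u := inv_eq_of_mul_eq_one_right f.u_sq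

theorem tu_order : orderOf (f.t * f.u) = 2 := by
  rw [← f.conj_u, ← MulAut.conj_apply, MulEquiv.orderOf_eq, f.u_order]

theorem t_mem_K : f.t ∈ f.K := f.centralizer_le (mem_centralizer_singleton_iff.2 rfl)

theorem u_mem_K : f.u ∈ f.K :=
  f.centralizer_le (mem_centralizer_singleton_iff.2 f.comm.symm.eq)

theorem mem_K_of_commute {x : G} (h : Commute x f.t) : x ∈ f.K :=
  f.centralizer_le (mem_centralizer_singleton_iff.2 h.eq)

theorem mem_K1 {x : G} : x ∈ f.K1 ↔ f.g⁻¹ * x * f.g ∈ f.K := Coprime.mem_conj_smul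

theorem mem_K1_of_commute {x : G} (h : Commute x f.u) : x ∈ f.K1 := by
  rw [f.mem_K1]
  refine f.mem_K_of_commute ?_
  have h' := (Commute.conj_iff f.g⁻¹).2 h
  rwa [inv_inv, show f.g⁻¹ * f.u * f.g = f.t by rw [← f.conj_t]; group] at h'

theorem K1_coatom : IsCoatom f.K1 := by
  refine ⟨fun h => f.coatom.1 ?_, fun b hb => ?_⟩
  · have := congrArg (fun H : Subgroup G => MulAut.conj f.g⁻¹ • H) h
    simp only [Coprime.conj_inv_smul_smul] at this
    rw [this]
    exact eq_top_iff.2 fun x _ => Coprime.mem_conj_smul.2 (mem_top _)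
  · have : f.K < MulAut.conj f.g⁻¹ • b := by
      have := Subgroup.map_lt_map_iff_of_injective (f := (MulAut.conj f.g⁻¹).toMonoidHom)
        (MulAut.conj f.g⁻¹).injective |>.2 hb
      rwa [← Coprime.conj_smul_eq_map, ← Coprime.conj_smul_eq_map,
        Coprime.conj_inv_smul_smul] at this
    have hb' := f.coatom.2 _ this
    refine eq_top_iff.2 fun x _ => ?_
    have hx : f.g⁻¹ * x * f.g ∈ MulAut.conj f.g⁻¹ • b := hb' ▸ mem_top _
    rw [Coprime.mem_conj_smul] at hx
    simpa [mul_assoc] using hx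

/-- The frame with `u` replaced by `t * u` and `g` by its inverse. -/
def swap : Frame G where
  K := f.K
  t := f.t
  u := f.t * f.u
  g := f.g⁻¹
  coatom := f.coatom
  t_order := f.t_order
  u_order := f.tu_order
  ne := fun h => Involutions.Basic.ne_one f.u_order (mul_eq_left.1 h)
  comm := (Commute.refl f.t).mul_right f.comm
  conj_t := by
    rw [inv_inv]
    have h1 := f.conj_t
    have h2 := f.conj_u
    calc f.g⁻¹ * f.t * f.g = f.g⁻¹ * ((f.t * f.u) * f.u) * f.g := by
          rw [mul_assoc f.t, f.u_sq, mul_one]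
      _ = f.g⁻¹ * ((f.g * f.u * f.g⁻¹) * (f.g * f.t * f.g⁻¹)) * f.g := by rw [h1, h2]
      _ = f.u * f.t := by group
      _ = f.t * f.u := f.comm.symm.eq
  conj_u := by
    rw [inv_inv, ← mul_assoc f.t f.t, f.t_sq, one_mul, ← f.conj_u]
    group
  g_notMem := fun h => f.g_notMem (inv_mem_iff.1 h)
  centralizer_le := f.centralizer_le
  fix_four := fun z hz h1 h2 => by
    have h3 : Commute z f.u := by
      have := h1.mul_right h2
      rwa [← mul_assoc, f.t_sq, one_mul] at this
    rcases f.fix_four z hz h1 h3 with h | h | h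
    · exact Or.inl h
    · exact Or.inr (Or.inr (by rw [h, ← mul_assoc, f.t_sq, one_mul]))
    · exact Or.inr (Or.inl h)
  gfit_eq_fit := f.gfit_eq_fit
  core_two := f.core_two
  ov := fun Y hY ht hu => f.ov Y hY ht (by
    have := mul_mem ht hu
    rwa [← mul_assoc, f.t_sq, one_mul] at this)

end Frame

end Cfsg.Agent.GW.NoBare
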