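import Cfsg.Agent.Lib.GW.OvergroupsOuter

/-!
# The centraliser of the central involution is maximal, or it has trivial fixed points

A maximal overgroup `K` of `H` with a component has trivial odd core; then the rotations centralise
the core of `H`, the core lies in the component and every reflection inverts it.
-/

set_option autoImplicit false
set_option linter.style.haveILetI false
set_option linter.unusedSectionVars false

namespace Cfsg.Agent.GW.Overgroups

open Subgroup Cfsg.Agent.Involutions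
open scoped commutatorElement

universe u

variable {G : Type u} [Group G] [Finite G]

local instance oddCoreNormal''' {X : Type*} [Group X] [Finite X] : (Cfsg.oddCore X).Normal :=
  Cores.pPrimeCore_normal 2

namespace Over

variable {d : Bender.Data G} (o : Over d)

theorem D_le_O : o.D ≤ d.O := fun x hx =>
  d.mem_O_of_odd
    (mem_centralizer_singleton_iff.2 (mem_centralizer_iff.1 (o.D_cent hx) d.t o.t_mem).symm)
    ((oddPart_odd o.K).of_dvd_nat (Subgroup.orderOf_dvd_natCard _ hx))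

theorem D_conj {k x : G} (hk : k ∈ o.K) (hx : x ∈ o.D) : k * x * k⁻¹ ∈ o.D :=
  (mem_normalizer_iff.1 (le_normalizer_oddPart o.K hk) x).1 hx

theorem D_comm {x e : G} (hx : x ∈ o.D) (he : e ∈ o.E) : e * x = x * e :=
  mem_centralizer_iff.1 (o.D_cent hx) e he

theorem Z_le_D : o.Z ≤ o.D := fun _ hz =>
  o.centralizer_le_oddPart ⟨o.E_le (o.Z_le hz), o.Z_cent hz⟩

theorem D_eq_one {x : G} (hx : x ∈ o.D) (h : x = x⁻¹) : x = 1 :=
  eq_one_of_sq (oddPart_odd o.K) hx (by nth_rw 2 [h]; exact mul_inv_cancel x)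

theorem O_le_K : d.O ≤ o.K := d.O_le.trans o.le

include o in
theorem not_comm [IsSimpleGroup G] : ¬ IsMulCommutative G := fun _ => o.ne_bot
  ((maxPerfect_perfect o.K).symm.trans
    (commutator_eq_bot_iff_le_centralizer.2 fun _ _ =>
      mem_centralizer_iff.2 fun _ _ => mul_comm' _ _))

variable {i : ZMod d.m} (hi : d.u i ∈ o.E) (ho : d.u (i + 1) ∉ o.E) (M : Model o) [IsSimpleGroup G]

include hi M in
/-- The centraliser of a non-trivial element of the odd core lies in `K`. -/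
theorem cent_le {x : G} (hx : x ∈ o.D) (hx1 : x ≠ 1) : centralizer ({x} : Set G) ≤ o.K := by
  have hK4 := DihedralSylow.four_isKleinFour d.S d.e d.dvd d.ne_zero i
  obtain ⟨-, hsq⟩ := (TwoGroups.isKleinFour_iff _).1 hK4
  haveI : IsMulCommutative (DihedralSylow.four d.S d.e d.dvd i) := ⟨⟨fun a b => by
    have e1 : ∀ c : DihedralSylow.four d.S d.e d.dvd i, c⁻¹ = c := fun c =>
      inv_eq_of_mul_eq_one_right (Subtype.ext (hsq c c.2))
    rw [← e1 (a * b), mul_inv_rev, e1, e1]⟩⟩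
  have hne : centralizer ({x} : Set G) ≠ ⊤ := by
    intro htop
    rw [centralizer_eq_top_iff_subset, Set.singleton_subset_iff] at htop
    rcases (inferInstance : (center G).Normal).eq_bot_or_eq_top with h | h
    · exact hx1 (mem_bot.1 (h ▸ htop))
    · exact o.not_comm ⟨⟨fun a b => (mem_center_iff.1 (h ▸ mem_top b) a)⟩⟩
  have hWE : DihedralSylow.four d.S d.e d.dvd i ≤ o.E := by
    intro w hw
    rcases (DihedralSylow.mem_four d.S d.e d.dvd i).1 hw with rfl | rfl | rfl | rfl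
    · exact one_mem _
    · exact o.t_mem
    · exact hi
    · show d.u (i + DihedralEmbedding.half d.m) ∈ o.E
      rw [d.u_eq_mul_rot i, add_sub_cancel_left, ← d.t_eq_rot]
      exact mul_mem hi o.t_mem
  refine le_of_perfect_le o.known o.coatom o.ne_bot (W := DihedralSylow.four d.S d.e d.dvd i)
    (IsKleinFour.not_isCyclic) (d.S.2.to_le (DihedralSylow.four_le d.S d.e d.dvd i)) hWE
    (fun w hw hw1 => M.cent_invol (hWE hw) (orderOf_eq_prime (by rw [sq]; exact hsq w hw) hw1))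
    ((DihedralSylow.mem_four d.S d.e d.dvd i).2 (Or.inr (Or.inl rfl))) d.t_order hne ?_
  intro e he
  exact mem_centralizer_singleton_iff.2 (o.D_comm hx he)

include hi ho M in
/-- The rotation and the core of `H` commute in the action of `K`. -/
theorem act_rot_comm {x : G} (hx : x ∈ d.O) :
    M.act ⟨d.rot 1, o.S_le (d.rot_mem 1)⟩ * M.act ⟨x, o.O_le_K hx⟩ =
      M.act ⟨x, o.O_le_K hx⟩ * M.act ⟨d.rot 1, o.S_le (d.rot_mem 1)⟩ := by
  obtain ⟨ψ, hψ, -, hcomm⟩ := OvergroupsPSL.exists_field_hom_iff (F := M.F)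
  set σ : o.K := ⟨d.rot 1, o.S_le (d.rot_mem 1)⟩ with hσ
  set X : o.K := ⟨x, o.O_le_K hx⟩
  set c : o.K := σ * X * σ⁻¹ * X⁻¹ with hcdef
  have hcO : (c : G) ∈ d.O :=
    mul_mem ((mem_normalizer_iff.1 (d.H_le_normalizer_O (d.S_le (d.rot_mem 1))) x).1 hx) (inv_mem hx)
  have hψc : ψ (M.act c) = 1 := by
    rw [hcdef, map_mul, map_mul, map_mul, map_mul, map_mul, map_mul, map_inv, map_inv, map_inv,
      map_inv, hcomm (M.act σ), mul_inv_cancel_right, mul_inv_cancel]
  obtain ⟨a, ha, hao, hat⟩ := M.inner_of_psi ψ hψ (d.orderOf_odd hcO) hψc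
  have hat' := hat (mem_centralizer_singleton_iff.1 (d.O_le hcO))
  -- both reflections invert `a`
  have hu : M.act ⟨d.u i, o.E_le hi⟩ a = a⁻¹ := by
    rw [M.act_inner ⟨d.u i, hi⟩, MulAut.conj_apply]
    refine OvergroupsPSL.inner_inverts M.two (M.orderOf_pr o.t_mem d.t_order)
      (M.orderOf_pr hi (d.u_order i))
      (fun h => d.u_ne_t i (M.invol_unique hi o.t_mem (d.u_sq i) d.t_sq h)) ?_ hat' hao
    show M.pr ⟨d.u i, hi⟩ * M.pr ⟨d.t, o.t_mem⟩ = M.pr ⟨d.t, o.t_mem⟩ * M.pr ⟨d.u i, hi⟩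
    rw [← map_mul, ← map_mul]
    exact congrArg M.pr (Subtype.ext (mem_centralizer_singleton_iff.1 (d.u_mem_H i)))
  have hv : M.act ⟨d.u (i + 1), o.S_le (d.u_mem _)⟩ a = a⁻¹ := by
    obtain ⟨g, A, hg, hA, hF⟩ := M.frame ψ hψ (o.S_le (d.u_mem _)) ho (d.u_order _)
      (mem_centralizer_singleton_iff.1 (d.u_mem_H _))
    rw [hg]
    exact hF.inverts M.two (hA ▸ hat') hao
  have hfix : M.act σ a = a := by
    rw [show σ = (⟨d.u i, o.E_le hi⟩ : o.K) * ⟨d.u (i + 1), o.S_le (d.u_mem _)⟩ from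
      Subtype.ext (by
        show d.rot 1 = d.u i * d.u (i + 1)
        rw [d.u_mul_u, add_sub_cancel_left]), map_mul, MulAut.mul_apply, hv, map_inv, hu, inv_inv]
  have hc : Commute (M.act σ) (M.act σ * M.act X * (M.act σ)⁻¹ * (M.act X)⁻¹) := by
    rw [← map_inv M.act σ, ← map_inv M.act X, ← map_mul, ← map_mul, ← map_mul, ← hcdef, ha]
    refine MulEquiv.ext fun y => ?_
    rw [MulAut.mul_apply, MulAut.mul_apply, MulAut.conj_apply, MulAut.conj_apply, map_mul, map_mul,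
      map_inv, hfix]
  obtain ⟨k, hk⟩ := d.exists_two_pow
  have hpow := pow_eq_one_of_comm hc (N := 2 ^ k) (by
    rw [← map_pow, show σ ^ 2 ^ k = 1 from Subtype.ext (by
      rw [SubmonoidClass.coe_pow, hσ, ← hk, OneMemClass.coe_one, d.rot_pow, ZMod.natCast_self,
        d.rot_zero]), map_one])
  have hc1 : M.act σ * M.act X * (M.act σ)⁻¹ * (M.act X)⁻¹ = 1 := by
    refine orderOf_eq_one_iff.1 (Nat.eq_one_of_dvd_coprimes
      ((Nat.coprime_two_left.2 (d.orderOf_odd hcO)).pow_left k) (orderOf_dvd_of_pow_eq_one hpow) ?_)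
    rw [← map_inv M.act σ, ← map_inv M.act X, ← map_mul, ← map_mul, ← map_mul, Subgroup.orderOf_coe]
    exact orderOf_map_dvd M.act c
  exact mul_inv_eq_iff_eq_mul.1 (mul_inv_eq_one.1 hc1)

include hi ho M in
/-- Step one: the outer reflection fixes nothing in the odd core. -/
theorem fixed_trivial {x : G} (hx : x ∈ o.D) (hxv : x * d.u (i + 1) = d.u (i + 1) * x) : x = 1 := by
  by_contra hx1
  obtain ⟨g, hg1, hg2⟩ := d.rho (i + 1)
  set v := d.u (i + 1) with hvdef
  have hxA : x ∈ d.A (i + 1) := ⟨o.D_le_O hx, mem_centralizer_singleton_iff.2 hxv⟩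
  set y := g * x * g⁻¹ with hy
  have hyA : y ∈ d.A (i + 1) := d.rho_mem_A hg1 hg2 hxA
  have hyv : y * v = v * y := mem_centralizer_singleton_iff.1 hyA.2
  -- the inner reflection centralises `y`
  have hyu : y * d.u i = d.u i * y := by
    set c := d.u i * y * (d.u i)⁻¹ * y⁻¹ with hc
    have hcE : c ∈ o.E := by
      rw [hc, show d.u i * y * (d.u i)⁻¹ * y⁻¹ = d.u i * (y * (d.u i)⁻¹ * y⁻¹) by group]
      exact mul_mem hi (o.conj_mem_E (o.O_le_K hyA.1) (inv_mem hi))
    have hcD : c ∈ o.D := by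
      refine (M.act_eq_one ⟨c, o.E_le hcE⟩).1 ?_
      set Y : o.K := ⟨y, o.O_le_K hyA.1⟩
      set U : o.K := ⟨d.u i, o.E_le hi⟩
      set V : o.K := ⟨v, o.S_le (d.u_mem _)⟩
      have h1 := o.act_rot_comm hi ho M hyA.1
      rw [show (⟨d.rot 1, o.S_le (d.rot_mem 1)⟩ : o.K) = U * V from Subtype.ext (by
        show d.rot 1 = d.u i * d.u (i + 1)
        rw [d.u_mul_u, add_sub_cancel_left]), map_mul] at h1
      have h2 : M.act V * M.act Y = M.act Y * M.act V := by
        rw [← map_mul, ← map_mul]; exact congrArg M.act (Subtype.ext hyv.symm)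
      have h3 : M.act U * M.act Y = M.act Y * M.act U := by
        rw [mul_assoc, h2, ← mul_assoc, ← mul_assoc] at h1
        exact mul_right_cancel h1
      rw [show (⟨c, o.E_le hcE⟩ : o.K) = U * Y * U⁻¹ * Y⁻¹ from Subtype.ext rfl, map_mul, map_mul,
        map_mul, map_inv, map_inv, h3, mul_inv_cancel_right, mul_inv_cancel]
    have hcomm := o.D_comm hcD hi
    have hinv : y * d.u i * y⁻¹ = d.u i * c := by
      rw [hc, d.u_inv, ← mul_assoc, ← mul_assoc, ← mul_assoc, d.u_sq, one_mul]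
    have hcc : c * c = 1 := by
      have h4 : y * d.u i * y⁻¹ * (y * d.u i * y⁻¹) = 1 := by
        rw [show y * d.u i * y⁻¹ * (y * d.u i * y⁻¹) = y * (d.u i * d.u i) * y⁻¹ by group, d.u_sq,
          mul_one, mul_inv_cancel]
      rw [hinv] at h4
      calc c * c = (d.u i * d.u i) * (c * c) := by rw [d.u_sq, one_mul]
        _ = d.u i * (d.u i * c) * c := by group
        _ = d.u i * (c * d.u i) * c := by rw [hcomm]
        _ = d.u i * c * (d.u i * c) := by group
        _ = 1 := h4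
    rw [eq_one_of_sq (oddPart_odd o.K) hcD hcc, mul_one] at hinv
    exact mul_inv_eq_iff_eq_mul.1 hinv
  -- hence all of `S`
  have hyS : ∀ s ∈ (d.S : Subgroup G), Commute y s := by
    have hrot : ∀ j, Commute y (d.rot j) := fun j => by
      haveI : NeZero d.m := ⟨d.ne_zero⟩
      rw [← ZMod.natCast_zmod_val j, ← d.rot_pow]
      refine Commute.pow_right ?_ _
      rw [show d.rot 1 = d.u i * v by rw [hvdef, d.u_mul_u, add_sub_cancel_left]]
      exact (show Commute y (d.u i) from hyu).mul_right hyv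
    intro s hs
    rcases d.sylow_cases hs with ⟨j, rfl⟩ | ⟨j, rfl⟩
    · exact hrot j
    · rw [d.u_eq_mul_rot i j]
      exact (show Commute y (d.u i) from hyu).mul_right (hrot _)
  -- `t` is a square in `S`
  obtain ⟨c4, hc4⟩ := o.four_dvd hi ho
  set w := d.rot (c4 : ZMod d.m) with hw
  have hww : w * w = d.t := by
    rw [hw, d.rot_mul, d.t_eq_rot, DihedralEmbedding.half, ← Nat.cast_add,
      show d.m / 2 = c4 + c4 by omega]
  set w' := g⁻¹ * w * g with hw'
  have hwK : w' ∈ o.K := by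
    refine o.cent_le hi M hx hx1 (mem_centralizer_singleton_iff.2 ?_)
    have := hyS w (d.rot_mem _)
    calc g⁻¹ * w * g * x = g⁻¹ * (w * y) * g := by rw [hy]; group
      _ = g⁻¹ * (y * w) * g := by rw [this.eq]
      _ = x * (g⁻¹ * w * g) := by rw [hy]; group
  obtain ⟨j, hj⟩ := IsPGroup.iff_orderOf.1 d.S.2 ⟨w, d.rot_mem _⟩
  rw [orderOf_mk] at hj
  have hsq := o.sq_mem hi hwK ⟨j, by
    rw [hw', show g⁻¹ * w * g = g⁻¹ * w * g⁻¹⁻¹ by rw [inv_inv], Involutions.Basic.orderOf_conj, hj]⟩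
  rw [hw', show g⁻¹ * w * g * (g⁻¹ * w * g) = g⁻¹ * (w * w) * g by group, hww] at hsq
  have htv : g⁻¹ * d.t * g = d.t * v := by
    have h : g * (d.t * v) * g⁻¹ = d.t := by
      rw [show g * (d.t * v) * g⁻¹ = (g * d.t * g⁻¹) * (g * v * g⁻¹) by group, hg1, hg2,
        ← mul_assoc, mem_centralizer_singleton_iff.1 (d.u_mem_H _), mul_assoc, d.u_sq, mul_one]
    nth_rw 1 [← h]; group
  rw [htv] at hsq
  refine ho ?_
  have := mul_mem o.t_mem hsq
  rwa [← mul_assoc, d.t_sq, one_mul] at this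

include hi ho M in
theorem inverts_D {x : G} (hx : x ∈ o.D) :
    d.u (i + 1) * x * (d.u (i + 1))⁻¹ = x⁻¹ :=
  Bender.inverts_of_inf_eq_bot (d.u_sq _) (le_normalizer_oddPart o.K (o.S_le (d.u_mem _)))
    ((eq_bot_iff_forall _).2 fun _ hy =>
      o.fixed_trivial hi ho M hy.1 (mem_centralizer_singleton_iff.1 hy.2)) x hx

include hi ho M in
theorem inverts_D' {x : G} (hx : x ∈ o.D) :
    d.t * d.u (i + 1) * x * (d.t * d.u (i + 1))⁻¹ = x⁻¹ := by
  rw [show d.t * d.u (i + 1) * x * (d.t * d.u (i + 1))⁻¹ =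
    d.t * (d.u (i + 1) * x * (d.u (i + 1))⁻¹) * d.t⁻¹ by group, o.inverts_D hi ho M hx,
    o.D_comm (inv_mem hx) o.t_mem, mul_inv_cancel_right]

include hi ho M in
/-- Step two: the odd core moves into `K`. -/
theorem D_conj_le {g z : G} (hgz : g * d.t * g⁻¹ = z)
    (hz : z = d.u (i + 1) ∨ z = d.t * d.u (i + 1)) (hg' : g⁻¹ * d.t * g ∈ o.K)
    {x : G} (hx : x ∈ o.D) : g⁻¹ * x * g ∈ o.K := by
  obtain ⟨ψ, hψ, -, hcomm⟩ := OvergroupsPSL.exists_field_hom_iff (F := M.F)
  have htu := mem_centralizer_singleton_iff.1 (d.u_mem_H (i + 1))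
  have hzK : z ∈ o.K := by
    rcases hz with rfl | rfl
    exacts [o.S_le (d.u_mem _), o.S_le (mul_mem d.t_mem (d.u_mem _))]
  have hzE : z ∉ o.E := by
    rcases hz with rfl | rfl
    · exact ho
    · intro h
      refine ho ?_
      have := mul_mem o.t_mem h
      rwa [← mul_assoc, d.t_sq, one_mul] at this
  have hz2 : orderOf z = 2 := by rw [← hgz, Involutions.Basic.orderOf_conj, d.t_order]
  have hzz : z * z = 1 := by rw [← sq, ← hz2, pow_orderOf_eq_one]
  have hzt : z * d.t = d.t * z := by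
    rcases hz with rfl | rfl
    · exact htu
    · rw [mul_assoc, htu]
  have hzD : ∀ y ∈ o.D, z * y * z⁻¹ = y⁻¹ := fun y hy => by
    rcases hz with rfl | rfl
    exacts [o.inverts_D hi ho M hy, o.inverts_D' hi ho M hy]
  obtain ⟨γ, A, hγ, hA, hF⟩ := M.frame ψ hψ hzK hzE hz2 hzt
  obtain ⟨W, hWodd, hWfix, hWbig⟩ := hF.exists_big M.two M.three
  -- the preimage in `C(z)`
  set P := (W.comap M.pr).map o.E.subtype ⊓ centralizer ({z} : Set G) with hP
  have hPE : P ≤ o.E := inf_le_left.trans (map_subtype_le _)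
  have hPz : ∀ p ∈ P, p * z = z * p := fun p hp => mem_centralizer_singleton_iff.1 hp.2
  set f : P →* Matrix.ProjectiveSpecialLinearGroup (Fin 2) M.F :=
    M.pr.comp (Subgroup.inclusion hPE)
  have hfinj : Function.Injective f := by
    rw [injective_iff_map_eq_one]
    intro p hp
    have hpZ := M.pr_eq_one.1 (show M.pr (Subgroup.inclusion hPE p) = 1 from hp)
    refine Subtype.ext (o.D_eq_one (o.Z_le_D hpZ) ?_)
    have := hzD _ (o.Z_le_D hpZ)
    rwa [Subgroup.coe_inclusion, ← hPz _ p.2, mul_inv_cancel_right] at this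
  have hfW : f.range = W := by
    refine le_antisymm ?_ fun w hw => ?_
    · rintro _ ⟨⟨_, ⟨e, he, rfl⟩, -⟩, rfl⟩
      exact he
    · obtain ⟨e, rfl⟩ := M.pr_surjective w
      have hA' : zpowers z ≤ normalizer (o.Z : Set G) :=
        zpowers_le.2 (mem_normalizer_oddPart (le_normalizer_maxPerfect o.K hzK))
      obtain ⟨n, hn, hnc⟩ := Coprime.exists_fixed_in_coset (k := (e : G)) hA'
        (by rw [Nat.card_zpowers, hz2]; exact Nat.coprime_two_left.2 o.Z_odd)
        (Or.inr (oddPart_solvable o.E)) (by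
          intro a ha
          obtain rfl | rfl : a = 1 ∨ a = z := by
            obtain ⟨j, rfl⟩ := mem_zpowers_iff.1 ha
            rcases Int.even_or_odd' j with ⟨l, rfl | rfl⟩
            · left; rw [zpow_mul, zpow_two, hzz, one_zpow]
            · right; rw [zpow_add, zpow_mul, zpow_two, hzz, one_zpow, one_mul, zpow_one]
          · simp
          · refine (M.pr_eq_one (x := e⁻¹ * ⟨a * e * a⁻¹, o.conj_mem_E hzK e.2⟩)).1 ?_
            have := hWfix _ hw
            rw [← hγ, M.act_pr] at this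
            rw [map_mul, map_inv, this, inv_mul_cancel])
      have hen : (e : G) * n ∈ o.E := mul_mem e.2 (o.Z_le hn)
      have hpr : M.pr ⟨(e : G) * n, hen⟩ = M.pr e := by
        rw [show (⟨(e : G) * n, hen⟩ : o.E) = e * ⟨n, o.Z_le hn⟩ from rfl, map_mul,
          M.pr_eq_one.2 (show ((⟨n, o.Z_le hn⟩ : o.E) : G) ∈ o.Z from hn), mul_one]
      refine ⟨⟨(e : G) * n, ⟨⟨_, hen⟩, ?_, rfl⟩,
        mem_centralizer_singleton_iff.2 (mem_centralizer_iff.1 hnc z (mem_zpowers z)).symm⟩, hpr⟩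
      show M.pr _ ∈ W
      rw [hpr]; exact hw
  have hPcard : Nat.card P = Nat.card W := by
    rw [Nat.card_congr (MonoidHom.ofInjective hfinj).toEquiv, hfW]
  have hPodd : ∀ p ∈ P, Odd (orderOf p) := fun p hp =>
    (hPcard ▸ hWodd).of_dvd_nat (Subgroup.orderOf_dvd_natCard _ hp)
  -- `t` inverts it
  have htP : ∀ p ∈ P, d.t * p * d.t⁻¹ = p⁻¹ := by
    intro p hp
    have hq : M.pr ⟨p, hPE hp⟩ ∈ W := hfW ▸ ⟨⟨p, hp⟩, rfl⟩
    have h1 := hF.conj_inverts M.two (hWfix _ hq) (hWodd.of_dvd_nat (Subgroup.orderOf_dvd_natCard _ hq))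
    rw [hA, ← map_inv, ← map_mul, ← map_mul, eq_inv_iff_mul_eq_one, ← map_mul] at h1
    have h2 := o.Z_le_D (M.pr_eq_one.1 h1)
    refine mul_inv_eq_one.1 ?_
    rw [inv_inv]
    refine o.D_eq_one h2 (?_ : d.t * p * d.t⁻¹ * p = _)
    have h3 := hzD _ h2
    have hc : Commute z (d.t * p * d.t⁻¹ * p) :=
      (((show Commute z d.t from hzt).mul_right (hPz p hp).symm).mul_right
        (show Commute z d.t from hzt).inv_right).mul_right (hPz p hp).symm
    change z * (d.t * p * d.t⁻¹ * p) * z⁻¹ = _ at h3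
    rw [hc.eq, mul_inv_cancel_right] at h3
    exact h3
  -- its image under `g⁻¹`
  set Q := P.map (MulAut.conj g⁻¹).toMonoidHom with hQdef
  have hQel : ∀ q ∈ Q, g * q * g⁻¹ ∈ P := by
    rintro _ ⟨p, hp, rfl⟩
    simpa [mul_assoc] using hp
  have hQO : Q ≤ d.O := by
    rintro _ ⟨p, hp, rfl⟩
    refine d.mem_O_of_odd (mem_centralizer_singleton_iff.2 ?_) ?_
    · have h := hPz p hp
      rw [← hgz] at h
      show g⁻¹ * p * g⁻¹⁻¹ * d.t = d.t * (g⁻¹ * p * g⁻¹⁻¹)
      calc g⁻¹ * p * g⁻¹⁻¹ * d.t = g⁻¹ * (p * (g * d.t * g⁻¹)) * g := by group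
        _ = g⁻¹ * (g * d.t * g⁻¹ * p) * g := by rw [h]
        _ = d.t * (g⁻¹ * p * g⁻¹⁻¹) := by group
    · show Odd (orderOf (g⁻¹ * p * g⁻¹⁻¹))
      rw [Involutions.Basic.orderOf_conj]
      exact hPodd p hp
  have hQcard : Nat.card Q = Nat.card W := by
    rw [hQdef, card_map_of_injective (MulAut.conj g⁻¹).injective, hPcard]
  set r : Q →* MulAut (Matrix.ProjectiveSpecialLinearGroup (Fin 2) M.F) :=
    M.act.comp (Subgroup.inclusion (hQO.trans o.O_le_K))
  -- some element of it lies in the odd core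
  obtain ⟨⟨y₀, hy₀Q⟩, hy₀r, hy₀1⟩ : ∃ q : Q, r q = 1 ∧ q ≠ 1 := by
    by_contra hno
    push Not at hno
    have hinj : Function.Injective r := (injective_iff_map_eq_one r).2 hno
    set U := r.range.comap (MulAut.conj : Matrix.ProjectiveSpecialLinearGroup (Fin 2) M.F →* _)
    have hinner : ∀ q : Q, ∃ a, r q = MulAut.conj a ∧ Commute a (M.pr ⟨d.t, o.t_mem⟩) := by
      intro q
      have hodd := d.orderOf_odd (hQO q.2)
      obtain ⟨a, ha, -, hat⟩ := M.inner_of_psi ψ hψ (x := ⟨q, o.O_le_K (hQO q.2)⟩) hodd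
        (M.psi_inverted ψ hcomm (z := ⟨g⁻¹ * d.t * g, hg'⟩) (by
          have := htP _ (hQel q q.2)
          show g⁻¹ * d.t * g * (q : G) * (g⁻¹ * d.t * g)⁻¹ = (q : G)⁻¹
          calc g⁻¹ * d.t * g * (q : G) * (g⁻¹ * d.t * g)⁻¹
              = g⁻¹ * (d.t * (g * q * g⁻¹) * d.t⁻¹) * g := by group
            _ = g⁻¹ * (g * q * g⁻¹)⁻¹ * g := by rw [this]
            _ = (q : G)⁻¹ := by group) hodd)
      exact ⟨a, ha, hat (mem_centralizer_singleton_iff.1 (d.O_le (hQO q.2)))⟩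
    have hUC : U ≤ centralizer ({Forms.KleinPSL.pi M.F A} : Set _) := by
      rintro a ⟨q, hq⟩
      obtain ⟨b, hb, hbt⟩ := hinner q
      rw [hb] at hq
      rw [← AutPSL.LocalBalance.conj_injective le_rfl hq, hA]
      exact mem_centralizer_singleton_iff.2 hbt.eq
    have hUcard : Nat.card U = Nat.card W := by
      rw [← hQcard, Nat.card_congr (MonoidHom.ofInjective hinj).toEquiv,
        ← card_map_of_injective (K := U) (AutPSL.LocalBalance.conj_injective (F := M.F) le_rfl),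
        Subgroup.map_comap_eq_self]
      rintro _ ⟨q, rfl⟩
      obtain ⟨b, hb, -⟩ := hinner q
      exact ⟨b, hb.symm⟩
    exact (hWbig U (hUcard ▸ hWodd) hUC).ne hUcard
  have hy₀D : y₀ ∈ o.D := (M.act_eq_one _).1 hy₀r
  have hy₀ne : y₀ ≠ 1 := fun h => hy₀1 (Subtype.ext h)
  refine o.cent_le hi M hy₀D hy₀ne (mem_centralizer_singleton_iff.2 ?_)
  have hc : Commute x (g * y₀ * g⁻¹) := (o.D_comm hx (hPE (hQel _ hy₀Q))).symm
  calc g⁻¹ * x * g * y₀ = g⁻¹ * (x * (g * y₀ * g⁻¹)) * g := by group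
    _ = g⁻¹ * (g * y₀ * g⁻¹ * x) * g := by rw [hc.eq]
    _ = y₀ * (g⁻¹ * x * g) := by group

include hi ho M in
/-- The overgroup has trivial odd core. -/
theorem D_eq_bot : o.D = ⊥ := by
  by_contra hD
  obtain ⟨ψ, hψ, -, hcomm⟩ := OvergroupsPSL.exists_field_hom_iff (F := M.F)
  obtain ⟨g, hg1, hg2⟩ := d.rho (i + 1)
  set v := d.u (i + 1) with hvdef
  have htu : v * d.t = d.t * v := mem_centralizer_singleton_iff.1 (d.u_mem_H _)
  have hg3 : g * (d.t * v) * g⁻¹ = d.t := by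
    rw [show g * (d.t * v) * g⁻¹ = (g * d.t * g⁻¹) * (g * v * g⁻¹) by group, hg1, hg2, ← mul_assoc,
      htu, mul_assoc, d.u_sq, mul_one]
  have hi1 : g⁻¹ * d.t * g = d.t * v := by nth_rw 1 [← hg3]; group
  have hi2 : g⁻¹ * v * g = d.t := by rw [show v = g * d.t * g⁻¹ from hg1.symm]; group
  have hi3 : g⁻¹ * (d.t * v) * g = v := by rw [show d.t * v = g * v * g⁻¹ from hg2.symm]; group
  have h1 : ∀ x ∈ o.D, g⁻¹ * x * g ∈ o.K := fun x hx =>
    o.D_conj_le hi ho M hg1 (Or.inl rfl)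
      (by rw [hi1]; exact o.S_le (mul_mem d.t_mem (d.u_mem _))) hx
  have h2 : ∀ x ∈ o.D, g * x * g⁻¹ ∈ o.K := fun x hx => by
    have := o.D_conj_le hi ho M (g := g⁻¹) (z := d.t * v) (by rw [inv_inv, hi1]) (Or.inr rfl)
      (by rw [inv_inv, hg1]; exact o.S_le (d.u_mem _)) hx
    rwa [inv_inv] at this
  have hg9 : g * g * g ∈ o.K := o.le (mem_centralizer_singleton_iff.2 (mul_inv_eq_iff_eq_mul.1 (by
    rw [show g * g * g * d.t * (g * g * g)⁻¹ = g * (g * (g * d.t * g⁻¹) * g⁻¹) * g⁻¹ by group, hg1,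
      hg2, hg3])))
  -- two images commute, so one of them is trivial
  have key : ∀ x ∈ o.D, ∀ y ∈ o.D, x = 1 ∨ y = 1 := by
    intro x hx y hy
    set a := g * x * g⁻¹ with ha
    set b := g⁻¹ * y * g with hb
    have haK := h2 x hx
    have hbK := h1 y hy
    have cj : ∀ {h s : G}, s * h * s⁻¹ = h → ∀ k, (k * s * k⁻¹) * (k * h * k⁻¹) * (k * s * k⁻¹)⁻¹ =
        k * h * k⁻¹ := fun {h s} e k => by
      rw [show k * s * k⁻¹ * (k * h * k⁻¹) * (k * s * k⁻¹)⁻¹ = k * (s * h * s⁻¹) * k⁻¹ by group, e]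
    have ci : ∀ {h s : G}, s * h * s⁻¹ = h⁻¹ → ∀ k, (k * s * k⁻¹) * (k * h * k⁻¹) * (k * s * k⁻¹)⁻¹ =
        (k * h * k⁻¹)⁻¹ := fun {h s} e k => by
      rw [show k * s * k⁻¹ * (k * h * k⁻¹) * (k * s * k⁻¹)⁻¹ = k * (s * h * s⁻¹) * k⁻¹ by group, e]
      group
    have tfix : ∀ {h : G}, h ∈ o.D → d.t * h * d.t⁻¹ = h := fun hh =>
      mul_inv_eq_iff_eq_mul.2 (o.D_comm hh o.t_mem)
    have hav : v * a * v⁻¹ = a := by
      have := cj (tfix hx) g; rwa [hg1] at this
    have hat : d.t * a * d.t⁻¹ = a⁻¹ := by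
      have := ci (o.inverts_D' hi ho M hx) g; rwa [hg3] at this
    have hbt : d.t * b * d.t⁻¹ = b⁻¹ := by
      have := ci (o.inverts_D hi ho M hy) g⁻¹
      rwa [inv_inv, hi2] at this
    have hbtv : d.t * v * b * (d.t * v)⁻¹ = b := by
      have := cj (tfix hy) g⁻¹
      rwa [inv_inv, hi1] at this
    -- the two images normalise each other
    set c := a * b * a⁻¹ * b⁻¹ with hc
    have hc1 : ∃ x' ∈ o.D, c = g * x' * g⁻¹ := by
      have hk : g⁻¹ * b * g ∈ o.K := by
        have hy' : (g * g * g)⁻¹ * y * (g * g * g) ∈ o.D := by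
          have := o.D_conj (inv_mem hg9) hy; rwa [inv_inv] at this
        have := h2 _ hy'
        rwa [show g * ((g * g * g)⁻¹ * y * (g * g * g)) * g⁻¹ = g⁻¹ * b * g by rw [hb]; group] at this
      exact ⟨x * (g⁻¹ * b * g * x⁻¹ * (g⁻¹ * b * g)⁻¹),
        mul_mem hx (o.D_conj hk (inv_mem hx)), by rw [hc, ha]; group⟩
    have hc2 : ∃ y' ∈ o.D, c = g⁻¹ * y' * g := by
      have hk : g * a * g⁻¹ ∈ o.K := by
        have := h1 _ (o.D_conj hg9 hx)
        rwa [show g⁻¹ * (g * g * g * x * (g * g * g)⁻¹) * g = g * a * g⁻¹ by rw [ha]; group] at this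
      exact ⟨g * a * g⁻¹ * y * (g * a * g⁻¹)⁻¹ * y⁻¹,
        mul_mem (o.D_conj hk hy) (inv_mem hy), by rw [hc, hb]; group⟩
    have hcomm' : a * b = b * a := by
      obtain ⟨x', hx', hcx⟩ := hc1
      obtain ⟨y', hy', hcy⟩ := hc2
      have e1 : v * c * v⁻¹ = c := by
        have := cj (tfix hx') g; rwa [hg1, ← hcx] at this
      have e2 : v * c * v⁻¹ = c⁻¹ := by
        have := ci (o.inverts_D' hi ho M hy') g⁻¹
        rwa [inv_inv, hi3, ← hcy] at this
      have hodd : Odd (orderOf c) := by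
        rw [hcx, Involutions.Basic.orderOf_conj]
        exact (oddPart_odd o.K).of_dvd_nat (Subgroup.orderOf_dvd_natCard _ hx')
      have hc1' := Bender.Data.eq_one_of_odd hodd (e1.symm.trans e2)
      rw [hc, mul_inv_eq_one, mul_inv_eq_iff_eq_mul] at hc1'
      exact hc1'
    have hao : Odd (orderOf a) := by
      rw [ha, Involutions.Basic.orderOf_conj]
      exact (oddPart_odd o.K).of_dvd_nat (Subgroup.orderOf_dvd_natCard _ hx)
    have hbo : Odd (orderOf b) := by
      rw [hb, show g⁻¹ * y * g = g⁻¹ * y * g⁻¹⁻¹ by rw [inv_inv], Involutions.Basic.orderOf_conj]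
      exact (oddPart_odd o.K).of_dvd_nat (Subgroup.orderOf_dvd_natCard _ hy)
    set T : o.K := ⟨d.t, o.E_le o.t_mem⟩
    set V : o.K := ⟨v, o.S_le (d.u_mem _)⟩
    obtain ⟨α, hα, hαo, -⟩ := M.inner_of_psi ψ hψ (x := ⟨a, haK⟩) hao
      (M.psi_inverted ψ hcomm (z := T) hat hao)
    obtain ⟨β, hβ, hβo, -⟩ := M.inner_of_psi ψ hψ (x := ⟨b, hbK⟩) hbo
      (M.psi_inverted ψ hcomm (z := T) hbt hbo)
    obtain ⟨γ, A, hγ, hA, hF⟩ := M.frame ψ hψ (o.S_le (d.u_mem (i + 1))) ho (d.u_order _) htu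
    have hfa : M.act V α = α := M.inner_fixed hα (Subtype.ext (mul_inv_eq_iff_eq_mul.1 hav))
    have hfb : M.act (T * V) β = β := M.inner_fixed hβ (Subtype.ext (mul_inv_eq_iff_eq_mul.1 hbtv))
    rw [map_mul, MulAut.mul_apply, show M.act T = MulAut.conj (M.pr ⟨d.t, o.t_mem⟩) from
      M.act_inner ⟨d.t, o.t_mem⟩, MulAut.conj_apply, ← hA, hγ] at hfb
    rw [hγ] at hfa
    have hcαβ : Commute α β := by
      have h := congrArg M.act (show (⟨a, haK⟩ : o.K) * ⟨b, hbK⟩ = ⟨b, hbK⟩ * ⟨a, haK⟩ from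
        Subtype.ext hcomm')
      rw [map_mul, map_mul, hα, hβ, ← map_mul, ← map_mul] at h
      exact AutPSL.LocalBalance.conj_injective le_rfl h
    rcases hF.rigid M.two hfa hαo hfb hβo hcαβ with h | h
    · left
      have haD : a ∈ o.D := (M.act_eq_one ⟨a, haK⟩).1 (by rw [hα, h, map_one])
      have := o.D_eq_one haD (hav.symm.trans (o.inverts_D hi ho M haD))
      exact conj_eq_one_iff.1 this
    · right
      have hbD : b ∈ o.D := (M.act_eq_one ⟨b, hbK⟩).1 (by rw [hβ, h, map_one])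
      have h' := o.D_eq_one hbD (hbtv.symm.trans (o.inverts_D' hi ho M hbD))
      rw [hb, show g⁻¹ * y * g = g⁻¹ * y * g⁻¹⁻¹ by rw [inv_inv]] at h'
      exact conj_eq_one_iff.1 h'
  exact hD ((eq_bot_iff_forall _).2 fun x hx => (key x hx x hx).elim id id)

include hi ho M in
/-- All fixed points of reflections on the core are trivial. -/
theorem fixed_points_trivial (hX : (∀ j, d.Central j) → d.NoFixedLinear) : ∀ j, d.A j = ⊥ := by
  haveI : NeZero d.m := ⟨d.ne_zero⟩
  obtain ⟨ψ, hψ, -, hcomm⟩ := OvergroupsPSL.exists_field_hom_iff (F := M.F)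
  have hD := o.D_eq_bot hi ho M
  have hinjact : Function.Injective M.act := by
    rw [injective_iff_map_eq_one]
    intro k hk
    have := (M.act_eq_one k).1 hk
    rw [hD, mem_bot] at this
    exact Subtype.ext this
  have hσ : ∀ x ∈ d.O, Commute (d.rot 1) x := fun x hx => by
    have := o.act_rot_comm hi ho M hx
    rw [← map_mul, ← map_mul] at this
    exact congrArg Subtype.val (hinjact this)
  have hrot : ∀ q, ∀ x ∈ d.O, Commute (d.rot q) x := fun q x hx => by
    rw [← ZMod.natCast_zmod_val q, ← d.rot_pow]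
    exact (hσ x hx).pow_left _
  have hcentral : ∀ j, d.Central j := fun j => by
    obtain ⟨q, hq, -⟩ := d.exists_rotation (o.four_dvd hi ho) j
    exact d.central_of_rotation (d.conj_t (d.S_le (d.rot_mem q))) hq fun a ha => (hrot q a ha.1).eq
  -- no field part on the core
  set N : Subgroup G := ((ψ.comp M.act).ker).map o.K.subtype with hN
  have hcommN : ∀ a ∈ o.K, ∀ b ∈ o.K, ⁅a, b⁆ ∈ N := fun a ha b hb => by
    refine ⟨⁅(⟨a, ha⟩ : o.K), ⟨b, hb⟩⁆, ?_, rfl⟩
    rw [SetLike.mem_coe, MonoidHom.mem_ker, map_commutatorElement,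
      commutatorElement_eq_one_iff_mul_comm]
    exact hcomm _ _
  have hON : d.O ≤ N := (hX hcentral).trans (sup_le
    (commutator_le.2 fun a ha b hb => hcommN a (o.O_le_K ha) b (o.O_le_K hb))
    (commutator_le.2 fun a ha b hb => hcommN a (o.O_le_K ha) b (o.S_le hb)))
  have hinv : ∀ x ∈ d.O, d.u i * x * (d.u i)⁻¹ = x⁻¹ := by
    intro x hx
    obtain ⟨k, hk, hkx⟩ := hON hx
    obtain ⟨a, ha, hao, hat⟩ := M.inner_of_psi ψ hψ (x := k)
      (by rw [show (k : G) = x from hkx]; exact d.orderOf_odd hx) hk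
    obtain ⟨e, rfl⟩ := M.pr_surjective a
    have hke : k = ⟨e, o.E_le e.2⟩ := hinjact (ha.trans (M.act_inner e).symm)
    have hex : (e : G) = x := by rw [← hkx, hke]; rfl
    have hxt : (k : G) * d.t = d.t * k := by
      rw [show (k : G) = x from hkx]; exact mem_centralizer_singleton_iff.1 (d.O_le hx)
    have h := OvergroupsPSL.inner_inverts M.two (M.orderOf_pr o.t_mem d.t_order)
      (M.orderOf_pr hi (d.u_order i))
      (fun h => d.u_ne_t i (M.invol_unique hi o.t_mem (d.u_sq i) d.t_sq h))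
      (by
        show M.pr ⟨d.u i, hi⟩ * M.pr ⟨d.t, o.t_mem⟩ = M.pr ⟨d.t, o.t_mem⟩ * M.pr ⟨d.u i, hi⟩
        rw [← map_mul, ← map_mul]
        exact congrArg M.pr (Subtype.ext (mem_centralizer_singleton_iff.1 (d.u_mem_H i))))
      (hat hxt) hao
    rw [← map_inv, ← map_mul, ← map_mul, eq_inv_iff_mul_eq_one, ← map_mul] at h
    have h' := o.Z_le_D (M.pr_eq_one.1 h)
    rw [hD, mem_bot] at h'
    rw [← mul_inv_eq_one, inv_inv, ← hex]
    exact h'
  intro j
  refine (eq_bot_iff_forall _).2 fun x hx => Bender.Data.eq_one_of_odd (d.orderOf_odd hx.1) ?_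
  have h1 : d.u j * x * (d.u j)⁻¹ = x⁻¹ := by
    rw [d.u_eq_mul_rot i j, show d.u i * d.rot (j - i) * x * (d.u i * d.rot (j - i))⁻¹ =
      d.u i * (d.rot (j - i) * x * (d.rot (j - i))⁻¹) * (d.u i)⁻¹ by group, (hrot _ x hx.1).eq,
      mul_inv_cancel_right, hinv x hx.1]
  rwa [← mem_centralizer_singleton_iff.1 hx.2, mul_inv_cancel_right] at h1

end Over

/-- Without bare overgroup, `H` is maximal or no reflection fixes a non-trivial element of the
core. -/
theorem coatom_or_trivial [IsSimpleGroup G] (d : Bender.Data G) (hknown : KnownProper G)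
    (hNB : d.NoBareOvergroup) (hX : 4 ∣ d.m → (∀ j, d.Central j) → d.NoFixedLinear) :
    IsCoatom d.H ∨ ∀ j, d.A j = ⊥ := by
  by_cases hH : IsCoatom d.H
  · exact Or.inl hH
  right
  by_cases htop : d.H = ⊤
  · intro j
    exfalso
    refine d.u_ne_t j ?_
    have hz : d.t ∈ center G := mem_center_iff.2 fun x =>
      mem_centralizer_singleton_iff.1 (htop.symm ▸ mem_top x : x ∈ d.H)
    rcases (inferInstance : (center G).Normal).eq_bot_or_eq_top with h | h
    · exact absurd (mem_bot.1 (h ▸ hz)) (Involutions.Basic.ne_one d.t_order)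
    · obtain ⟨g, hg, -⟩ := d.rho j
      rw [mem_center_iff.1 (h ▸ mem_top d.t) g, mul_inv_cancel_right] at hg
      exact hg.symm
  obtain ⟨K, hK, hHK⟩ : ∃ K, IsCoatom K ∧ d.H ≤ K :=
    (eq_top_or_exists_le_coatom d.H).resolve_left htop
  have hlt : d.H < K := lt_of_le_of_ne hHK fun h => hH (h ▸ hK)
  let o : Over d := ⟨K, hlt, hK, hNB K hlt hK.1, hknown⟩
  obtain ⟨i, hi, ho⟩ := o.exists_split
  obtain ⟨F, i1, i2, hodd, h3, ⟨e⟩⟩ := o.exists_psl hi ho
  have h2 : (2 : F) ≠ 0 := Ring.two_ne_zero fun hc => by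
    have := FiniteField.even_card_iff_char_two.1 hc
    have := Nat.odd_iff.1 hodd
    omega
  exact o.fixed_points_trivial hi ho ⟨F, h2, h3, e⟩ (hX (o.four_dvd hi ho))

end Cfsg.Agent.GW.Overgroups
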