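import Cfsg.Agent.Lib.GW.OvergroupsPSL
import Cfsg.Agent.S2119

/-!
# Automorphisms of `PSL₂(q)` and `A₇`: further facts for the overgroups of involution centralisers
-/

set_option autoImplicit false
set_option linter.style.haveILetI false
set_option linter.unusedSectionVars false

namespace Cfsg.Agent.GW.OvergroupsPSL

open Matrix
open scoped MatrixGroups
open Cfsg.Agent.AutPSL

universe u

variable {F : Type u} [Field F] [Fintype F]

local notation "M2" => Matrix (Fin 2) (Fin 2) F
local notation "PG" => Matrix.ProjectiveSpecialLinearGroup (Fin 2) F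
local notation "π" => Forms.KleinPSL.pi F
local notation "gA" => AutPSL.Basic.gAut (n := 2) (F := F)

/-- The projection to the field automorphisms, with its kernel. -/
theorem exists_field_hom_iff :
    ∃ ψ : MulAut PG →* (F ≃+* F), (∀ β, ψ β = 1 ↔ ∃ g, β = gA g) ∧
      (∀ x, ψ (MulAut.conj x) = 1) ∧ ∀ a b, ψ a * ψ b = ψ b * ψ a := by
  obtain ⟨ψ, -, hker⟩ := AutPSL.Out.exists_proj_two (F := F)
  have hiff : ∀ β, ψ β = 1 ↔ ∃ g, β = gA g := fun β => by
    rw [← MonoidHom.mem_ker, hker]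
    exact ⟨fun ⟨g, hg⟩ => ⟨g, hg.symm⟩, fun ⟨g, hg⟩ => ⟨g, hg.symm⟩⟩
  refine ⟨ψ, hiff, fun x => ?_, fun a b => ?_⟩
  · obtain ⟨X, rfl⟩ := Forms.KleinPSL.pi_surjective x
    exact (hiff _).2 ⟨_, conj_pi X⟩
  · obtain ⟨p, hc⟩ := CharP.exists F
    haveI := hc
    haveI : Fact p.Prime := ⟨CharP.char_is_prime F p⟩
    obtain ⟨f, -, hf⟩ := FiniteField.card F p
    obtain ⟨e⟩ := AutPSL.Out.exists_ringAut_equiv (F := F) hf
    exact e.injective (by rw [map_mul, map_mul, mul_comm])

variable (h2 : (2 : F) ≠ 0)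

include h2 in
/-- Two involutions with a common non-trivial fixed element of odd order commute. -/
theorem comm_of_common {t b y : PG} (hyt : Commute y t) (hyb : Commute y b)
    (ho : Odd (orderOf y)) (hy : y ≠ 1) : Commute t b := by
  obtain ⟨A, rfl⟩ := Forms.KleinPSL.pi_surjective t
  obtain ⟨B, rfl⟩ := Forms.KleinPSL.pi_surjective b
  obtain ⟨Y, rfl⟩ := Forms.KleinPSL.pi_surjective y
  have hA := comm_of_fix h2 (g := Matrix.SpecialLinearGroup.toGL A) (X := Y) (by
    rw [← conj_pi, MulAut.conj_apply, ← hyt.eq, mul_inv_cancel_right]) ho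
  have hB := comm_of_fix h2 (g := Matrix.SpecialLinearGroup.toGL B) (X := Y) (by
    rw [← conj_pi, MulAut.conj_apply, ← hyb.eq, mul_inv_cancel_right]) ho
  rw [coe_toGL] at hA hB
  have hAB : A * B = B * A := Subtype.ext (by
    rw [Matrix.SpecialLinearGroup.coe_mul, Matrix.SpecialLinearGroup.coe_mul]
    exact comm_trans (PSLBinary.pi_ne_one.1 hy) hA.symm hB.symm)
  show π A * π B = π B * π A
  rw [← map_mul, ← map_mul, hAB]

include h2 in
/-- There are two commuting involutions. -/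
theorem exists_commuting_pair :
    ∃ x y : PG, orderOf x = 2 ∧ orderOf y = 2 ∧ x ≠ y ∧ Commute x y := by
  obtain ⟨p, hcp⟩ := CharP.exists F
  haveI := hcp
  haveI : Fact p.Prime := ⟨CharP.char_is_prime F p⟩
  obtain ⟨a, b, hab⟩ := ZMod.sq_add_sq p (-1)
  have hab' : (ZMod.castHom dvd_rfl F a : F) * ZMod.castHom dvd_rfl F a +
      ZMod.castHom dvd_rfl F b * ZMod.castHom dvd_rfl F b = -1 := by
    have := congrArg (ZMod.castHom (dvd_refl p) F) hab
    rw [map_add, map_pow, map_pow, map_neg, map_one] at this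
    linear_combination this
  let P : SL(2, F) := ⟨Forms.KleinSL2.aM (ZMod.castHom dvd_rfl F a) (ZMod.castHom dvd_rfl F b), by
    rw [Forms.KleinSL2.det_aM, hab', neg_neg]⟩
  have hP : P * P = -1 := Subtype.ext (by
    rw [Matrix.SpecialLinearGroup.coe_mul, Matrix.SpecialLinearGroup.coe_neg,
      Matrix.SpecialLinearGroup.coe_one]
    change Forms.KleinSL2.aM _ _ * Forms.KleinSL2.aM _ _ = _
    rw [Forms.KleinSL2.aM_mul_self, hab', neg_smul, one_smul])
  have hanti : P * Forms.KleinSL2.jSL = -(Forms.KleinSL2.jSL * P) := Subtype.ext (by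
    rw [Matrix.SpecialLinearGroup.coe_mul, Matrix.SpecialLinearGroup.coe_neg,
      Matrix.SpecialLinearGroup.coe_mul]
    exact Forms.KleinSL2.aM_mul_J _ _)
  refine ⟨π P, π Forms.KleinSL2.jSL, (Forms.KleinPSL.orderOf_pi_eq_two h2).2 hP,
    (Forms.KleinPSL.orderOf_pi_eq_two h2).2 Forms.KleinSL2.jSL_sq, fun he => ?_, ?_⟩
  · rcases Forms.KleinPSL.pi_eq_iff.1 he with h | h <;> rw [h] at hanti
    · exact Forms.KleinPSL.ne_neg_self h2 _ hanti
    · rw [neg_mul, mul_neg, neg_neg] at hanti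
      exact Forms.KleinPSL.ne_neg_self h2 _ hanti.symm
  · show π P * π Forms.KleinSL2.jSL = π Forms.KleinSL2.jSL * π P
    rw [← map_mul, hanti, Forms.KleinPSL.pi_neg, map_mul]

include h2 in
/-- The involution `t` inverts the odd-order elements fixed by an outer diagonal involution. -/
theorem Frame.conj_inverts {g : GL (Fin 2) F} {A : SL(2, F)} (h : Frame g A) {x : PG}
    (hfix : gA g x = x) (ho : Odd (orderOf x)) : π A * x * (π A)⁻¹ = x⁻¹ := by
  obtain ⟨X, rfl⟩ := Forms.KleinPSL.pi_surjective x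
  have hgX := comm_of_fix h2 hfix ho
  have hanti : (g : M2) * ((A * X : SL(2, F)) : M2) = -(((A * X : SL(2, F)) : M2) * g) := by
    rw [Matrix.SpecialLinearGroup.coe_mul, ← mul_assoc, h.anti, neg_mul, mul_assoc, hgX, mul_assoc]
  have h1 := orderOf_pi_of_trace h2 (trace_of_anti h2 g hanti)
  have h2' := Forms.KleinPSL.mul_self_of_order_two h1
  rw [map_mul, mul_assoc] at h2'
  have h3 : π A * π A = 1 :=
    Forms.KleinPSL.mul_self_of_order_two ((Forms.KleinPSL.orderOf_pi_eq_two h2).2 h.sq)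
  have h4 : π X * (π A * π X) = π A := by
    have := congrArg (fun z => π A * z) h2'
    simp only [mul_one, ← mul_assoc, h3, one_mul] at this
    simpa [mul_assoc] using this
  rw [inv_eq_of_mul_eq_one_right h3]
  calc π A * π X * π A = (π X)⁻¹ * (π X * (π A * π X)) * π A := by group
    _ = (π X)⁻¹ := by rw [h4, mul_assoc, h3, mul_one]

omit [Fintype F] in
/-- An automorphism of `A₇` of two-power order has order at most four. -/
theorem altSeven_pow_four {φ : MulAut (alternatingGroup (Fin 7))} {k : ℕ}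
    (h : φ ^ 2 ^ k = 1) : φ ^ 4 = 1 := by
  obtain ⟨g, rfl⟩ := (S2119.result 7 (by norm_num) (by norm_num)).2 φ
  rw [← map_pow, ← map_one (MulAut.conjNormal (H := alternatingGroup (Fin 7)))] at h
  have hg : g ^ 2 ^ k = 1 := (S2119.result 7 (by norm_num) (by norm_num)).1 h
  have hdvd : orderOf g ∣ 4 := by
    rw [← Equiv.Perm.lcm_cycleType, Multiset.lcm_dvd]
    intro n hn
    have h1 : n ∣ 2 ^ k := (Equiv.Perm.dvd_of_mem_cycleType hn).trans (orderOf_dvd_of_pow_eq_one hg)
    obtain ⟨j, -, rfl⟩ := (Nat.dvd_prime_pow Nat.prime_two).1 h1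
    have h7 : 2 ^ j ≤ 7 :=
      (Equiv.Perm.le_card_support_of_mem_cycleType hn).trans ((Finset.card_le_univ _).trans (by simp))
    have hj : j ≤ 2 := by
      by_contra hlt
      have : 2 ^ 3 ≤ 2 ^ j := Nat.pow_le_pow_right (by norm_num) (by omega)
      omega
    exact Nat.pow_dvd_pow 2 hj
  rw [← map_pow, orderOf_dvd_iff_pow_eq_one.1 hdvd, map_one]

end Cfsg.Agent.GW.OvergroupsPSL
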