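import Cfsg.Agent.Lib.GW.BenderPure
import Cfsg.Agent.Lib.GW.OvergroupsBasic
import Cfsg.Agent.Lib.GW.OvergroupsAut

/-!
# A maximal overgroup of the centraliser of the central involution: the component

`K` is a maximal subgroup properly containing `H = C(t)` and having a component, `E` its perfect
radical.  Then `E` contains `t`, some reflection, and `K` acts on `E/O(E)` with kernel `O(K)`.
-/

set_option autoImplicit false
set_option linter.style.haveILetI false
set_option linter.unusedSectionVars false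

namespace Cfsg.Agent.GW.Overgroups

open Subgroup Cfsg.Agent.Involutions

universe u

variable {G : Type u} [Group G] [Finite G]

local instance oddCoreNormal {X : Type*} [Group X] [Finite X] : (Cfsg.oddCore X).Normal :=
  Cores.pPrimeCore_normal 2

theorem eq_one_of_sq {Z : Subgroup G} (hodd : Odd (Nat.card Z)) {z : G} (hz : z ∈ Z)
    (h : z * z = 1) : z = 1 :=
  orderOf_eq_one_iff.1 (Nat.eq_one_of_dvd_coprimes (Nat.coprime_two_left.2 hodd)
    (orderOf_dvd_of_pow_eq_one (by rw [sq, h])) (orderOf_dvd_natCard _ hz))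

/-- A `2`-subgroup and a commuting one generate a `2`-subgroup. -/
theorem isPGroup_sup_comm {A B : Subgroup G} (hA : IsPGroup 2 A) (hB : IsPGroup 2 B)
    (h : B ≤ centralizer (A : Set G)) : IsPGroup 2 ↥(A ⊔ B) :=
  hA.to_sup_of_normal_left' hB (h.trans (centralizer_le_normalizer _))

theorem isPGroup_zpowers {x : G} (hx : orderOf x = 2) : IsPGroup 2 (zpowers x) :=
  IsPGroup.of_card (n := 1) (by rw [Nat.card_zpowers, hx, pow_one])

end Cfsg.Agent.GW.Overgroups

namespace Cfsg.Agent.GW.Bender.Data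

open Subgroup Cfsg.Agent.Involutions DihedralGroup

universe u

variable {G : Type u} [Group G] [Finite G] (d : Data G)

/-- The rotation `r j`, as an element of `G`. -/
abbrev rot (j : ZMod d.m) : G := ((d.e.symm (r j) : (d.S : Subgroup G)) : G)

theorem rot_mem (j : ZMod d.m) : d.rot j ∈ (d.S : Subgroup G) := SetLike.coe_mem _

theorem rot_mul (a b : ZMod d.m) : d.rot a * d.rot b = d.rot (a + b) := by
  rw [rot, rot, ← Subgroup.coe_mul, ← map_mul, r_mul_r]

theorem u_mul_u (i j : ZMod d.m) : d.u i * d.u j = d.rot (j - i) := by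
  rw [u, u, DihedralSylow.refl, DihedralSylow.refl, ← Subgroup.coe_mul, ← map_mul, sr_mul_sr]

theorem rot_zero : d.rot 0 = 1 := by rw [rot, r_zero, map_one, Subgroup.coe_one]

theorem rot_pow (k : ℕ) : d.rot 1 ^ k = d.rot k := by
  induction k with
  | zero => rw [pow_zero, Nat.cast_zero, d.rot_zero]
  | succ k ih => rw [pow_succ, ih, d.rot_mul, Nat.cast_succ]

theorem t_eq_rot : d.t = d.rot (DihedralEmbedding.half d.m) := rfl

theorem u_eq_mul_rot (i j : ZMod d.m) : d.u j = d.u i * d.rot (j - i) := by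
  rw [← d.u_mul_u, ← mul_assoc, d.u_sq, one_mul]

/-- An element of the Sylow 2-subgroup is a rotation or a reflection. -/
theorem sylow_cases {s : G} (hs : s ∈ (d.S : Subgroup G)) :
    (∃ j, s = d.rot j) ∨ ∃ j, s = d.u j := by
  rcases h : d.e ⟨s, hs⟩ with j | j
  · exact Or.inl ⟨j, by rw [rot, ← h, MulEquiv.symm_apply_apply]⟩
  · exact Or.inr ⟨j, by rw [u, DihedralSylow.refl, ← h, MulEquiv.symm_apply_apply]⟩

/-- Commuting reflections lie in one four-group. -/
theorem u_comm_cases {i j : ZMod d.m} (h : d.u i * d.u j = d.u j * d.u i) :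
    d.u j = d.u i ∨ d.u j = d.t * d.u i := by
  have h2 : d.rot (j - i) * d.rot (j - i) = d.rot 0 := by
    rw [d.rot_zero, ← d.u_mul_u]
    nth_rw 2 [h]
    rw [mul_assoc, ← mul_assoc (d.u j), d.u_sq, one_mul, d.u_sq]
  rw [d.rot_mul] at h2
  have h3 : j - i + (j - i) = 0 := r.inj (d.e.symm.injective (Subtype.ext h2))
  rcases (DihedralEmbedding.add_self d.dvd d.ne_zero).1 h3 with h4 | h4
  · left; rw [d.u_eq_mul_rot i j, h4, d.rot_zero, mul_one]
  · right
    rw [d.u_eq_mul_rot i j, h4, ← d.t_eq_rot]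
    exact (mem_centralizer_singleton_iff.1 (d.u_mem_H i))

/-- The involutions of the Sylow 2-subgroup commuting with a reflection. -/
theorem comm_refl_cases {i : ZMod d.m} {s : G} (hs : s ∈ (d.S : Subgroup G))
    (h2 : orderOf s = 2) (hc : d.u i * s = s * d.u i) :
    s = d.t ∨ s = d.u i ∨ s = d.t * d.u i := by
  rcases d.involution_cases hs h2 with h | ⟨j, rfl⟩
  · exact Or.inl h
  · exact Or.inr (d.u_comm_cases hc)

/-- Two commuting involutions of the Sylow 2-subgroup give the central one and a reflection. -/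
theorem pair_cases {X : Subgroup G} {a b : G} (ha : a ∈ X) (hb : b ∈ X)
    (haS : a ∈ (d.S : Subgroup G)) (hbS : b ∈ (d.S : Subgroup G))
    (ha2 : orderOf a = 2) (hb2 : orderOf b = 2) (hne : a ≠ b) (hc : a * b = b * a) :
    d.t ∈ X ∧ ∃ i, d.u i ∈ X := by
  rcases d.involution_cases haS ha2 with rfl | ⟨i, rfl⟩
  · rcases d.involution_cases hbS hb2 with h | ⟨j, rfl⟩
    · exact absurd h.symm hne
    · exact ⟨ha, j, hb⟩
  · rcases d.comm_refl_cases hbS hb2 hc with rfl | rfl | rfl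
    · exact ⟨hb, i, ha⟩
    · exact absurd rfl hne
    · refine ⟨?_, i, ha⟩
      have := mul_mem hb ha
      rwa [mul_assoc, d.u_sq, mul_one] at this

theorem exists_half (c : ZMod d.m) : ∃ a : ZMod d.m, c = a + a ∨ c = a + a + 1 := by
  haveI : NeZero d.m := ⟨d.ne_zero⟩
  obtain ⟨k, hk | hk⟩ := Nat.even_or_odd' c.val
  · refine ⟨(k : ZMod d.m), Or.inl ?_⟩
    rw [← ZMod.natCast_zmod_val c, hk]; push_cast; ring
  · refine ⟨(k : ZMod d.m), Or.inr ?_⟩
    rw [← ZMod.natCast_zmod_val c, hk]; push_cast; ring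

theorem exists_two_pow : ∃ k, d.m = 2 ^ k := by
  obtain ⟨j, hj⟩ := IsPGroup.iff_card.1 d.S.2
  rw [Nat.card_congr d.e.toEquiv, DihedralGroup.nat_card] at hj
  rcases j with _ | j
  · omega
  · exact ⟨j, by rw [pow_succ] at hj; omega⟩

end Cfsg.Agent.GW.Bender.Data

namespace Cfsg.Agent.GW.Overgroups

open Subgroup Cfsg.Agent.Involutions
open scoped commutatorElement

universe u

variable {G : Type u} [Group G] [Finite G]

local instance oddCoreNormal' {X : Type*} [Group X] [Finite X] : (Cfsg.oddCore X).Normal :=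
  Cores.pPrimeCore_normal 2

/-- A maximal subgroup properly containing `H` and having a component. -/
structure Over (d : Bender.Data G) where
  K : Subgroup G
  gt : d.H < K
  coatom : IsCoatom K
  comp : Cfsg.generalizedFittingSubgroup K ≠ Cfsg.fittingSubgroup K
  known : KnownProper G

namespace Over

variable {d : Bender.Data G} (o : Over d)

/-- The perfect radical. -/
abbrev E : Subgroup G := maxPerfect o.K

/-- The odd core of the perfect radical. -/
abbrev Z : Subgroup G := oddPart o.E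

/-- The odd core of the overgroup. -/
abbrev D : Subgroup G := oddPart o.K

theorem le : d.H ≤ o.K := o.gt.le

theorem S_le : (d.S : Subgroup G) ≤ o.K := d.S_le.trans o.le

theorem E_le : o.E ≤ o.K := maxPerfect_le o.K

theorem ne_bot : o.E ≠ ⊥ := (component_structure o.known o.coatom.1 o.comp).1

theorem Z_cent : o.Z ≤ centralizer (o.E : Set G) :=
  (component_structure o.known o.coatom.1 o.comp).2.1

theorem D_cent : o.D ≤ centralizer (o.E : Set G) :=
  (component_structure o.known o.coatom.1 o.comp).2.2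

theorem ne_top : o.E ≠ ⊤ := fun h => o.coatom.1 (top_le_iff.1 (h.symm.le.trans o.E_le))

theorem conj_mem_E {k x : G} (hk : k ∈ o.K) (hx : x ∈ o.E) : k * x * k⁻¹ ∈ o.E :=
  (mem_normalizer_iff.1 (le_normalizer_maxPerfect o.K hk) x).1 hx

theorem type : IsType (o.E ⧸ Cfsg.oddCore o.E) :=
  o.known o.E o.ne_top o.ne_bot (maxPerfect_perfect o.K)

theorem mk_eq_one {x : o.E} :
    (x : o.E ⧸ Cfsg.oddCore o.E) = 1 ↔ (x : G) ∈ o.Z := by
  rw [QuotientGroup.eq_one_iff]
  exact ⟨fun h => ⟨x, h, rfl⟩, fun ⟨y, hy, hyx⟩ => Subtype.ext hyx ▸ hy⟩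

theorem Z_odd : Odd (Nat.card o.Z) := oddPart_odd o.E

theorem Z_le : o.Z ≤ o.E := oddPart_le o.E

theorem Z_comm {z x : G} (hz : z ∈ o.Z) (hx : x ∈ o.E) : x * z = z * x :=
  mem_centralizer_iff.1 (o.Z_cent hz) x hx

/-- An involution is determined by its image. -/
theorem invol_unique {x y : G} (hx : x ∈ o.E) (hy : y ∈ o.E) (hx2 : x * x = 1) (hy2 : y * y = 1)
    (h : ((⟨x, hx⟩ : o.E) : o.E ⧸ Cfsg.oddCore o.E) = ((⟨y, hy⟩ : o.E) : _)) : x = y := by
  have hz : x⁻¹ * y ∈ o.Z := by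
    have := o.mk_eq_one.1 (show (((⟨x, hx⟩ : o.E)⁻¹ * ⟨y, hy⟩ : o.E) :
      o.E ⧸ Cfsg.oddCore o.E) = 1 by
        rw [QuotientGroup.mk_mul, QuotientGroup.mk_inv, h, inv_mul_cancel])
    exact this
  have hxi : x⁻¹ = x := inv_eq_of_mul_eq_one_right hx2
  have h2 : (x⁻¹ * y) * (x⁻¹ * y) = 1 := by
    calc (x⁻¹ * y) * (x⁻¹ * y) = x⁻¹ * (y * (x⁻¹ * y)) * 1 := by group
      _ = x⁻¹ * ((x⁻¹ * y) * y) * 1 := by rw [o.Z_comm hz hy]
      _ = x⁻¹ * x⁻¹ * (y * y) := by group
      _ = 1 := by rw [hy2, hxi, hx2, mul_one]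
  exact inv_mul_eq_one.1 (eq_one_of_sq o.Z_odd hz h2)

/-- Involutions lift. -/
theorem invol_lift {q : o.E ⧸ Cfsg.oddCore o.E} (hq : orderOf q = 2) :
    ∃ x : o.E, orderOf (x : G) = 2 ∧ (x : o.E ⧸ Cfsg.oddCore o.E) = q := by
  obtain ⟨y, rfl⟩ := QuotientGroup.mk'_surjective _ q
  set N := Nat.card (Cfsg.oddCore o.E) with hN
  have hNodd : Odd N := Cores.oddCore_odd
  have h2 : y ^ 2 ∈ Cfsg.oddCore o.E := by
    rw [← QuotientGroup.eq_one_iff, QuotientGroup.mk_pow]
    exact hq ▸ pow_orderOf_eq_one ((y : o.E ⧸ Cfsg.oddCore o.E))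
  have h4 : (y ^ N) ^ 2 = 1 := by
    rw [← pow_mul, mul_comm, pow_mul]
    exact congrArg Subtype.val (pow_card_eq_one' (x := (⟨y ^ 2, h2⟩ : Cfsg.oddCore o.E)))
  have him : ((y ^ N : o.E) : o.E ⧸ Cfsg.oddCore o.E) = QuotientGroup.mk' _ y := by
    obtain ⟨k, hk⟩ := hNodd
    rw [QuotientGroup.mk_pow, hk, pow_succ, pow_mul]
    rw [show ((y : o.E ⧸ Cfsg.oddCore o.E)) ^ 2 = 1 from hq ▸ pow_orderOf_eq_one _, one_pow,
      one_mul]
    rfl
  refine ⟨y ^ N, ?_, him⟩
  rw [Subgroup.orderOf_coe]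
  refine orderOf_eq_prime h4 fun h => ?_
  rw [h, QuotientGroup.mk_one] at him
  rw [← him, orderOf_one] at hq
  exact absurd hq (by decide)

theorem simple : IsSimpleGroup (o.E ⧸ Cfsg.oddCore o.E) := isType_simple o.type

theorem center_eq_bot : center (o.E ⧸ Cfsg.oddCore o.E) = ⊥ := by
  haveI := o.simple
  refine ((inferInstance : (center (o.E ⧸ Cfsg.oddCore o.E)).Normal).eq_bot_or_eq_top).resolve_right
    fun h => ?_
  have hp : ⁅(⊤ : Subgroup (o.E ⧸ Cfsg.oddCore o.E)), (⊤ : Subgroup (o.E ⧸ Cfsg.oddCore o.E))⁆ = ⊤ := by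
    rw [← map_top_of_surjective _ (QuotientGroup.mk'_surjective (Cfsg.oddCore o.E)), ← map_commutator]
    congr 1
    apply Subgroup.map_injective o.E.subtype_injective
    rw [map_commutator, ← MonoidHom.range_eq_map, o.E.range_subtype]
    exact maxPerfect_perfect o.K
  rw [commutator_eq_bot_iff_le_centralizer.2 (by rw [coe_top, centralizer_univ, h])] at hp
  exact bot_ne_top hp

/-- No involution of `E` centralises `E`. -/
theorem centre_invol {x : G} (hx : x ∈ o.E) (hx2 : x * x = 1) (hc : x ∈ centralizer (o.E : Set G)) :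
    x = 1 := by
  have hmem : ((⟨x, hx⟩ : o.E) : o.E ⧸ Cfsg.oddCore o.E) ∈ center (o.E ⧸ Cfsg.oddCore o.E) := by
    rw [mem_center_iff]
    intro q
    obtain ⟨y, rfl⟩ := QuotientGroup.mk'_surjective _ q
    show (y : o.E ⧸ Cfsg.oddCore o.E) * ((⟨x, hx⟩ : o.E) : _) = ((⟨x, hx⟩ : o.E) : _) * (y : _)
    rw [← QuotientGroup.mk_mul, ← QuotientGroup.mk_mul]
    exact congrArg _ (Subtype.ext (mem_centralizer_iff.1 hc y y.2))
  rw [o.center_eq_bot, mem_bot] at hmem
  exact eq_one_of_sq o.Z_odd (o.mk_eq_one.1 hmem) hx2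

theorem exists_pair : ∃ x ∈ o.E, ∃ y ∈ o.E,
    orderOf x = 2 ∧ orderOf y = 2 ∧ x ≠ y ∧ x * y = y * x := by
  obtain ⟨a, b, ha, hb, hne, hab⟩ : ∃ a b : o.E ⧸ Cfsg.oddCore o.E,
      orderOf a = 2 ∧ orderOf b = 2 ∧ a ≠ b ∧ Commute a b := by
    rcases o.type with ⟨F, i1, i2, hodd, -, ⟨e⟩⟩ | ⟨⟨e⟩⟩
    · have h2 : (2 : F) ≠ 0 := Ring.two_ne_zero fun hc => by
        have := FiniteField.even_card_iff_char_two.1 hc
        have := Nat.odd_iff.1 hodd
        omega
      obtain ⟨a, b, ha, hb, hne, hab⟩ := OvergroupsPSL.exists_commuting_pair h2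
      exact ⟨e.symm a, e.symm b, by rw [MulEquiv.orderOf_eq, ha], by rw [MulEquiv.orderOf_eq, hb],
        fun h => hne (e.symm.injective h), hab.map e.symm.toMonoidHom⟩
    · have key : ∀ a b : alternatingGroup (Fin 7), a * a = 1 → b * b = 1 → a ≠ 1 → b ≠ 1 → a ≠ b →
          a * b = b * a → ∃ a b : o.E ⧸ Cfsg.oddCore o.E,
            orderOf a = 2 ∧ orderOf b = 2 ∧ a ≠ b ∧ Commute a b := fun a b ha hb ha1 hb1 hne hab =>
        ⟨e.symm a, e.symm b, by rw [MulEquiv.orderOf_eq]; exact orderOf_eq_prime (by rw [sq, ha]) ha1,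
          by rw [MulEquiv.orderOf_eq]; exact orderOf_eq_prime (by rw [sq, hb]) hb1,
          fun h => hne (e.symm.injective h), (show Commute a b from hab).map e.symm.toMonoidHom⟩
      exact key ⟨Equiv.swap 0 1 * Equiv.swap 2 3, Equiv.Perm.mem_alternatingGroup.2 (by decide)⟩
        ⟨Equiv.swap 0 2 * Equiv.swap 1 3, Equiv.Perm.mem_alternatingGroup.2 (by decide)⟩
        (by decide) (by decide) (by decide) (by decide) (by decide) (by decide)
  obtain ⟨x, hx, hxa⟩ := o.invol_lift ha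
  obtain ⟨y, hy, hyb⟩ := o.invol_lift hb
  refine ⟨x, x.2, y, y.2, hx, hy, fun h => hne (by rw [← hxa, ← hyb, Subtype.ext h]), ?_⟩
  have hx2 : (x : G) * x = 1 := by rw [← sq, ← hx, pow_orderOf_eq_one]
  refine (mul_inv_eq_iff_eq_mul.1 (o.invol_unique (x := (y : G) * x * (y : G)⁻¹)
    (o.conj_mem_E (o.E_le y.2) x.2) x.2 ?_ hx2 ?_)).symm
  · rw [show (y : G) * x * (y : G)⁻¹ * ((y : G) * x * (y : G)⁻¹) = y * ((x : G) * x) * (y : G)⁻¹ by
      group, hx2, mul_one, mul_inv_cancel]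
  · rw [show (⟨(y : G) * x * (y : G)⁻¹, o.conj_mem_E (o.E_le y.2) x.2⟩ : o.E) = y * x * y⁻¹ from rfl,
      QuotientGroup.mk_mul, QuotientGroup.mk_mul, QuotientGroup.mk_inv, hxa, hyb, ← hab.eq,
      mul_inv_cancel_right]

/-- A `2`-subgroup of `K` is conjugate into `S`. -/
theorem exists_conj_S {B : Subgroup G} (hB : IsPGroup 2 B) (hBK : B ≤ o.K) :
    ∃ k ∈ o.K, ∀ x ∈ B, k * x * k⁻¹ ∈ (d.S : Subgroup G) := by
  haveI : Fact (Nat.Prime 2) := ⟨Nat.prime_two⟩
  obtain ⟨k, hk, hle⟩ := Transfer.Fusion.exists_conj_le_of_isPGroup d.S o.S_le hB hBK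
  exact ⟨k, hk, fun x hx => hle ⟨x, hx, rfl⟩⟩

theorem exists_inner : d.t ∈ o.E ∧ ∃ i, d.u i ∈ o.E := by
  obtain ⟨x, hx, y, hy, hx2, hy2, hne, hc⟩ := o.exists_pair
  obtain ⟨k, hk, hkS⟩ := o.exists_conj_S (B := zpowers x ⊔ zpowers y)
    (isPGroup_sup_comm (isPGroup_zpowers hx2) (isPGroup_zpowers hy2)
      (zpowers_le.2 (mem_centralizer_iff.2 fun z hz => by
        obtain ⟨j, rfl⟩ := mem_zpowers_iff.1 hz
        exact ((show Commute x y from hc).zpow_left j).eq)))
    (sup_le (zpowers_le.2 (o.E_le hx)) (zpowers_le.2 (o.E_le hy)))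
  exact d.pair_cases (o.conj_mem_E hk hx) (o.conj_mem_E hk hy)
    (hkS x (mem_sup_left (mem_zpowers x))) (hkS y (mem_sup_right (mem_zpowers y)))
    (by rw [Involutions.Basic.orderOf_conj, hx2]) (by rw [Involutions.Basic.orderOf_conj, hy2])
    (fun h => hne (mul_left_cancel (mul_right_cancel h)))
    ((Commute.conj_iff k).2 hc).eq

theorem t_mem : d.t ∈ o.E := o.exists_inner.1

/-- The reflections two steps away from an inner one are inner. -/
theorem inner_two {i : ZMod d.m} (hi : d.u i ∈ o.E) (a : ZMod d.m) : d.u (i + (a + a)) ∈ o.E := by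
  have h := DihedralSylow.refl_conj d.S d.e (-a) i
  rw [show i - (-a + -a) = i + (a + a) by ring] at h
  rw [Bender.Data.u, ← h]
  exact o.conj_mem_E (o.S_le (d.rot_mem (-a))) hi

/-- Either `S` lies in `E`, or some reflection is inner and its neighbour outer. -/
theorem split_or_le :
    (d.S : Subgroup G) ≤ o.E ∨ ∃ i, d.u i ∈ o.E ∧ d.u (i + 1) ∉ o.E := by
  obtain ⟨-, i, hi⟩ := o.exists_inner
  by_cases h : d.u (i + 1) ∈ o.E
  · left
    have hall : ∀ j, d.u j ∈ o.E := by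
      intro j
      obtain ⟨a, ha | ha⟩ := d.exists_half (j - i)
      · rw [show j = i + (a + a) by rw [← ha]; ring]; exact o.inner_two hi a
      · rw [show j = i + 1 + (a + a) by linear_combination ha]; exact o.inner_two h a
    intro s hs
    rcases d.exists_refl hs with ⟨j, rfl⟩ | ⟨j, l, rfl⟩
    · exact hall j
    · exact mul_mem (hall j) (hall l)
  · exact Or.inr ⟨i, hi, h⟩

/-- The action of `K` on `E/O(E)`. -/
noncomputable def act : o.K →* MulAut (o.E ⧸ Cfsg.oddCore o.E) where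
  toFun k := QuotientGroup.congr _ _
    (o.E.normalizerMonoidHom ⟨k, le_normalizer_maxPerfect o.K k.2⟩)
    (characteristic_iff_map_eq.1 (Cores.pPrimeCore_characteristic 2) _)
  map_one' := by
    ext q
    obtain ⟨x, rfl⟩ := QuotientGroup.mk'_surjective _ q
    show ((o.E.normalizerMonoidHom _ x : o.E) : o.E ⧸ Cfsg.oddCore o.E) = (x : _)
    exact congrArg _ (Subtype.ext (by simp))
  map_mul' := fun k l => by
    ext q
    obtain ⟨x, rfl⟩ := QuotientGroup.mk'_surjective _ q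
    show ((o.E.normalizerMonoidHom _ x : o.E) : o.E ⧸ Cfsg.oddCore o.E) =
      ((o.E.normalizerMonoidHom _ (o.E.normalizerMonoidHom _ x) : o.E) : _)
    exact congrArg _ (Subtype.ext (by simp [mul_assoc]))

theorem act_mk (k : o.K) (x : o.E) :
    o.act k (x : o.E ⧸ Cfsg.oddCore o.E) =
      ((⟨(k : G) * x * (k : G)⁻¹, o.conj_mem_E k.2 x.2⟩ : o.E) : o.E ⧸ Cfsg.oddCore o.E) :=
  congrArg _ (Subtype.ext (by simp))

theorem centralizer_le_oddPart :
    o.K ⊓ centralizer (o.E : Set G) ≤ o.D := by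
  set C := o.K ⊓ centralizer (o.E : Set G) with hC
  have hodd : Odd (Nat.card C) := by
    rw [Nat.odd_iff]
    by_contra hne
    haveI : Fact (Nat.Prime 2) := ⟨Nat.prime_two⟩
    obtain ⟨⟨w, hw⟩, hw2⟩ := exists_prime_orderOf_dvd_card' (G := C) 2 (by omega)
    rw [orderOf_mk] at hw2
    obtain ⟨k, hk, hkS⟩ := o.exists_conj_S (isPGroup_zpowers hw2) (zpowers_le.2 hw.1)
    obtain ⟨-, i, hi⟩ := o.exists_inner
    set v := k * w * k⁻¹ with hv
    have hvc : ∀ x ∈ o.E, x * v = v * x := by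
      intro x hx
      have h1 : k⁻¹ * x * k ∈ o.E := by
        have := o.conj_mem_E (inv_mem hk) hx
        rwa [inv_inv] at this
      have := (Commute.conj_iff k).2 (mem_centralizer_iff.1 hw.2 _ h1 : Commute (k⁻¹ * x * k) w)
      rw [show k * (k⁻¹ * x * k) * k⁻¹ = x by group] at this
      exact this.eq
    have hv2 : orderOf v = 2 := by rw [hv, Involutions.Basic.orderOf_conj, hw2]
    have hvE : v ∈ o.E := by
      rcases d.comm_refl_cases (s := v) (hkS w (mem_zpowers w)) hv2 (hvc _ hi) with h | h | h <;>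
        rw [h]
      exacts [o.t_mem, hi, mul_mem o.t_mem hi]
    exact Involutions.Basic.ne_one hv2 (o.centre_invol hvE (by rw [← sq, ← hv2, pow_orderOf_eq_one])
      (mem_centralizer_iff.2 hvc))
  haveI : (C.subgroupOf o.K).Normal := by
    refine normal_subgroupOf_of_le_normalizer (le_normalizer_iff.2 fun k hk x hx => ⟨?_, ?_⟩)
    · exact o.K.mul_mem (o.K.mul_mem hk hx.1) (o.K.inv_mem hk)
    · refine mem_centralizer_iff.2 fun y hy => ?_
      have h1 : k⁻¹ * y * k ∈ o.E := by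
        have := o.conj_mem_E (inv_mem hk) hy
        rwa [inv_inv] at this
      have := (Commute.conj_iff k).2 (mem_centralizer_iff.1 hx.2 _ h1 : Commute (k⁻¹ * y * k) x)
      rw [show k * (k⁻¹ * y * k) * k⁻¹ = y by group] at this
      exact this.eq
  intro x hx
  refine ⟨⟨x, hx.1⟩, Cores.le_oddCore (N := C.subgroupOf o.K) ?_ (mem_subgroupOf.2 hx), rfl⟩
  rwa [Nat.card_congr (subgroupOfEquivOfLe inf_le_left).toEquiv]

/-- The kernel of the action is the odd core of `K`. -/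
theorem act_eq_one (k : o.K) : o.act k = 1 ↔ (k : G) ∈ o.D := by
  constructor
  · intro h
    refine o.centralizer_le_oddPart ⟨k.2, mem_centralizer_iff.2 fun x hx => ?_⟩
    have hz : ∀ x : o.E, (x : G)⁻¹ * ((k : G) * x * (k : G)⁻¹) ∈ o.Z := fun x => by
      have h1 := DFunLike.congr_fun h (x : o.E ⧸ Cfsg.oddCore o.E)
      rw [act_mk, MulAut.one_apply] at h1
      exact (o.mk_eq_one (x := x⁻¹ * ⟨(k : G) * x * (k : G)⁻¹, o.conj_mem_E k.2 x.2⟩)).1
        (by rw [QuotientGroup.mk_mul, QuotientGroup.mk_inv, h1, inv_mul_cancel])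
    have hfix : ∀ x ∈ ⁅o.E, o.E⁆, (k : G) * x * (k : G)⁻¹ = x := by
      intro x hx
      suffices hle : ⁅o.E, o.E⁆ ≤ centralizer ({(k : G)} : Set G) from
        mul_inv_eq_iff_eq_mul.2 (mem_centralizer_singleton_iff.1 (hle hx)).symm
      refine commutator_le.2 fun a ha b hb => ?_
      rw [mem_centralizer_singleton_iff, eq_comm, ← mul_inv_eq_iff_eq_mul]
      have hca : ∀ y ∈ o.E, Commute y ((a : G)⁻¹ * ((k : G) * a * (k : G)⁻¹)) := fun y hy =>
        o.Z_comm (hz ⟨a, ha⟩) hy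
      have hcb : ∀ y ∈ o.E, Commute y ((b : G)⁻¹ * ((k : G) * b * (k : G)⁻¹)) := fun y hy =>
        o.Z_comm (hz ⟨b, hb⟩) hy
      set za := (a : G)⁻¹ * ((k : G) * a * (k : G)⁻¹) with hza
      set zb := (b : G)⁻¹ * ((k : G) * b * (k : G)⁻¹) with hzb
      have hzab : Commute za zb := hcb za (o.Z_le (hz ⟨a, ha⟩))
      calc (k : G) * ⁅a, b⁆ * (k : G)⁻¹ = ⁅a * za, b * zb⁆ := by
            rw [hza, hzb, commutatorElement_def, commutatorElement_def]; group
        _ = ⁅a, b⁆ := by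
            simp only [commutatorElement_def, mul_inv_rev]
            calc a * za * (b * zb) * (za⁻¹ * a⁻¹) * (zb⁻¹ * b⁻¹)
                = a * (za * b) * (zb * za⁻¹) * (a⁻¹ * zb⁻¹) * b⁻¹ := by group
              _ = a * (b * za) * (za⁻¹ * zb) * (zb⁻¹ * a⁻¹) * b⁻¹ := by
                  rw [(hca b hb).eq, (hzab.inv_left).eq, (hcb a ha).inv_left.inv_right.eq]
              _ = a * b * a⁻¹ * b⁻¹ := by group
    have := hfix x ((maxPerfect_perfect o.K).symm ▸ hx : x ∈ ⁅o.E, o.E⁆)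
    exact (mul_inv_eq_iff_eq_mul.1 this).symm
  · intro h
    ext q
    obtain ⟨x, rfl⟩ := QuotientGroup.mk'_surjective _ q
    rw [MulAut.one_apply]
    show o.act k (x : o.E ⧸ Cfsg.oddCore o.E) = (x : _)
    rw [act_mk]
    refine congrArg _ (Subtype.ext ?_)
    exact mul_inv_eq_iff_eq_mul.2 (mem_centralizer_iff.1 (o.D_cent h) x x.2).symm

theorem act_inner (x : o.E) :
    o.act ⟨x, o.E_le x.2⟩ = MulAut.conj (x : o.E ⧸ Cfsg.oddCore o.E) := by
  ext q
  obtain ⟨y, rfl⟩ := QuotientGroup.mk'_surjective _ q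
  show o.act _ (y : o.E ⧸ Cfsg.oddCore o.E) =
    MulAut.conj (x : o.E ⧸ Cfsg.oddCore o.E) (y : o.E ⧸ Cfsg.oddCore o.E)
  rw [act_mk, MulAut.conj_apply]
  rfl

/-- A `2`-element of `E · O(K)` lies in `E`. -/
theorem mem_of_act_inner {k : o.K} (hk : ∃ j, orderOf (k : G) = 2 ^ j) (x : o.E)
    (h : o.act k = MulAut.conj (x : o.E ⧸ Cfsg.oddCore o.E)) : (k : G) ∈ o.E := by
  have hd : (x : G)⁻¹ * k ∈ o.D := by
    have h1 := (o.act_eq_one (⟨x, o.E_le x.2⟩⁻¹ * k)).1
      (by rw [map_mul, map_inv, o.act_inner, h, inv_mul_cancel])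
    exact h1
  have hc : Commute (x : G) ((x : G)⁻¹ * k) := mem_centralizer_iff.1 (o.D_cent hd) x x.2
  obtain ⟨j, hj⟩ := hk
  have hN : (orderOf (k : G)).Coprime (Nat.card o.D) := by
    rw [hj]; exact (Nat.coprime_two_left.2 (oddPart_odd o.K)).pow_left j
  obtain ⟨l, hl⟩ := exists_pow_eq_self_of_coprime hN.symm
  have hdN : ((x : G)⁻¹ * k) ^ Nat.card o.D = 1 :=
    congrArg Subtype.val (pow_card_eq_one' (x := (⟨_, hd⟩ : o.D)))
  have hk' : (k : G) ^ Nat.card o.D = (x : G) ^ Nat.card o.D := by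
    nth_rw 1 [show (k : G) = (x : G) * ((x : G)⁻¹ * k) by group]
    rw [hc.mul_pow, hdN, mul_one]
  rw [← hl, hk']
  exact pow_mem (pow_mem x.2 _) _

end Over

end Cfsg.Agent.GW.Overgroups
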