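import Cfsg.Agent.Lib.GW.OvergroupsModel
import Cfsg.Agent.Lib.GW.OrderBounds

/-!
# A maximal overgroup of the centraliser of the central involution: the outer reflections

The Sylow 2-subgroup does not lie in the component `E`, which is `PSL₂(q)` modulo its odd core; an
outer reflection induces a diagonal automorphism.
-/

set_option autoImplicit false
set_option linter.style.haveILetI false
set_option linter.unusedSectionVars false

namespace Cfsg.Agent.GW.Overgroups

open Subgroup Cfsg.Agent.Involutions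

universe u

variable {G : Type u} [Group G] [Finite G]

local instance oddCoreNormal'' {X : Type*} [Group X] [Finite X] : (Cfsg.oddCore X).Normal :=
  Cores.pPrimeCore_normal 2

/-- Solvability of the proper subgroups of a simple group of order sixty. -/
theorem solvable_of_sixty [IsSimpleGroup G] (h : Nat.card G = 60) {K : Subgroup G} (hK : K ≠ ⊤) :
    Group.IsSolvable K := by
  have hd : Nat.card K ∣ 60 := h ▸ card_subgroup_dvd_card K
  have h60 : Nat.card K ≠ 60 := fun hc => hK (eq_top_of_card_eq _ (hc.trans h.symm))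
  have h30 : Nat.card K ≠ 30 := fun hc => by
    have hi := K.card_mul_index
    rw [hc, h] at hi
    exact BrauerFowler.no_index_two (by omega) K (by omega)
  refine OvergroupsFact.solvable_of_small ?_
  have hmem : Nat.card K ∈ Nat.divisors 60 := Nat.mem_divisors.2 ⟨hd, by norm_num⟩
  rw [show Nat.divisors 60 = {1, 2, 3, 4, 5, 6, 10, 12, 15, 20, 30, 60} by decide] at hmem
  simp only [Finset.mem_insert, Finset.mem_singleton] at hmem ⊢
  omega

/-- Coprime powers fix nothing: if `c = a X a⁻¹ X⁻¹` commutes with `a`, its order divides that of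
`a`. -/
theorem pow_eq_one_of_comm {M : Type*} [Group M] {a X : M}
    (hc : Commute a (a * X * a⁻¹ * X⁻¹)) {N : ℕ} (hN : a ^ N = 1) :
    (a * X * a⁻¹ * X⁻¹) ^ N = 1 := by
  set c := a * X * a⁻¹ * X⁻¹ with hcdef
  have h : ∀ k : ℕ, a ^ k * X * (a ^ k)⁻¹ = c ^ k * X := by
    intro k
    induction k with
    | zero => simp
    | succ k ih =>
      calc a ^ (k + 1) * X * (a ^ (k + 1))⁻¹ = a * (a ^ k * X * (a ^ k)⁻¹) * a⁻¹ := by
            rw [pow_succ']; group
        _ = a * c ^ k * (a⁻¹ * (a * X * a⁻¹ * X⁻¹) * X) := by rw [ih]; group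
        _ = a * c ^ k * (a⁻¹ * c * X) := by rw [hcdef]
        _ = c ^ k * (a * a⁻¹) * c * X := by rw [(hc.pow_right k).eq]; group
        _ = c ^ (k + 1) * X := by rw [mul_inv_cancel, mul_one, pow_succ]
  have := h N
  rw [hN, one_mul, inv_one, mul_one] at this
  exact mul_eq_right.1 this.symm

namespace Over

variable {d : Bender.Data G} (o : Over d)

/-- The Sylow 2-subgroup does not lie in `E`. -/
theorem not_le [IsSimpleGroup G] : ¬ (d.S : Subgroup G) ≤ o.E := by
  intro hSE
  haveI : Fact (Nat.Prime 2) := ⟨Nat.prime_two⟩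
  set T : Sylow 2 o.E := d.S.subtype hSE
  let eT : (T : Subgroup o.E) ≃* DihedralGroup d.m :=
    ((MulEquiv.subgroupCongr (d.S.coe_subtype hSE)).trans (subgroupOfEquivOfLe hSE)).trans d.e
  have hidx : ∀ U : Subgroup o.E, U.index ≠ 2 := by
    intro U hU
    haveI := Subgroup.normal_of_index_eq_two hU
    have hp : commutator o.E = ⊤ := by
      apply Subgroup.map_injective o.E.subtype_injective
      rw [map_subtype_commutator, ← MonoidHom.range_eq_map, o.E.range_subtype]
      exact maxPerfect_perfect o.K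
    haveI : IsMulCommutative (o.E ⧸ U) := by
      haveI : Fact (Nat.Prime 2) := ⟨Nat.prime_two⟩
      haveI : IsCyclic (o.E ⧸ U) := isCyclic_of_prime_card (p := 2) (by rw [← index_eq_card, hU])
      infer_instance
    have hle : commutator o.E ≤ U := by
      rw [_root_.commutator_def, commutator_le]
      intro a _ b _
      rw [← QuotientGroup.eq_one_iff]
      show QuotientGroup.mk' U _ = 1
      rw [map_commutatorElement, commutatorElement_eq_one_iff_mul_comm]
      exact mul_comm' _ _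
    rw [hp, top_le_iff] at hle
    rw [hle, index_top] at hU
    omega
  have hone : ∀ a b : o.K, orderOf a = 2 → orderOf b = 2 → IsConj a b := by
    have hmem : ∀ a : o.K, orderOf a = 2 → (a : G) ∈ o.E := by
      intro a ha
      rw [← Subgroup.orderOf_coe] at ha
      obtain ⟨k, hk, hkS⟩ := o.exists_conj_S (isPGroup_zpowers ha) (zpowers_le.2 a.2)
      have := o.conj_mem_E (inv_mem hk) (hSE (hkS a (mem_zpowers (a : G))))
      rwa [show k⁻¹ * (k * (a : G) * k⁻¹) * k⁻¹⁻¹ = a by group] at this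
    intro a b ha hb
    have key : ∀ c : o.K, ∀ hc : orderOf c = 2, IsConj (⟨c, hmem c hc⟩ : o.E)
        (DihedralSylow.z T eT) := fun c hc =>
      DihedralSylow.isConj_z_of_no_index_two T eT d.dvd d.ne_zero hidx
        (by rwa [orderOf_mk, Subgroup.orderOf_coe])
    obtain ⟨g, hg⟩ := isConj_iff.1 ((key a ha).trans (key b hb).symm)
    exact isConj_iff.2 ⟨⟨g, o.E_le g.2⟩, Subtype.ext (congrArg Subtype.val hg :)⟩
  obtain ⟨e5⟩ := OrderBounds.alt_five_of_overgroup d.S d.two_le d.e d.t_order o.coatom.1 o.le hone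
  have h60 : Nat.card G = 60 := by
    rw [Nat.card_congr e5.toEquiv, nat_card_alternatingGroup, Nat.card_fin]; rfl
  haveI := solvable_of_sixty h60 o.coatom.1
  exact o.ne_bot (eq_bot_of_perfect (maxPerfect_perfect o.K)
    (Group.isSolvable_of_isSolvable_injective (f := Subgroup.inclusion o.E_le)
      (Subgroup.inclusion_injective o.E_le)))

theorem exists_split [IsSimpleGroup G] : ∃ i, d.u i ∈ o.E ∧ d.u (i + 1) ∉ o.E :=
  o.split_or_le.resolve_left o.not_le

variable {i : ZMod d.m} (hi : d.u i ∈ o.E) (ho : d.u (i + 1) ∉ o.E)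

include hi in
/-- The cosets of `E` in `S`. -/
theorem cover {s : G} (hs : s ∈ (d.S : Subgroup G)) : s ∈ o.E ∨ s * d.u (i + 1) ∈ o.E := by
  have key : ∀ j, d.u j ∈ o.E ∨ d.u j * d.u (i + 1) ∈ o.E := by
    intro j
    obtain ⟨a, ha | ha⟩ := d.exists_half (j - i)
    · left; rw [show j = i + (a + a) by rw [← ha]; ring]; exact o.inner_two hi a
    · right
      rw [d.u_mul_u, show i + 1 - j = i - (i + (a + a)) by linear_combination -ha, ← d.u_mul_u]
      exact mul_mem (o.inner_two hi a) hi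
  rcases d.sylow_cases hs with ⟨j, rfl⟩ | ⟨j, rfl⟩
  · have he : d.rot j = d.u i * d.u (i + j) := by rw [d.u_mul_u, add_sub_cancel_left]
    rcases key (i + j) with h | h
    · left; rw [he]; exact mul_mem hi h
    · right; rw [he, mul_assoc]; exact mul_mem hi h
  · exact key j

include hi in
/-- The square of a 2-element of `K` lies in `E`. -/
theorem sq_mem {s : G} (hs : s ∈ o.K) (h2 : ∃ j, orderOf s = 2 ^ j) : s * s ∈ o.E := by
  obtain ⟨j, hj⟩ := h2
  obtain ⟨k, hk, hkS⟩ := o.exists_conj_S (B := zpowers s)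
    (IsPGroup.of_card (n := j) (by rw [Nat.card_zpowers, hj])) (zpowers_le.2 hs)
  set w := k * s * k⁻¹ with hw
  have hwS := hkS s (mem_zpowers s)
  have hww : w * w ∈ o.E := by
    rcases o.cover hi hwS with h | h
    · exact mul_mem h h
    · set v := d.u (i + 1)
      have hvv : v * v = 1 := d.u_sq _
      have h' := o.conj_mem_E (o.S_le (d.u_mem (i + 1))) h
      rw [d.u_inv] at h'
      have := mul_mem h h'
      rwa [show w * v * (v * (w * v) * v) = w * (v * v) * w * (v * v) by group, hvv, mul_one,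
        mul_one] at this
  have := o.conj_mem_E (inv_mem hk) hww
  rwa [hw, show k⁻¹ * (k * s * k⁻¹ * (k * s * k⁻¹)) * k⁻¹⁻¹ = s * s by group] at this

include hi ho in
theorem four_dvd : 4 ∣ d.m := by
  rcases d.two_le.lt_or_eq with h | h
  · exact DihedralSylow.four_dvd d.S d.e h
  · exfalso
    refine ho ?_
    have hrot : d.rot 1 = d.t := by
      rw [d.t_eq_rot, DihedralEmbedding.half, show d.m / 2 = 1 by omega, Nat.cast_one]
    rw [d.u_eq_mul_rot i (i + 1), add_sub_cancel_left, hrot]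
    exact mul_mem hi o.t_mem

include hi ho in
/-- The component is `PSL₂(q)` modulo its odd core. -/
theorem exists_psl : ∃ (F : Type) (_ : Field F) (_ : Fintype F), Odd (Fintype.card F) ∧
    3 < Fintype.card F ∧
      Nonempty ((o.E ⧸ Cfsg.oddCore o.E) ≃* Matrix.ProjectiveSpecialLinearGroup (Fin 2) F) := by
  refine o.type.resolve_right fun ⟨e⟩ => ?_
  haveI : Fact (Nat.Prime 2) := ⟨Nat.prime_two⟩
  have h8E : 8 ∣ Nat.card o.E := by
    refine dvd_trans ?_ (Subgroup.card_quotient_dvd_card (Cfsg.oddCore o.E))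
    rw [Nat.card_congr e.toEquiv, nat_card_alternatingGroup, Nat.card_fin]
    decide
  have h16 : 2 ^ 4 ∣ Nat.card G := by
    haveI : (o.E.subgroupOf o.K).Normal :=
      normal_subgroupOf_of_le_normalizer (le_normalizer_maxPerfect o.K)
    set v : o.K := ⟨d.u (i + 1), o.S_le (d.u_mem _)⟩
    have hv : orderOf (v : o.K ⧸ o.E.subgroupOf o.K) = 2 := by
      refine orderOf_eq_prime ?_ fun h => ho (mem_subgroupOf.1 ((QuotientGroup.eq_one_iff v).1 h))
      rw [← QuotientGroup.mk_pow, QuotientGroup.eq_one_iff, mem_subgroupOf]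
      simp [v, sq, d.u_sq]
    have h2 : 2 ∣ (o.E.subgroupOf o.K).index := by
      rw [index_eq_card, ← hv]; exact orderOf_dvd_natCard _
    have := Nat.mul_dvd_mul h8E h2
    rw [← Nat.card_congr (subgroupOfEquivOfLe o.E_le).toEquiv, card_mul_index] at this
    exact this.trans (card_subgroup_dvd_card _)
  have h8 : 8 ∣ d.m := by
    have h := d.S.pow_dvd_card_of_pow_dvd_card h16
    rw [Nat.card_congr d.e.toEquiv, DihedralGroup.nat_card] at h
    exact Nat.dvd_of_mul_dvd_mul_left (k := 2) (by norm_num) (by norm_num at h ⊢; exact h)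
  obtain ⟨k, hk⟩ := d.exists_two_pow
  set σ : o.K := ⟨d.rot 1, o.S_le (d.rot_mem 1)⟩
  have hσm : σ ^ 2 ^ k = 1 := Subtype.ext (by
    rw [SubmonoidClass.coe_pow, ← hk, OneMemClass.coe_one, d.rot_pow, ZMod.natCast_self, d.rot_zero])
  set φ := MulAut.congr e (o.act σ)
  have hφ : φ ^ 4 = 1 := OvergroupsPSL.altSeven_pow_four (k := k)
    (by rw [← map_pow, ← map_pow, hσm, map_one, map_one])
  rw [← map_pow, ← map_pow, ← map_one (MulAut.congr e)] at hφ
  have h4 := (MulAut.congr e).injective hφ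
  obtain ⟨c, hc⟩ := h8
  have ht : d.t = ((σ ^ 4) ^ c : o.K) := by
    rw [← pow_mul, SubmonoidClass.coe_pow, d.t_eq_rot, d.rot_pow, DihedralEmbedding.half,
      show d.m / 2 = 4 * c by omega]
  have htD : d.t ∈ o.D := by
    rw [ht]
    exact (o.act_eq_one _).1 (by rw [map_pow, h4, one_pow])
  exact Involutions.Basic.ne_one d.t_order (eq_one_of_sq (oddPart_odd o.K) htD d.t_sq)

end Over

/-- A model of the component. -/
structure Model {d : Bender.Data G} (o : Over d) where
  F : Type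
  [instField : Field F]
  [instFintype : Fintype F]
  two : (2 : F) ≠ 0
  three : 3 < Fintype.card F
  e : (o.E ⧸ Cfsg.oddCore o.E) ≃* Matrix.ProjectiveSpecialLinearGroup (Fin 2) F

attribute [instance] Model.instField Model.instFintype

namespace Model

variable {d : Bender.Data G} {o : Over d} (M : Model o)

open OvergroupsPSL

local notation "PG" => Matrix.ProjectiveSpecialLinearGroup (Fin 2) M.F

/-- The projection of `E`. -/
noncomputable def pr : o.E →* Matrix.ProjectiveSpecialLinearGroup (Fin 2) M.F :=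
  M.e.toMonoidHom.comp (QuotientGroup.mk' (Cfsg.oddCore o.E))

/-- The action of `K`. -/
noncomputable def act : o.K →* MulAut (Matrix.ProjectiveSpecialLinearGroup (Fin 2) M.F) :=
  (MulAut.congr M.e).toMonoidHom.comp o.act

theorem pr_surjective : Function.Surjective M.pr :=
  M.e.surjective.comp (QuotientGroup.mk'_surjective _)

theorem pr_eq_one {x : o.E} : M.pr x = 1 ↔ (x : G) ∈ o.Z := by
  rw [← o.mk_eq_one]
  exact MulEquiv.map_eq_one_iff M.e

theorem act_pr (k : o.K) (x : o.E) :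
    M.act k (M.pr x) = M.pr ⟨(k : G) * x * (k : G)⁻¹, o.conj_mem_E k.2 x.2⟩ := by
  show M.e (o.act k (M.e.symm (M.e _))) = M.e _
  rw [MulEquiv.symm_apply_apply]
  exact congrArg M.e (o.act_mk k x)

theorem act_eq_one (k : o.K) : M.act k = 1 ↔ (k : G) ∈ o.D := by
  rw [← o.act_eq_one]
  exact MulEquiv.map_eq_one_iff (MulAut.congr M.e)

theorem act_inner (x : o.E) : M.act ⟨x, o.E_le x.2⟩ = MulAut.conj (M.pr x) := by
  refine MulEquiv.ext fun y => ?_
  obtain ⟨y, rfl⟩ := M.pr_surjective y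
  rw [M.act_pr, MulAut.conj_apply, ← map_inv, ← map_mul, ← map_mul]
  rfl

theorem mem_of_act_inner {k : o.K} (hk : ∃ j, orderOf (k : G) = 2 ^ j) (x : o.E)
    (h : M.act k = MulAut.conj (M.pr x)) : (k : G) ∈ o.E := by
  refine o.mem_of_act_inner hk x ?_
  apply (MulAut.congr M.e).injective
  rw [← o.act_inner]
  exact h.trans (M.act_inner x).symm

theorem orderOf_pr {x : G} (hx : x ∈ o.E) (h2 : orderOf x = 2) : orderOf (M.pr ⟨x, hx⟩) = 2 := by
  have hxx : x * x = 1 := by rw [← sq, ← h2, pow_orderOf_eq_one]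
  refine orderOf_eq_prime ?_ fun h => ?_
  · rw [← map_pow, show (⟨x, hx⟩ : o.E) ^ 2 = 1 from Subtype.ext (by
      rw [SubmonoidClass.coe_pow, sq]; exact hxx), map_one]
  · exact Involutions.Basic.ne_one h2 (eq_one_of_sq o.Z_odd (M.pr_eq_one.1 h) hxx)

theorem invol_unique {x y : G} (hx : x ∈ o.E) (hy : y ∈ o.E) (hx2 : x * x = 1) (hy2 : y * y = 1)
    (h : M.pr ⟨x, hx⟩ = M.pr ⟨y, hy⟩) : x = y :=
  o.invol_unique hx hy hx2 hy2 (M.e.injective h)

theorem invol_lift {q : PG} (hq : orderOf q = 2) :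
    ∃ x : o.E, orderOf (x : G) = 2 ∧ M.pr x = q := by
  obtain ⟨x, hx, hxq⟩ := o.invol_lift (q := M.e.symm q) (by rw [MulEquiv.orderOf_eq, hq])
  exact ⟨x, hx, by rw [← M.e.apply_symm_apply q, ← hxq]; rfl⟩

include M in
/-- The involutions of `E` are conjugate. -/
theorem exists_conj {w : G} (hw : w ∈ o.E) (h2 : orderOf w = 2) :
    ∃ g ∈ o.E, g * d.t * g⁻¹ = w := by
  obtain ⟨g', hg⟩ := isConj_iff.1 (Forms.KleinPSL.involutions_isConj M.two _ _
    (M.orderOf_pr o.t_mem d.t_order) (M.orderOf_pr hw h2))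
  obtain ⟨g, rfl⟩ := M.pr_surjective g'
  refine ⟨g, g.2, M.invol_unique (o.conj_mem_E (o.E_le g.2) o.t_mem) hw ?_
    (by rw [← sq, ← h2, pow_orderOf_eq_one]) ?_⟩
  · rw [show (g : G) * d.t * (g : G)⁻¹ * ((g : G) * d.t * (g : G)⁻¹) =
      g * (d.t * d.t) * (g : G)⁻¹ by group, d.t_sq, mul_one, mul_inv_cancel]
  · rw [← hg, ← map_inv, ← map_mul, ← map_mul]; rfl

include M in
/-- The centralisers of the involutions of `E` lie in `K`. -/
theorem cent_invol {w : G} (hw : w ∈ o.E) (h2 : orderOf w = 2) :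
    centralizer ({w} : Set G) ≤ o.K := by
  obtain ⟨g, hg, rfl⟩ := M.exists_conj hw h2
  intro x hx
  have h : g⁻¹ * x * g ∈ d.H := by
    refine mem_centralizer_singleton_iff.2 ?_
    have := mem_centralizer_singleton_iff.1 hx
    calc g⁻¹ * x * g * d.t = g⁻¹ * (x * (g * d.t * g⁻¹)) * g := by group
      _ = g⁻¹ * (g * d.t * g⁻¹ * x) * g := by rw [this]
      _ = d.t * (g⁻¹ * x * g) := by group
  have := mul_mem (mul_mem (o.E_le hg) (o.le h)) (inv_mem (o.E_le hg))
  rwa [show g * (g⁻¹ * x * g) * g⁻¹ = x by group] at this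

theorem t_fix {k : o.K} (h : (k : G) * d.t = d.t * k) :
    M.act k (M.pr ⟨d.t, o.t_mem⟩) = M.pr ⟨d.t, o.t_mem⟩ := by
  rw [M.act_pr]
  exact congrArg M.pr (Subtype.ext (mul_inv_eq_iff_eq_mul.2 h))

/-- An outer involution of `S` commuting with `t` induces a diagonal automorphism. -/
theorem frame (ψ : MulAut PG →* (M.F ≃+* M.F))
    (hψ : ∀ β, ψ β = 1 ↔ ∃ g, β = AutPSL.Basic.gAut (n := 2) (F := M.F) g)
    {z : G} (hzK : z ∈ o.K) (hzE : z ∉ o.E) (hz2 : orderOf z = 2) (hzt : z * d.t = d.t * z) :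
    ∃ (g : GL (Fin 2) M.F) (A : Matrix.SpecialLinearGroup (Fin 2) M.F),
      M.act ⟨z, hzK⟩ = AutPSL.Basic.gAut (n := 2) (F := M.F) g ∧
      Forms.KleinPSL.pi M.F A = M.pr ⟨d.t, o.t_mem⟩ ∧ Frame g A := by
  set β := M.act ⟨z, hzK⟩ with hβ
  have hzz : z * z = 1 := by rw [← sq, ← hz2, pow_orderOf_eq_one]
  have hinn : β ∉ Cfsg.Inn PG := by
    rintro ⟨q, hq⟩
    obtain ⟨x, rfl⟩ := M.pr_surjective q
    exact hzE (M.mem_of_act_inner ⟨1, by rw [hz2, pow_one]⟩ x hq.symm)
  have hbb : β * β = 1 := by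
    rw [hβ, ← map_mul, show (⟨z, hzK⟩ : o.K) * ⟨z, hzK⟩ = 1 from Subtype.ext hzz, map_one]
  have hb : orderOf β = 2 :=
    orderOf_eq_prime (by rw [sq, hbb]) fun h => hinn (h ▸ one_mem _)
  have hψ1 : ψ β = 1 := by
    by_contra hne
    obtain ⟨x, y, hx, hy, hxy, hc, hfx, hfy⟩ := exists_four_fixed M.two ψ hψ hbb hne
    obtain ⟨X, hX, rfl⟩ := M.invol_lift hx
    obtain ⟨Y, hY, rfl⟩ := M.invol_lift hy
    have hXX : (X : G) * X = 1 := by rw [← sq, ← hX, pow_orderOf_eq_one]
    have hYY : (Y : G) * Y = 1 := by rw [← sq, ← hY, pow_orderOf_eq_one]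
    have hsq : ∀ a b : G, b * b = 1 → (a * b * a⁻¹) * (a * b * a⁻¹) = 1 := fun a b hb' => by
      rw [show a * b * a⁻¹ * (a * b * a⁻¹) = a * (b * b) * a⁻¹ by group, hb', mul_one,
        mul_inv_cancel]
    have hzX : Commute z X := mul_inv_eq_iff_eq_mul.1
      (M.invol_unique (o.conj_mem_E hzK X.2) X.2 (hsq z X hXX) hXX ((M.act_pr _ X).symm.trans hfx))
    have hzY : Commute z Y := mul_inv_eq_iff_eq_mul.1
      (M.invol_unique (o.conj_mem_E hzK Y.2) Y.2 (hsq z Y hYY) hYY ((M.act_pr _ Y).symm.trans hfy))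
    have hYX : Commute (Y : G) X := mul_inv_eq_iff_eq_mul.1
      (M.invol_unique (o.conj_mem_E (o.E_le Y.2) X.2) X.2 (hsq Y X hXX) hXX (by
        rw [show (⟨(Y : G) * X * (Y : G)⁻¹, o.conj_mem_E (o.E_le Y.2) X.2⟩ : o.E) = Y * X * Y⁻¹
          from rfl, map_mul, map_mul, map_inv, ← hc.eq, mul_inv_cancel_right]))
    have hB : IsPGroup 2 ↥(zpowers z ⊔ zpowers (X : G) ⊔ zpowers (Y : G)) := by
      refine isPGroup_sup_comm (isPGroup_sup_comm (isPGroup_zpowers hz2) (isPGroup_zpowers hX)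
        (zpowers_le.2 ?_)) (isPGroup_zpowers hY) (zpowers_le.2 ?_)
      · refine mem_centralizer_iff.2 fun a ha => ?_
        obtain ⟨j, rfl⟩ := mem_zpowers_iff.1 ha
        exact (hzX.zpow_left j).eq
      · have hle : zpowers z ⊔ zpowers (X : G) ≤ centralizer ({(Y : G)} : Set G) :=
          sup_le (zpowers_le.2 (mem_centralizer_singleton_iff.2 hzY.eq))
            (zpowers_le.2 (mem_centralizer_singleton_iff.2 hYX.symm.eq))
        exact mem_centralizer_iff.2 fun a ha => mem_centralizer_singleton_iff.1 (hle ha)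
    obtain ⟨k, hk, hkS⟩ := o.exists_conj_S hB
      (sup_le (sup_le (zpowers_le.2 hzK) (zpowers_le.2 (o.E_le X.2))) (zpowers_le.2 (o.E_le Y.2)))
    set z' := k * z * k⁻¹
    have hzE' : z' ∉ o.E := fun h => hzE (by
      have := o.conj_mem_E (inv_mem hk) h
      rwa [show k⁻¹ * (k * z * k⁻¹) * k⁻¹⁻¹ = z by group] at this)
    obtain ⟨ht, j, hj⟩ := d.pair_cases (X := o.E ⊓ centralizer ({z'} : Set G))
      (a := k * X * k⁻¹) (b := k * Y * k⁻¹)
      ⟨o.conj_mem_E hk X.2, mem_centralizer_singleton_iff.2 ((Commute.conj_iff k).2 hzX).symm.eq⟩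
      ⟨o.conj_mem_E hk Y.2, mem_centralizer_singleton_iff.2 ((Commute.conj_iff k).2 hzY).symm.eq⟩
      (hkS X (mem_sup_left (mem_sup_right (mem_zpowers _)))) (hkS Y (mem_sup_right (mem_zpowers _)))
      (by rw [Involutions.Basic.orderOf_conj, hX]) (by rw [Involutions.Basic.orderOf_conj, hY])
      (fun h => hxy (congrArg M.pr (Subtype.ext (mul_left_cancel (mul_right_cancel h)))))
      ((Commute.conj_iff k).2 hYX.symm).eq
    refine hzE' ?_
    rcases d.comm_refl_cases (s := z') (hkS z (mem_sup_left (mem_sup_left (mem_zpowers _))))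
      (by rw [Involutions.Basic.orderOf_conj, hz2]) (mem_centralizer_singleton_iff.1 hj.2)
      with h | h | h <;> rw [h]
    exacts [ht.1, hj.1, mul_mem ht.1 hj.1]
  obtain ⟨g, hg⟩ := (hψ β).1 hψ1
  obtain ⟨A, hA, hF⟩ := exists_frame M.two (M.orderOf_pr o.t_mem d.t_order) g hg hb hinn
    (M.t_fix (k := ⟨z, hzK⟩) hzt)
  exact ⟨g, A, hg, hA, hF⟩

/-- An element with trivial field part and odd order induces an inner automorphism. -/
theorem inner_of_psi (ψ : MulAut PG →* (M.F ≃+* M.F))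
    (hψ : ∀ β, ψ β = 1 ↔ ∃ g, β = AutPSL.Basic.gAut (n := 2) (F := M.F) g)
    {x : o.K} (hx : Odd (orderOf (x : G))) (h : ψ (M.act x) = 1) :
    ∃ a : PG, M.act x = MulAut.conj a ∧ Odd (orderOf a) ∧
      ((x : G) * d.t = d.t * x → Commute a (M.pr ⟨d.t, o.t_mem⟩)) := by
  obtain ⟨g, hg⟩ := (hψ _).1 h
  have hodd : Odd (orderOf (M.act x)) := by
    rw [Subgroup.orderOf_coe] at hx
    exact hx.of_dvd_nat (orderOf_map_dvd M.act x)
  obtain ⟨a, ha⟩ := inner_of_odd (hg ▸ hodd)
  refine ⟨a, hg.trans ha, ?_, fun hc => ?_⟩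
  · rwa [← orderOf_injective (MulAut.conj : PG →* MulAut PG)
      (AutPSL.LocalBalance.conj_injective le_rfl) a, ← ha, ← hg]
  · have := M.t_fix hc
    rw [hg.trans ha, MulAut.conj_apply] at this
    exact mul_inv_eq_iff_eq_mul.1 this

/-- Inner parts of commuting elements are fixed. -/
theorem inner_fixed {x z : o.K} {a : PG} (ha : M.act x = MulAut.conj a) (hc : Commute z x) :
    M.act z a = a := by
  apply AutPSL.LocalBalance.conj_injective (F := M.F) le_rfl
  rw [← ha]
  refine MulEquiv.ext fun y => ?_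
  obtain ⟨y, rfl⟩ := (M.act z).surjective y
  have h1 : M.act x (M.act z y) = M.act z (M.act x y) := by
    rw [← MulAut.mul_apply, ← MulAut.mul_apply, ← map_mul, ← map_mul, hc.eq]
  rw [MulAut.conj_apply, h1, ha, MulAut.conj_apply, map_mul, map_mul, map_inv]

/-- An element inverted in `K` has trivial field part. -/
theorem psi_inverted (ψ : MulAut PG →* (M.F ≃+* M.F)) (hcomm : ∀ a b, ψ a * ψ b = ψ b * ψ a)
    {x z : o.K} (h : (z : G) * x * (z : G)⁻¹ = (x : G)⁻¹) (hodd : Odd (orderOf (x : G))) :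
    ψ (M.act x) = 1 := by
  have h1 : ψ (M.act (z * x * z⁻¹)) = ψ (M.act x) := by
    rw [map_mul, map_mul, map_mul, map_mul, hcomm (M.act z), mul_assoc, map_inv M.act z, map_inv,
      mul_inv_cancel, mul_one]
  rw [show z * x * z⁻¹ = x⁻¹ from Subtype.ext h, map_inv, map_inv] at h1
  refine orderOf_eq_one_iff.1 (Nat.eq_one_of_dvd_coprimes (Nat.coprime_two_left.2 hodd)
    (orderOf_dvd_of_pow_eq_one ?_) ?_)
  · rw [sq]; nth_rw 1 [← h1]; exact inv_mul_cancel _
  · rw [Subgroup.orderOf_coe]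
    exact (orderOf_map_dvd ψ _).trans (orderOf_map_dvd M.act x)

end Model

end Cfsg.Agent.GW.Overgroups
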