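import Mathlib
import Cfsg.Agent.S0205
import Cfsg.Agent.Lib.Cores.Basic
import Cfsg.Agent.Lib.Involutions.DihedralSylow
import Cfsg.Agent.Lib.Perm.ThreeCycleFStar
import Cfsg.Agent.Lib.PSLOrderSpectrum.Main
import Cfsg.Agent.Lib.GW.OrderBounds
import Cfsg.Agent.InvChar.Core

/-!
# Reduction of the perfect form of the dihedral Sylow theorem to the simple one

With dihedral Sylow 2-subgroups the normalizers of nontrivial 2-subgroups are solvable, so a perfect
such group with trivial odd core is simple.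
-/

set_option autoImplicit false
set_option linter.style.haveILetI false

namespace Cfsg.Agent.GW.PerfectReduction

open Cfsg.Agent.Involutions

universe u

variable {G : Type u} [Group G] [Finite G] (S : Sylow 2 G) {m : ℕ}
  (e : (S : Subgroup G) ≃* DihedralGroup m)

include e in
/-- The centralizer of an involution is solvable. -/
theorem isSolvable_centralizer (hm : 2 ≤ m) {t : G} (ht : orderOf t = 2) :
    Group.IsSolvable (Subgroup.centralizer ({t} : Set G)) := by
  haveI : Fact (Nat.Prime 2) := ⟨Nat.prime_two⟩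
  obtain ⟨P, N, hN, hc⟩ := DihedralSylow.centralizer_complement S e hm ht
  haveI := hN
  have hidx : N.index = Nat.card (P : Subgroup (Subgroup.centralizer ({t} : Set G))) := by
    rw [hc.symm.index_eq_card]
  obtain ⟨k, hk⟩ := IsPGroup.iff_card.1 P.2
  have hodd : Odd (Nat.card N) := by
    rw [Nat.odd_iff]
    by_contra hne
    have h2 : 2 ∣ Nat.card N := by omega
    have hdiv : 2 ^ (k + 1) ∣ Nat.card (Subgroup.centralizer ({t} : Set G)) := by
      rw [← N.card_mul_index, hidx, hk, pow_succ, mul_comm]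
      exact mul_dvd_mul h2 dvd_rfl
    have hcard := P.card_eq_multiplicity
    rw [hk] at hcard
    have hfac := (Nat.prime_two.pow_dvd_iff_le_factorization Nat.card_pos.ne').1 hdiv
    have := Nat.pow_right_injective le_rfl hcard
    omega
  haveI : Group.IsSolvable N := Cfsg.Agent.S0205.result hodd
  have hQ : IsPGroup 2 (Subgroup.centralizer ({t} : Set G) ⧸ N) :=
    IsPGroup.of_card (n := k) (by rw [← N.index_eq_card, hidx, hk])
  haveI : Group.IsNilpotent (Subgroup.centralizer ({t} : Set G) ⧸ N) := hQ.isNilpotent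
  exact Group.isSolvable_of_ker_le_range N.subtype (QuotientGroup.mk' N)
    (by rw [QuotientGroup.ker_mk', Subgroup.range_subtype])

include e in
/-- The normalizer of a nontrivial 2-subgroup is solvable. -/
theorem isSolvable_normalizer (hm : 2 ≤ m) {T : Subgroup G} (hT : IsPGroup 2 T) (hT1 : T ≠ ⊥) :
    Group.IsSolvable (Subgroup.normalizer (T : Set G)) := by
  haveI : Fact (Nat.Prime 2) := ⟨Nat.prime_two⟩
  have hd := DihedralSylow.two_dvd S e hm
  haveI : Nontrivial T := (Subgroup.nontrivial_iff_ne_bot _).2 hT1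
  obtain ⟨f, hf⟩ := DihedralSylow.exists_embedding S hT e
  -- the involutions in the centre of `T`, with the identity
  let E : Subgroup T :=
    { carrier := {x | x ∈ Subgroup.center T ∧ x * x = 1}
      one_mem' := ⟨one_mem _, one_mul 1⟩
      mul_mem' := fun {a b} ha hb => ⟨mul_mem ha.1 hb.1, by
        have hab : b * a = a * b := Subgroup.mem_center_iff.1 ha.1 b
        rw [mul_assoc, ← mul_assoc b, hab, mul_assoc a b b, hb.2, mul_one, ha.2]⟩
      inv_mem' := fun {a} ha => ⟨inv_mem ha.1, by rw [← mul_inv_rev, ha.2, inv_one]⟩ }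
  have hE4 : Nat.card E ≤ 4 :=
    DihedralEmbedding.card_le_four (f.comp E.subtype) (hf.comp (Subgroup.subtype_injective _)) hd
      (by omega) fun g => Subtype.ext g.2.2
  set N := Subgroup.normalizer (T : Set G) with hN
  have hact : ∀ g : N, ∀ x : T, ((g : G) * x * (g : G)⁻¹) ∈ T := fun g x =>
    (Subgroup.mem_normalizer_iff.1 g.2 x).1 x.2
  let a : N →* MulAut T := T.normalizerMonoidHom
  have hE : ∀ g : N, ∀ x ∈ E, a g x ∈ E := by
    intro g x hx
    refine ⟨?_, by rw [← map_mul, hx.2, map_one]⟩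
    rw [Subgroup.mem_center_iff]
    intro y
    have := Subgroup.mem_center_iff.1 hx.1 ((a g).symm y)
    simpa using congrArg (a g) this
  let b : N →* Equiv.Perm E :=
    { toFun := fun g =>
        { toFun := fun x => ⟨a g x, hE g x x.2⟩
          invFun := fun x => ⟨a g⁻¹ x, hE g⁻¹ x x.2⟩
          left_inv := fun x => Subtype.ext (by simp)
          right_inv := fun x => Subtype.ext (by simp) }
      map_one' := Equiv.ext fun x => Subtype.ext (by simp)
      map_mul' := fun g h => Equiv.ext fun x => Subtype.ext (by simp) }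
  -- an involution in the centre
  haveI : Nontrivial (Subgroup.center T) := hT.center_nontrivial
  obtain ⟨z, hz⟩ := exists_prime_orderOf_dvd_card' (G := Subgroup.center T) 2 (by
    obtain ⟨j, hj, hcard⟩ := (hT.to_subgroup (Subgroup.center T)).nontrivial_iff_card.1 inferInstance
    rw [hcard]; exact dvd_pow_self 2 hj.ne')
  have hz2 : (z : T) * z = 1 := by
    rw [← sq, ← SubmonoidClass.coe_pow, ← hz, pow_orderOf_eq_one, OneMemClass.coe_one]
  have ht : orderOf ((z : T) : G) = 2 := by rw [Subgroup.orderOf_coe, Subgroup.orderOf_coe, hz]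
  haveI := isSolvable_centralizer S e hm ht
  haveI : Group.IsSolvable (Equiv.Perm E) :=
    Cfsg.Agent.Perm.ThreeCycleFStar.isSolvable_perm_of_card_le_four hE4
  have hker : ∀ g : b.ker, ((g : N) : G) ∈ Subgroup.centralizer ({((z : T) : G)} : Set G) := by
    intro g
    rw [Subgroup.mem_centralizer_singleton_iff]
    have := congrArg (fun p : Equiv.Perm E => ((p ⟨z, z.2, hz2⟩ : T) : G)) (MonoidHom.mem_ker.1 g.2)
    exact mul_inv_eq_iff_eq_mul.1 this
  haveI : Group.IsSolvable b.ker :=
    Group.isSolvable_of_isSolvable_injective (f :=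
      MonoidHom.codRestrict (N.subtype.comp b.ker.subtype) _ hker) fun x y h =>
        Subtype.ext (Subtype.ext (congrArg Subtype.val h :))
  exact Group.isSolvable_of_ker_le_range b.ker.subtype b (by rw [Subgroup.range_subtype])

include e in
/-- A perfect group with dihedral Sylow 2-subgroups and trivial odd core is simple. -/
theorem isSimpleGroup_of_perfect [Group.IsPerfect G] (hm : 2 ≤ m) (hO : Cfsg.oddCore G = ⊥) :
    IsSimpleGroup G := by
  haveI : Fact (Nat.Prime 2) := ⟨Nat.prime_two⟩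
  haveI : Nontrivial (S : Subgroup G) :=
    Finite.one_lt_card_iff_nontrivial.1 (by
      rw [Nat.card_congr e.toEquiv, DihedralGroup.nat_card]; omega)
  obtain ⟨s, hs⟩ := exists_ne (1 : (S : Subgroup G))
  haveI : Nontrivial G := ⟨⟨s, 1, fun h => hs (Subtype.ext h)⟩⟩
  refine ⟨fun N hN => ?_⟩
  by_contra! h
  haveI := hN
  have h2 : 2 ∣ Nat.card N := by
    by_contra hodd
    exact h.1 (le_bot_iff.1 (hO ▸ Cores.le_oddCore (Nat.odd_iff.2 (by omega))))
  obtain ⟨x, hx⟩ := exists_prime_orderOf_dvd_card' (G := N) 2 h2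
  let T : Sylow 2 N := default
  have hT : (T : Subgroup N).map N.subtype ≠ ⊥ := by
    intro hbot
    have h1 : (T : Subgroup N) = ⊥ := (Subgroup.map_eq_bot_iff_of_injective _
      (Subgroup.subtype_injective N)).1 hbot
    have hdvd := T.card_eq_multiplicity
    rw [h1, Subgroup.card_bot] at hdvd
    have := (Nat.prime_two.pow_dvd_iff_le_factorization (k := 1) Nat.card_pos.ne').1 (by simpa using h2)
    rcases (pow_eq_one_iff.1 hdvd.symm) with h3 | h3 <;> omega
  have hR := isSolvable_normalizer S e hm (T.2.map N.subtype) hT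
  set R := Subgroup.normalizer (((T : Subgroup N).map N.subtype : Subgroup G) : Set G)
  have hsup : R ⊔ N = ⊤ := T.normalizer_sup_eq_top
  let q : R →* G ⧸ N := (QuotientGroup.mk' N).comp R.subtype
  have hq : Function.Surjective q := by
    intro y
    obtain ⟨g, rfl⟩ := QuotientGroup.mk'_surjective N y
    have : g ∈ R ⊔ N := hsup ▸ Subgroup.mem_top g
    obtain ⟨r, hr, n, hn, rfl⟩ := Subgroup.mem_sup_of_normal_right.1 this
    refine ⟨⟨r, hr⟩, ?_⟩
    show QuotientGroup.mk' N r = QuotientGroup.mk' N (r * n)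
    rw [map_mul, (QuotientGroup.eq_one_iff n).2 hn |> fun hn' : QuotientGroup.mk' N n = 1 => hn',
      mul_one]
  haveI := hR
  haveI : Group.IsSolvable (G ⧸ N) := Group.isSolvable_of_surjective hq
  haveI : Nontrivial (G ⧸ N) := QuotientGroup.nontrivial_iff.2 h.2
  exact Group.IsPerfect.not_isSolvable (G ⧸ N) inferInstance

/-- The simple form implies the perfect form, order by order. -/
theorem of_simple_le
    {X : Type u} [Group X] [Finite X] [Group.IsPerfect X]
    (H : ∀ (G : Type u) [Group G] [Finite G] [IsSimpleGroup G] (S : Sylow 2 G) (m : ℕ),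
      Nat.card G ≤ Nat.card X → 2 ≤ m →
      Nonempty ((S : Subgroup G) ≃* DihedralGroup m) →
      (∃ (F : Type) (_ : Field F) (_ : Fintype F), Odd (Fintype.card F) ∧
        Nonempty (G ≃* Matrix.ProjectiveSpecialLinearGroup (Fin 2) F)) ∨
      Nonempty (G ≃* alternatingGroup (Fin 7)))
    (S : Sylow 2 X) (n : ℕ) (hn : 2 ≤ n)
    (hS : Nonempty ((S : Subgroup X) ≃* DihedralGroup n)) :
    (∃ (F : Type) (_ : Field F) (_ : Fintype F), Odd (Fintype.card F) ∧ 3 < Fintype.card F ∧
        Nonempty (X ⧸ Cfsg.oddCore X ≃* Matrix.ProjectiveSpecialLinearGroup (Fin 2) F)) ∨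
      Nonempty (X ⧸ Cfsg.oddCore X ≃* alternatingGroup (Fin 7)) := by
  haveI : Fact (Nat.Prime 2) := ⟨Nat.prime_two⟩
  haveI : (Cfsg.oddCore X).Normal := Cores.pPrimeCore_normal 2
  obtain ⟨e⟩ := hS
  set π := QuotientGroup.mk' (Cfsg.oddCore X) with hπ
  let T : Sylow 2 (X ⧸ Cfsg.oddCore X) := S.mapSurjective (QuotientGroup.mk'_surjective _)
  have hker : ∀ x ∈ (S : Subgroup X), π x = 1 → x = 1 := by
    intro x hx hx1
    have hxO : x ∈ Cfsg.oddCore X := (QuotientGroup.eq_one_iff x).1 hx1
    obtain ⟨k, hk⟩ := IsPGroup.iff_orderOf.1 S.2 ⟨x, hx⟩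
    have h1 : orderOf x ∣ Nat.card (Cfsg.oddCore X) := by
      rw [← Subgroup.orderOf_mk x hxO]; exact orderOf_dvd_natCard _
    rw [← orderOf_eq_one_iff]
    rw [Subgroup.orderOf_mk] at hk
    exact Nat.eq_one_of_dvd_coprimes
      ((Cores.pPrimeCore_card_coprime (G := X) 2).pow_right k) h1 (dvd_of_eq hk)
  have eT : (T : Subgroup (X ⧸ Cfsg.oddCore X)) ≃* DihedralGroup n := by
    refine (MulEquiv.ofBijective (((π.comp (S : Subgroup X).subtype).codRestrict ((S : Subgroup X).map π)
      (fun x => ⟨x, x.2, rfl⟩) : (S : Subgroup X) →* (T : Subgroup (X ⧸ Cfsg.oddCore X)))) ⟨?_, ?_⟩).symm.trans e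
    · refine (injective_iff_map_eq_one _).2 fun x hx => Subtype.ext ?_
      exact hker x x.2 (congrArg Subtype.val hx)
    · rintro ⟨_, x, hx, rfl⟩
      exact ⟨⟨x, hx⟩, rfl⟩
  have hbot : Cfsg.oddCore (X ⧸ Cfsg.oddCore X) = ⊥ :=
    InvChar.Core.oddCore_quotient_oddCore_eq_bot
  haveI := isSimpleGroup_of_perfect T eT hn hbot
  rcases H (X ⧸ Cfsg.oddCore X) T n (Nat.card_le_card_of_surjective π (QuotientGroup.mk'_surjective _)) hn ⟨eT⟩ with ⟨F, i1, i2, hodd, ⟨φ⟩⟩ | h
  · refine Or.inl ⟨F, i1, i2, hodd, ?_, ⟨φ⟩⟩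
    by_contra hle
    have h3 : Fintype.card F = 3 := by
      have := Fintype.one_lt_card (α := F)
      rw [Nat.odd_iff] at hodd
      omega
    have hc := PSLOrderSpectrum.card_psl_two (F := F)
    rw [h3, ← Nat.card_congr φ.toEquiv] at hc
    norm_num at hc
    refine OrderBounds.not_card_dvd_twelve (G := X ⧸ Cfsg.oddCore X) (fun hcomm => ?_)
      (by omega) (by rw [show Nat.card (X ⧸ Cfsg.oddCore X) = 12 by omega])
    haveI := hcomm
    exact not_subsingleton (X ⧸ Cfsg.oddCore X) Group.IsPerfect.subsingleton_of_isMulCommutative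
  · exact Or.inr h

/-- The simple form implies the perfect form. -/
theorem of_simple
    (H : ∀ (G : Type u) [Group G] [Finite G] [IsSimpleGroup G] (S : Sylow 2 G) (m : ℕ), 2 ≤ m →
      Nonempty ((S : Subgroup G) ≃* DihedralGroup m) →
      (∃ (F : Type) (_ : Field F) (_ : Fintype F), Odd (Fintype.card F) ∧
        Nonempty (G ≃* Matrix.ProjectiveSpecialLinearGroup (Fin 2) F)) ∨
      Nonempty (G ≃* alternatingGroup (Fin 7)))
    {X : Type u} [Group X] [Finite X] [Group.IsPerfect X] (S : Sylow 2 X) (n : ℕ) (hn : 2 ≤ n)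
    (hS : Nonempty ((S : Subgroup X) ≃* DihedralGroup n)) :
    (∃ (F : Type) (_ : Field F) (_ : Fintype F), Odd (Fintype.card F) ∧ 3 < Fintype.card F ∧
        Nonempty (X ⧸ Cfsg.oddCore X ≃* Matrix.ProjectiveSpecialLinearGroup (Fin 2) F)) ∨
      Nonempty (X ⧸ Cfsg.oddCore X ≃* alternatingGroup (Fin 7)) :=
  of_simple_le (fun G _ _ _ S m _ => H G S m) S n hn hS

end Cfsg.Agent.GW.PerfectReduction
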