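import Mathlib
import Cfsg.Agent.Lib.GW.ZFactTransfer
import Cfsg.Agent.GroupStructure3.FrobSolvable
import Cfsg.Agent.S0054
import Cfsg.Agent.Lib.TimesPSLTwo.AffineBad

/-!
# Doubly transitive groups with a Z-group stabiliser: general facts
-/

set_option autoImplicit false
set_option linter.style.haveILetI false
set_option linter.unusedSectionVars false

namespace Cfsg.Agent.GW.ZFact

open Subgroup MulAction

universe u v

variable {G : Type u} [Group G] [Finite G]

/-- The two commuting involutions of a Z-subgroup coincide. -/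
theorem eq_of_commute_mem {H : Subgroup G} [IsZGroup H] {x y : G} (hx : x ∈ H) (hy : y ∈ H)
    (hx2 : orderOf x = 2) (hy2 : orderOf y = 2) (hc : Commute x y) : x = y :=
  congrArg Subtype.val (GroupStructure3.FrobSolvable.eq_of_zgroup (x := (⟨x, hx⟩ : H))
    (y := ⟨y, hy⟩) (by rw [Subgroup.orderOf_mk, hx2]) (by rw [Subgroup.orderOf_mk, hy2])
    (Subtype.ext hc.eq))

/-- The involutions of a Z-subgroup are conjugate in it. -/
theorem exists_conj_involution {H : Subgroup G} [IsZGroup H] {x y : G} (hx : x ∈ H) (hy : y ∈ H)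
    (hx2 : orderOf x = 2) (hy2 : orderOf y = 2) : ∃ h ∈ H, h * x * h⁻¹ = y := by
  haveI : Fact (Nat.Prime 2) := ⟨Nat.prime_two⟩
  have hpg : ∀ z : H, orderOf (z : G) = 2 → IsPGroup 2 (zpowers z) := fun z hz =>
    IsPGroup.of_card (n := 1) (by rw [Nat.card_zpowers, pow_one, ← Subgroup.orderOf_coe, hz])
  obtain ⟨P, hP⟩ := (hpg ⟨x, hx⟩ hx2).exists_le_sylow
  obtain ⟨Q, hQ⟩ := (hpg ⟨y, hy⟩ hy2).exists_le_sylow
  obtain ⟨h, hh⟩ := MulAction.exists_smul_eq H P Q
  refine ⟨h, h.2, ?_⟩
  have h1 : h * ⟨x, hx⟩ * h⁻¹ ∈ (Q : Subgroup H) := by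
    rw [← hh]
    exact Subgroup.smul_mem_pointwise_smul _ (MulAut.conj h) _ (hP (mem_zpowers _))
  have hcyc : IsMulCommutative (Q : Subgroup H) := IsCyclic.isMulCommutative
  have hcomm := congrArg Subtype.val
    (hcyc.is_comm.comm ⟨_, h1⟩ ⟨⟨y, hy⟩, hQ (mem_zpowers _)⟩)
  refine eq_of_commute_mem (H := H) (mul_mem (mul_mem h.2 hx) (inv_mem h.2)) hy ?_ hy2
    (congrArg Subtype.val hcomm)
  rw [Involutions.Basic.orderOf_conj, hx2]

/-- In a Z-subgroup a cyclic 2-subgroup is centralised by what normalises it. -/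
theorem commute_of_normalizes {H : Subgroup G} [IsZGroup H] {u h : G} (hu : u ∈ H) (hh : h ∈ H)
    (hu2 : ∃ k, orderOf u = 2 ^ k) (hn : h * u * h⁻¹ ∈ zpowers u) : h * u = u * h := by
  haveI : Fact (Nat.Prime 2) := ⟨Nat.prime_two⟩
  obtain ⟨k, hk⟩ := hu2
  have hmap : ∀ z ∈ zpowers u, h * z * h⁻¹ ∈ zpowers u := by
    rintro _ ⟨i, rfl⟩
    show h * u ^ i * h⁻¹ ∈ zpowers u
    rw [← conj_zpow]
    exact zpow_mem hn i
  have hN : h ∈ normalizer (zpowers u : Set G) := mem_normalizer_fintype hmap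
  -- odd and even parts of `h`
  obtain ⟨j, m, hm, hom⟩ : ∃ j m, Odd m ∧ orderOf h = 2 ^ j * m := by
    obtain ⟨j, m, hm, hom⟩ := Nat.exists_eq_two_pow_mul_odd (orderOf_pos h).ne'
    exact ⟨j, m, hm, hom⟩
  set W := zpowers h with hW
  obtain ⟨a, b, hab⟩ : IsCoprime ((2 : ℤ) ^ j) (m : ℤ) := by
    refine IsCoprime.pow_left ?_
    obtain ⟨c, rfl⟩ := hm
    exact ⟨-c, 1, by push_cast; ring⟩
  set h1 := h ^ ((2 : ℤ) ^ j * a) with hh1
  set h2 := h ^ ((m : ℤ) * b) with hh2
  have hprod : h = h1 * h2 := by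
    rw [hh1, hh2, ← zpow_add, show (2 : ℤ) ^ j * a + (m : ℤ) * b = 1 by linear_combination hab,
      zpow_one]
  have hordh : h ^ ((2 : ℤ) ^ j * (m : ℤ)) = 1 := by
    rw [show (2 : ℤ) ^ j * (m : ℤ) = ((orderOf h : ℕ) : ℤ) by rw [hom]; push_cast; rfl,
      zpow_natCast, pow_orderOf_eq_one]
  have h1o : h1 ^ m = 1 := by
    rw [hh1, ← zpow_natCast, ← zpow_mul, show (2 : ℤ) ^ j * a * (m : ℤ) = 2 ^ j * m * a by ring,
      zpow_mul, hordh, one_zpow]
  have h2o : h2 ^ 2 ^ j = 1 := by
    rw [hh2, ← zpow_natCast, ← zpow_mul]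
    push_cast
    rw [show (m : ℤ) * b * 2 ^ j = 2 ^ j * m * b by ring, zpow_mul, hordh, one_zpow]
  have h1n : h1 ∈ normalizer (zpowers u : Set G) := zpow_mem hN _
  have h2n : h2 ∈ normalizer (zpowers u : Set G) := zpow_mem hN _
  -- the 2-part
  have c2 : h2 * u = u * h2 := by
    have hp2 : IsPGroup 2 (zpowers h2) := by
      obtain ⟨i, -, hi⟩ := (Nat.dvd_prime_pow Nat.prime_two).1 (orderOf_dvd_of_pow_eq_one h2o)
      exact IsPGroup.of_card (n := i) (by rw [Nat.card_zpowers, hi])
    have hpu : IsPGroup 2 (zpowers u) := IsPGroup.of_card (n := k) (by rw [Nat.card_zpowers, hk])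
    have hJ : IsPGroup 2 (zpowers u ⊔ zpowers h2 : Subgroup G) :=
      hpu.to_sup_of_normal_left' hp2 (zpowers_le.2 h2n)
    have hle : zpowers u ⊔ zpowers h2 ≤ H :=
      sup_le (zpowers_le.2 hu) (zpowers_le.2 (zpow_mem hh _))
    haveI : IsZGroup (zpowers u ⊔ zpowers h2 : Subgroup G) :=
      IsZGroup.of_injective (f := Subgroup.inclusion hle) (Subgroup.inclusion_injective hle)
    haveI : IsCyclic (zpowers u ⊔ zpowers h2 : Subgroup G) := by
      haveI : IsCyclic (⊤ : Subgroup (zpowers u ⊔ zpowers h2 : Subgroup G)) :=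
        (hJ.to_subgroup ⊤).isCyclic_of_isZGroup
      exact isCyclic_of_surjective Subgroup.topEquiv.toMonoidHom
        (Subgroup.topEquiv (G := (zpowers u ⊔ zpowers h2 : Subgroup G))).surjective
    have hcyc : IsMulCommutative (zpowers u ⊔ zpowers h2 : Subgroup G) :=
      IsCyclic.isMulCommutative
    exact congrArg Subtype.val (hcyc.is_comm.comm ⟨h2, mem_sup_right (mem_zpowers h2)⟩
      ⟨u, mem_sup_left (mem_zpowers u)⟩)
  -- the odd part
  have c1 : h1 * u = u * h1 := by
    have h1u : h1 * u * h1⁻¹ ∈ zpowers u :=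
      (mem_normalizer_iff.1 h1n u).1 (mem_zpowers u)
    obtain ⟨e, he⟩ := mem_zpowers_iff.1 h1u
    have hpow : ∀ i : ℕ, h1 ^ i * u * (h1 ^ i)⁻¹ = u ^ e ^ i := by
      intro i
      induction i with
      | zero => simp
      | succ i ih =>
        rw [pow_succ, pow_succ,
          show h1 ^ i * h1 * u * (h1 ^ i * h1)⁻¹ = h1 ^ i * (h1 * u * h1⁻¹) * (h1 ^ i)⁻¹ by group,
          ← he, ← conj_zpow, ih, ← zpow_mul]
    have hm1 := hpow m
    rw [h1o, one_mul, inv_one, mul_one] at hm1
    have hdvd : ((2 ^ k : ℕ) : ℤ) ∣ e ^ m - 1 := by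
      rw [← hk, orderOf_dvd_iff_zpow_eq_one, zpow_sub, zpow_one, ← hm1, mul_inv_cancel]
    have he1 : (e : ZMod (2 ^ k)) ^ m = 1 := by
      have h := (ZMod.intCast_zmod_eq_zero_iff_dvd _ _).2 hdvd
      push_cast at h
      exact sub_eq_zero.1 h
    rcases Nat.eq_zero_or_pos k with rfl | hkpos
    · rw [pow_zero, orderOf_eq_one_iff] at hk
      simp [hk]
    have hm0 : m ≠ 0 := fun h => by rw [h] at hm; exact absurd hm (by decide)
    set E : (ZMod (2 ^ k))ˣ := Units.ofPowEqOne (e : ZMod (2 ^ k)) m he1 hm0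
    have hE : orderOf E = 1 := by
      have d1 : orderOf E ∣ m := orderOf_dvd_of_pow_eq_one (Units.pow_ofPowEqOne he1 hm0)
      haveI : NeZero (2 ^ k) := ⟨by positivity⟩
      have d2 : orderOf E ∣ 2 ^ (k - 1) := by
        have h := orderOf_dvd_natCard E
        rw [Nat.card_eq_fintype_card, ZMod.card_units_eq_totient,
          Nat.totient_prime_pow Nat.prime_two hkpos] at h
        simpa using h
      exact Nat.eq_one_of_dvd_coprimes ((Nat.coprime_two_right.2 hm).pow_right _) d1 d2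
    have he2 : ((e : ℤ) : ZMod (2 ^ k)) = ((1 : ℤ) : ZMod (2 ^ k)) := by
      push_cast
      exact congrArg Units.val (orderOf_eq_one_iff.1 hE)
    rw [ZMod.intCast_eq_intCast_iff_dvd_sub] at he2
    rw [← hk, orderOf_dvd_iff_zpow_eq_one, zpow_sub, zpow_one, he, mul_inv_eq_one] at he2
    exact (eq_mul_inv_iff_mul_eq.1 he2).symm
  rw [hprod, mul_assoc, c2, ← mul_assoc, c1, mul_assoc]

variable {Ω : Type v} [MulAction G Ω]

/-- No power of `a` other than the identity fixes a point. -/
def Semiregular (Ω : Type v) [MulAction G Ω] (a : G) : Prop :=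
  ∀ (i : ℤ) (α : Ω), a ^ i • α = α → a ^ i = 1

theorem Semiregular.conj {a : G} (h : Semiregular Ω a) (g : G) :
    Semiregular Ω (g * a * g⁻¹) := by
  intro i α hi
  rw [conj_zpow] at hi ⊢
  have := h i (g⁻¹ • α) (by
    rw [mul_smul, mul_smul] at hi
    exact (eq_inv_smul_iff).2 hi)
  rw [this, mul_one, mul_inv_cancel]

variable [Finite Ω] [FaithfulSMul G Ω]

/-- Nonsolvable doubly transitive groups with solvable stabiliser have no solvable normal
subgroup. -/
theorem radicalFree_of_two (h2 : IsMultiplyPretransitive G Ω 2) (hns : ¬ Group.IsSolvable G)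
    (α : Ω) (hs : Group.IsSolvable (stabilizer G α)) : RadicalFree G := by
  intro N hN hNs
  by_contra hne
  haveI := hN
  haveI := hNs
  haveI := hs
  haveI : IsPreprimitive G Ω := MulAction.isPreprimitive_of_is_two_pretransitive h2
  haveI htr : IsPretransitive N Ω := by
    refine IsQuasiPreprimitive.isPretransitive_of_normal (G := G) fun h => hne ?_
    rw [eq_bot_iff]
    intro n hn
    rw [mem_bot]
    refine FaithfulSMul.eq_of_smul_eq_smul fun β : Ω => ?_
    rw [one_smul]
    have : β ∈ fixedPoints N Ω := h ▸ Set.mem_univ β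
    exact this ⟨n, hn⟩
  suffices hq : Group.IsSolvable (G ⧸ N) from
    hns (Group.isSolvable_of_ker_le_range N.subtype (QuotientGroup.mk' N) (by simp))
  refine Group.isSolvable_of_surjective (f := (QuotientGroup.mk' N).comp (stabilizer G α).subtype)
    fun x => ?_
  obtain ⟨g, rfl⟩ := QuotientGroup.mk'_surjective N x
  obtain ⟨n, hn⟩ := htr.exists_smul_eq α (g • α)
  refine ⟨⟨(n : G)⁻¹ * g, mem_stabilizer_iff.2 ?_⟩, ?_⟩
  · rw [mul_smul, ← hn]
    exact inv_smul_smul (n : G) α
  · refine QuotientGroup.eq.2 ?_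
    show ((n : G)⁻¹ * g)⁻¹ * g ∈ N
    rw [mul_inv_rev, inv_inv]
    exact hN.conj_mem' n n.2 g

/-- A solvable doubly transitive group with an element whose order is the two-part of the degree,
the degree divisible by four, has degree four. -/
theorem degree_four_of_solvable (h2 : IsMultiplyPretransitive G Ω 2) [Group.IsSolvable G]
    (α : Ω) (h4 : 4 ∣ Nat.card Ω) {a : G} (ha : orderOf a = 2 ^ (Nat.card Ω).factorization 2) :
    Nat.card Ω = 4 := by
  classical
  haveI : Fact (Nat.Prime 2) := ⟨Nat.prime_two⟩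
  haveI : Nonempty Ω := ⟨α⟩
  have hcard : 4 ≤ Nat.card Ω := Nat.le_of_dvd Nat.card_pos h4
  haveI : Nontrivial Ω := Finite.one_lt_card_iff_nontrivial.1 (by omega)
  haveI : IsPreprimitive G Ω := MulAction.isPreprimitive_of_is_two_pretransitive h2
  haveI : Nontrivial G := by
    obtain ⟨β, hβ⟩ := exists_ne α
    obtain ⟨g, hg⟩ := MulAction.exists_smul_eq G α β
    exact ⟨⟨g, 1, fun h => hβ (by rw [← hg, h, one_smul])⟩⟩
  obtain ⟨E, hEn, hE1, hEc⟩ := TimesPSLTwo.Affine.exists_abelian_normal (G := G) inferInstance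
  haveI := hEn
  haveI htr : IsPretransitive E Ω := by
    refine IsQuasiPreprimitive.isPretransitive_of_normal (G := G) fun h => hE1 ?_
    rw [eq_bot_iff]
    intro n hn
    rw [mem_bot]
    refine FaithfulSMul.eq_of_smul_eq_smul fun β : Ω => ?_
    rw [one_smul]
    have : β ∈ fixedPoints E Ω := h ▸ Set.mem_univ β
    exact this ⟨n, hn⟩
  have hreg : ∀ β : Ω, stabilizer E β = ⊥ := fun β => by
    rw [eq_bot_iff]
    intro e he
    rw [mem_bot]
    refine Subtype.ext (FaithfulSMul.eq_of_smul_eq_smul fun γ : Ω => ?_)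
    obtain ⟨f, hf⟩ := htr.exists_smul_eq β γ
    rw [OneMemClass.coe_one, one_smul, ← hf, Subgroup.smul_def, smul_smul,
      hEc e e.2 f f.2, ← smul_smul]
    congr 1
  obtain ⟨hEcomm, p, hp, hexp⟩ := S0054.result h2 E htr hreg
  haveI : Fact p.Prime := ⟨hp⟩
  have hcardE : Nat.card E = Nat.card Ω := by
    refine Nat.card_congr (Equiv.ofBijective (fun e : E => e • α) ⟨fun e f h => ?_, fun γ => ?_⟩)
    · have h' : f⁻¹ * e ∈ stabilizer E α := by
        simp only at h; rw [mem_stabilizer_iff, mul_smul, h, inv_smul_smul]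
      rw [hreg, mem_bot, inv_mul_eq_one] at h'
      exact h'.symm
    · exact htr.exists_smul_eq α γ
  have hEp : IsPGroup p E := fun e => ⟨1, Subtype.ext (by
    rw [pow_one, SubmonoidClass.coe_pow]; exact hexp e e.2)⟩
  obtain ⟨l, hl⟩ := IsPGroup.iff_card.1 hEp
  obtain rfl : p = 2 := by
    have h2d : 2 ∣ p ^ l := hl ▸ hcardE ▸ dvd_trans (by norm_num) h4
    exact ((Nat.prime_dvd_prime_iff_eq Nat.prime_two hp).1 (Nat.prime_two.dvd_of_dvd_pow h2d)).symm
  rw [hcardE] at hl
  rw [hl, Nat.Prime.factorization_pow Nat.prime_two, Finsupp.single_eq_same] at ha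
  rw [hl]
  have hl2 : 2 ≤ l := by
    by_contra h
    interval_cases l <;> omega
  by_contra hne
  have hl3 : 3 ≤ l := by
    rcases Nat.lt_or_ge l 3 with h | h
    · obtain rfl : l = 2 := by omega
      exact absurd rfl hne
    · exact h
  -- write `a = e * h`
  obtain ⟨e, he⟩ := htr.exists_smul_eq α (a • α)
  set h : G := (e : G)⁻¹ * a with hh
  have hhα : h • α = α := by rw [hh, mul_smul, ← he]; exact inv_smul_smul (e : G) α
  let D : ℕ → E → E := fun i x =>
    x * ⟨h ^ i * (x : G) * (h ^ i)⁻¹, hEn.conj_mem _ x.2 _⟩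
  have hDiter : ∀ r : ℕ, ∀ x : E, (D 1)^[2 ^ r] x = D (2 ^ r) x := by
    intro r
    induction r with
    | zero => intro x; simp
    | succ r ih =>
      intro x
      rw [pow_succ, mul_two, Function.iterate_add_apply, ih, ih]
      refine Subtype.ext ?_
      simp only [D, Subgroup.coe_mul]
      have hxx : ∀ y : G, y ∈ E → y * y = 1 := fun y hy => by rw [← sq]; exact hexp y hy
      set c := h ^ 2 ^ r with hc
      rw [show h ^ (2 ^ r + 2 ^ r) = c * c by rw [hc, pow_add]]
      have m1 : c * (x : G) * c⁻¹ ∈ E := hEn.conj_mem _ x.2 _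
      calc (x : G) * (c * (x : G) * c⁻¹) * (c * ((x : G) * (c * (x : G) * c⁻¹)) * c⁻¹)
          = (x : G) * ((c * (x : G) * c⁻¹) * (c * (x : G) * c⁻¹)) * (c * c * (x : G) * (c * c)⁻¹) := by
            group
        _ = _ := by rw [hxx _ m1, mul_one]
  have hDmul : ∀ x y : E, D 1 (x * y) = D 1 x * D 1 y := by
    intro x y
    refine Subtype.ext ?_
    simp only [D, Subgroup.coe_mul, pow_one]
    have m1 : h * (x : G) * h⁻¹ ∈ E := hEn.conj_mem _ x.2 _
    calc (x : G) * y * (h * ((x : G) * y) * h⁻¹)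
        = (x : G) * ((y : G) * (h * (x : G) * h⁻¹)) * (h * y * h⁻¹) := by group
      _ = (x : G) * ((h * (x : G) * h⁻¹) * y) * (h * y * h⁻¹) := by rw [hEc y y.2 _ m1]
      _ = _ := by group
  let f : E →* E := MonoidHom.mk' (D 1) hDmul
  -- the kernels of the iterates increase up to `E`
  let K : ℕ → Subgroup E := fun j =>
    Nat.rec (motive := fun _ => Subgroup E) ⊥ (fun _ S => S.comap f) j
  have hK : ∀ j x, x ∈ K j ↔ (D 1)^[j] x = 1 := by
    intro j
    induction j with
    | zero => intro x; exact mem_bot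
    | succ j ih => intro x; exact (ih (f x)).trans (by rw [Function.iterate_succ_apply]; rfl)
  have hord : h ^ 2 ^ l = 1 := by
    have hmem : (h : G) ^ 2 ^ l ∈ E := by
      rw [← QuotientGroup.eq_one_iff, QuotientGroup.mk_pow, hh, QuotientGroup.mk_mul,
        (QuotientGroup.eq_one_iff _).2 (inv_mem e.2), one_mul, ← QuotientGroup.mk_pow, ← ha,
        pow_orderOf_eq_one]
      rfl
    have := hreg α ▸ (show (⟨_, hmem⟩ : E) ∈ stabilizer E α from
      mem_stabilizer_iff.2 (pow_mem (mem_stabilizer_iff.2 hhα : h ∈ stabilizer G α) (2 ^ l)))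
    exact congrArg Subtype.val (mem_bot.1 this)
  have htop : K (2 ^ l) = ⊤ := by
    rw [eq_top_iff]
    intro x _
    rw [hK, hDiter]
    refine Subtype.ext ?_
    simp only [D, hord, one_mul, inv_one, mul_one, Subgroup.coe_mul, OneMemClass.coe_one]
    rw [← sq]; exact hexp x x.2
  have hmono : ∀ j, K j ≤ K (j + 1) := by
    intro j
    induction j with
    | zero => exact bot_le
    | succ j ih => exact Subgroup.comap_mono ih
  have hstab : ∀ j, K j = K (j + 1) → ∀ i, K (j + i) = K j := by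
    intro j hj i
    induction i with
    | zero => rfl
    | succ i ih =>
      show (K (j + i)).comap f = K j
      rw [ih]; exact hj.symm
  have hgrow : ∀ j, j ≤ l → 2 ^ j ≤ Nat.card ↥(K j) := by
    intro j
    induction j with
    | zero => intro _; exact Nat.card_pos
    | succ j ih =>
      intro hj
      rcases eq_or_ne (K j) (K (j + 1)) with heq | hne'
      · have : K j = ⊤ := by
          rcases Nat.le_total j (2 ^ l) with hle | hle
          · rw [← hstab j heq (2 ^ l - j), Nat.add_sub_cancel' hle, htop]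
          · exact absurd (hle.trans (by omega : j ≤ l)) (not_le.2 Nat.lt_two_pow_self)
        rw [← heq, this, Subgroup.card_top, hcardE, hl]
        exact Nat.pow_le_pow_right two_pos hj
      · obtain ⟨c, hc⟩ := Subgroup.card_dvd_of_le (hmono j)
        have hlt : Nat.card ↥(K j) < Nat.card ↥(K (j + 1)) := by
          refine lt_of_le_of_ne (Subgroup.card_le_of_le (hmono j)) fun he => hne' ?_
          exact Subgroup.eq_of_le_of_card_ge (hmono j) he.ge
        have hc2 : 2 ≤ c := by
          rcases c with _ | _ | c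
          · rw [mul_zero] at hc; omega
          · omega
          · omega
        rw [hc, pow_succ]
        exact Nat.mul_le_mul (ih (by omega)) hc2
  have hKl : ∀ x : E, (D 1)^[l] x = 1 := fun x => by
    have h1 := hgrow l le_rfl
    rw [← hl, ← hcardE] at h1
    exact (hK l x).1 (Subgroup.eq_top_of_le_card _ h1 ▸ mem_top x)
  have hKge : ∀ j, l ≤ j → ∀ x : E, (D 1)^[j] x = 1 := fun j hj x => by
    obtain ⟨i, rfl⟩ := Nat.exists_eq_add_of_le' hj
    rw [Function.iterate_add_apply, hKl]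
    clear hj
    induction i with
    | zero => rfl
    | succ i ih => rw [Function.iterate_succ_apply]; exact (congrArg _ (map_one f)).trans ih
  -- the powers of `a`
  have hpowa : ∀ r : ℕ, a ^ 2 ^ r = (((D 1)^[2 ^ r - 1] e : E) : G) * h ^ 2 ^ r := by
    intro r
    induction r with
    | zero => simp [hh]
    | succ r ih =>
      have h1 : 2 ^ (r + 1) - 1 = 2 ^ r + (2 ^ r - 1) := by
        have := Nat.one_le_two_pow (n := r); rw [pow_succ]; omega
      rw [h1, Function.iterate_add_apply, hDiter, pow_succ, pow_mul, sq, ih, pow_mul, sq (h ^ 2 ^ r)]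
      simp only [D, Subgroup.coe_mul]
      group
  set m := 2 ^ (l - 1) with hm
  have hml : l + 1 ≤ m := by
    rw [hm]
    obtain ⟨i, rfl⟩ : ∃ i, l = i + 3 := ⟨l - 3, by omega⟩
    have := Nat.lt_two_pow_self (n := i)
    rw [show i + 3 - 1 = i + 2 by omega, pow_add]; omega
  have hc1 : h ^ m = 1 := by
    refine FaithfulSMul.eq_of_smul_eq_smul fun γ : Ω => ?_
    rw [one_smul]
    obtain ⟨x, rfl⟩ := htr.exists_smul_eq α γ
    have hx : D m x = 1 := by rw [hm, ← hDiter, ← hm]; exact hKge m (by omega) x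
    have hx' : (x : G) * (h ^ m * x * (h ^ m)⁻¹) = 1 := congrArg Subtype.val hx
    have hxh : h ^ m * (x : G) = x * h ^ m := by
      have h3 : h ^ m * x * (h ^ m)⁻¹ = (x : G) := by
        rw [← inv_eq_of_mul_eq_one_right hx']
        exact (eq_inv_of_mul_eq_one_left (by rw [← sq]; exact hexp x x.2)).symm
      exact mul_inv_eq_iff_eq_mul.1 h3
    rw [Subgroup.smul_def, smul_smul, hxh, mul_smul,
      (mem_stabilizer_iff.1 (pow_mem (mem_stabilizer_iff.2 hhα : h ∈ stabilizer G α) m))]
  have ha1 : a ^ m = 1 := by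
    rw [hm, hpowa, ← hm, hc1, mul_one, hKge (m - 1) (by omega), OneMemClass.coe_one]
  have hdvd := orderOf_dvd_of_pow_eq_one ha1
  rw [ha, hm, Nat.pow_dvd_pow_iff_le_right (by norm_num)] at hdvd
  omega

end Cfsg.Agent.GW.ZFact
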