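import Mathlib
import Cfsg.Agent.Lib.GW.ZFactBasic
import Cfsg.Agent.Lib.CharP.Isolated
import Cfsg.Agent.S0215

/-!
# The centraliser of an involution fixing four points

In a doubly transitive group with Z-group stabiliser: the centraliser of an involution `b₀` fixing
points is doubly transitive on them, a second involution fixing points swaps two of them, and the
configuration in a Sylow 2-subgroup of the centraliser is impossible.
-/

set_option autoImplicit false
set_option linter.style.haveILetI false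
set_option linter.unusedSectionVars false

namespace Cfsg.Agent.GW.ZFact

open Subgroup MulAction

universe u v

variable {G : Type u} [Group G] [Finite G] {Ω : Type v} [MulAction G Ω]

theorem smul_conj_fixed {b c : G} {γ : Ω} (hc : Commute c b) (hγ : b • γ = γ) :
    b • (c • γ) = c • γ := by
  rw [smul_smul, ← hc.eq, mul_smul, hγ]

/-- The fixed points of `b`, as a set stable under its centraliser. -/
def fixSet (b : G) : SubMulAction (centralizer ({b} : Set G)) Ω where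
  carrier := {γ | b • γ = γ}
  smul_mem' c _ hγ := smul_conj_fixed (mem_centralizer_singleton_iff.1 c.2) hγ

theorem mem_fixSet {b : G} {γ : Ω} : γ ∈ fixSet (Ω := Ω) b ↔ b • γ = γ := Iff.rfl

/-- The centraliser of an involution is doubly transitive on its fixed points. -/
theorem exists_centralizer_smul (h2 : IsMultiplyPretransitive G Ω 2)
    (hstab : ∀ α : Ω, IsZGroup (stabilizer G α)) {b : G} (hb : orderOf b = 2) {α β γ δ : Ω}
    (hα : b • α = α) (hβ : b • β = β) (hγ : b • γ = γ) (hδ : b • δ = δ) (hab : α ≠ β)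
    (hcd : γ ≠ δ) : ∃ c : G, Commute c b ∧ c • α = γ ∧ c • β = δ := by
  obtain ⟨g, hg1, hg2⟩ := (is_two_pretransitive_iff.1 h2) hab hcd
  set H := stabilizer G α ⊓ stabilizer G β
  haveI := hstab α
  haveI : IsZGroup H :=
    IsZGroup.of_injective (f := Subgroup.inclusion (inf_le_left : H ≤ stabilizer G α))
      (Subgroup.inclusion_injective _)
  have hx : g⁻¹ * b * g ∈ H := by
    refine mem_inf.2 ⟨mem_stabilizer_iff.2 ?_, mem_stabilizer_iff.2 ?_⟩
    · rw [mul_smul, mul_smul, hg1, hγ, ← hg1, inv_smul_smul]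
    · rw [mul_smul, mul_smul, hg2, hδ, ← hg2, inv_smul_smul]
  have hx2 : orderOf (g⁻¹ * b * g) = 2 := by
    have := Involutions.Basic.orderOf_conj g⁻¹ b
    rw [inv_inv] at this
    rw [this, hb]
  obtain ⟨h, hh, he⟩ := exists_conj_involution (H := H) ⟨hα, hβ⟩ hx hb hx2
  refine ⟨g * h, ?_, ?_, ?_⟩
  · show g * h * b = b * (g * h)
    have h1 : g * (h * b * h⁻¹) * g⁻¹ = b := by rw [he]; group
    calc g * h * b = g * (h * b * h⁻¹) * g⁻¹ * (g * h) := by group
      _ = b * (g * h) := by rw [h1]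
  · rw [mul_smul, mem_stabilizer_iff.1 hh.1, hg1]
  · rw [mul_smul, mem_stabilizer_iff.1 hh.2, hg2]

variable [Finite Ω] [FaithfulSMul G Ω]

/-- Some other involution fixing points commutes with `b`. -/
theorem exists_commuting (hrad : RadicalFree G) {b : G} (hb : orderOf b = 2) :
    ∃ g : G, Commute b (g * b * g⁻¹) ∧ g * b * g⁻¹ ≠ b := by
  haveI : Fact (Nat.Prime 2) := ⟨Nat.prime_two⟩
  by_contra hno
  push Not at hno
  have hiso : Cfsg.IsIsolated b := hno
  obtain ⟨P, hP⟩ := (CharP.isPGroup_zpowers (p := 2) (x := b) ⟨1, by rw [hb, pow_one]⟩).exists_le_sylow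
  obtain ⟨N, hN, hodd, hcom⟩ := S0215.result P b hb (hP (mem_zpowers b))
    fun g hg => CharP.isolated_eq_of_pgroup hiso P.2 (hP (mem_zpowers b)) hg
  have hNb : N = ⊥ := hrad N hN (S0205.result hodd)
  have hc : ∀ g : G, b * g = g * b := fun g => by
    have h := hcom g
    rw [hNb, mem_bot, mul_inv_eq_one, mul_inv_eq_iff_eq_mul] at h
    exact h
  have hn : (zpowers b).Normal := ⟨fun x hx g => by
    obtain ⟨i, rfl⟩ := mem_zpowers_iff.1 hx
    rw [← conj_zpow, show g * b * g⁻¹ = b by rw [← hc g, mul_inv_cancel_right]]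
    exact zpow_mem (mem_zpowers b) i⟩
  have h1 := hrad _ hn (by
    haveI : IsMulCommutative (zpowers b) := IsCyclic.isMulCommutative
    exact Group.isSolvable_of_comm fun a c => IsMulCommutative.is_comm.comm a c)
  rw [zpowers_eq_bot] at h1
  rw [h1, orderOf_one] at hb
  exact absurd hb (by decide)

/-- A generator of a Sylow 2-subgroup of a two-point stabiliser, its involution `b₀`, and an
involution fixing points which commutes with `b₀`, normalises the generator and swaps the two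
points. -/
structure Partner (k : ℕ) (b y : G) (α β : Ω) : Prop where
  ne : α ≠ β
  b_order : orderOf b = 2 ^ k
  b_left : b • α = α
  b_right : b • β = β
  y_order : orderOf y = 2
  y_fix : ∃ γ : Ω, y • γ = γ
  y_comm : Commute y (b ^ 2 ^ (k - 1))
  y_norm : y * b * y⁻¹ ∈ zpowers b
  y_left : y • α = β
  y_right : y • β = α

theorem exists_partner (h2 : IsMultiplyPretransitive G Ω 2)
    (hstab : ∀ α : Ω, IsZGroup (stabilizer G α)) (hrad : RadicalFree G)
    (hodd : Odd (Nat.card Ω - 1)) (α : Ω) {k : ℕ} (hk : 1 ≤ k)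
    (hcard : (Nat.card (stabilizer G α)).factorization 2 = k) :
    ∃ (b y : G) (β : Ω), Partner k b y α β := by
  classical
  haveI : Fact (Nat.Prime 2) := ⟨Nat.prime_two⟩
  haveI := hstab α
  obtain ⟨P⟩ := (inferInstance : Nonempty (Sylow 2 (stabilizer G α)))
  obtain ⟨b1, hb1⟩ := (inferInstance : IsCyclic (P : Subgroup (stabilizer G α))).exists_generator
  set b : G := ((b1 : stabilizer G α) : G) with hbdef
  have hbo : orderOf b = 2 ^ k := by
    rw [hbdef, Subgroup.orderOf_coe, Subgroup.orderOf_coe,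
      orderOf_eq_card_of_forall_mem_zpowers hb1, P.card_eq_multiplicity, hcard]
  have hbα : b • α = α := (b1 : stabilizer G α).2
  have hbp : IsPGroup 2 (zpowers b) := IsPGroup.of_card (n := k) (by rw [Nat.card_zpowers, hbo])
  -- a second fixed point
  obtain ⟨β, hβ, hne⟩ : ∃ β, b • β = β ∧ α ≠ β := by
    let X : SubMulAction (zpowers b) Ω :=
      { carrier := {γ | γ ≠ α}
        smul_mem' := fun c γ hγ h => hγ (by
          have hc : (c : G) • α = α :=
            (zpowers_le.2 (show b ∈ stabilizer G α from hbα)) c.2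
          rw [← hc] at h
          exact smul_left_cancel (c : G) h) }
    haveI : Finite X := Subtype.finite
    have hXcard : Nat.card X = Nat.card Ω - 1 := by
      haveI := Fintype.ofFinite Ω
      show Nat.card {γ : Ω // γ ≠ α} = _
      rw [Nat.card_eq_fintype_card, Fintype.card_subtype_compl, Fintype.card_subtype_eq,
        Nat.card_eq_fintype_card]
    have hfix := hbp.card_modEq_card_fixedPoints X
    obtain ⟨⟨⟨β, hβX⟩, hβ⟩⟩ : Nonempty (fixedPoints (zpowers b) X) := by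
      refine (Nat.card_ne_zero.1 fun h0 => ?_).1
      rw [h0, hXcard] at hfix
      have := Nat.odd_iff.1 hodd
      rw [Nat.ModEq] at hfix
      omega
    exact ⟨β, congrArg Subtype.val (hβ ⟨b, mem_zpowers b⟩), fun h => hβX h.symm⟩
  set b0 := b ^ 2 ^ (k - 1) with hb0
  have hb02 : orderOf b0 = 2 := by
    rw [hb0, orderOf_pow' _ (by positivity), hbo, Nat.gcd_eq_right (pow_dvd_pow 2 (by omega))]
    obtain ⟨j, rfl⟩ : ∃ j, k = j + 1 := ⟨k - 1, by omega⟩
    rw [Nat.add_sub_cancel, pow_succ, Nat.mul_div_cancel_left _ (by positivity)]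
  have hb0α : b0 • α = α := pow_mem (show b ∈ stabilizer G α from hbα) _
  have hb0β : b0 • β = β := pow_mem (show b ∈ stabilizer G β from hβ) _
  -- another involution fixing points and commuting with `b0`
  obtain ⟨g, hgc, hgne⟩ := exists_commuting hrad hb02
  set x := g * b0 * g⁻¹ with hx
  have hx2 : orderOf x = 2 := by rw [hx, Involutions.Basic.orderOf_conj, hb02]
  have hxα : x • α ≠ α := fun h => hgne
    (eq_of_commute_mem (H := stabilizer G α) h hb0α hx2 hb02 hgc.symm)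
  obtain ⟨c, hcb, hcα, hcδ⟩ := exists_centralizer_smul h2 hstab hb02 hb0α
    (smul_conj_fixed hgc.symm hb0α) hb0α hb0β (Ne.symm hxα) hne
  set y := c * x * c⁻¹ with hy
  have hxx : x * x = 1 := Involutions.Basic.inv_sq_one hx2
  have hy2 : orderOf y = 2 := by rw [hy, Involutions.Basic.orderOf_conj, hx2]
  have hyy : y * y = 1 := Involutions.Basic.inv_sq_one hy2
  have hyα : y • α = β := by
    rw [hy, mul_smul, mul_smul, inv_smul_eq_iff.2 hcα.symm, hcδ]
  have hyβ : y • β = α := by rw [← hyα, smul_smul, hyy, one_smul]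
  have hyc : Commute y b0 := by
    have h2' : c * b0 * c⁻¹ = b0 := by rw [hcb.eq, mul_inv_cancel_right]
    rw [hy, ← h2']
    exact (Commute.conj_iff c).2 hgc.symm
  have hyfix : ∃ γ : Ω, y • γ = γ := ⟨c • (g • α), by
    rw [hy, hx]
    simp only [mul_smul, inv_smul_smul, hb0α]⟩
  -- replace `b` by a generator of a Sylow subgroup normalised by `y`
  set D := stabilizer G α ⊓ stabilizer G β ⊓ centralizer ({b0} : Set G) with hD
  have hbD : b ∈ D := ⟨⟨hbα, hβ⟩, mem_centralizer_singleton_iff.2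
    ((Commute.refl b).pow_right _).eq⟩
  have hyD : ∀ d ∈ D, y * d * y⁻¹ ∈ D := by
    rintro d ⟨⟨hdα, hdβ⟩, hdc⟩
    have hyi : y⁻¹ = y := inv_eq_of_mul_eq_one_right hyy
    refine ⟨⟨mem_stabilizer_iff.2 ?_, mem_stabilizer_iff.2 ?_⟩, mem_centralizer_singleton_iff.2 ?_⟩
    · rw [hyi, mul_smul, mul_smul, hyα, mem_stabilizer_iff.1 hdβ, hyβ]
    · rw [hyi, mul_smul, mul_smul, hyβ, mem_stabilizer_iff.1 hdα, hyα]
    · exact ((hyc.mul_left (mem_centralizer_singleton_iff.1 hdc : Commute d b0)).mul_left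
        hyc.inv_left).eq
  have hyN : y ∈ normalizer (D : Set G) := mem_normalizer_fintype hyD
  set U := D ⊔ zpowers y with hU
  have hUN : U ≤ normalizer (D : Set G) := sup_le le_normalizer (zpowers_le.2 hyN)
  have hyp : IsPGroup 2 ((zpowers y).subgroupOf U) := by
    refine IsPGroup.of_card (n := 1) ?_
    rw [Nat.card_congr (subgroupOfEquivOfLe (le_sup_right : zpowers y ≤ U)).toEquiv,
      Nat.card_zpowers, hy2, pow_one]
  obtain ⟨Q, hQ⟩ := hyp.exists_le_sylow
  haveI : (D.subgroupOf U).Normal := normal_subgroupOf_of_le_normalizer hUN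
  have hyQ : (⟨y, mem_sup_right (mem_zpowers y)⟩ : U) ∈ (Q : Subgroup U) :=
    hQ (mem_subgroupOf.2 (mem_zpowers y))
  obtain ⟨R, hR⟩ := (hbp.comap_subtype (K := U)).exists_le_sylow
  obtain ⟨q, hq⟩ := MulAction.exists_smul_eq U R Q
  -- the conjugate of `b` inside `Q ⊓ D`
  set W := ((Q : Subgroup U) ⊓ D.subgroupOf U).map U.subtype with hW
  have hWD : W ≤ D := by
    rintro _ ⟨w, hw, rfl⟩
    exact hw.2
  have hWp : IsPGroup 2 W := (Q.2.to_le inf_le_left).map _
  have hbW : (q : G) * b * (q : G)⁻¹ ∈ W := by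
    refine ⟨q * ⟨b, mem_sup_left hbD⟩ * q⁻¹, ⟨?_, ?_⟩, rfl⟩
    · rw [← hq]
      exact Subgroup.smul_mem_pointwise_smul _ (MulAut.conj q) _
        (hR (mem_subgroupOf.2 (mem_zpowers b)))
    · exact (mem_normalizer_iff.1 (hUN q.2) b).1 hbD
  have hyW : ∀ w ∈ W, y * w * y⁻¹ ∈ W := by
    rintro _ ⟨w, ⟨hwQ, hwD⟩, rfl⟩
    refine ⟨⟨y, mem_sup_right (mem_zpowers y)⟩ * w * ⟨y, mem_sup_right (mem_zpowers y)⟩⁻¹,
      mem_inf.2 ⟨Subgroup.mul_mem _ (Subgroup.mul_mem _ hyQ hwQ) (Subgroup.inv_mem _ hyQ), ?_⟩, rfl⟩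
    exact (mem_normalizer_iff.1 hyN _).1 hwD
  haveI : IsZGroup W := IsZGroup.of_injective
    (f := Subgroup.inclusion (hWD.trans (inf_le_left.trans inf_le_left) : W ≤ stabilizer G α))
    (Subgroup.inclusion_injective _)
  haveI : IsCyclic (⊤ : Subgroup W) := (hWp.to_subgroup ⊤).isCyclic_of_isZGroup
  haveI : IsCyclic W := isCyclic_of_surjective Subgroup.topEquiv.toMonoidHom
    (Subgroup.topEquiv (G := W)).surjective
  obtain ⟨b', hb'⟩ := IsCyclic.exists_generator (α := W)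
  have hb'o : orderOf (b' : G) = 2 ^ k := by
    rw [Subgroup.orderOf_coe, orderOf_eq_card_of_forall_mem_zpowers hb']
    refine Nat.dvd_antisymm ?_ ?_
    · obtain ⟨j, hj⟩ := IsPGroup.iff_card.1 hWp
      rw [hj]
      refine pow_dvd_pow 2 ?_
      rw [← hcard]
      refine (Nat.prime_two.pow_dvd_iff_le_factorization Nat.card_pos.ne').1 ?_
      rw [← hj]
      exact Subgroup.card_dvd_of_le (hWD.trans (inf_le_left.trans inf_le_left))
    · rw [← hbo, ← Involutions.Basic.orderOf_conj (q : G) b, ← Subgroup.orderOf_mk _ hbW]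
      exact orderOf_dvd_natCard _
  have hb'D := hWD b'.2
  have hb'0 : (b' : G) ^ 2 ^ (k - 1) = b0 := by
    refine eq_of_commute_mem (H := stabilizer G α) (pow_mem hb'D.1.1 _) hb0α ?_ hb02 ?_
    · rw [orderOf_pow' _ (by positivity), hb'o, ← hbo, ← orderOf_pow' _ (by positivity), ← hb0,
        hb02]
    · exact Commute.pow_left (mem_centralizer_singleton_iff.1 hb'D.2) _
  refine ⟨b', y, β, hne, hb'o, hb'D.1.1, hb'D.1.2, hy2, hyfix, ?_, ?_, hyα, hyβ⟩
  · rw [hb'0]; exact hyc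
  · obtain ⟨i, hi⟩ := mem_zpowers_iff.1 (hb' ⟨_, hyW _ b'.2⟩)
    exact mem_zpowers_iff.2 ⟨i, congrArg Subtype.val hi⟩

/-- A Sylow 2-subgroup of the centraliser of `b₀`, as products of powers of a semiregular `a` and
of `b`. -/
structure Frame (k l : ℕ) (a b : G) (T : Subgroup G) : Prop where
  a_semi : Semiregular Ω a
  a_order : orderOf a = 2 ^ l
  a_mem : a ∈ T
  b_mem : b ∈ T
  le_cent : T ≤ centralizer ({b ^ 2 ^ (k - 1)} : Set G)
  pGroup : IsPGroup 2 T
  sylow : ∃ S : Sylow 2 G, T = (S : Subgroup G) ⊓ centralizer ({b ^ 2 ^ (k - 1)} : Set G)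
  maximal : ∀ Q : Subgroup G, IsPGroup 2 Q → Q ≤ centralizer ({b ^ 2 ^ (k - 1)} : Set G) →
    T ≤ Q → Q = T
  exists_eq : ∀ t ∈ T, ∃ i j : ℤ, t = a ^ i * b ^ j
  degree : l = (Nat.card (fixSet (Ω := Ω) (b ^ 2 ^ (k - 1)))).factorization 2

theorem exists_frame (h2 : IsMultiplyPretransitive G Ω 2)
    (hstab : ∀ α : Ω, IsZGroup (stabilizer G α)) {a₀ : G} (ha₀ : Semiregular Ω a₀)
    (ha₀o : orderOf a₀ = 2 ^ (Nat.card Ω).factorization 2) {k : ℕ} (hk : 1 ≤ k) {α β : Ω}
    {b y : G} (P : Partner k b y α β) (hcard : (Nat.card (stabilizer G α)).factorization 2 = k) :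
    ∃ (l : ℕ) (a : G) (T : Subgroup G), Frame (Ω := Ω) k l a b T ∧ y ∈ T := by
  classical
  haveI : Fact (Nat.Prime 2) := ⟨Nat.prime_two⟩
  haveI : Nonempty Ω := ⟨α⟩
  haveI : Nontrivial Ω := ⟨⟨α, β, P.ne⟩⟩
  haveI := h2
  haveI htr : IsPretransitive G Ω := MulAction.isPretransitive_of_is_two_pretransitive
  set b0 := b ^ 2 ^ (k - 1) with hb0
  set C := centralizer ({b0} : Set G) with hC
  have hb02 : orderOf b0 = 2 := by
    rw [hb0, orderOf_pow' _ (by positivity), P.b_order,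
      Nat.gcd_eq_right (pow_dvd_pow 2 (by omega))]
    obtain ⟨j, rfl⟩ : ∃ j, k = j + 1 := ⟨k - 1, by omega⟩
    rw [Nat.add_sub_cancel, pow_succ, Nat.mul_div_cancel_left _ (by positivity)]
  have hbC : b ∈ C := mem_centralizer_singleton_iff.2 ((Commute.refl b).pow_right _).eq
  have hyC : y ∈ C := mem_centralizer_singleton_iff.2 P.y_comm.eq
  -- the two-group generated by `b` and `y`
  have hbp : IsPGroup 2 (zpowers b) := IsPGroup.of_card (n := k) (by rw [Nat.card_zpowers, P.b_order])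
  have hyp : IsPGroup 2 (zpowers y) :=
    IsPGroup.of_card (n := 1) (by rw [Nat.card_zpowers, P.y_order, pow_one])
  have hyn : y ∈ normalizer (zpowers b : Set G) := mem_normalizer_fintype fun z hz => by
    obtain ⟨i, rfl⟩ := mem_zpowers_iff.1 hz
    rw [← conj_zpow]
    exact zpow_mem P.y_norm i
  have hJ : IsPGroup 2 (zpowers b ⊔ zpowers y : Subgroup G) :=
    hbp.to_sup_of_normal_left' hyp (zpowers_le.2 hyn)
  obtain ⟨TC, hTC⟩ := (hJ.comap_subtype (K := C)).exists_le_sylow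
  set T := (TC : Subgroup C).map C.subtype with hT
  have hTp : IsPGroup 2 T := TC.2.map _
  have hTle : T ≤ C := map_subtype_le _
  have hbT : b ∈ T := ⟨⟨b, hbC⟩, hTC (mem_subgroupOf.2 (mem_sup_left (mem_zpowers b))), rfl⟩
  have hyT : y ∈ T := ⟨⟨y, hyC⟩, hTC (mem_subgroupOf.2 (mem_sup_right (mem_zpowers y))), rfl⟩
  have hmax : ∀ Q : Subgroup G, IsPGroup 2 Q → Q ≤ C → T ≤ Q → Q = T := by
    intro Q hQ hQC hTQ
    have h1 : (TC : Subgroup C) ≤ Q.subgroupOf C := fun t ht =>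
      mem_subgroupOf.2 (hTQ ⟨t, ht, rfl⟩)
    have h2 := TC.3 (hQ.comap_subtype (K := C)) h1
    rw [hT, ← h2]
    exact (map_subgroupOf_eq_of_le hQC).symm
  obtain ⟨S, hTS⟩ := hTp.exists_le_sylow
  have hTeq : T = (S : Subgroup G) ⊓ C :=
    (hmax _ (S.2.to_le inf_le_left) inf_le_right (le_inf hTS hTle)).symm
  -- a semiregular element in `S`
  obtain ⟨R, hR⟩ := (IsPGroup.of_card (n := (Nat.card Ω).factorization 2) (G := zpowers a₀)
    (p := 2) (by rw [Nat.card_zpowers, ha₀o])).exists_le_sylow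
  obtain ⟨g, hg⟩ := MulAction.exists_smul_eq G R S
  set a1 := g * a₀ * g⁻¹ with ha1
  have ha1S : a1 ∈ (S : Subgroup G) := by
    rw [← hg]
    exact Subgroup.smul_mem_pointwise_smul _ (MulAut.conj g) _ (hR (mem_zpowers a₀))
  have ha1o : orderOf a1 = 2 ^ (Nat.card Ω).factorization 2 := by
    rw [ha1, Involutions.Basic.orderOf_conj, ha₀o]
  have ha1s : Semiregular Ω a1 := ha₀.conj g
  have hgen : ∀ s ∈ (S : Subgroup G), ∃ i j : ℤ, s = a1 ^ i * b ^ j := by
    let φ : zpowers a1 × zpowers b → (S : Subgroup G) := fun z =>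
      ⟨z.1 * z.2, mul_mem ((zpowers_le.2 ha1S) z.1.2) ((zpowers_le.2 (hTS hbT)) z.2.2)⟩
    have hinj : Function.Injective φ := by
      rintro ⟨⟨x, hx⟩, ⟨z, hz⟩⟩ ⟨⟨x', hx'⟩, ⟨z', hz'⟩⟩ h
      have h' : x * z = x' * z' := congrArg Subtype.val h
      have hxx : x'⁻¹ * x = z' * z⁻¹ := by
        rw [eq_mul_inv_iff_mul_eq, mul_assoc, h', inv_mul_cancel_left]
      obtain ⟨i, hi⟩ := mem_zpowers_iff.1 (mul_mem (inv_mem hx') hx)
      have hfix : (z' * z⁻¹) • α = α :=
        (zpowers_le.2 (show b ∈ stabilizer G α from P.b_left)) (mul_mem hz' (inv_mem hz))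
      rw [← hxx, ← hi] at hfix
      have h1 := ha1s i α hfix
      rw [hi, inv_mul_eq_one] at h1
      subst h1
      obtain rfl := mul_left_cancel h'
      rfl
    have hn : (Nat.card G).factorization 2 = (Nat.card Ω).factorization 2 + k := by
      rw [← (stabilizer G α).index_mul_card, MulAction.index_stabilizer_of_transitive,
        Nat.factorization_mul Nat.card_pos.ne' Nat.card_pos.ne', Finsupp.add_apply, hcard]
    have hbij : Function.Bijective φ := by
      haveI := Fintype.ofFinite (zpowers a1 × zpowers b)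
      haveI := Fintype.ofFinite (S : Subgroup G)
      refine (Fintype.bijective_iff_injective_and_card φ).2 ⟨hinj, ?_⟩
      rw [← Nat.card_eq_fintype_card, ← Nat.card_eq_fintype_card, Nat.card_prod, Nat.card_zpowers,
        Nat.card_zpowers, ha1o, P.b_order, S.card_eq_multiplicity, hn, pow_add]
    intro s hs
    obtain ⟨⟨⟨_, i, rfl⟩, ⟨_, j, rfl⟩⟩, hz⟩ := hbij.2 ⟨s, hs⟩
    exact ⟨i, j, (congrArg Subtype.val hz).symm⟩
  -- its part in the centraliser
  haveI : IsCyclic (zpowers a1 ⊓ C : Subgroup G) :=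
    Subgroup.isCyclic_of_le (inf_le_left : zpowers a1 ⊓ C ≤ zpowers a1)
  obtain ⟨a2, ha2⟩ := IsCyclic.exists_generator (α := (zpowers a1 ⊓ C : Subgroup G))
  set a := (a2 : G) with ha
  obtain ⟨e, he⟩ := mem_zpowers_iff.1 a2.2.1
  have hasemi : Semiregular Ω a := fun i γ hγ => by
    rw [ha, ← he, ← zpow_mul] at hγ ⊢
    exact ha1s _ γ hγ
  have haT : a ∈ T := by
    rw [hTeq]
    exact ⟨by rw [ha, ← he]; exact zpow_mem ha1S e, a2.2.2⟩
  have hTgen : ∀ t ∈ T, ∃ i j : ℤ, t = a ^ i * b ^ j := by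
    intro t ht
    obtain ⟨i, j, rfl⟩ := hgen t (hTS ht)
    have hai : a1 ^ i ∈ C := by
      have := mul_mem (hTle ht) (inv_mem (zpow_mem hbC j))
      rwa [mul_inv_cancel_right] at this
    obtain ⟨i', hi'⟩ := mem_zpowers_iff.1 (ha2 ⟨a1 ^ i, ⟨zpow_mem (mem_zpowers a1) i, hai⟩⟩)
    exact ⟨i', j, by rw [ha, ← SubgroupClass.coe_zpow, hi']⟩
  obtain ⟨l, hl⟩ := IsPGroup.iff_orderOf.1 hTp ⟨a, haT⟩
  rw [Subgroup.orderOf_mk] at hl
  refine ⟨l, a, T, ⟨hasemi, hl, haT, hbT, hTle, hTp, ⟨S, hTeq⟩, hmax, hTgen, ?_⟩, hyT⟩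
  -- the degree
  have hcardT : Nat.card T = 2 ^ (l + k) := by
    let φ : zpowers a × zpowers b → T := fun z =>
      ⟨z.1 * z.2, mul_mem ((zpowers_le.2 haT) z.1.2) ((zpowers_le.2 hbT) z.2.2)⟩
    have hbij : Function.Bijective φ := by
      constructor
      · rintro ⟨⟨x, hx⟩, ⟨z, hz⟩⟩ ⟨⟨x', hx'⟩, ⟨z', hz'⟩⟩ h
        have h' : x * z = x' * z' := congrArg Subtype.val h
        have hxx : x'⁻¹ * x = z' * z⁻¹ := by
          rw [eq_mul_inv_iff_mul_eq, mul_assoc, h', inv_mul_cancel_left]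
        obtain ⟨i, hi⟩ := mem_zpowers_iff.1 (mul_mem (inv_mem hx') hx)
        have hfix : (z' * z⁻¹) • α = α :=
          (zpowers_le.2 (show b ∈ stabilizer G α from P.b_left)) (mul_mem hz' (inv_mem hz))
        rw [← hxx, ← hi] at hfix
        have h1 := hasemi i α hfix
        rw [hi, inv_mul_eq_one] at h1
        subst h1
        obtain rfl := mul_left_cancel h'
        rfl
      · rintro ⟨t, ht⟩
        obtain ⟨i, j, rfl⟩ := hTgen t ht
        exact ⟨⟨⟨_, i, rfl⟩, ⟨_, j, rfl⟩⟩, rfl⟩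
    rw [← Nat.card_eq_of_bijective φ hbij, Nat.card_prod, Nat.card_zpowers, Nat.card_zpowers, hl,
      P.b_order, pow_add]
  have hTC2 : Nat.card T = 2 ^ (Nat.card C).factorization 2 := by
    rw [hT, Subgroup.card_map_of_injective C.subtype_injective, TC.card_eq_multiplicity]
  -- the order of the centraliser
  have hb0α : b0 • α = α := pow_mem (show b ∈ stabilizer G α from P.b_left) _
  have hb0β : b0 • β = β := pow_mem (show b ∈ stabilizer G β from P.b_right) _
  let αL : fixSet (Ω := Ω) b0 := ⟨α, hb0α⟩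
  have hCorb : Nat.card C = Nat.card (fixSet (Ω := Ω) b0) * Nat.card (stabilizer C αL) := by
    haveI : IsPretransitive C (fixSet (Ω := Ω) b0) := by
      refine ⟨fun x z => ?_⟩
      rcases eq_or_ne x z with rfl | hxz
      · exact ⟨1, one_smul _ _⟩
      obtain ⟨c, hc, h1, -⟩ := exists_centralizer_smul h2 hstab hb02 x.2 z.2 z.2 x.2
        (fun h => hxz (Subtype.ext h)) fun h => hxz (Subtype.ext h.symm)
      exact ⟨⟨c, mem_centralizer_singleton_iff.2 hc.eq⟩, Subtype.ext h1⟩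
    rw [← (stabilizer C αL).index_mul_card, MulAction.index_stabilizer_of_transitive]
  have hstabC : (Nat.card (stabilizer C αL)).factorization 2 = k := by
    refine le_antisymm ?_ ?_
    · rw [← hcard]
      refine (Nat.factorization_le_iff_dvd Nat.card_pos.ne' Nat.card_pos.ne').2 ?_ 2
      let f : stabilizer C αL →* stabilizer G α := MonoidHom.mk'
        (fun c => ⟨((c : C) : G), congrArg Subtype.val (c.2 : (c : C) • αL = αL)⟩) fun _ _ => rfl
      exact Subgroup.card_dvd_of_injective f fun c d h => Subtype.ext (Subtype.ext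
        (congrArg (fun z : stabilizer G α => (z : G)) h))
    · refine (Nat.prime_two.pow_dvd_iff_le_factorization Nat.card_pos.ne').1 ?_
      rw [← P.b_order,
        ← Subgroup.orderOf_mk b hbC, ← Subgroup.orderOf_mk (⟨b, hbC⟩ : C)
          (show (⟨b, hbC⟩ : C) ∈ stabilizer C αL from Subtype.ext P.b_left)]
      exact orderOf_dvd_natCard _
  haveI : Nonempty (fixSet (Ω := Ω) b0) := ⟨αL⟩
  have h1 := Nat.pow_right_injective le_rfl (hcardT.symm.trans hTC2)
  rw [hCorb, Nat.factorization_mul Nat.card_pos.ne' Nat.card_pos.ne', Finsupp.add_apply, hstabC] at h1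
  show l = (Nat.card (fixSet (Ω := Ω) b0)).factorization 2
  omega

/-- The configuration in the Sylow subgroup of the centraliser is impossible: `b²` and `a` commute
and `b` inverts `a` modulo `⟨b²⟩`. -/
theorem Frame.false_of {k l : ℕ} (hk : 2 ≤ k) (hl : 2 ≤ l) {a b y : G} {α β : Ω} {T : Subgroup G}
    (h2 : IsMultiplyPretransitive G Ω 2) (hstab : ∀ α : Ω, IsZGroup (stabilizer G α))
    (F : Frame (Ω := Ω) k l a b T) (P : Partner k b y α β) (hyT : y ∈ T)
    (hcomm : Commute a (b ^ 2)) (hinv : b * a * b⁻¹ * a ∈ zpowers (b ^ 2)) : False := by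
  classical
  haveI : Fact (Nat.Prime 2) := ⟨Nat.prime_two⟩
  haveI : Nontrivial Ω := ⟨⟨α, β, P.ne⟩⟩
  haveI := h2
  haveI htr : IsPretransitive G Ω := MulAction.isPretransitive_of_is_two_pretransitive
  obtain ⟨k, rfl⟩ : ∃ k', k = k' + 2 := ⟨k - 2, by omega⟩
  obtain ⟨l, rfl⟩ : ∃ l', l = l' + 2 := ⟨l - 2, by omega⟩
  set b0 := b ^ 2 ^ (k + 2 - 1) with hb0
  set a0 := a ^ 2 ^ (l + 1) with ha0
  have hb0' : b0 = (b ^ 2) ^ 2 ^ k := by
    rw [hb0, ← pow_mul, ← pow_succ']; rfl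
  have ha0o : orderOf a0 = 2 := by
    rw [ha0, orderOf_pow' _ (by positivity), F.a_order,
      Nat.gcd_eq_right (pow_dvd_pow 2 (by omega)), pow_succ 2 (l + 1),
      Nat.mul_div_cancel_left _ (by positivity)]
  have hb0o : orderOf b0 = 2 := by
    rw [hb0, orderOf_pow' _ (by positivity), P.b_order,
      Nat.gcd_eq_right (pow_dvd_pow 2 (by omega)), show k + 2 - 1 = k + 1 by omega,
      pow_succ 2 (k + 1), Nat.mul_div_cancel_left _ (by positivity)]
  have ha0a0 : a0 * a0 = 1 := Involutions.Basic.inv_sq_one ha0o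
  have hb0b0 : b0 * b0 = 1 := Involutions.Basic.inv_sq_one hb0o
  have hb0α : b0 • α = α := pow_mem (show b ∈ stabilizer G α from P.b_left) _
  have hfpf : ∀ γ : Ω, a0 • γ ≠ γ := fun γ hγ => by
    have := F.a_semi (2 ^ (l + 1) : ℕ) γ (by rwa [zpow_natCast])
    rw [zpow_natCast, ← ha0] at this
    exact Involutions.Basic.ne_one ha0o this
  have hconjfpf : ∀ (g : G) (γ : Ω), (g * a0 * g⁻¹) • γ ≠ γ := fun g γ h => hfpf (g⁻¹ • γ) (by
    rw [mul_smul, mul_smul] at h
    exact eq_inv_smul_iff.2 h)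
  have habot : ∀ i j : ℤ, a ^ i = b ^ j → a ^ i = 1 ∧ b ^ j = 1 := by
    intro i j h
    have h1 := F.a_semi i α (by
      rw [h]; exact zpow_mem (show b ∈ stabilizer G α from P.b_left) j)
    exact ⟨h1, h ▸ h1⟩
  have hcommz : ∀ i j : ℤ, Commute (a ^ i) ((b ^ 2) ^ j) := fun i j =>
    (hcomm.zpow_left i).zpow_right j
  obtain ⟨c, hc⟩ := mem_zpowers_iff.1 hinv
  have hbab : ∀ j : ℤ, Odd j → ∀ i : ℤ,
      b ^ j * a ^ i * (b ^ j)⁻¹ = (b ^ 2) ^ (c * i) * a ^ (-i) := by
    rintro j ⟨d, rfl⟩ i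
    have h1 : b * a * b⁻¹ = (b ^ 2) ^ c * a⁻¹ := by rw [hc, mul_inv_cancel_right]
    have h2 : b * a ^ i * b⁻¹ = (b ^ 2) ^ (c * i) * a ^ (-i) := by
      rw [← conj_zpow, h1, ((hcommz 1 c).symm.inv_right |> fun h => by simpa using h :
        Commute ((b ^ 2) ^ c) a⁻¹).mul_zpow, ← zpow_mul, inv_zpow']
    have h3 : b ^ (2 * d + 1) = (b ^ 2) ^ d * b := by
      rw [zpow_add, zpow_one, zpow_mul, zpow_ofNat]
    rw [h3, show (b ^ 2) ^ d * b * a ^ i * ((b ^ 2) ^ d * b)⁻¹ =
      (b ^ 2) ^ d * (b * a ^ i * b⁻¹) * ((b ^ 2) ^ d)⁻¹ by group, h2,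
      ← mul_assoc ((b ^ 2) ^ d), (Commute.refl (b ^ 2)).zpow_zpow d (c * i),
      mul_assoc ((b ^ 2) ^ (c * i)), ((hcommz (-i) d).symm).eq, mul_assoc, mul_assoc,
      mul_inv_cancel, mul_one]
  have hy2 : y * y = 1 := Involutions.Basic.inv_sq_one P.y_order
  have hzo : ((b : G) ^ 2) ^ (2 ^ (k + 1) : ℕ) = 1 := by
    rw [← pow_mul, ← pow_succ', ← P.b_order, pow_orderOf_eq_one]
  have hinvA : ∀ i : ℤ, a ^ (i + i) = 1 → a ^ i ≠ 1 → a ^ i = a0 := by
    intro i h1 hne
    rw [← orderOf_dvd_iff_zpow_eq_one, F.a_order] at h1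
    rw [Ne, ← orderOf_dvd_iff_zpow_eq_one, F.a_order] at hne
    push_cast at h1 hne
    obtain ⟨q, hq⟩ : (2 : ℤ) ^ (l + 1) ∣ i := by
      rw [← two_mul, pow_succ'] at h1
      exact (mul_dvd_mul_iff_left two_ne_zero).1 h1
    obtain ⟨q', hq'⟩ : Odd q := Int.not_even_iff_odd.1 fun ⟨r, hr⟩ => hne ⟨r, by
      rw [hq, hr, pow_succ 2 (l + 1)]; ring⟩
    rw [hq, hq', ha0, ← zpow_natCast, show (2 : ℤ) ^ (l + 1) * (2 * q' + 1) =
      (2 : ℤ) ^ (l + 2) * q' + ((2 ^ (l + 1) : ℕ) : ℤ) by push_cast; ring, zpow_add, zpow_mul,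
      show (2 : ℤ) ^ (l + 2) = ((orderOf a : ℕ) : ℤ) by rw [F.a_order]; push_cast; rfl,
      zpow_natCast, pow_orderOf_eq_one, one_zpow, one_mul]
  obtain ⟨i, j, hyij⟩ := F.exists_eq y hyT
  -- `y = a₀ b^j`
  have hai : a ^ i = a0 := by
    have hn : a ^ i * b * (a ^ i)⁻¹ ∈ zpowers b := by
      have h := P.y_norm
      rw [hyij, show a ^ i * b ^ j * b * (a ^ i * b ^ j)⁻¹ = a ^ i * b * (a ^ i)⁻¹ by
        rw [show a ^ i * b ^ j * b = a ^ i * (b * b ^ j) by
          rw [mul_assoc, (Commute.refl b).zpow_left j]]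
        group] at h
      exact h
    obtain ⟨e, he⟩ := mem_zpowers_iff.1 hn
    have hswap : a ^ i * b ^ j = b ^ (e * j) * a ^ i := by
      rw [zpow_mul, he, conj_zpow, inv_mul_cancel_right]
    have hsq : a ^ (i + i) = b ^ (-(e * j) - j) := by
      have h := hy2
      rw [hyij] at h
      have h' : b ^ (e * j) * a ^ (i + i) * b ^ j = 1 := by
        rw [zpow_add, ← mul_assoc, ← hswap]
        rwa [← mul_assoc] at h
      rw [mul_eq_one_iff_eq_inv, ← zpow_neg, ← eq_inv_mul_iff_mul_eq, ← zpow_neg, ← zpow_add] at h'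
      rw [h']; congr 1
    have hne : a ^ i ≠ 1 := fun h => P.ne (by
      rw [← P.y_left, hyij, h, one_mul]
      exact (zpow_mem (show b ∈ stabilizer G α from P.b_left) j).symm)
    exact hinvA i (habot _ _ hsq).1 hne
  rw [hai] at hyij
  -- `b` moves `a₀` by an element `z` of `⟨b⁴⟩`
  have hconj0 : ∀ j : ℤ, Odd j →
      b ^ j * a0 * (b ^ j)⁻¹ = (b ^ 2) ^ (c * (2 ^ (l + 1) : ℕ)) * a0 := by
    intro j hj
    have h := hbab j hj ((2 ^ (l + 1) : ℕ) : ℤ)
    rw [zpow_natCast, zpow_neg, zpow_natCast, ← ha0, inv_eq_of_mul_eq_one_right ha0a0] at h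
    exact h
  set z := (b ^ 2) ^ (c * (2 ^ (l + 1) : ℕ)) with hz
  have hza : Commute a0 z := by
    have h := hcommz ((2 ^ (l + 1) : ℕ) : ℤ) (c * (2 ^ (l + 1) : ℕ))
    rwa [zpow_natCast, ← ha0] at h
  have hjeven : Even j := by
    rw [← Int.not_odd_iff_even]
    intro hj
    have h := hy2
    rw [hyij, show a0 * b ^ j * (a0 * b ^ j) = a0 * (b ^ j * a0 * (b ^ j)⁻¹) * (b ^ j * b ^ j) by
      group, hconj0 j hj, ← mul_assoc a0, hza.eq, mul_assoc z, ha0a0, mul_one, hz, ← zpow_add,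
      ← zpow_natCast b 2, ← zpow_mul, ← zpow_add, ← orderOf_dvd_iff_zpow_eq_one, P.b_order] at h
    obtain ⟨d, hd⟩ := h
    obtain ⟨j', rfl⟩ := hj
    push_cast at hd
    rw [pow_add (2 : ℤ) k 2, pow_succ (2 : ℤ) l] at hd
    have : (2 : ℤ) ∣ 1 := ⟨2 ^ k * d - c * 2 ^ l - (j' : ℤ), by linarith [hd]⟩
    exact absurd this (by norm_num)
  have hbj : b ^ j = b0 := by
    obtain ⟨d, hd⟩ := hjeven
    have hcm : Commute a0 (b ^ j) := by
      rw [hd, ← two_mul, zpow_mul, zpow_ofNat]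
      exact (hcomm.pow_left _).zpow_right d
    have h := hy2
    rw [hyij, show a0 * b ^ j * (a0 * b ^ j) = a0 * (b ^ j * a0) * b ^ j by group, ← hcm.eq,
      ← mul_assoc a0, ha0a0, one_mul, ← zpow_add, ← orderOf_dvd_iff_zpow_eq_one, P.b_order] at h
    have hne : b ^ j ≠ 1 := fun h1 => by
      obtain ⟨γ, hγ⟩ := P.y_fix
      rw [hyij, h1, mul_one] at hγ
      exact hfpf γ hγ
    rw [Ne, ← orderOf_dvd_iff_zpow_eq_one, P.b_order] at hne
    push_cast at h hne
    obtain ⟨q, hq⟩ : (2 : ℤ) ^ (k + 1) ∣ j := by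
      rw [← two_mul, pow_succ'] at h
      exact (mul_dvd_mul_iff_left two_ne_zero).1 h
    obtain ⟨q', hq'⟩ : Odd q := Int.not_even_iff_odd.1 fun ⟨r, hr⟩ => hne ⟨r, by
      rw [hq, hr, pow_succ 2 (k + 1)]; ring⟩
    rw [hq, hq', hb0, ← zpow_natCast, show (2 : ℤ) ^ (k + 1) * (2 * q' + 1) =
      (2 : ℤ) ^ (k + 2) * q' + ((2 ^ (k + 1) : ℕ) : ℤ) by push_cast; ring, zpow_add, zpow_mul,
      show (2 : ℤ) ^ (k + 2) = ((orderOf b : ℕ) : ℤ) by rw [P.b_order]; push_cast; rfl,
      zpow_natCast, pow_orderOf_eq_one, one_zpow, one_mul]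
    rfl
  rw [hbj] at hyij
  -- `a₀` is central in `T`
  have hz1 : z = 1 := by
    have hconj := hconj0 1 odd_one
    rw [zpow_one] at hconj
    have h2' : z * z = 1 := by
      have h : (z * a0) * (z * a0) = 1 := by
        rw [← hconj, show b * a0 * b⁻¹ * (b * a0 * b⁻¹) = b * (a0 * a0) * b⁻¹ by group, ha0a0,
          mul_one, mul_inv_cancel]
      rwa [show z * a0 * (z * a0) = z * (a0 * z) * a0 by group, hza.eq, ← mul_assoc, mul_assoc,
        ha0a0, mul_one] at h
    by_contra hne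
    have hzo : orderOf z = 2 := orderOf_eq_prime (by rw [sq]; exact h2') hne
    have hzb : z = b0 := by
      haveI := hstab α
      refine eq_of_commute_mem (H := stabilizer G α)
        (zpow_mem (pow_mem (show b ∈ stabilizer G α from P.b_left) 2) _) hb0α hzo hb0o ?_
      rw [hz, hb0]
      exact ((Commute.refl b).pow_pow _ _).zpow_left _
    obtain ⟨γ, hγ⟩ := P.y_fix
    refine hconjfpf b γ ?_
    rw [hconj, hzb, ← show a0 * b0 = b0 * a0 by rw [← hzb]; exact hza.eq, ← hyij]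
    exact hγ
  have ha0b : Commute b a0 := by
    have h := hconj0 1 odd_one
    rw [zpow_one, hz1, one_mul] at h
    exact mul_inv_eq_iff_eq_mul.1 h
  have ha0T : a0 ∈ T := pow_mem F.a_mem _
  have hb0T : b0 ∈ T := pow_mem F.b_mem _
  have ha0cent : ∀ t ∈ T, Commute t a0 := by
    intro t ht
    obtain ⟨i, j, rfl⟩ := F.exists_eq t ht
    exact ((Commute.refl a).pow_right _ |>.zpow_left i).mul_left (ha0b.zpow_left j)
  have hb0cent : ∀ t ∈ T, Commute t b0 := fun t ht =>
    mem_centralizer_singleton_iff.1 (F.le_cent ht)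
  -- the central involutions fixing points
  have hcentral : ∀ t ∈ T, orderOf t = 2 → (∀ x ∈ T, Commute x t) → (∃ γ : Ω, t • γ = γ) →
      t = b0 ∨ t = y := by
    intro t ht ht2 htc ⟨γ, hγ⟩
    obtain ⟨i, j, rfl⟩ := F.exists_eq t ht
    have hab : Commute (a ^ i) (b ^ j) := by
      have := (htc _ (zpow_mem F.a_mem i)).eq
      rw [mul_assoc] at this
      exact mul_left_cancel this
    have hsq : a ^ (i + i) = b ^ (-(j + j)) := by
      have h := Involutions.Basic.inv_sq_one ht2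
      rw [show a ^ i * b ^ j * (a ^ i * b ^ j) = a ^ i * (b ^ j * a ^ i) * b ^ j by group,
        ← hab.eq, ← mul_assoc (a ^ i), ← zpow_add, mul_assoc, ← zpow_add] at h
      rw [zpow_neg]; exact eq_inv_of_mul_eq_one_left h
    obtain ⟨h1, h2⟩ := habot _ _ hsq
    rw [zpow_neg, inv_eq_one] at h2
    -- both factors are trivial or involutions
    have hA : a ^ i = 1 ∨ a ^ i = a0 := by
      rcases eq_or_ne (a ^ i) 1 with h | h
      · exact Or.inl h
      refine Or.inr ?_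
      have ho : orderOf (a ^ i) = 2 := orderOf_eq_prime (by rw [sq, ← zpow_add]; exact h1) h
      exact hinvA i h1 h
    have hB : b ^ j = 1 ∨ b ^ j = b0 := by
      rcases eq_or_ne (b ^ j) 1 with h | h
      · exact Or.inl h
      refine Or.inr ?_
      haveI := hstab α
      exact eq_of_commute_mem (H := stabilizer G α)
        (zpow_mem (show b ∈ stabilizer G α from P.b_left) j) hb0α
        (orderOf_eq_prime (by rw [sq, ← zpow_add]; exact h2) h) hb0o
        ((Commute.refl b).zpow_left j |>.pow_right _)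
    rcases hA with hA | hA <;> rcases hB with hB | hB <;> rw [hA, hB] at ht2 hγ ⊢
    · rw [one_mul, orderOf_one] at ht2; exact absurd ht2 (by decide)
    · exact Or.inl (one_mul b0)
    · rw [mul_one] at hγ; exact absurd hγ (hfpf γ)
    · exact Or.inr hyij.symm
  have hyne : y ≠ b0 := fun h => P.ne (by rw [← P.y_left, h, hb0α])
  obtain ⟨S, hS⟩ := F.sylow
  obtain ⟨γ0, hγ0⟩ := P.y_fix
  -- an element of the normaliser of `T` moving `b₀` to `y`
  obtain ⟨g, hgT, hgb⟩ : ∃ g : G, (∀ t ∈ T, g * t * g⁻¹ ∈ T) ∧ g * b0 * g⁻¹ = y := by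
    by_cases hSC : (S : Subgroup G) ≤ centralizer ({b0} : Set G)
    · have hTS : T = (S : Subgroup G) := hS.trans (inf_eq_left.2 hSC)
      obtain ⟨x, hx⟩ := exists_smul_eq G α γ0
      haveI := hstab γ0
      obtain ⟨h, -, he⟩ := exists_conj_involution (H := stabilizer G γ0)
        (x := x * b0 * x⁻¹) (y := y)
        (by rw [← hx, mem_stabilizer_iff, mul_smul, mul_smul, inv_smul_smul, hb0α]) hγ0
        (by rw [Involutions.Basic.orderOf_conj, hb0o]) P.y_order
      have hb0S : b0 ∈ centralizer ((S : Subgroup G) : Set G) := mem_centralizer_iff.2 fun s hs =>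
        (hb0cent s (hTS ▸ hs)).eq
      have hyS : y ∈ centralizer ((S : Subgroup G) : Set G) := mem_centralizer_iff.2 fun s hs => by
        rw [hyij]; exact ((ha0cent s (hTS ▸ hs)).mul_right (hb0cent s (hTS ▸ hs))).eq
      obtain ⟨n, hn, hne'⟩ := S.conj_eq_normalizer_conj_of_mem_centralizer y (h * x)
        hyS (by rw [show (h * x)⁻¹ * y * (h * x) = b0 by rw [← he]; group]; exact hb0S)
      rw [show (h * x)⁻¹ * y * (h * x) = b0 by rw [← he]; group] at hne'
      refine ⟨n, fun t ht => ?_, by rw [hne']; group⟩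
      rw [hTS] at ht ⊢
      exact (mem_normalizer_iff.1 hn t).1 ht
    · have hlt : T.subgroupOf S < ⊤ := lt_top_iff_ne_top.2 fun h => hSC fun s hs => by
        have : (⟨s, hs⟩ : (S : Subgroup G)) ∈ T.subgroupOf S := h ▸ mem_top _
        exact (hS.le (mem_subgroupOf.1 this)).2
      haveI := S.2.isNilpotent
      obtain ⟨⟨s, hsS⟩, hsN, hsT⟩ := SetLike.exists_of_lt
        (Group.normalizerCondition_of_isNilpotent _ hlt)
      have hsT' : s ∉ T := fun h => hsT (mem_subgroupOf.2 h)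
      have hsn : ∀ t ∈ T, s * t * s⁻¹ ∈ T := fun t ht =>
        mem_subgroupOf.1 ((mem_normalizer_iff.1 hsN ⟨t, (hS.le ht).1⟩).1 (mem_subgroupOf.2 ht))
      have hsn' : ∀ t ∈ T, s⁻¹ * t * s ∈ T := fun t ht => by
        have h := (mem_normalizer_iff.1 (inv_mem hsN) ⟨t, (hS.le ht).1⟩).1 (mem_subgroupOf.2 ht)
        simpa [mem_subgroupOf] using h
      refine ⟨s, hsn, ?_⟩
      rcases hcentral _ (hsn _ hb0T) (by rw [Involutions.Basic.orderOf_conj, hb0o])
        (fun x hx => by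
          have h := (Commute.conj_iff s).2 (hb0cent _ (hsn' x hx))
          rwa [show s * (s⁻¹ * x * s) * s⁻¹ = x by group] at h)
        ⟨s • α, by rw [mul_smul, mul_smul, inv_smul_smul, hb0α]⟩ with h | h
      · refine absurd ?_ hsT'
        rw [hS]
        exact ⟨hsS, mem_centralizer_singleton_iff.2 (mul_inv_eq_iff_eq_mul.1 h)⟩
      · exact h
  -- but `y` is not a power like `b₀`
  obtain ⟨i, j, ht⟩ := F.exists_eq _ (hgT b F.b_mem)
  have hpow : (a ^ i * b ^ j) ^ (2 ^ (k + 1) : ℕ) = a0 * b0 := by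
    rw [← ht, conj_pow, ← hyij, ← hgb]; rfl
  rcases Int.even_or_odd j with ⟨d, rfl⟩ | hj
  · have hc' : Commute (a ^ i) (b ^ (d + d)) := by
      rw [← two_mul, zpow_mul, zpow_ofNat]; exact hcommz i d
    have hb1 : (b ^ (d + d)) ^ (2 ^ (k + 1) : ℕ) = 1 := by
      rw [← two_mul, zpow_mul, ← zpow_natCast, ← zpow_mul, mul_comm, zpow_mul, zpow_natCast]
      rw [show (b : G) ^ (2 : ℤ) = b ^ (2 : ℕ) from zpow_natCast b 2, hzo, one_zpow]
    rw [hc'.mul_pow, hb1, mul_one] at hpow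
    have h1 : a ^ (i * (2 ^ (k + 1) : ℕ) - (2 ^ (l + 1) : ℕ)) = b ^ ((2 ^ (k + 2 - 1) : ℕ) : ℤ) := by
      rw [zpow_natCast, ← hb0, zpow_sub, zpow_mul, zpow_natCast, zpow_natCast, hpow, ← ha0,
        inv_eq_of_mul_eq_one_right ha0a0]
      have : a0 * b0 = b0 * a0 := (ha0cent b0 hb0T).eq.symm
      rw [this, mul_assoc, ha0a0, mul_one]
    have h2 := (habot _ _ h1).2
    rw [zpow_natCast, ← hb0] at h2
    exact Involutions.Basic.ne_one hb0o h2
  · have hsq : (a ^ i * b ^ j) ^ 2 = (b ^ 2) ^ (c * i) * (b ^ 2) ^ j := by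
      rw [sq, show a ^ i * b ^ j * (a ^ i * b ^ j) =
        a ^ i * (b ^ j * a ^ i * (b ^ j)⁻¹) * (b ^ j * b ^ j) by group, hbab j hj,
        ← mul_assoc (a ^ i), (hcommz i (c * i)).eq, mul_assoc ((b ^ 2) ^ (c * i)), ← zpow_add,
        add_neg_cancel, zpow_zero, mul_one, ← zpow_add b j j, ← two_mul, zpow_mul b 2, zpow_ofNat]
    rw [pow_succ', pow_mul, hsq, ← zpow_add] at hpow
    have h1 : a ^ ((2 ^ (l + 1) : ℕ) : ℤ) =
        b ^ (2 * ((c * i + j) * (2 ^ k : ℕ)) - ((2 ^ (k + 2 - 1) : ℕ) : ℤ)) := by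
      rw [zpow_natCast, ← ha0, zpow_sub, zpow_mul b 2, zpow_mul (b ^ (2 : ℤ)), zpow_natCast,
        zpow_natCast, ← hb0, show (b : G) ^ (2 : ℤ) = b ^ (2 : ℕ) from zpow_natCast b 2, hpow,
        mul_inv_cancel_right]
    have h2 := (habot _ _ h1).1
    rw [zpow_natCast, ← ha0] at h2
    exact Involutions.Basic.ne_one ha0o h2

end Cfsg.Agent.GW.ZFact
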