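import Mathlib
import Cfsg.Agent.Lib.GW.ZFactConfig

/-!
# Doubly transitive groups of degree divisible by four with Z-group stabiliser

If a nonsolvable such group has a semiregular element whose order is the two-part of the degree,
then the order of a point stabiliser is not divisible by four.
-/

set_option autoImplicit false
set_option linter.style.haveILetI false
set_option linter.unusedSectionVars false

namespace Cfsg.Agent.GW.ZFact

open Subgroup MulAction

universe u v

section

variable {G : Type u} [Group G] [Finite G] {Ω : Type v} [MulAction G Ω] [Finite Ω]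
  [FaithfulSMul G Ω]

/-- The degree of a doubly transitive group of even degree with cyclic Sylow 2-subgroup is not
divisible by four. -/
theorem false_of_cyclic_sylow (h2 : IsMultiplyPretransitive G Ω 2) (h4 : 4 ∣ Nat.card Ω)
    (hne : Nonempty Ω) (P : Sylow 2 G) (hP : IsCyclic (P : Subgroup G)) : False := by
  classical
  haveI : Fact (Nat.Prime 2) := ⟨Nat.prime_two⟩
  haveI := hP
  haveI := h2
  obtain ⟨α⟩ := hne
  haveI : Nonempty Ω := ⟨α⟩
  have hcard : 4 ≤ Nat.card Ω := Nat.le_of_dvd Nat.card_pos h4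
  haveI : Nontrivial Ω := Finite.one_lt_card_iff_nontrivial.1 (by omega)
  haveI htr : IsPretransitive G Ω := MulAction.isPretransitive_of_is_two_pretransitive
  haveI : IsPreprimitive G Ω := MulAction.isPreprimitive_of_is_two_pretransitive h2
  have hG2 : 2 ∣ Nat.card G := by
    have h : Nat.card Ω ∣ Nat.card G := by
      rw [← MulAction.index_stabilizer_of_transitive G α]
      exact index_dvd_card _
    exact (dvd_trans (by norm_num : 2 ∣ 4) h4).trans h
  have hmin : (Nat.card G).minFac = 2 := Nat.minFac_eq_two_iff _ |>.2 hG2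
  have hcompl := IsCyclic.isComplement' (P := P) hmin hP
  set φ := MonoidHom.transferSylow P (IsCyclic.normalizer_le_centralizer hmin hP) with hφ
  have hodd : ¬ 2 ∣ Nat.card φ.ker := by
    intro h
    have hidx : φ.ker.index = Nat.card (P : Subgroup G) := hcompl.symm.index_eq_card
    have h1 := φ.ker.card_mul_index
    obtain ⟨n, hn⟩ := IsPGroup.iff_card.1 P.2
    have h2 : 2 ^ (n + 1) ∣ Nat.card G := by
      rw [← h1, hidx, hn, pow_succ']; exact mul_dvd_mul h dvd_rfl
    exact Nat.not_succ_le_self n (by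
      have := (Nat.prime_two.pow_dvd_iff_le_factorization Nat.card_pos.ne').1 h2
      have h3 := P.card_eq_multiplicity
      rw [hn] at h3
      have := Nat.pow_right_injective le_rfl h3
      omega)
  have hker : φ.ker = ⊥ := by
    by_contra hne'
    haveI htrN : IsPretransitive φ.ker Ω := by
      refine IsQuasiPreprimitive.isPretransitive_of_normal (G := G) fun h => hne' ?_
      rw [eq_bot_iff]
      intro n hn
      rw [mem_bot]
      refine FaithfulSMul.eq_of_smul_eq_smul fun β : Ω => ?_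
      rw [one_smul]
      have : β ∈ fixedPoints φ.ker Ω := h ▸ Set.mem_univ β
      exact this ⟨n, hn⟩
    refine hodd ((dvd_trans (by norm_num : 2 ∣ 4) h4).trans ?_)
    rw [← MulAction.index_stabilizer_of_transitive φ.ker α]
    exact index_dvd_card _
  obtain ⟨m, hm⟩ := IsPGroup.iff_card.1 P.2
  have hG : Nat.card G ∣ 2 ^ m := hm ▸ Subgroup.card_dvd_of_injective φ
    ((MonoidHom.ker_eq_bot_iff φ).1 hker)
  haveI : Nonempty (Fin 2 ↪ Ω) := by
    obtain ⟨β, hβ⟩ := exists_ne α
    exact ⟨⟨![α, β], by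
      intro i j h
      fin_cases i <;> fin_cases j <;> simp_all⟩⟩
  obtain ⟨p⟩ := (inferInstance : Nonempty (Fin 2 ↪ Ω))
  have hpairs : Nat.card (Fin 2 ↪ Ω) ∣ Nat.card G := by
    rw [← MulAction.index_stabilizer_of_transitive G p]
    exact index_dvd_card _
  haveI := Fintype.ofFinite Ω
  rw [Nat.card_eq_fintype_card, Fintype.card_embedding_eq, Fintype.card_fin,
    ← Nat.card_eq_fintype_card] at hpairs
  have hd : Nat.card Ω - 1 ∣ Nat.card G := by
    refine dvd_trans ?_ hpairs
    rw [Nat.descFactorial_succ, Nat.descFactorial_one]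
    exact dvd_mul_right _ _
  obtain ⟨j, -, hj⟩ := (Nat.dvd_prime_pow Nat.prime_two).1 (hd.trans hG)
  obtain ⟨r, hr⟩ := h4
  rcases j with _ | j
  · rw [pow_zero] at hj; omega
  · rw [pow_succ] at hj; omega

/-- An element fixing two of four points squares to an element fixing all four. -/
theorem sq_smul_eq_of_four (h4 : Nat.card Ω = 4) {g : G} {α β : Ω} (hne : α ≠ β) (hα : g • α = α)
    (hβ : g • β = β) (γ : Ω) : g • g • γ = γ := by
  classical
  by_contra h
  have h1 : g • γ ≠ γ := fun e => h (by rw [e, e])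
  have h2 : g • g • γ ≠ g • γ := fun e => h1 (smul_left_cancel g e)
  have hγα : γ ≠ α := fun e => h1 (by rw [e, hα])
  have hγβ : γ ≠ β := fun e => h1 (by rw [e, hβ])
  have hgα : g • γ ≠ α := fun e => hγα (smul_left_cancel g (e.trans hα.symm))
  have hgβ : g • γ ≠ β := fun e => hγβ (smul_left_cancel g (e.trans hβ.symm))
  have hggα : g • g • γ ≠ α := fun e => hgα (smul_left_cancel g (e.trans hα.symm))
  have hggβ : g • g • γ ≠ β := fun e => hgβ (smul_left_cancel g (e.trans hβ.symm))
  haveI := Fintype.ofFinite Ω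
  rw [Nat.card_eq_fintype_card] at h4
  have := Finset.card_le_univ ({α, β, γ, g • γ, g • g • γ} : Finset Ω)
  rw [h4, Finset.card_insert_of_notMem (by simp [hne, Ne.symm hγα, Ne.symm hgα, Ne.symm hggα]),
    Finset.card_insert_of_notMem (by simp [Ne.symm hγβ, Ne.symm hgβ, Ne.symm hggβ]),
    Finset.card_insert_of_notMem (by simp [Ne.symm h1, Ne.symm h]),
    Finset.card_insert_of_notMem (by simp [Ne.symm h2]), Finset.card_singleton] at this
  omega

/-- If `⟨a⟩` has index two in a Sylow subgroup `⟨a⟩⟨b⟩` and `b` is an involution fixing a point,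
then `b` inverts `a`. -/
theorem inverts_of_fixed (h2 : IsMultiplyPretransitive G Ω 2)
    (hstab : ∀ α : Ω, IsZGroup (stabilizer G α)) (T : Sylow 2 G) {a b : G} (ha : a ∈ T)
    (hb : b ∈ T) (hb2 : orderOf b = 2) (hsemi : Semiregular Ω a) {α : Ω} (hα : b • α = α)
    (h4 : 4 ∣ Nat.card Ω) (hao : orderOf a = 2 ^ (Nat.card Ω).factorization 2)
    (hgen : ∀ s ∈ T, ∃ i : ℤ, s = a ^ i ∨ s = a ^ i * b) :
    b * a * b⁻¹ = a⁻¹ := by
  classical
  haveI : Fact (Nat.Prime 2) := ⟨Nat.prime_two⟩
  haveI : Nonempty Ω := ⟨α⟩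
  have hbb : b * b = 1 := Involutions.Basic.inv_sq_one hb2
  have hbne : b ≠ 1 := Involutions.Basic.ne_one hb2
  have hnot : ∀ (g : G) (i : ℤ), g * b * g⁻¹ ≠ a ^ i := fun g i h => by
    have h1 := hsemi i (g • α) (by rw [← h, mul_smul, mul_smul, inv_smul_smul, hα])
    rw [h1, mul_inv_eq_one] at h
    exact hbne (mul_eq_left.1 h)
  obtain ⟨i, hi | hi⟩ := hgen _ (mul_mem (mul_mem hb ha) (inv_mem hb))
  swap
  · have h : b * a = a ^ i := by
      rw [mul_inv_eq_iff_eq_mul] at hi
      rw [hi, mul_assoc, hbb, mul_one]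
    refine absurd ?_ (hnot 1 (i - 1))
    rw [one_mul, inv_one, mul_one, zpow_sub, zpow_one, ← h, mul_inv_cancel_right]
  by_cases hsol : Group.IsSolvable G
  · haveI := hsol
    have hf : Nat.card Ω = 4 := degree_four_of_solvable h2 α h4 hao
    rw [hf, show (4 : ℕ) = 2 ^ 2 by norm_num, Nat.Prime.factorization_pow Nat.prime_two,
      Finsupp.single_eq_same] at hao
    have ha4 : a ^ (4 : ℤ) = 1 := by
      rw [show (4 : ℤ) = ((4 : ℕ) : ℤ) by rfl, zpow_natCast, ← show 2 ^ 2 = (4 : ℕ) by norm_num,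
        ← hao, pow_orderOf_eq_one]
    have hmod : a ^ i = a ^ (i % 4) := by
      conv_lhs => rw [← Int.emod_add_mul_ediv i 4, zpow_add, zpow_mul, ha4, one_zpow, mul_one]
    rw [hi, hmod]
    have hia : a ^ (2 : ℤ) ≠ 1 := by
      rw [show (2 : ℤ) = ((2 : ℕ) : ℤ) by rfl, zpow_natCast]
      intro h
      have := orderOf_dvd_of_pow_eq_one h
      rw [hao] at this
      norm_num at this
    have ho : orderOf (a ^ i) = 4 := by
      rw [← hi, Involutions.Basic.orderOf_conj, hao]; norm_num
    have hr : i % 4 = 0 ∨ i % 4 = 1 ∨ i % 4 = 2 ∨ i % 4 = 3 := by omega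
    rcases hr with hr | hr | hr | hr
    · rw [hmod, hr, zpow_zero, orderOf_one] at ho; exact absurd ho (by norm_num)
    · -- `b` commutes with the four-cycle, hence is trivial
      exfalso
      rw [hmod, hr, zpow_one] at hi
      have hc : Commute b a := mul_inv_eq_iff_eq_mul.1 hi
      refine hbne (FaithfulSMul.eq_of_smul_eq_smul fun γ : Ω => ?_)
      rw [one_smul]
      haveI := Fintype.ofFinite (zpowers a)
      haveI := Fintype.ofFinite Ω
      have hbij : Function.Bijective (fun z : zpowers a => (z : G) • α) := by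
        refine (Fintype.bijective_iff_injective_and_card _).2 ⟨fun z w h => ?_, ?_⟩
        · obtain ⟨j, hj⟩ := mem_zpowers_iff.1 (mul_mem (inv_mem w.2) z.2)
          have h1 := hsemi j α (by
            rw [hj, mul_smul]; exact inv_smul_eq_iff.2 h)
          rw [hj, inv_mul_eq_one] at h1
          exact Subtype.ext h1.symm
        · rw [← Nat.card_eq_fintype_card, ← Nat.card_eq_fintype_card, Nat.card_zpowers, hao, hf]
          norm_num
      obtain ⟨⟨z, hz⟩, rfl⟩ := hbij.2 γ
      obtain ⟨j, rfl⟩ := mem_zpowers_iff.1 hz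
      show b • a ^ j • α = a ^ j • α
      rw [smul_smul, (hc.zpow_right j).eq, mul_smul, hα]
    · exfalso
      rw [hmod, hr] at ho
      have h := orderOf_dvd_of_pow_eq_one (show (a ^ (2 : ℤ)) ^ (2 : ℕ) = 1 by
        rw [← zpow_natCast, ← zpow_mul]; exact ha4)
      rw [ho] at h
      norm_num at h
    · rw [hr, show (3 : ℤ) = 4 + -1 by norm_num, zpow_add, ha4, one_mul, zpow_neg, zpow_one]
  · haveI := hstab α
    refine inverts_of_sylow hsol (radicalFree_of_two h2 hsol α inferInstance) T ha hb hb2 hgen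
      ?_ fun g hg => ?_
    · exact mem_zpowers_iff.2 ⟨i, hi.symm⟩
    · obtain ⟨j, hj⟩ := mem_zpowers_iff.1 hg
      exact hnot g j hj.symm

end

section

variable {G : Type u} [Group G] [Finite G] {Ω : Type u} [MulAction G Ω] [Finite Ω]
  [FaithfulSMul G Ω]

set_option maxHeartbeats 1600000 in
/-- The order of a point stabiliser is not divisible by four. -/
theorem not_four_dvd_stabilizer (h2 : IsMultiplyPretransitive G Ω 2)
    (hstab : ∀ α : Ω, IsZGroup (stabilizer G α)) (hns : ¬ Group.IsSolvable G)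
    (h4 : 4 ∣ Nat.card Ω) {a₀ : G} (ha₀ : Semiregular Ω a₀)
    (ha₀o : orderOf a₀ = 2 ^ (Nat.card Ω).factorization 2) (α : Ω) :
    ¬ 4 ∣ Nat.card (stabilizer G α) := by
  classical
  induction hn : Nat.card Ω using Nat.strong_induction_on generalizing G Ω with
  | _ n IH =>
  subst hn
  intro h4s
  haveI : Fact (Nat.Prime 2) := ⟨Nat.prime_two⟩
  haveI : Nonempty Ω := ⟨α⟩
  haveI := hstab α
  have hcard : 4 ≤ Nat.card Ω := Nat.le_of_dvd Nat.card_pos h4
  have hrad : RadicalFree G := radicalFree_of_two h2 hns α inferInstance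
  set k := (Nat.card (stabilizer G α)).factorization 2 with hk
  have hk2 : 2 ≤ k := (Nat.prime_two.pow_dvd_iff_le_factorization Nat.card_pos.ne').1
    (by simpa using h4s)
  have hodd1 : Odd (Nat.card Ω - 1) := by
    obtain ⟨r, hr⟩ := h4
    exact Nat.odd_iff.2 (by omega)
  obtain ⟨b, y, β, P⟩ := exists_partner h2 hstab hrad hodd1 α (k := k) (by omega) hk.symm
  obtain ⟨l, a, T, F, hyT⟩ := exists_frame h2 hstab ha₀ ha₀o (by omega) P hk.symm
  set b0 := b ^ 2 ^ (k - 1) with hb0
  have hb02 : orderOf b0 = 2 := by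
    rw [hb0, orderOf_pow' _ (by positivity), P.b_order,
      Nat.gcd_eq_right (pow_dvd_pow 2 (by omega))]
    obtain ⟨j, hj⟩ : ∃ j, k = j + 1 := ⟨k - 1, by omega⟩
    rw [hj, Nat.add_sub_cancel, pow_succ, Nat.mul_div_cancel_left _ (by positivity)]
  have hb0α : b0 • α = α := pow_mem (show b ∈ stabilizer G α from P.b_left) _
  have hb0β : b0 • β = β := pow_mem (show b ∈ stabilizer G β from P.b_right) _
  set C := centralizer ({b0} : Set G) with hC
  let L : SubMulAction C Ω := fixSet (Ω := Ω) b0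
  let αL : L := ⟨α, mem_fixSet.2 hb0α⟩
  let βL : L := ⟨β, mem_fixSet.2 hb0β⟩
  have hneL : αL ≠ βL := fun h => P.ne (congrArg Subtype.val h)
  haveI : Nonempty L := ⟨αL⟩
  haveI : Finite L := Subtype.finite
  -- the points moved by `b₀` fall into regular orbits of `⟨b⟩`
  have h4L : 4 ∣ Nat.card L := by
    let X : SubMulAction (zpowers b) Ω :=
      { carrier := {γ | b0 • γ ≠ γ}
        smul_mem' := fun c γ hγ h => hγ (by
          have hcb : Commute (c : G) b0 := by
            obtain ⟨i, hi⟩ := mem_zpowers_iff.1 c.2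
            rw [← hi]; exact ((Commute.refl b).pow_right _).zpow_left i
          refine smul_left_cancel (c : G) ?_
          rw [smul_smul, hcb.eq, mul_smul]
          exact h) }
    haveI : Finite X := Subtype.finite
    have hfree : ∀ x : X, stabilizer (zpowers b) x = ⊥ := by
      intro x
      rw [eq_bot_iff]
      intro c hc
      rw [mem_bot]
      by_contra hne
      obtain ⟨i, hi⟩ := mem_zpowers_iff.1 c.2
      have hco : (c : G) ≠ 1 := fun h => hne (Subtype.ext h)
      obtain ⟨j, -, hj⟩ := (Nat.dvd_prime_pow Nat.prime_two).1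
        (P.b_order ▸ orderOf_dvd_of_mem_zpowers c.2)
      have hj1 : 1 ≤ j := by
        by_contra h
        obtain rfl : j = 0 := by omega
        exact hco (orderOf_eq_one_iff.1 (by rw [hj, pow_zero]))
      refine x.2 ?_
      have hfix : (c : G) • (x : Ω) = x := congrArg Subtype.val (mem_stabilizer_iff.1 hc)
      have hfix' : (c : G) ^ 2 ^ (j - 1) • (x : Ω) = x :=
        pow_mem (show (c : G) ∈ stabilizer G (x : Ω) from hfix) _
      have he : (c : G) ^ 2 ^ (j - 1) = b0 := by
        refine eq_of_commute_mem (H := stabilizer G α) (pow_mem ?_ _) hb0α ?_ hb02 ?_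
        · exact (zpowers_le.2 (show b ∈ stabilizer G α from P.b_left)) c.2
        · obtain ⟨j', rfl⟩ : ∃ j', j = j' + 1 := ⟨j - 1, by omega⟩
          rw [orderOf_pow' _ (by positivity), hj, Nat.add_sub_cancel,
            Nat.gcd_eq_right (pow_dvd_pow 2 (by omega)), pow_succ,
            Nat.mul_div_cancel_left _ (by positivity)]
        · rw [← hi]; exact ((Commute.refl b).zpow_left i).pow_pow _ _
      rw [he] at hfix'
      exact hfix'
    have hX : 4 ∣ Nat.card X := by
      rw [Nat.card_congr (selfEquivOrbitsQuotientProd hfree), Nat.card_prod, Nat.card_zpowers,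
        P.b_order]
      exact Dvd.dvd.mul_left (show 2 ^ 2 ∣ 2 ^ k from pow_dvd_pow 2 hk2) _
    have hsum : Nat.card L + Nat.card X = Nat.card Ω := by
      have h := Nat.card_congr (Equiv.sumCompl fun γ : Ω => b0 • γ = γ)
      rw [Nat.card_sum] at h
      exact h
    exact (Nat.dvd_add_left hX).1 (hsum ▸ h4)
  have hl : l = (Nat.card L).factorization 2 := F.degree
  have hl2 : 2 ≤ l := hl ▸ (Nat.prime_two.pow_dvd_iff_le_factorization Nat.card_pos.ne').1
    (by simpa using h4L)
  have hLlt : Nat.card L < Nat.card Ω := by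
    refine lt_of_le_of_ne (Nat.card_le_card_of_injective (fun x : L => (x : Ω))
      Subtype.val_injective) fun h => Involutions.Basic.ne_one hb02 ?_
    refine FaithfulSMul.eq_of_smul_eq_smul fun γ : Ω => ?_
    have hbij := (Nat.bijective_iff_injective_and_card (fun x : L => (x : Ω))).2
      ⟨Subtype.val_injective, h⟩
    obtain ⟨x, rfl⟩ := hbij.2 γ
    rw [one_smul]; exact mem_fixSet.1 x.2
  -- the group induced on the fixed points
  let φ : C →* Equiv.Perm L := MulAction.toPermHom C L
  have hφ : ∀ (c : C) (x : L), φ.rangeRestrict c • x = c • x := fun _ _ => rfl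
  have hφval : ∀ (c : C) (x : L), ((φ.rangeRestrict c • x : L) : Ω) = (c : G) • (x : Ω) :=
    fun _ _ => rfl
  haveI h2L : IsMultiplyPretransitive φ.range L 2 := by
    rw [is_two_pretransitive_iff]
    intro x z x' z' hxz hxz'
    obtain ⟨c, hc, h1, h2'⟩ := exists_centralizer_smul h2 hstab hb02 (mem_fixSet.1 x.2) (mem_fixSet.1 z.2)
      (mem_fixSet.1 x'.2) (mem_fixSet.1 z'.2)
      (fun h => hxz (Subtype.ext h)) fun h => hxz' (Subtype.ext h)
    exact ⟨φ.rangeRestrict ⟨c, mem_centralizer_singleton_iff.2 hc.eq⟩, Subtype.ext h1,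
      Subtype.ext h2'⟩
  have hstabL : ∀ x : L, IsZGroup (stabilizer φ.range x) := by
    intro x
    haveI := hstab (x : Ω)
    let i : stabilizer C x →* stabilizer G (x : Ω) := MonoidHom.mk'
      (fun c => ⟨((c : C) : G), congrArg Subtype.val (c.2 : (c : C) • x = x)⟩) fun _ _ => rfl
    haveI : IsZGroup (stabilizer C x) := IsZGroup.of_injective (f := i) fun c d h =>
      Subtype.ext (Subtype.ext (congrArg (fun z : stabilizer G (x : Ω) => (z : G)) h))
    refine IsZGroup.of_surjective (f := MonoidHom.mk'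
      (fun c : stabilizer C x => (⟨φ.rangeRestrict c, (c.2 : (c : C) • x = x)⟩ :
        stabilizer φ.range x)) fun _ _ => Subtype.ext (map_mul _ _ _)) ?_
    rintro ⟨g, hg⟩
    obtain ⟨c, rfl⟩ := φ.rangeRestrict_surjective g
    exact ⟨⟨c, hg⟩, rfl⟩
  have haC : a ∈ C := F.le_cent F.a_mem
  have hbC : b ∈ C := F.le_cent F.b_mem
  set aL := φ.rangeRestrict ⟨a, haC⟩ with haL
  set b' := φ.rangeRestrict ⟨b, hbC⟩ with hb'
  have haLpow : ∀ (i : ℤ) (x : L), ((aL ^ i • x : L) : Ω) = a ^ i • (x : Ω) := fun i x => by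
    rw [haL, ← map_zpow, hφval]; rfl
  have hsemiL : Semiregular L aL := fun i x hx => by
    have h1 := F.a_semi i (x : Ω) (by rw [← haLpow, hx])
    rw [haL, ← map_zpow, show (⟨a, haC⟩ : C) ^ i = 1 from Subtype.ext (by
      rw [SubgroupClass.coe_zpow, OneMemClass.coe_one]; exact h1), map_one]
  have haLinj : ∀ i : ℤ, aL ^ i = 1 → a ^ i = 1 := fun i h =>
    F.a_semi i α (by rw [show α = ((αL : L) : Ω) from rfl, ← haLpow, h, one_smul])
  have haLo : orderOf aL = 2 ^ (Nat.card L).factorization 2 := by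
    rw [← hl, ← F.a_order]
    refine Nat.dvd_antisymm ?_ ?_
    · rw [haL, ← Subgroup.orderOf_mk a haC]
      exact orderOf_map_dvd φ.rangeRestrict _
    · have h := haLinj (orderOf aL) (by rw [zpow_natCast, pow_orderOf_eq_one])
      rw [zpow_natCast] at h
      exact orderOf_dvd_of_pow_eq_one h
  have hb'α : b' • αL = αL := Subtype.ext P.b_left
  have hb'β : b' • βL = βL := Subtype.ext P.b_right
  -- (A) the square of `b` is trivial on the fixed points
  have hA : b' * b' = 1 := by
    by_cases hsol : Group.IsSolvable φ.range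
    · have hf : Nat.card L = 4 := degree_four_of_solvable h2L αL h4L haLo
      refine FaithfulSMul.eq_of_smul_eq_smul fun x : L => ?_
      rw [one_smul, mul_smul]
      exact sq_smul_eq_of_four hf hneL hb'α hb'β x
    · have hnot := IH _ hLlt h2L hstabL hsol h4L hsemiL haLo αL rfl
      have h1 : orderOf b' ∣ 2 ^ k := by
        rw [hb', ← P.b_order, ← Subgroup.orderOf_mk b hbC]
        exact orderOf_map_dvd φ.rangeRestrict _
      obtain ⟨j, -, hj⟩ := (Nat.dvd_prime_pow Nat.prime_two).1 h1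
      have hj1 : j ≤ 1 := by
        by_contra h
        refine hnot (dvd_trans ?_ (orderOf_dvd_natCard
          (⟨b', mem_stabilizer_iff.2 hb'α⟩ : stabilizer φ.range αL)))
        rw [Subgroup.orderOf_mk, hj, show (4 : ℕ) = 2 ^ 2 by norm_num]
        exact pow_dvd_pow 2 (by omega)
      rw [← sq]
      exact orderOf_dvd_iff_pow_eq_one.1 (hj ▸ pow_dvd_pow 2 hj1)
  -- the Sylow subgroup of the centraliser
  let TC : Sylow 2 C :=
    { toSubgroup := T.subgroupOf C
      isPGroup' := F.pGroup.comap_subtype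
      is_maximal' := by
        intro Q hQ hTQ
        have h1 := F.maximal (Q.map C.subtype) (hQ.map _) (map_subtype_le _) fun t ht =>
          ⟨⟨t, F.le_cent ht⟩, hTQ (mem_subgroupOf.2 ht), rfl⟩
        rw [← h1]
        exact (Subgroup.comap_map_eq_self_of_injective C.subtype_injective Q).symm }
  have hTCgen : ∀ c : C, c ∈ (TC : Subgroup C) → ∃ i j : ℤ,
      c = (⟨a, haC⟩ : C) ^ i * (⟨b, hbC⟩ : C) ^ j := by
    intro c hc
    obtain ⟨i, j, h⟩ := F.exists_eq c (mem_subgroupOf.1 hc)
    refine ⟨i, j, Subtype.ext ?_⟩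
    rw [Subgroup.coe_mul, SubgroupClass.coe_zpow, SubgroupClass.coe_zpow]
    exact h
  have haTC : (⟨a, haC⟩ : C) ∈ (TC : Subgroup C) := mem_subgroupOf.2 F.a_mem
  have hbTC : (⟨b, hbC⟩ : C) ∈ (TC : Subgroup C) := mem_subgroupOf.2 F.b_mem
  set TB : Sylow 2 φ.range := TC.mapSurjective φ.rangeRestrict_surjective with hTB
  have hTBgen : ∀ s ∈ (TB : Subgroup φ.range), ∃ i j : ℤ, s = aL ^ i * b' ^ j := by
    intro s hs
    rw [hTB, Sylow.coe_mapSurjective] at hs
    obtain ⟨c, hc, rfl⟩ := hs
    obtain ⟨i, j, rfl⟩ := hTCgen c hc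
    exact ⟨i, j, by rw [map_mul, map_zpow, map_zpow]⟩
  have hb'zpow : ∀ j : ℤ, b' ^ j = 1 ∨ b' ^ j = b' := by
    intro j
    rcases Int.even_or_odd j with ⟨d, rfl⟩ | ⟨d, rfl⟩
    · left; rw [← two_mul, zpow_mul, zpow_two, hA, one_zpow]
    · right; rw [zpow_add, zpow_mul, zpow_two, hA, one_zpow, one_mul, zpow_one]
  -- (B) `b` is not trivial on the fixed points
  have hB : b' ≠ 1 := by
    intro hb1
    refine false_of_cyclic_sylow h2L h4L ⟨αL⟩ TB ?_
    refine Subgroup.isCyclic_of_le (H' := zpowers aL) fun s hs => ?_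
    obtain ⟨i, j, rfl⟩ := hTBgen s hs
    rw [hb1, one_zpow, mul_one]
    exact zpow_mem (mem_zpowers aL) i
  -- (C) `b` inverts `a` on the fixed points
  have hCinv : b' * aL * b'⁻¹ = aL⁻¹ := by
    refine inverts_of_fixed h2L hstabL TB ?_ ?_ (orderOf_eq_prime (by rw [sq]; exact hA) hB)
      hsemiL hb'α h4L haLo fun s hs => ?_
    · show aL ∈ (TB : Subgroup φ.range)
      rw [hTB, Sylow.coe_mapSurjective]; exact ⟨_, haTC, rfl⟩
    · show b' ∈ (TB : Subgroup φ.range)
      rw [hTB, Sylow.coe_mapSurjective]; exact ⟨_, hbTC, rfl⟩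
    · obtain ⟨i, j, rfl⟩ := hTBgen s hs
      rcases hb'zpow j with h | h
      · exact ⟨i, Or.inl (by rw [h, mul_one])⟩
      · exact ⟨i, Or.inr (by rw [h])⟩
  -- the elements of the Sylow subgroup which are trivial on the fixed points
  set K : Subgroup C := φ.rangeRestrict.ker with hK
  set z : C := (⟨b, hbC⟩ : C) ^ 2 with hz
  have hzK : z ∈ K := by
    rw [hK, MonoidHom.mem_ker, hz, map_pow, sq]; exact hA
  have hTK : ∀ c ∈ (TC : Subgroup C), c ∈ K → c ∈ zpowers z := by
    intro c hc hcK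
    obtain ⟨i, j, rfl⟩ := hTCgen c hc
    rw [hK, MonoidHom.mem_ker, map_mul, map_zpow, map_zpow, ← haL, ← hb'] at hcK
    have hi : a ^ i = 1 := by
      refine F.a_semi i α ?_
      have h := congrArg (fun g : φ.range => ((g • αL : L) : Ω)) hcK
      simp only [mul_smul, one_smul] at h
      rwa [show b' ^ j • αL = αL from zpow_mem (show b' ∈ stabilizer φ.range αL from hb'α) j,
        haLpow] at h
    have hai : aL ^ i = 1 := by
      rw [haL, ← map_zpow, show (⟨a, haC⟩ : C) ^ i = 1 from Subtype.ext (by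
        rw [SubgroupClass.coe_zpow, OneMemClass.coe_one]; exact hi), map_one]
    rw [hai, one_mul] at hcK
    rcases Int.even_or_odd j with ⟨d, rfl⟩ | ⟨d, rfl⟩
    · rw [show (⟨a, haC⟩ : C) ^ i = 1 from Subtype.ext (by
        rw [SubgroupClass.coe_zpow, OneMemClass.coe_one]; exact hi), one_mul, ← two_mul, zpow_mul]
      exact mem_zpowers_iff.2 ⟨d, by rw [hz, zpow_ofNat]⟩
    · rw [zpow_add, zpow_mul, zpow_two, hA, one_zpow, one_mul, zpow_one] at hcK
      exact absurd hcK hB
  have hinv : b * a * b⁻¹ * a ∈ zpowers (b ^ 2) := by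
    have h := hTK (⟨b, hbC⟩ * ⟨a, haC⟩ * (⟨b, hbC⟩ : C)⁻¹ * ⟨a, haC⟩)
      (mul_mem (mul_mem (mul_mem hbTC haTC) (inv_mem hbTC)) haTC) (by
        rw [hK, MonoidHom.mem_ker, map_mul, map_mul, map_mul, map_inv, ← haL, ← hb', hCinv,
          inv_mul_cancel])
    obtain ⟨i, hi⟩ := mem_zpowers_iff.1 h
    exact mem_zpowers_iff.2 ⟨i, by simpa [hz] using congrArg (fun c : C => (c : G)) hi⟩
  -- (D) `a` commutes with the square of `b`
  have hcomm : Commute a (b ^ 2) := by
    have hzp : IsPGroup 2 (zpowers z) := by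
      obtain ⟨j, -, hj⟩ := (Nat.dvd_prime_pow Nat.prime_two).1 (P.b_order ▸
        (Subgroup.orderOf_mk b hbC ▸ orderOf_pow_dvd 2 : orderOf z ∣ orderOf b))
      exact IsPGroup.of_card (n := j) (by rw [Nat.card_zpowers, hj])
    -- `⟨b²⟩` is a Sylow subgroup of the kernel
    obtain ⟨Q, hQ⟩ := (hzp.comap_subtype (K := K)).exists_le_sylow
    have hQz : (Q : Subgroup K).map K.subtype = zpowers z := by
      have hle : zpowers z ≤ (Q : Subgroup K).map K.subtype := fun c hc =>
        ⟨⟨c, (zpowers_le.2 hzK) hc⟩, hQ (mem_subgroupOf.2 hc), rfl⟩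
      obtain ⟨R, hR⟩ := (Q.2.map K.subtype).exists_le_sylow
      obtain ⟨c, hc⟩ := MulAction.exists_smul_eq C R TC
      refine (Subgroup.eq_of_le_of_card_ge hle ?_).symm
      have hinj : Function.Injective (MulAut.conj c).toMonoidHom := (MulAut.conj c).injective
      rw [← Subgroup.card_map_of_injective (K := (Q : Subgroup K).map K.subtype) hinj]
      refine Subgroup.card_le_of_le ?_
      rintro _ ⟨q, hq, rfl⟩
      refine hTK _ ?_ ?_
      · rw [← hc]
        exact Subgroup.smul_mem_pointwise_smul _ (MulAut.conj c) _ (hR hq)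
      · exact (MonoidHom.normal_ker _).conj_mem _ (map_subtype_le _ hq) _
    have hnorm : ∀ c : C, c * z * c⁻¹ ∈ zpowers z →
        (c : G) * b ^ 2 * (c : G)⁻¹ ∈ zpowers (b ^ 2) := fun c hc => by
      obtain ⟨i, hi⟩ := mem_zpowers_iff.1 hc
      exact mem_zpowers_iff.2 ⟨i, by simpa [hz] using congrArg (fun c : C => (c : G)) hi⟩
    have hsqfix : ∀ x : L, b ^ 2 • (x : Ω) = x := fun x => by
      rw [sq, mul_smul]
      have h := congrArg (fun g : φ.range => ((g • x : L) : Ω)) hA
      simp only [mul_smul, one_smul] at h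
      exact h
    have hb2o : ∃ j, orderOf (b ^ 2) = 2 ^ j := by
      obtain ⟨j, -, hj⟩ := (Nat.dvd_prime_pow Nat.prime_two).1 (P.b_order ▸
        (orderOf_pow_dvd 2 : orderOf (b ^ 2) ∣ orderOf b))
      exact ⟨j, hj⟩
    -- a third point
    have hane : (⟨a, haC⟩ : C) • αL ≠ αL := fun h => by
      have h1 := F.a_semi 1 α (by rw [zpow_one]; exact congrArg Subtype.val h)
      rw [zpow_one] at h1
      have h3 := F.a_order
      rw [h1, orderOf_one] at h3
      have := Nat.one_lt_two_pow (show l ≠ 0 by omega)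
      omega
    obtain ⟨δ, hδ1, hδ2⟩ : ∃ δ : L, δ ≠ αL ∧ δ ≠ (⟨a, haC⟩ : C) • αL := by
      by_contra hno
      push Not at hno
      haveI := Fintype.ofFinite L
      have h1 : Fintype.card L ≤ ({αL, (⟨a, haC⟩ : C) • αL} : Finset L).card :=
        Finset.card_le_card fun x _ => by
          by_cases hx : x = αL
          · simp [hx]
          · simp [hno x hx]
      have h2' := Finset.card_le_two (a := αL) (b := (⟨a, haC⟩ : C) • αL)
      have h3 := Nat.le_of_dvd Nat.card_pos h4L
      rw [Nat.card_eq_fintype_card] at h3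
      omega
    obtain ⟨c0, hc0, hc1, hc2⟩ := exists_centralizer_smul h2 hstab hb02 (mem_fixSet.1 δ.2)
      (mem_fixSet.1 αL.2) (mem_fixSet.1 δ.2) (mem_fixSet.1 ((⟨a, haC⟩ : C) • αL).2) (fun h => hδ1 (Subtype.ext h)) fun h => hδ2 (Subtype.ext h)
    -- Frattini
    have htop := Sylow.normalizer_sup_eq_top (N := K) Q
    obtain ⟨n, hn, m, hm, hnm⟩ := mem_sup_of_normal_right.1
      (htop ▸ mem_top (⟨c0, mem_centralizer_singleton_iff.2 hc0.eq⟩ : C))
    rw [hQz] at hn
    have hmfix : ∀ x : L, (m : G) • (x : Ω) = x := fun x => by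
      rw [← hφval, MonoidHom.mem_ker.1 hm, one_smul]
    have hnm' : (n : G) * m = c0 := congrArg Subtype.val hnm
    have hnδ : (n : G) • (δ : Ω) = δ := by
      conv_lhs => rw [← hmfix δ, smul_smul, hnm', hc1]
    have hnα : (n : G) • α = a • α := by
      conv_lhs => rw [show α = ((αL : L) : Ω) from rfl, ← hmfix αL, smul_smul, hnm', hc2]
      rfl
    have hnn : (n : G) * b ^ 2 * (n : G)⁻¹ ∈ zpowers (b ^ 2) :=
      hnorm n ((mem_normalizer_iff.1 hn z).1 (mem_zpowers z))
    have hcn : (n : G) * b ^ 2 = b ^ 2 * n := by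
      haveI := hstab (δ : Ω)
      exact commute_of_normalizes (H := stabilizer G (δ : Ω)) (hsqfix δ) hnδ hb2o hnn
    have han : a * b ^ 2 * a⁻¹ ∈ zpowers (b ^ 2) := by
      refine hnorm ⟨a, haC⟩ (hTK _ (mul_mem (mul_mem haTC ?_) (inv_mem haTC))
        ((MonoidHom.normal_ker _).conj_mem _ hzK _))
      exact pow_mem hbTC 2
    have hcna : ((n : G)⁻¹ * a) * b ^ 2 = b ^ 2 * ((n : G)⁻¹ * a) := by
      refine commute_of_normalizes (H := stabilizer G α) (hsqfix αL) ?_ hb2o ?_
      · rw [mem_stabilizer_iff, mul_smul, inv_smul_eq_iff, hnα]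
      · obtain ⟨i, hi⟩ := mem_zpowers_iff.1 han
        refine mem_zpowers_iff.2 ⟨i, ?_⟩
        rw [mul_inv_rev, inv_inv, show (n : G)⁻¹ * a * b ^ 2 * (a⁻¹ * n) =
          (n : G)⁻¹ * (a * b ^ 2 * a⁻¹) * n by group, ← hi,
          (show Commute (n : G) (b ^ 2) from hcn).zpow_right i |>.inv_left.eq, mul_assoc,
          inv_mul_cancel, mul_one]
    have h := (show Commute (n : G) (b ^ 2) from hcn).mul_left
      (show Commute ((n : G)⁻¹ * a) (b ^ 2) from hcna)
    rwa [mul_inv_cancel_left] at h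
  exact F.false_of hk2 hl2 h2 hstab P hyT hcomm hinv

end

end Cfsg.Agent.GW.ZFact
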