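import Mathlib
import Cfsg.Agent.Lib.GW.ZFactPerm

/-!
# Products of a cyclic group and a Z-group: Sylow 2-subgroups and minimal normal subgroups
-/

set_option autoImplicit false
set_option linter.style.haveILetI false
set_option linter.unusedSectionVars false

namespace Cfsg.Agent.GW.ZFact

open Subgroup MulAction

universe u

variable {G : Type u} [Group G] [Finite G]

/-- The order of a product of two subgroups. -/
theorem card_of_product {H K : Subgroup G} (h : ∀ g : G, ∃ a ∈ H, ∃ b ∈ K, g = a * b) :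
    Nat.card G * Nat.card ↥(H ⊓ K) = Nat.card H * Nat.card K := by
  let f : H ⧸ K.subgroupOf H → G ⧸ K := Quotient.lift (fun a : H => ((a : G) : G ⧸ K))
    fun a b hab => QuotientGroup.eq.2 (mem_subgroupOf.1 (QuotientGroup.leftRel_apply.1 hab))
  have hinj : Function.Injective f := by
    intro x y hxy
    induction x using Quotient.inductionOn
    induction y using Quotient.inductionOn
    exact Quotient.sound (QuotientGroup.leftRel_apply.2
      (mem_subgroupOf.2 (QuotientGroup.eq.1 hxy)))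
  have hsurj : Function.Surjective f := by
    intro x
    obtain ⟨g, rfl⟩ := QuotientGroup.mk_surjective x
    obtain ⟨a, ha, b, hb, rfl⟩ := h g
    exact ⟨QuotientGroup.mk ⟨a, ha⟩, (QuotientGroup.mk_mul_of_mem a hb).symm⟩
  have hidx : K.relIndex H = K.index := Nat.card_eq_of_bijective f ⟨hinj, hsurj⟩
  have h1 := Subgroup.relIndex_mul_relIndex ⊥ (H ⊓ K) H bot_le inf_le_left
  rw [Subgroup.relIndex_bot_left, Subgroup.relIndex_bot_left, Subgroup.inf_relIndex_left,
    hidx] at h1
  rw [← K.index_mul_card, ← h1]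
  ring

/-- Two subgroups whose product has the order of the group factorise it. -/
theorem product_of_card {H K : Subgroup G}
    (h : Nat.card G * Nat.card ↥(H ⊓ K) ≤ Nat.card H * Nat.card K) (g : G) :
    ∃ a ∈ H, ∃ b ∈ K, g = a * b := by
  let f : H ⧸ K.subgroupOf H → G ⧸ K := Quotient.lift (fun a : H => ((a : G) : G ⧸ K))
    fun a b hab => QuotientGroup.eq.2 (mem_subgroupOf.1 (QuotientGroup.leftRel_apply.1 hab))
  have hinj : Function.Injective f := by
    intro x y hxy
    induction x using Quotient.inductionOn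
    induction y using Quotient.inductionOn
    exact Quotient.sound (QuotientGroup.leftRel_apply.2
      (mem_subgroupOf.2 (QuotientGroup.eq.1 hxy)))
  have h1 := Subgroup.relIndex_mul_relIndex ⊥ (H ⊓ K) H bot_le inf_le_left
  rw [Subgroup.relIndex_bot_left, Subgroup.relIndex_bot_left, Subgroup.inf_relIndex_left] at h1
  rw [← K.index_mul_card, ← h1, mul_comm K.index, mul_assoc,
    mul_comm (Nat.card ↥(H ⊓ K)) (K.relIndex H), mul_comm _ (Nat.card K)] at h
  have h2 : K.index * Nat.card ↥(H ⊓ K) ≤ K.relIndex H * Nat.card ↥(H ⊓ K) :=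
    Nat.le_of_mul_le_mul_left h Nat.card_pos
  have h3 := Nat.le_of_mul_le_mul_right h2 Nat.card_pos
  have hbij := (Nat.bijective_iff_injective_and_card f).2
    ⟨hinj, le_antisymm (Nat.card_le_card_of_injective f hinj) h3⟩
  obtain ⟨x, hx⟩ := hbij.2 (QuotientGroup.mk g)
  obtain ⟨a, rfl⟩ := QuotientGroup.mk_surjective x
  exact ⟨a, a.2, (a : G)⁻¹ * g, QuotientGroup.eq.1 hx, by rw [mul_inv_cancel_left]⟩

/-- In a factorised group one factor may be replaced by any conjugate. -/
theorem product_conj {A B : Subgroup G} (h : ∀ g : G, ∃ a ∈ A, ∃ b ∈ B, g = a * b) (x : G) (g : G) :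
    ∃ a ∈ A, ∃ b ∈ B.map (MulAut.conj x).toMonoidHom, g = a * b := by
  obtain ⟨a₀, ha₀, b₀, hb₀, rfl⟩ := h x
  obtain ⟨a₁, ha₁, b₁, hb₁, he⟩ := h (a₀⁻¹ * g * a₀)
  refine ⟨a₀ * a₁ * a₀⁻¹, mul_mem (mul_mem ha₀ ha₁) (inv_mem ha₀), a₀ * b₁ * a₀⁻¹,
    ⟨b₀⁻¹ * b₁ * b₀, mul_mem (mul_mem (inv_mem hb₀) hb₁) hb₀, ?_⟩, ?_⟩
  · show a₀ * b₀ * (b₀⁻¹ * b₁ * b₀) * (a₀ * b₀)⁻¹ = a₀ * b₁ * a₀⁻¹
    group
  · calc g = a₀ * (a₀⁻¹ * g * a₀) * a₀⁻¹ := by group
      _ = a₀ * (a₁ * b₁) * a₀⁻¹ := by rw [he]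
      _ = a₀ * a₁ * a₀⁻¹ * (a₀ * b₁ * a₀⁻¹) := by group

/-- A Sylow 2-subgroup is the product of Sylow 2-subgroups of the factor `A` and of a conjugate of
`B`. -/
theorem exists_sylow_product {A B : Subgroup G} (h : ∀ g : G, ∃ a ∈ A, ∃ b ∈ B, g = a * b)
    (PA : Sylow 2 A) (PB : Sylow 2 B) :
    ∃ (S : Sylow 2 G) (x : G), (PA : Subgroup A).map A.subtype ≤ (S : Subgroup G) ∧
      ((PB : Subgroup B).map B.subtype).map (MulAut.conj x).toMonoidHom ≤ (S : Subgroup G) ∧
      ∀ s ∈ S, ∃ a ∈ (PA : Subgroup A).map A.subtype,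
        ∃ b ∈ ((PB : Subgroup B).map B.subtype).map (MulAut.conj x).toMonoidHom, s = a * b := by
  haveI : Fact (Nat.Prime 2) := ⟨Nat.prime_two⟩
  set A2 := (PA : Subgroup A).map A.subtype with hA2
  obtain ⟨S, hAS⟩ := (PA.2.map A.subtype).exists_le_sylow
  obtain ⟨R, hR⟩ := (PB.2.map B.subtype).exists_le_sylow
  obtain ⟨x, hx⟩ := MulAction.exists_smul_eq G R S
  set B2 := ((PB : Subgroup B).map B.subtype).map (MulAut.conj x).toMonoidHom with hB2
  have hBS : B2 ≤ (S : Subgroup G) := by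
    rintro _ ⟨b, hb, rfl⟩
    rw [← hx]
    exact Subgroup.smul_mem_pointwise_smul _ (MulAut.conj x) _ (hR hb)
  refine ⟨S, x, hAS, hBS, ?_⟩
  have hinj : Function.Injective (MulAut.conj x).toMonoidHom := (MulAut.conj x).injective
  have hprod := card_of_product (product_conj h x)
  set B' := B.map (MulAut.conj x).toMonoidHom with hB'
  have hcB' : Nat.card B' = Nat.card B := Subgroup.card_map_of_injective hinj
  have hcA2 : Nat.card A2 = 2 ^ (Nat.card A).factorization 2 := by
    rw [hA2, Subgroup.card_map_of_injective A.subtype_injective, PA.card_eq_multiplicity]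
  have hcB2 : Nat.card B2 = 2 ^ (Nat.card B).factorization 2 := by
    rw [hB2, Subgroup.card_map_of_injective hinj,
      Subgroup.card_map_of_injective B.subtype_injective, PB.card_eq_multiplicity]
  have hle : A2 ⊓ B2 ≤ A ⊓ B' :=
    inf_le_inf (map_subtype_le _) (Subgroup.map_mono (map_subtype_le _))
  obtain ⟨j, hj⟩ := IsPGroup.iff_card.1 ((PA.2.map A.subtype).to_le (inf_le_left : A2 ⊓ B2 ≤ A2))
  have hjle : j ≤ (Nat.card ↥(A ⊓ B')).factorization 2 :=
    (Nat.prime_two.pow_dvd_iff_le_factorization Nat.card_pos.ne').1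
      (hj ▸ Subgroup.card_dvd_of_le hle)
  have hfac := congrArg (fun n : ℕ => n.factorization 2) hprod
  simp only [Nat.factorization_mul Nat.card_pos.ne' Nat.card_pos.ne', Finsupp.add_apply,
    hcB'] at hfac
  intro s hs
  have hcard : Nat.card (S : Subgroup G) * Nat.card ↥(A2.subgroupOf S ⊓ B2.subgroupOf S) ≤
      Nat.card (A2.subgroupOf (S : Subgroup G)) * Nat.card (B2.subgroupOf (S : Subgroup G)) := by
    have e1 := Nat.card_congr (subgroupOfEquivOfLe hAS).toEquiv
    have e2 := Nat.card_congr (subgroupOfEquivOfLe hBS).toEquiv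
    have e3 : Nat.card ↥(A2.subgroupOf (S : Subgroup G) ⊓ B2.subgroupOf S) =
        Nat.card ↥(A2 ⊓ B2) := by
      rw [← Nat.card_congr (subgroupOfEquivOfLe (inf_le_left.trans hAS :
        A2 ⊓ B2 ≤ (S : Subgroup G))).toEquiv]
      rfl
    rw [e1, e2, e3, hj, hcA2, hcB2, S.card_eq_multiplicity, ← pow_add, ← pow_add]
    exact Nat.pow_le_pow_right two_pos (by omega)
  obtain ⟨a, ha, b, hb, he⟩ := product_of_card hcard ⟨s, hs⟩
  exact ⟨a, mem_subgroupOf.1 ha, b, mem_subgroupOf.1 hb, congrArg Subtype.val he⟩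

/-- A nontrivial normal subgroup of a 2-group has a central involution. -/
theorem exists_central_involution (hG : IsPGroup 2 G) {W : Subgroup G} [W.Normal] (hW : W ≠ ⊥) :
    ∃ z ∈ W, orderOf z = 2 ∧ ∀ g : G, g * z = z * g := by
  haveI : Fact (Nat.Prime 2) := ⟨Nat.prime_two⟩
  letI : MulAction G W := MulAction.compHom W (MulAut.conjNormal (H := W))
  have hfix : ∀ w : W, w ∈ fixedPoints G W ↔ ∀ g : G, g * (w : G) = (w : G) * g := fun w => by
    refine forall_congr' fun g => ?_
    show MulAut.conjNormal g w = w ↔ _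
    rw [Subtype.ext_iff, MulAut.conjNormal_apply, mul_inv_eq_iff_eq_mul]
  have h2 : 2 ∣ Nat.card W := by
    obtain ⟨n, hn⟩ := IsPGroup.iff_card.1 (hG.to_subgroup W)
    rcases n with _ | n
    · rw [pow_zero] at hn
      exact absurd (Subgroup.card_eq_one.1 hn) hW
    · rw [hn, pow_succ]; exact dvd_mul_left _ _
  obtain ⟨w, hw, hne⟩ := hG.exists_fixed_point_of_prime_dvd_card_of_fixed_point W h2
    (a := (1 : W)) ((hfix 1).2 fun g => by simp)
  obtain ⟨n, hn⟩ := IsPGroup.iff_orderOf.1 hG (w : G)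
  rcases n with _ | n
  · rw [pow_zero, orderOf_eq_one_iff] at hn
    exact absurd (Subtype.ext hn : w = 1) (Ne.symm hne)
  refine ⟨(w : G) ^ 2 ^ n, pow_mem w.2 _, ?_, fun g => ?_⟩
  · rw [orderOf_pow' _ (by positivity), hn, Nat.gcd_eq_right (pow_dvd_pow 2 (by omega)), pow_succ,
      Nat.mul_div_cancel_left _ (by positivity)]
  · exact ((show Commute g (w : G) from (hfix w).1 hw g).pow_right _).eq

/-- A 2-group which is a product of two cyclic subgroups has no two disjoint noncyclic normal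
subgroups. -/
theorem false_of_two_normal (hG : IsPGroup 2 G) (A B : Subgroup G) [IsCyclic A] [IsCyclic B]
    (hAB : ∀ g : G, ∃ a ∈ A, ∃ b ∈ B, g = a * b) (T1 T2 : Subgroup G) [T1.Normal] [T2.Normal]
    (hd : T1 ⊓ T2 = ⊥) (h1 : ¬ IsCyclic T1) (h2 : ¬ IsCyclic T2) : False := by
  classical
  induction hn : Nat.card G using Nat.strong_induction_on generalizing G with
  | _ n IH =>
  subst hn
  haveI : Fact (Nat.Prime 2) := ⟨Nat.prime_two⟩
  -- the case of a normal subgroup of order more than four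
  have step : ∀ (U V : Subgroup G), U.Normal → V.Normal → U ⊓ V = ⊥ → ¬ IsCyclic U →
      ¬ IsCyclic V → Nat.card U ≠ 4 → False := by
    intro U V hUn hVn hUV hU hV hU4
    haveI := hUn
    haveI := hVn
    have hUne : U ≠ ⊥ := fun h => hU (h ▸ inferInstance)
    set W : Subgroup G := closure ((fun t : G => t * t) '' (U : Set G)) with hW
    haveI hWn : W.Normal := by
      refine ⟨fun w hw g => ?_⟩
      induction hw using closure_induction with
      | mem w hw =>
        obtain ⟨t, ht, rfl⟩ := hw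
        refine subset_closure ⟨g * t * g⁻¹, hUn.conj_mem t ht g, ?_⟩
        group
      | one => simp
      | mul x y _ _ hx hy =>
        rw [show g * (x * y) * g⁻¹ = (g * x * g⁻¹) * (g * y * g⁻¹) by group]
        exact mul_mem hx hy
      | inv x _ hx =>
        rw [show g * x⁻¹ * g⁻¹ = (g * x * g⁻¹)⁻¹ by group]
        exact inv_mem hx
    have hWU : W ≤ U := (closure_le U).2 (by rintro _ ⟨t, ht, rfl⟩; exact mul_mem ht ht)
    obtain ⟨z, hzU, hz2, hzc, hzW⟩ : ∃ z ∈ U, orderOf z = 2 ∧ (∀ g : G, g * z = z * g) ∧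
        (z ∈ W ∨ ∀ t ∈ U, t * t = 1) := by
      by_cases hWb : W = ⊥
      · obtain ⟨z, hz, h, hc⟩ := exists_central_involution hG hUne
        refine ⟨z, hz, h, hc, Or.inr fun t ht => ?_⟩
        rw [← mem_bot, ← hWb]
        exact subset_closure ⟨t, ht, rfl⟩
      · obtain ⟨z, hz, h, hc⟩ := exists_central_involution hG hWb
        exact ⟨z, hWU hz, h, hc, Or.inl hz⟩
    set Z := zpowers z with hZ
    haveI hZn : Z.Normal := ⟨fun x hx g => by
      obtain ⟨i, rfl⟩ := mem_zpowers_iff.1 hx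
      rw [((show Commute g z from hzc g).zpow_right i).eq, mul_inv_cancel_right]
      exact zpow_mem (mem_zpowers z) i⟩
    have hZU : Z ≤ U := zpowers_le.2 hzU
    set π := QuotientGroup.mk' Z with hπ
    have hsurj : Function.Surjective π := QuotientGroup.mk'_surjective Z
    have hlt : Nat.card (G ⧸ Z) < Nat.card G := by
      rw [Subgroup.card_eq_card_quotient_mul_card_subgroup Z]
      exact lt_mul_of_one_lt_right Nat.card_pos (by rw [hZ, Nat.card_zpowers, hz2]; norm_num)
    haveI : IsCyclic (A.map π) :=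
      isCyclic_of_surjective (π.subgroupMap A) (MonoidHom.subgroupMap_surjective _ _)
    haveI : IsCyclic (B.map π) :=
      isCyclic_of_surjective (π.subgroupMap B) (MonoidHom.subgroupMap_surjective _ _)
    haveI : (U.map π).Normal := hUn.map π hsurj
    haveI : (V.map π).Normal := hVn.map π hsurj
    refine IH _ hlt (G := G ⧸ Z) (hG.to_quotient Z) (A.map π) (B.map π) ?_ (U.map π) (V.map π)
      ?_ ?_ ?_ rfl
    · intro x
      obtain ⟨g, rfl⟩ := hsurj x
      obtain ⟨a, ha, b, hb, rfl⟩ := hAB g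
      exact ⟨π a, mem_map_of_mem π ha, π b, mem_map_of_mem π hb, map_mul π a b⟩
    · rw [eq_bot_iff]
      rintro _ ⟨⟨x, hx, rfl⟩, ⟨y, hy, hxy⟩⟩
      rw [mem_bot]
      have hyU : y ∈ U := by
        have hq : y⁻¹ * x ∈ Z := QuotientGroup.eq.1 hxy
        have := mul_mem hx (inv_mem (hZU hq))
        rwa [mul_inv_rev, inv_inv, mul_inv_cancel_left] at this
      have hy1 : y = 1 := by
        have : y ∈ U ⊓ V := ⟨hyU, hy⟩
        rwa [hUV, mem_bot] at this
      rw [← hxy, hy1, map_one]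
    · intro hc
      obtain ⟨c, hc'⟩ := hc.exists_generator
      obtain ⟨t, htU, htc⟩ := c.2
      have hdec : ∀ x ∈ U, ∃ i j : ℤ, x = t ^ i * z ^ j := by
        intro x hx
        obtain ⟨i, hi⟩ := mem_zpowers_iff.1 (hc' ⟨π x, mem_map_of_mem π hx⟩)
        have hi' : π (t ^ i) = π x := by
          rw [map_zpow, htc, ← SubgroupClass.coe_zpow, hi]
        obtain ⟨j, hj⟩ := mem_zpowers_iff.1 (QuotientGroup.eq.1 hi')
        exact ⟨i, j, by rw [hj, mul_inv_cancel_left]⟩
      have hle : U ≤ zpowers t → False := fun h => hU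
        (isCyclic_of_injective (Subgroup.inclusion h) (Subgroup.inclusion_injective h))
      rcases hzW with hzW | hex
      · have hWt : W ≤ zpowers t := by
          refine (closure_le _).2 ?_
          rintro _ ⟨x, hx, rfl⟩
          obtain ⟨i, j, rfl⟩ := hdec x hx
          refine mem_zpowers_iff.2 ⟨i + i, ?_⟩
          have hc2 : Commute (t ^ i) (z ^ j) := ((show Commute t z from hzc t).zpow_right j).zpow_left i
          show t ^ (i + i) = t ^ i * z ^ j * (t ^ i * z ^ j)
          rw [hc2.symm.mul_mul_mul_comm, ← zpow_add, ← zpow_add, ← two_mul j, zpow_mul,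
            zpow_two, Involutions.Basic.inv_sq_one hz2, one_zpow, mul_one]
        refine hle fun x hx => ?_
        obtain ⟨i, j, rfl⟩ := hdec x hx
        exact mul_mem (zpow_mem (mem_zpowers t) i) (zpow_mem (hWt hzW) j)
      · have hcard : Nat.card U ≤ 4 := by
          let φ : zpowers t × Z → G := fun p => (p.1 : G) * p.2
          have hle' : (U : Set G) ⊆ Set.range φ := fun x hx => by
            obtain ⟨i, j, rfl⟩ := hdec x hx
            exact ⟨⟨⟨_, i, rfl⟩, ⟨_, j, rfl⟩⟩, rfl⟩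
          refine ((Nat.card_mono (Set.toFinite _) hle').trans
            (Finite.card_range_le φ)).trans ?_
          rw [Nat.card_prod, Nat.card_zpowers, hZ, Nat.card_zpowers, hz2]
          have : orderOf t ≤ 2 := orderOf_le_of_pow_eq_one two_pos (by rw [sq]; exact hex t htU)
          omega
        obtain ⟨j, hj⟩ := IsPGroup.iff_card.1 (hG.to_subgroup U)
        rcases j with _ | _ | _ | j
        · rw [pow_zero] at hj
          exact hU (by rw [Subgroup.card_eq_one.1 hj]; infer_instance)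
        · exact hU (isCyclic_of_prime_card (p := 2) hj)
        · exact hU4 hj
        · rw [hj, pow_succ, pow_succ, pow_succ] at hcard
          have := Nat.one_le_two_pow (n := j)
          omega
    · intro hc
      refine hV (isCyclic_of_injective (π.subgroupMap V) fun x y h => ?_)
      have h' : π (x : G) = π y := congrArg Subtype.val h
      have hm : (x : G)⁻¹ * y ∈ U ⊓ V :=
        mem_inf.2 ⟨hZU (QuotientGroup.eq.1 h'), mul_mem (inv_mem x.2) y.2⟩
      rw [hUV, mem_bot, inv_mul_eq_one] at hm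
      exact Subtype.ext hm
  by_cases h14 : Nat.card T1 = 4
  swap
  · exact step T1 T2 inferInstance inferInstance hd h1 h2 h14
  by_cases h24 : Nat.card T2 = 4
  swap
  · exact step T2 T1 inferInstance inferInstance (inf_comm T2 T1 ▸ hd) h2 h1 h24
  -- both of order four
  have hexp : ∀ U : Subgroup G, ¬ IsCyclic U → Nat.card U = 4 → ∀ t ∈ U, t * t = 1 := by
    intro U hU h4 t ht
    have hd4 : orderOf t ∣ 2 ^ 2 := by
      have := orderOf_dvd_natCard (⟨t, ht⟩ : U)
      rwa [Subgroup.orderOf_mk, h4] at this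
    obtain ⟨j, hj2, hj⟩ := (Nat.dvd_prime_pow Nat.prime_two).1 hd4
    have hj1 : j ≤ 1 := by
      by_contra h
      obtain rfl : j = 2 := by omega
      exact hU (isCyclic_of_orderOf_eq_card (⟨t, ht⟩ : U) (by rw [Subgroup.orderOf_mk, hj, h4]; rfl))
    rw [← sq]
    exact orderOf_dvd_iff_pow_eq_one.1 (hj ▸ pow_dvd_pow 2 hj1)
  have hsqc : ∀ (U : Subgroup G), U.Normal → Nat.card U = 4 → ∀ g : G, ∀ t ∈ U,
      Commute (g * g) t := by
    intro U hUn h4 g t ht
    haveI := hUn
    obtain ⟨z, hz, hz2, hzc⟩ := exists_central_involution hG (W := U) fun h => by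
      rw [h, Subgroup.card_bot] at h4; omega
    have hne : (1 : U) ≠ ⟨z, hz⟩ := fun h =>
      Involutions.Basic.ne_one hz2 (congrArg Subtype.val h).symm
    have hfix : (MulAut.conjNormal g : MulAut U) • (⟨z, hz⟩ : U) = ⟨z, hz⟩ := by
      refine Subtype.ext ?_
      show ((MulAut.conjNormal g ⟨z, hz⟩ : U) : G) = z
      rw [MulAut.conjNormal_apply, hzc g, mul_inv_cancel_right]
    have h := sq_smul_eq_of_four (G := MulAut U) (Ω := U) h4 hne
      (g := MulAut.conjNormal g) (map_one _) hfix ⟨t, ht⟩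
    have h' := congrArg Subtype.val h
    change ((MulAut.conjNormal g (MulAut.conjNormal g (⟨t, ht⟩ : U)) : U) : G) = t at h'
    rw [MulAut.conjNormal_apply, MulAut.conjNormal_apply] at h'
    show g * g * t = t * (g * g)
    rw [← mul_inv_eq_iff_eq_mul]
    calc g * g * t * (g * g)⁻¹ = g * (g * t * g⁻¹) * g⁻¹ := by group
      _ = t := h'
  have h12 : ∀ x ∈ T1, ∀ y ∈ T2, Commute x y := fun x hx y hy =>
    Subgroup.commute_of_normal_of_disjoint T1 T2 inferInstance inferInstance
      (disjoint_iff.2 hd) x y hx hy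
  set E := T1 ⊔ T2 with hE
  have hEmem : ∀ e ∈ E, ∃ x ∈ T1, ∃ y ∈ T2, x * y = e := fun e he =>
    mem_sup_of_normal_right.1 he
  have hEsq : ∀ e ∈ E, e * e = 1 := by
    intro e he
    obtain ⟨x, hx, y, hy, rfl⟩ := hEmem e he
    rw [(h12 x hx y hy).symm.mul_mul_mul_comm, hexp T1 h1 h14 x hx, hexp T2 h2 h24 y hy, one_mul]
  have hEc : ∀ g : G, ∀ e ∈ E, Commute (g * g) e := by
    intro g e he
    obtain ⟨x, hx, y, hy, rfl⟩ := hEmem e he
    exact (hsqc T1 inferInstance h14 g x hx).mul_right (hsqc T2 inferInstance h24 g y hy)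
  have hEcard : Nat.card E = 16 := by
    let φ : T1 × T2 → E := fun p => ⟨p.1 * p.2, mul_mem_sup p.1.2 p.2.2⟩
    have hφ : Function.Bijective φ := by
      refine ⟨?_, fun e => ?_⟩
      · rintro ⟨x, y⟩ ⟨x', y'⟩ h
        obtain ⟨e1, e2⟩ := Prod.ext_iff.1 (Subgroup.mul_injective_of_disjoint (disjoint_iff.2 hd)
          (a₁ := (x, y)) (a₂ := (x', y')) (congrArg Subtype.val h))
        exact Prod.ext e1 e2
      · obtain ⟨x, hx, y, hy, he⟩ := hEmem e e.2
        exact ⟨⟨⟨x, hx⟩, ⟨y, hy⟩⟩, Subtype.ext he⟩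
    rw [← Nat.card_eq_of_bijective φ hφ, Nat.card_prod, h14, h24]
  haveI : E.Normal := Subgroup.sup_normal T1 T2
  set M := B ⊔ E with hM
  have hMmem : ∀ m ∈ M, ∃ b ∈ B, ∃ e ∈ E, b * e = m := fun m hm => mem_sup_of_normal_right.1 hm
  -- fourth powers
  have hfour : ∀ m ∈ M, m ^ 4 ∈ B := by
    intro m hm
    obtain ⟨b, hb, e, he, rfl⟩ := hMmem m hm
    set w := b⁻¹ * e * b * e with hw
    have hwE : w ∈ E := by
      refine mul_mem ?_ he
      have := (inferInstance : E.Normal).conj_mem e he b⁻¹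
      rwa [inv_inv] at this
    have h2' : (b * e) ^ 2 = b * b * w := by rw [sq, hw]; group
    rw [show (4 : ℕ) = 2 * 2 from rfl, pow_mul, h2', sq,
      (hEc b w hwE).symm.mul_mul_mul_comm, hEsq w hwE, mul_one]
    exact mul_mem (mul_mem hb hb) (mul_mem hb hb)
  -- the counting
  have hSA : Nat.card G * Nat.card ↥(A ⊓ B) = Nat.card A * Nat.card B := card_of_product hAB
  have hSM : Nat.card G * Nat.card ↥(A ⊓ M) = Nat.card A * Nat.card M :=
    card_of_product fun g => by
      obtain ⟨a, ha, b, hb, rfl⟩ := hAB g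
      exact ⟨a, ha, b, mem_sup_left hb, rfl⟩
  have hMB : Nat.card M * Nat.card ↥(B ⊓ E) = Nat.card B * 16 := by
    have h := card_of_product (G := M) (H := B.subgroupOf M) (K := E.subgroupOf M) fun m => by
      obtain ⟨b, hb, e, he, hbe⟩ := hMmem m m.2
      exact ⟨⟨b, mem_sup_left hb⟩, hb, ⟨e, mem_sup_right he⟩, he, Subtype.ext hbe.symm⟩
    have e3 : Nat.card ↥(B.subgroupOf M ⊓ E.subgroupOf M) = Nat.card ↥(B ⊓ E) := by
      rw [← Nat.card_congr (subgroupOfEquivOfLe (inf_le_left.trans le_sup_left :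
        B ⊓ E ≤ M)).toEquiv]
      rfl
    rwa [Nat.card_congr (subgroupOfEquivOfLe (le_sup_left : B ≤ M)).toEquiv,
      Nat.card_congr (subgroupOfEquivOfLe (le_sup_right : E ≤ M)).toEquiv, e3, hEcard] at h
  have hA1 : Nat.card ↥(A ⊓ M) ≤ 4 * Nat.card ↥(A ⊓ B) := by
    haveI : IsCyclic ↥(A ⊓ M) := isCyclic_of_injective
      (Subgroup.inclusion (inf_le_left : A ⊓ M ≤ A)) (Subgroup.inclusion_injective _)
    obtain ⟨g, hg⟩ := IsCyclic.exists_generator (α := ↥(A ⊓ M))
    have hg4 : (g : G) ^ 4 ∈ A ⊓ B := ⟨pow_mem g.2.1 4, hfour _ g.2.2⟩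
    have hgo : orderOf (g : G) = Nat.card ↥(A ⊓ M) := by
      rw [Subgroup.orderOf_coe]; exact orderOf_eq_card_of_forall_mem_zpowers hg
    rw [← hgo]
    refine Nat.le_of_dvd (Nat.mul_pos (by norm_num) Nat.card_pos) (orderOf_dvd_of_pow_eq_one ?_)
    rw [pow_mul]
    exact congrArg Subtype.val (pow_card_eq_one' (x := (⟨_, hg4⟩ : ↥(A ⊓ B))))
  have hBE : Nat.card ↥(B ⊓ E) ≤ 2 := by
    haveI : IsCyclic ↥(B ⊓ E) := isCyclic_of_injective
      (Subgroup.inclusion (inf_le_left : B ⊓ E ≤ B)) (Subgroup.inclusion_injective _)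
    obtain ⟨g, hg⟩ := IsCyclic.exists_generator (α := ↥(B ⊓ E))
    rw [← orderOf_eq_card_of_forall_mem_zpowers hg]
    exact orderOf_le_of_pow_eq_one two_pos (by rw [sq]; exact Subtype.ext (hEsq _ g.2.2))
  have key : Nat.card G * (Nat.card ↥(A ⊓ M) * Nat.card ↥(B ⊓ E)) =
      Nat.card G * (16 * Nat.card ↥(A ⊓ B)) := by
    rw [← mul_assoc, hSM, mul_assoc, hMB, ← mul_assoc (Nat.card A), ← hSA]
    ring
  have key' := Nat.eq_of_mul_eq_mul_left Nat.card_pos key
  have := Nat.mul_le_mul hA1 hBE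
  have hZpos : 0 < Nat.card ↥(A ⊓ B) := Nat.card_pos
  omega

/-- A radical-free product of a cyclic group and a Z-group has only one minimal normal
subgroup. -/
theorem eq_bot_of_disjoint_normal {A B : Subgroup G} [IsCyclic A] [IsZGroup B]
    (hAB : ∀ g : G, ∃ a ∈ A, ∃ b ∈ B, g = a * b) (hrad : RadicalFree G) {N1 N2 : Subgroup G}
    [N1.Normal] [N2.Normal] (hd : N1 ⊓ N2 = ⊥) : N1 = ⊥ ∨ N2 = ⊥ := by
  haveI : Fact (Nat.Prime 2) := ⟨Nat.prime_two⟩
  by_contra hne
  push Not at hne
  obtain ⟨PA⟩ := (inferInstance : Nonempty (Sylow 2 A))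
  obtain ⟨PB⟩ := (inferInstance : Nonempty (Sylow 2 B))
  obtain ⟨S, x, hAS, hBS, hprod⟩ := exists_sylow_product hAB PA PB
  have hnc : ∀ N : Subgroup G, N.Normal → N ≠ ⊥ → ¬ IsCyclic (N.subgroupOf (S : Subgroup G)) := by
    intro N hN hN1 hc
    haveI := hN
    obtain ⟨P⟩ := (inferInstance : Nonempty (Sylow 2 N))
    obtain ⟨R, hR⟩ := (P.2.map N.subtype).exists_le_sylow
    obtain ⟨g, hg⟩ := MulAction.exists_smul_eq G R S
    refine hN1 (hrad N hN (isSolvable_of_cyclic_sylow P ?_))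
    let f : (P : Subgroup N) →* N.subgroupOf (S : Subgroup G) := MonoidHom.mk'
      (fun p => ⟨⟨g * ((p : N) : G) * g⁻¹, by
        rw [← hg]
        exact Subgroup.smul_mem_pointwise_smul _ (MulAut.conj g) _
          (hR (mem_map_of_mem N.subtype p.2))⟩,
        mem_subgroupOf.2 (hN.conj_mem _ (p : N).2 g)⟩)
      (fun p q => Subtype.ext (Subtype.ext (by simp [mul_assoc])))
    refine isCyclic_of_injective f fun p q h => Subtype.ext (Subtype.ext ?_)
    have h' : g * ((p : N) : G) * g⁻¹ = g * ((q : N) : G) * g⁻¹ :=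
      congrArg (fun w : N.subgroupOf (S : Subgroup G) => ((w : (S : Subgroup G)) : G)) h
    exact mul_left_cancel (mul_right_cancel h')
  set A' := ((PA : Subgroup A).map A.subtype).subgroupOf (S : Subgroup G) with hA'
  set B' := (((PB : Subgroup B).map B.subtype).map (MulAut.conj x).toMonoidHom).subgroupOf
    (S : Subgroup G) with hB'
  haveI : IsCyclic A' := by
    haveI : IsCyclic ((PA : Subgroup A).map A.subtype) :=
      isCyclic_of_surjective (A.subtype.subgroupMap _) (MonoidHom.subgroupMap_surjective _ _)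
    exact isCyclic_of_injective (subgroupOfEquivOfLe hAS).toMonoidHom
      (subgroupOfEquivOfLe hAS).injective
  haveI : IsCyclic B' := by
    haveI : IsCyclic ((PB : Subgroup B).map B.subtype) :=
      isCyclic_of_surjective (B.subtype.subgroupMap _) (MonoidHom.subgroupMap_surjective _ _)
    haveI : IsCyclic (((PB : Subgroup B).map B.subtype).map (MulAut.conj x).toMonoidHom) :=
      isCyclic_of_surjective ((MulAut.conj x).toMonoidHom.subgroupMap _)
        (MonoidHom.subgroupMap_surjective _ _)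
    exact isCyclic_of_injective (subgroupOfEquivOfLe hBS).toMonoidHom
      (subgroupOfEquivOfLe hBS).injective
  refine false_of_two_normal S.2 A' B' (fun s => ?_) (N1.subgroupOf (S : Subgroup G))
    (N2.subgroupOf (S : Subgroup G)) ?_ (hnc N1 inferInstance hne.1) (hnc N2 inferInstance hne.2)
  · obtain ⟨a, ha, b, hb, he⟩ := hprod s s.2
    exact ⟨⟨a, hAS ha⟩, mem_subgroupOf.2 ha, ⟨b, hBS hb⟩, mem_subgroupOf.2 hb, Subtype.ext he⟩
  · rw [eq_bot_iff]
    intro s hs
    rw [mem_bot]
    have : (s : G) ∈ N1 ⊓ N2 := ⟨hs.1, hs.2⟩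
    rw [hd, mem_bot] at this
    exact Subtype.ext this

end Cfsg.Agent.GW.ZFact
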