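import Mathlib
import Cfsg.Agent.Lib.GW.ZFactProduct
import Cfsg.Agent.Lib.GW.MainFinal
import Cfsg.Agent.Lib.GW.ConsFull
import Cfsg.Agent.Lib.GW.OvergroupsAut
import Cfsg.Agent.Lib.AutPSL.Out
import Cfsg.Agent.Lib.Forms.DicksonPGL.TorusStruct
import Cfsg.Agent.S2119
import Cfsg.Agent.S2262

/-!
# Groups with dihedral Sylow 2-subgroup, regular cyclic subgroup and Z-group stabiliser

The component given by the theorem of Gorenstein and Walter is `PSL₂(p)` for a prime `p`, and the
group is `PGL₂(p)`.
-/

set_option autoImplicit false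
set_option linter.style.haveILetI false
set_option linter.unusedSectionVars false

namespace Cfsg.Agent.GW.ZFact

open Subgroup MulAction
open scoped MatrixGroups

universe u v

/-- The group is `PGL₂(p)` for a prime `p > 3`. -/
def IsPGLPrime (G : Type u) [Group G] : Prop :=
  ∃ (F : Type) (_ : Field F) (_ : Fintype F) (p : ℕ), p.Prime ∧ 3 < p ∧ Fintype.card F = p ∧
    Nonempty (G ≃* (GL (Fin 2) F ⧸ Subgroup.center (GL (Fin 2) F)))

/-- The order of a Z-group is at most the square of a bound for the element orders. -/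
theorem card_zgroup_le {H : Type u} [Group H] [Finite H] [IsZGroup H] {m : ℕ}
    (h : ∀ x : H, orderOf x ≤ m) : Nat.card H ≤ m * m := by
  haveI := IsZGroup.isCyclic_commutator H
  haveI : IsCyclic (H ⧸ commutator H) := IsZGroup.isCyclic_abelianization
  rw [Subgroup.card_eq_card_quotient_mul_card_subgroup (commutator H)]
  refine Nat.mul_le_mul ?_ ?_
  · obtain ⟨x, hx⟩ := IsCyclic.exists_generator (α := H ⧸ commutator H)
    obtain ⟨y, rfl⟩ := QuotientGroup.mk'_surjective (commutator H) x
    rw [← orderOf_eq_card_of_forall_mem_zpowers hx]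
    exact (Nat.le_of_dvd (orderOf_pos y) (orderOf_map_dvd _ y)).trans (h y)
  · obtain ⟨x, hx⟩ := IsCyclic.exists_generator (α := commutator H)
    rw [← orderOf_eq_card_of_forall_mem_zpowers hx, ← Subgroup.orderOf_coe]
    exact h _

/-- The element orders of `PSL₂(q)`, `q` odd and not a prime. -/
theorem two_mul_orderOf_le {F : Type} [Field F] [Fintype F] (hodd : Odd (Fintype.card F))
    (hnp : ¬ (Fintype.card F).Prime) (x : Matrix.ProjectiveSpecialLinearGroup (Fin 2) F) :
    2 * orderOf x ≤ Fintype.card F + 1 := by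
  classical
  obtain ⟨p, hpc⟩ := CharP.exists F
  haveI := hpc
  haveI hp : Fact p.Prime := ⟨CharP.char_is_prime F p⟩
  obtain ⟨f, -, hf⟩ := FiniteField.card F p
  have hf2 : 2 ≤ (f : ℕ) := by
    by_contra h
    have := f.pos
    exact hnp (by rw [hf, show (f : ℕ) = 1 by omega, pow_one]; exact hp.out)
  have hpq : p * p ≤ Fintype.card F := by
    rw [hf, ← sq]; exact Nat.pow_le_pow_right hp.out.pos hf2
  have hp2 := hp.out.two_le
  obtain ⟨X, rfl⟩ := Forms.KleinPSL.pi_surjective x
  by_cases h1 : Forms.KleinPSL.pi F X = 1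
  · rw [h1, orderOf_one]
    nlinarith
  by_cases hop : orderOf (Forms.KleinPSL.pi F X) = p
  · rw [hop]
    nlinarith
  have hX := Forms.DicksonPGL.semisimple_of_pi p X h1 hop
  set y := Matrix.ProjGenLinGroup.mk (n := Fin 2) (R := F) (Matrix.SpecialLinearGroup.toGL X)
  have hy : y ∈ Forms.DicksonPGL.torus X ⊓ Forms.DicksonPGL.L F :=
    ⟨Forms.DicksonPGL.self_mem_torus, ⟨Forms.KleinPSL.pi F X, Forms.DicksonPGL.toPGL_pi X⟩⟩
  have hle : orderOf (Forms.KleinPSL.pi F X) ≤
      Nat.card (Forms.DicksonPGL.torus X ⊓ Forms.DicksonPGL.L F : Subgroup _) := by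
    rw [← orderOf_injective _ Matrix.ProjectiveSpecialLinearGroup.toPGL_injective,
      Forms.DicksonPGL.toPGL_pi]
    have := Nat.le_of_dvd Nat.card_pos (orderOf_dvd_natCard
      (⟨y, hy⟩ : (Forms.DicksonPGL.torus X ⊓ Forms.DicksonPGL.L F : Subgroup _)))
    rwa [Subgroup.orderOf_mk] at this
  have hgcd := Forms.DicksonPGL.gcd_mul_torus_inf_L hX
  have hg2 : Nat.gcd 2 (Fintype.card F - 1) = 2 := by
    refine Nat.gcd_eq_left ?_
    obtain ⟨j, hj⟩ := hodd
    exact ⟨j, by omega⟩
  rw [hg2] at hgcd
  obtain ⟨-, -, hcard | hcard⟩ := Forms.DicksonPGL.torus_facts hX <;> omega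

/-- The automorphism group of `PSL₂` over a prime field. -/
theorem aut_psl_prime {F : Type} [Field F] [Fintype F] (hp : (Fintype.card F).Prime) :
    Nonempty (MulAut (Matrix.ProjectiveSpecialLinearGroup (Fin 2) F) ≃*
      (GL (Fin 2) F ⧸ Subgroup.center (GL (Fin 2) F))) := by
  classical
  haveI : Fact (Fintype.card F).Prime := ⟨hp⟩
  have hσ : ∀ σ : F ≃+* F, σ = 1 := fun σ => by
    let e := ZMod.ringEquivOfPrime F hp rfl
    have h : σ.toRingHom.comp e.toRingHom = e.toRingHom := Subsingleton.elim _ _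
    refine RingEquiv.ext fun x => ?_
    obtain ⟨y, rfl⟩ := e.surjective x
    exact RingHom.congr_fun h y
  obtain ⟨ψ, -, hψ⟩ := AutPSL.Out.exists_proj_two (F := F)
  have hsurj : Function.Surjective
      (AutPSL.Basic.gAut (n := 2) (F := F)) := fun β => by
    have : β ∈ ψ.ker := MonoidHom.mem_ker.2 (hσ _)
    rw [hψ] at this
    exact this
  have hker : (AutPSL.Basic.gAut (n := 2) (F := F)).ker = Subgroup.center (GL (Fin 2) F) := by
    ext g
    exact AutPSL.Out.gAut_eq_one_iff le_rfl g
  exact ⟨(QuotientGroup.quotientKerEquivOfSurjective _ hsurj).symm.trans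
    (QuotientGroup.quotientMulEquivOfEq hker)⟩

variable {G : Type u} [Group G] [Finite G] {Ω : Type v} [MulAction G Ω] [Finite Ω]
  [FaithfulSMul G Ω]

/-- A regular cycle of even length is not in a perfect group. -/
theorem not_perfect {a : G} (hsemi : Semiregular Ω a) (hord : orderOf a = Nat.card Ω)
    (heven : 2 ∣ Nat.card Ω) (hne : Nonempty Ω) : commutator G ≠ ⊤ := by
  classical
  intro htop
  haveI := Fintype.ofFinite Ω
  obtain ⟨α⟩ := hne
  haveI : Nonempty Ω := ⟨α⟩
  set f := MulAction.toPermHom G Ω a with hf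
  have hpow : ∀ (i : ℤ) (x : Ω), (f ^ i) x = a ^ i • x := fun i x => by
    rw [hf, ← map_zpow]; rfl
  have hane : a ≠ 1 := fun h => by
    rw [h, orderOf_one] at hord
    have := Nat.le_of_dvd Nat.card_pos heven
    omega
  have hmove : ∀ x : Ω, f x ≠ x := fun x hx => hane (by
    have := hsemi 1 x (by rw [← hpow, zpow_one]; exact hx)
    rwa [zpow_one] at this)
  haveI := Fintype.ofFinite (zpowers a)
  have hbij : Function.Bijective (fun z : zpowers a => (z : G) • α) := by
    refine (Fintype.bijective_iff_injective_and_card _).2 ⟨fun z w h => ?_, ?_⟩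
    · obtain ⟨j, hj⟩ := mem_zpowers_iff.1 (mul_mem (inv_mem w.2) z.2)
      have h1 := hsemi j α (by rw [hj, mul_smul]; exact inv_smul_eq_iff.2 h)
      rw [hj, inv_mul_eq_one] at h1
      exact Subtype.ext h1.symm
    · rw [← Nat.card_eq_fintype_card, ← Nat.card_eq_fintype_card, Nat.card_zpowers, hord]
  have hcyc : Equiv.Perm.IsCycle f := ⟨α, hmove α, fun y _ => by
    obtain ⟨⟨z, hz⟩, h⟩ := hbij.2 y
    obtain ⟨i, rfl⟩ := mem_zpowers_iff.1 hz
    exact ⟨i, (hpow i α).trans h⟩⟩
  have hsupp : f.support = Finset.univ := by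
    ext x; simp [hmove x]
  have hsign := hcyc.sign
  rw [hsupp, Finset.card_univ, ← Nat.card_eq_fintype_card,
    (even_iff_two_dvd.2 heven).neg_one_pow] at hsign
  have hmem := Abelianization.commutator_subset_ker
    (Equiv.Perm.sign.comp (MulAction.toPermHom G Ω)) (htop ▸ mem_top a)
  rw [MonoidHom.mem_ker, MonoidHom.comp_apply, ← hf, hsign] at hmem
  exact absurd hmem (by decide)

/-- The endgame: the group is `PGL₂(p)`. -/
theorem isPGLPrime_of_dihedral {a : G} (hsemi : Semiregular Ω a) (hord : orderOf a = Nat.card Ω)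
    (heven : 2 ∣ Nat.card Ω) (hstab : ∀ α : Ω, IsZGroup (stabilizer G α))
    (htr : ∀ N : Subgroup G, N.Normal → N ≠ ⊥ → IsPretransitive N Ω)
    (hns : ¬ Group.IsSolvable G) (hO : Cfsg.oddCore G = ⊥) (T : Sylow 2 G) {m : ℕ} (hm : 2 ≤ m)
    (eT : (T : Subgroup G) ≃* DihedralGroup m) (α : Ω) : IsPGLPrime G := by
  classical
  haveI : Fact (Nat.Prime 2) := ⟨Nat.prime_two⟩
  haveI : Nonempty Ω := ⟨α⟩
  obtain ⟨L, hLn, hC, hperf, -, hL⟩ := Cons.full_gw perfectGW hO T hm eT hns
  haveI := hLn
  have hLne : L ≠ ⊥ := fun h => by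
    rw [h] at hC
    have hsub : ∀ g : G, g = 1 := fun g => by
      rw [← mem_bot, ← hC, mem_centralizer_iff]
      intro x hx
      obtain rfl : x = 1 := hx
      rw [one_mul, mul_one]
    haveI : Subsingleton G := ⟨fun x y => (hsub x).trans (hsub y).symm⟩
    exact hns (Group.isSolvable_of_comm fun x y => Subsingleton.elim _ _)
  have hLtop : L ≠ ⊤ := fun h => by
    subst h
    exact not_perfect hsemi hord heven ⟨α⟩ hperf
  have hinjc := Cons.conjNormal_injective hC
  have hidx : 2 ≤ L.index := by
    have h1 : L.index ≠ 1 := fun h => hLtop (Subgroup.index_eq_one.1 h)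
    have := Nat.pos_of_ne_zero (L.index_ne_zero_of_finite)
    omega
  have hcardG : 2 * Nat.card L ≤ Nat.card G := by
    rw [← L.index_mul_card]; exact Nat.mul_le_mul_right _ hidx
  rcases hL with ⟨F, _, _, hodd, hF3, ⟨e⟩⟩ | ⟨⟨e⟩⟩
  · set j : G →* MulAut (Matrix.ProjectiveSpecialLinearGroup (Fin 2) F) :=
      (MulAut.congr e).toMonoidHom.comp MulAut.conjNormal with hj
    have hjinj : Function.Injective j := (MulAut.congr e).injective.comp hinjc
    by_cases hprime : (Fintype.card F).Prime
    · obtain ⟨eA⟩ := aut_psl_prime (F := F) hprime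
      have hL' : 2 * Nat.card L = Fintype.card F * ((Fintype.card F - 1) * (Fintype.card F + 1)) := by
        rw [Nat.card_congr e.toEquiv, ← Forms.DicksonCor.gcd_mul_natCard,
          Nat.gcd_eq_left (show 2 ∣ Fintype.card F - 1 by
            obtain ⟨i, hi⟩ := hodd; exact ⟨i, by omega⟩)]
      have hA : Nat.card (GL (Fin 2) F ⧸ Subgroup.center (GL (Fin 2) F)) = 2 * Nat.card L := by
        rw [hL']; exact Forms.DicksonPGL.natCard_PP
      have hji : Function.Injective (eA.toMonoidHom.comp j) := eA.injective.comp hjinj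
      have hbij := (Nat.bijective_iff_injective_and_card (eA.toMonoidHom.comp j)).2
        ⟨hji, le_antisymm (Nat.card_le_card_of_injective _ hji) (by rw [hA]; exact hcardG)⟩
      exact ⟨F, inferInstance, inferInstance, Fintype.card F, hprime, hF3, rfl,
        ⟨MulEquiv.ofBijective _ hbij⟩⟩
    · exfalso
      set q := Fintype.card F with hq
      -- the degree is at most `q + 1`
      have hn : Nat.card Ω ≤ q + 1 := by
        have hF4 : q ≠ 4 := fun h => by rw [h] at hodd; exact absurd hodd (by decide)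
        have h := (S2262.result (F := F) 2 le_rfl (fun _ => hF3) (fun h => hF4 h.2)
          (fun h => absurd h.1 (by norm_num))).1 (j a)
        rw [orderOf_injective j hjinj, hord, ← hq] at h
        have h2 : q ^ 2 - 1 = (q - 1) * (q + 1) := by
          obtain ⟨i, hi⟩ : ∃ i, q = i + 1 := ⟨q - 1, by omega⟩
          rw [hi, Nat.add_sub_cancel, sq]
          refine Nat.sub_eq_of_eq_add ?_
          ring
        rw [h2] at h
        exact Nat.le_of_mul_le_mul_left h (by omega)
      -- the stabiliser in the component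
      haveI := htr L hLn hLne
      haveI := hstab α
      let i : stabilizer L α →* stabilizer G α := MonoidHom.mk'
        (fun c => ⟨((c : L) : G), c.2⟩) fun _ _ => rfl
      have hi : Function.Injective i := fun c d h => Subtype.ext (Subtype.ext
        (congrArg (fun z : stabilizer G α => (z : G)) h))
      haveI : IsZGroup (stabilizer L α) := IsZGroup.of_injective (f := i) hi
      have hb : Nat.card (stabilizer L α) ≤ ((q + 1) / 2) * ((q + 1) / 2) := by
        refine card_zgroup_le fun x => ?_
        have h := two_mul_orderOf_le hodd hprime (e (x : L))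
        rw [MulEquiv.orderOf_eq, Subgroup.orderOf_coe] at h
        omega
      have horb : Nat.card L = Nat.card Ω * Nat.card (stabilizer L α) := by
        rw [← (stabilizer L α).index_mul_card, MulAction.index_stabilizer_of_transitive]
      have hL' : 2 * Nat.card L = q * ((q - 1) * (q + 1)) := by
        rw [Nat.card_congr e.toEquiv, hq, ← Forms.DicksonCor.gcd_mul_natCard,
          Nat.gcd_eq_left (show 2 ∣ Fintype.card F - 1 by
            obtain ⟨i, hi⟩ := hodd; exact ⟨i, by omega⟩)]
      obtain ⟨r, hr⟩ := hodd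
      have hr4 : 2 ≤ r := by omega
      rw [show (q + 1) / 2 = r + 1 by omega] at hb
      have hle : Nat.card L ≤ (q + 1) * ((r + 1) * (r + 1)) := horb ▸ Nat.mul_le_mul hn hb
      rw [hr, show 2 * r + 1 - 1 = 2 * r by omega] at hL'
      rw [hr] at hle
      nlinarith
  · exfalso
    have hbij := S2119.result 7 (by norm_num) (by norm_num)
    set j : G →* MulAut (alternatingGroup (Fin 7)) :=
      (MulAut.congr e).toMonoidHom.comp MulAut.conjNormal with hj
    have hjinj : Function.Injective j := (MulAut.congr e).injective.comp hinjc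
    have h7 : Nat.card (MulAut (alternatingGroup (Fin 7))) = 5040 := by
      rw [← Nat.card_eq_of_bijective _ hbij, Nat.card_perm, Nat.card_fin]; rfl
    have hL2 : 2 * Nat.card L = 5040 := by
      rw [Nat.card_congr e.toEquiv, two_mul_nat_card_alternatingGroup, Nat.card_perm,
        Nat.card_fin]
      rfl
    have hG : Nat.card G = 5040 :=
      le_antisymm (h7 ▸ Nat.card_le_card_of_injective _ hjinj) (hL2 ▸ hcardG)
    have hT : Nat.card (T : Subgroup G) = 16 := by
      rw [T.card_eq_multiplicity, hG]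
      rw [show (5040 : ℕ) = 2 ^ 4 * 315 by norm_num, Nat.factorization_mul (by norm_num)
        (by norm_num), Finsupp.add_apply, Nat.Prime.factorization_pow Nat.prime_two,
        Finsupp.single_eq_same, Nat.factorization_eq_zero_of_not_dvd (by norm_num)]
      rfl
    have hm8 : m = 8 := by
      rw [Nat.card_congr eT.toEquiv, DihedralGroup.nat_card] at hT
      omega
    subst hm8
    set t : G := ((eT.symm (DihedralGroup.r 1) : (T : Subgroup G)) : G) with ht
    have ht8 : orderOf t = 8 := by
      rw [ht, Subgroup.orderOf_coe, MulEquiv.orderOf_eq, DihedralGroup.orderOf_r_one]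
    have h4 : j t ^ 4 = 1 := OvergroupsPSL.altSeven_pow_four (k := 3) (by
      rw [← map_pow, show 2 ^ 3 = orderOf t by rw [ht8]; rfl, pow_orderOf_eq_one, map_one])
    rw [← map_pow, ← map_one j] at h4
    have := orderOf_dvd_of_pow_eq_one (hjinj h4)
    rw [ht8] at this
    norm_num at this

end Cfsg.Agent.GW.ZFact
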