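import Mathlib
import Cfsg.Agent.Lib.GW.ZFactPSL
import Cfsg.Agent.Lib.FrobeniusSystem.Basic
import Cfsg.Agent.Lib.Forms.DicksonShapes
import Cfsg.Agent.S0675
import Cfsg.Agent.S3559
import Cfsg.Agent.S3972

/-!
# Nonsolvable products of a cyclic group and a Z-group without solvable radical

Such a group is `PGL₂(p)`: by induction it is generated by its minimal normal subgroup and the
Z-factor, so the Z-factor is maximal, the cyclic factor is regular on its cosets and the action is
doubly transitive; the Sylow 2-subgroups are dihedral.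
-/

set_option autoImplicit false
set_option linter.style.haveILetI false
set_option linter.unusedSectionVars false

namespace Cfsg.Agent.GW.ZFact

open Subgroup MulAction

universe u v

variable {G : Type u} [Group G] [Finite G]

/-- A Sylow subgroup `⟨x⟩⟨w⟩` with an involution `w` no conjugate of which is a power of `x` is
dihedral. -/
theorem dihedral_sylow (hns : ¬ Group.IsSolvable G) (hrad : RadicalFree G) (T : Sylow 2 G)
    {x w : G} (hx : x ∈ T) (hw : w ∈ T) (hw2 : orderOf w = 2)
    (hgen : ∀ s ∈ T, ∃ i : ℤ, s = x ^ i ∨ s = x ^ i * w)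
    (hfus : ∀ g : G, g * w * g⁻¹ ∉ zpowers x) :
    ∃ m : ℕ, 2 ≤ m ∧ Nonempty ((T : Subgroup G) ≃* DihedralGroup m) := by
  haveI : Fact (Nat.Prime 2) := ⟨Nat.prime_two⟩
  have hww : w * w = 1 := Involutions.Basic.inv_sq_one hw2
  have hw0 : w ∉ zpowers x := by simpa using hfus 1
  have hnorm : w * x * w⁻¹ ∈ zpowers x := by
    obtain ⟨i, hi | hi⟩ := hgen _ (mul_mem (mul_mem hw hx) (inv_mem hw))
    · exact mem_zpowers_iff.2 ⟨i, hi.symm⟩
    · refine absurd (mem_zpowers_iff.2 ⟨i - 1, ?_⟩) hw0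
      rw [mul_inv_eq_iff_eq_mul, mul_assoc, hww, mul_one] at hi
      rw [zpow_sub, zpow_one, ← hi, mul_inv_cancel_right]
  have hinv := inverts_of_sylow hns hrad T hx hw hw2 hgen hnorm hfus
  have hinvz : ∀ i : ℤ, w * x ^ i * w⁻¹ = x ^ (-i) := fun i => by
    rw [← conj_zpow, hinv, inv_zpow']
  set Z := (zpowers x).subgroupOf (T : Subgroup G) with hZ
  have hxT : zpowers x ≤ (T : Subgroup G) := zpowers_le.2 hx
  have hidx : Z.index = 2 := by
    refine index_eq_two_iff.2 ⟨⟨w, hw⟩, fun b => ?_⟩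
    obtain ⟨i, hi | hi⟩ := hgen b b.2
    · refine Or.inr ⟨mem_subgroupOf.2 (mem_zpowers_iff.2 ⟨i, hi.symm⟩), fun h => hw0 ?_⟩
      have h' : (b : G) * w ∈ zpowers x := mem_subgroupOf.1 h
      rw [hi] at h'
      have := mul_mem (inv_mem (zpow_mem (mem_zpowers x) i)) h'
      rwa [inv_mul_cancel_left] at this
    · refine Or.inl ⟨mem_subgroupOf.2 ?_, fun h => hw0 ?_⟩
      · show (b : G) * w ∈ zpowers x
        rw [hi, mul_assoc, hww, mul_one]
        exact zpow_mem (mem_zpowers x) i
      · have h' : (b : G) ∈ zpowers x := mem_subgroupOf.1 h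
        rw [hi] at h'
        have := mul_mem (inv_mem (zpow_mem (mem_zpowers x) i)) h'
        rwa [inv_mul_cancel_left] at this
  have hcyc : IsCyclic Z := isCyclic_of_injective (subgroupOfEquivOfLe hxT).toMonoidHom
    (subgroupOfEquivOfLe hxT).injective
  obtain ⟨c, -, hco, ⟨e⟩⟩ := Forms.DicksonShapes.dihedral_of Z hidx hcyc fun y hy => by
    obtain ⟨i, hi | hi⟩ := hgen y y.2
    · exact absurd (mem_subgroupOf.2 (mem_zpowers_iff.2 ⟨i, hi.symm⟩)) hy
    · refine Subtype.ext ?_
      show (y : G) * y = 1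
      rw [hi, show x ^ i * w * (x ^ i * w) = x ^ i * (w * x ^ i * w⁻¹) * (w * w) by group, hinvz,
        hww, mul_one, ← zpow_add, add_neg_cancel, zpow_zero]
  refine ⟨orderOf c, ?_, ⟨e⟩⟩
  by_contra hlt
  have h1 : orderOf c = 1 := by have := orderOf_pos c; omega
  have hcardT : Nat.card (T : Subgroup G) = 2 := by
    rw [Nat.card_congr e.toEquiv, DihedralGroup.nat_card, h1]
  exact hns (isSolvable_of_cyclic_sylow T (isCyclic_of_prime_card hcardT))

/-- A nonsolvable primitive group with a regular cyclic subgroup is doubly transitive. -/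
theorem two_transitive_of_regular {Ω : Type v} [MulAction G Ω] [Finite Ω] [FaithfulSMul G Ω]
    (hns : ¬ Group.IsSolvable G) (hprim : IsPreprimitive G Ω) {a : G} (hord : orderOf a = Nat.card Ω)
    (hreg : IsPretransitive (zpowers a) Ω ∧ ∀ x : Ω, stabilizer (zpowers a) x = ⊥)
    (hn : 2 ≤ Nat.card Ω) : IsMultiplyPretransitive G Ω 2 := by
  classical
  haveI := hprim
  haveI htrG : IsPretransitive G Ω := hprim.toIsPretransitive
  haveI := Fintype.ofFinite Ω
  let φ : G →* Equiv.Perm Ω := MulAction.toPermHom G Ω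
  have hφinj : Function.Injective φ := MulAction.toPerm_injective
  have htr : IsPretransitive φ.range Ω := ⟨fun x y => by
    obtain ⟨g, hg⟩ := MulAction.exists_smul_eq G x y
    exact ⟨φ.rangeRestrict g, hg⟩⟩
  have back : IsMultiplyPretransitive φ.range Ω 2 → IsMultiplyPretransitive G Ω 2 := fun h => by
    rw [is_two_pretransitive_iff]
    intro x y x' y' hxy hxy'
    obtain ⟨⟨_, g, rfl⟩, h1, h2⟩ := (is_two_pretransitive_iff.1 h) hxy hxy'
    exact ⟨g, h1, h2⟩
  by_cases hpp : IsPrimePow (Nat.card Ω)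
  · obtain ⟨p, m, hp, hm, hpm⟩ := (isPrimePow_nat_iff _).1 hpp
    rcases Nat.lt_or_ge m 2 with hm2 | hm2
    · obtain rfl : m = 1 := by omega
      haveI := htr
      have hprime : (Fintype.card Ω).Prime := by
        rw [← Nat.card_eq_fintype_card, ← hpm, pow_one]; exact hp
      rcases S0675.result hprime φ.range with h | h
      · haveI := h
        exact absurd (Group.isSolvable_of_isSolvable_injective
          (f := φ.rangeRestrict) fun x y hxy => hφinj (congrArg Subtype.val hxy)) hns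
      · exact back h
    · by_contra hno
      have hprimR : IsPreprimitive φ.range Ω := by
        let f : Ω →ₑ[φ.rangeRestrict] Ω := { toFun := id, map_smul' := fun _ _ => rfl }
        exact (isPreprimitive_congr φ.rangeRestrict_surjective
          (f := f) Function.bijective_id).1 hprim
      refine (S3972.result p m hp hm2 (by rw [← Nat.card_eq_fintype_card, hpm]) φ.range htr
        (fun h => hno (back h)) (φ.rangeRestrict a) ?_).1 hprimR
      rw [orderOf_injective φ.rangeRestrict (fun x y hxy => hφinj (congrArg Subtype.val hxy)), hord,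
        hpm]
  · rcases S3559.result htrG hn hpp (zpowers a) inferInstance hreg with h | h
    · exact absurd hprim h
    · exact h

/-- The case in which every nontrivial normal subgroup supplements `B`. -/
theorem isPGLPrime_of_supplement {A B : Subgroup G} [IsCyclic A] [IsZGroup B]
    (hAB : ∀ g : G, ∃ a ∈ A, ∃ b ∈ B, g = a * b) (hrad : RadicalFree G)
    (hns : ¬ Group.IsSolvable G) (hsup : ∀ N : Subgroup G, N.Normal → N ≠ ⊥ → N ⊔ B = ⊤) :
    IsPGLPrime G := by
  classical
  haveI : Fact (Nat.Prime 2) := ⟨Nat.prime_two⟩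
  have hBtop : B ≠ ⊤ := fun h => by
    subst h
    exact hns (Group.isSolvable_of_surjective (f := (Subgroup.topEquiv (G := G)).toMonoidHom)
      Subgroup.topEquiv.surjective)
  have hcoreB : B.normalCore = ⊥ := hrad _ inferInstance
    (Group.isSolvable_of_isSolvable_injective (Subgroup.inclusion_injective B.normalCore_le))
  -- `B` is maximal
  have hMA : ∀ M : Subgroup G, B ≤ M → M ≠ ⊤ → M ≤ B ∧ A ⊓ M = ⊥ := by
    intro M hBM hM
    have hcore : M.normalCore = ⊥ := by
      by_contra h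
      refine hM (eq_top_iff.2 ?_)
      rw [← hsup _ inferInstance h]
      exact sup_le M.normalCore_le hBM
    have hAM : A ⊓ M = ⊥ := by
      rw [eq_bot_iff, ← hcore]
      intro x hx g
      obtain ⟨a, ha, b, hb, hg⟩ := hAB g⁻¹
      have hg' : g = b⁻¹ * a⁻¹ := by rw [← mul_inv_rev, ← hg, inv_inv]
      have hcom : a⁻¹ * x = x * a⁻¹ := by
        haveI : IsMulCommutative A := IsCyclic.isMulCommutative
        exact congrArg Subtype.val
          (IsMulCommutative.is_comm.comm (⟨a⁻¹, inv_mem ha⟩ : A) ⟨x, hx.1⟩)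
      rw [hg', show b⁻¹ * a⁻¹ * x * (b⁻¹ * a⁻¹)⁻¹ = b⁻¹ * (a⁻¹ * x) * a * b by group, hcom,
        show b⁻¹ * (x * a⁻¹) * a * b = b⁻¹ * x * b by group]
      exact mul_mem (mul_mem (inv_mem (hBM hb)) hx.2) (hBM hb)
    refine ⟨fun m hm => ?_, hAM⟩
    obtain ⟨a, ha, b, hb, rfl⟩ := hAB m
    have : a ∈ A ⊓ M := ⟨ha, by
      have := mul_mem hm (inv_mem (hBM hb))
      rwa [mul_inv_cancel_right] at this⟩
    rw [hAM, mem_bot] at this
    rw [this, one_mul]; exact hb
  have hcoatom : IsCoatom B :=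
    ⟨hBtop, fun M hlt => by_contra fun hM => not_le_of_gt hlt (hMA M hlt.le hM).1⟩
  have hABbot : A ⊓ B = ⊥ := (hMA B le_rfl hBtop).2
  -- the action on the cosets
  have hcard : Nat.card (G ⧸ B) = Nat.card A := by
    have h := card_of_product hAB
    rw [hABbot, Subgroup.card_bot, mul_one, ← B.index_mul_card] at h
    exact Nat.eq_of_mul_eq_mul_right Nat.card_pos h
  haveI hfaith : FaithfulSMul G (G ⧸ B) := ⟨fun {g h} hgh => by
    have h1 : g⁻¹ * h ∈ B.normalCore := fun c => by
      have h2 : (g⁻¹ * h) • ((c⁻¹ : G) : G ⧸ B) = ((c⁻¹ : G) : G ⧸ B) := by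
        rw [mul_smul, inv_smul_eq_iff]; exact (hgh _).symm
      have h3 : (((g⁻¹ * h) * c⁻¹ : G) : G ⧸ B) = ((c⁻¹ : G) : G ⧸ B) := h2
      have h4 := QuotientGroup.eq.1 h3.symm
      rwa [inv_inv, ← mul_assoc] at h4
    rw [hcoreB, mem_bot, inv_mul_eq_one] at h1
    exact h1⟩
  set o : G ⧸ B := ((1 : G) : G ⧸ B) with ho
  have hso : stabilizer G o = B := MulAction.stabilizer_quotient B
  have hstab : ∀ x : G ⧸ B, IsZGroup (stabilizer G x) := by
    intro x
    obtain ⟨g, rfl⟩ := QuotientGroup.mk_surjective x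
    have he : stabilizer G (g : G ⧸ B) = B.map (MulAut.conj g).toMonoidHom := by
      have : (g : G ⧸ B) = g • o := congrArg (fun z : G => (z : G ⧸ B)) (mul_one g).symm
      rw [this, MulAction.stabilizer_smul_eq_stabilizer_map_conj, hso]
    rw [he]
    exact IsZGroup.of_surjective (f := (MulAut.conj g).toMonoidHom.subgroupMap B)
      (MonoidHom.subgroupMap_surjective _ _)
  have htrN : ∀ N : Subgroup G, N.Normal → N ≠ ⊥ → IsPretransitive N (G ⧸ B) := by
    intro N hN hN1
    rw [isPretransitive_iff_base (a := o)]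
    intro x
    obtain ⟨g, rfl⟩ := QuotientGroup.mk_surjective x
    haveI := hN
    obtain ⟨n, hn, b, hb, rfl⟩ := mem_sup_of_normal_left.1 (hsup N hN hN1 ▸ mem_top g)
    refine ⟨⟨n, hn⟩, ?_⟩
    show ((n * 1 : G) : G ⧸ B) = ((n * b : G) : G ⧸ B)
    rw [mul_one, QuotientGroup.mk_mul_of_mem n hb]
  obtain ⟨a, ha⟩ := (inferInstance : IsCyclic A).exists_generator
  have hord : orderOf (a : G) = Nat.card (G ⧸ B) := by
    rw [hcard, Subgroup.orderOf_coe, orderOf_eq_card_of_forall_mem_zpowers ha]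
  have hAgen : ∀ x ∈ A, ∃ i : ℤ, (a : G) ^ i = x := fun x hx => by
    obtain ⟨i, hi⟩ := mem_zpowers_iff.1 (ha ⟨x, hx⟩)
    exact ⟨i, congrArg Subtype.val hi⟩
  have hrep : ∀ x : G ⧸ B, ∃ i : ℤ, (a : G) ^ i • o = x := fun x => by
    obtain ⟨g, rfl⟩ := QuotientGroup.mk_surjective x
    obtain ⟨c, hc, b, hb, rfl⟩ := hAB g
    obtain ⟨i, rfl⟩ := hAgen c hc
    exact ⟨i, by
      show (((a : G) ^ i * 1 : G) : G ⧸ B) = _
      rw [mul_one, QuotientGroup.mk_mul_of_mem _ hb]⟩
  have hsemi : Semiregular (G ⧸ B) (a : G) := by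
    intro i x hx
    obtain ⟨j, rfl⟩ := hrep x
    rw [smul_smul, (Commute.refl (a : G)).zpow_zpow i j, mul_smul] at hx
    have h1 : (a : G) ^ i ∈ B := by
      rw [← hso]; exact smul_left_cancel _ hx
    have : (a : G) ^ i ∈ A ⊓ B := ⟨zpow_mem a.2 i, h1⟩
    rwa [hABbot, mem_bot] at this
  have hn2 : 2 ≤ Nat.card (G ⧸ B) := by
    have h1 : B.index ≠ 1 := fun h => hBtop (Subgroup.index_eq_one.1 h)
    have h2 : B.index ≠ 0 := B.index_ne_zero_of_finite
    show 2 ≤ B.index
    omega
  haveI : Nontrivial (G ⧸ B) := Finite.one_lt_card_iff_nontrivial.1 (by omega)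
  have hprim : IsPreprimitive G (G ⧸ B) :=
    (isCoatom_stabilizer_iff_preprimitive (G := G) o).1 (by rw [hso]; exact hcoatom)
  have hreg : IsPretransitive (zpowers (a : G)) (G ⧸ B) ∧
      ∀ x : G ⧸ B, stabilizer (zpowers (a : G)) x = ⊥ := by
    refine ⟨(isPretransitive_iff_base o).2 fun x => ?_, fun x => ?_⟩
    · obtain ⟨i, hi⟩ := hrep x
      exact ⟨⟨_, i, rfl⟩, hi⟩
    · rw [eq_bot_iff]
      rintro ⟨z, hz⟩ hzx
      obtain ⟨i, rfl⟩ := mem_zpowers_iff.1 hz
      exact mem_bot.2 (Subtype.ext (hsemi i x hzx))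
  have h2 := two_transitive_of_regular hns hprim hord hreg hn2
  -- a Sylow 2-subgroup
  obtain ⟨PA⟩ := (inferInstance : Nonempty (Sylow 2 A))
  obtain ⟨PB⟩ := (inferInstance : Nonempty (Sylow 2 B))
  obtain ⟨S, x, hAS, hBS, hprod⟩ := exists_sylow_product hAB PA PB
  obtain ⟨a1, ha1⟩ := (inferInstance : IsCyclic (PA : Subgroup A)).exists_generator
  obtain ⟨b1, hb1⟩ := (inferInstance : IsCyclic (PB : Subgroup B)).exists_generator
  set a0 : G := ((a1 : A) : G) with ha0
  set b0 : G := x * ((b1 : B) : G) * x⁻¹ with hb0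
  have ha0S : a0 ∈ (S : Subgroup G) := hAS (mem_map_of_mem A.subtype a1.2)
  have hb0S : b0 ∈ (S : Subgroup G) := hBS ⟨_, mem_map_of_mem B.subtype b1.2, rfl⟩
  have hgen : ∀ s ∈ S, ∃ i j : ℤ, s = a0 ^ i * b0 ^ j := by
    intro s hs
    obtain ⟨p, ⟨p', hp', rfl⟩, q, ⟨_, ⟨q', hq', rfl⟩, rfl⟩, rfl⟩ := hprod s hs
    obtain ⟨i, hi⟩ := mem_zpowers_iff.1 (ha1 ⟨p', hp'⟩)
    obtain ⟨j, hj⟩ := mem_zpowers_iff.1 (hb1 ⟨q', hq'⟩)
    refine ⟨i, j, ?_⟩
    rw [hb0, conj_zpow, ha0, ← SubgroupClass.coe_zpow, ← SubgroupClass.coe_zpow,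
      ← SubgroupClass.coe_zpow, ← SubgroupClass.coe_zpow, hi, hj]
    rfl
  have ha0o : orderOf a0 = 2 ^ (Nat.card (G ⧸ B)).factorization 2 := by
    rw [hcard, ha0, Subgroup.orderOf_coe, Subgroup.orderOf_coe,
      orderOf_eq_card_of_forall_mem_zpowers ha1, PA.card_eq_multiplicity]
  have hb0o : orderOf b0 = 2 ^ (Nat.card B).factorization 2 := by
    rw [hb0, Involutions.Basic.orderOf_conj, Subgroup.orderOf_coe, Subgroup.orderOf_coe,
      orderOf_eq_card_of_forall_mem_zpowers hb1, PB.card_eq_multiplicity]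
  have hfix : b0 • ((x : G) : G ⧸ B) = (x : G ⧸ B) := by
    show ((x * ((b1 : B) : G) * x⁻¹ * x : G) : G ⧸ B) = _
    rw [inv_mul_cancel_right, QuotientGroup.mk_mul_of_mem x (b1 : B).2]
  have ha0s : Semiregular (G ⧸ B) a0 := by
    intro i y hy
    obtain ⟨j, hj⟩ := hAgen a0 (a1 : A).2
    rw [← hj, ← zpow_mul] at hy ⊢
    exact hsemi _ y hy
  -- neither factor of the Sylow subgroup is trivial
  have hva : 1 ≤ (Nat.card (G ⧸ B)).factorization 2 := by
    by_contra h
    rw [show (Nat.card (G ⧸ B)).factorization 2 = 0 by omega, pow_zero, orderOf_eq_one_iff] at ha0o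
    refine hns (isSolvable_of_cyclic_sylow S (Subgroup.isCyclic_of_le (H' := zpowers b0) ?_))
    intro s hs
    obtain ⟨i, j, rfl⟩ := hgen s hs
    rw [ha0o, one_zpow, one_mul]
    exact zpow_mem (mem_zpowers b0) j
  have hvb : 1 ≤ (Nat.card B).factorization 2 := by
    by_contra h
    rw [show (Nat.card B).factorization 2 = 0 by omega, pow_zero, orderOf_eq_one_iff] at hb0o
    refine hns (isSolvable_of_cyclic_sylow S (Subgroup.isCyclic_of_le (H' := zpowers a0) ?_))
    intro s hs
    obtain ⟨i, j, rfl⟩ := hgen s hs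
    rw [hb0o, one_zpow, mul_one]
    exact zpow_mem (mem_zpowers a0) i
  have heven : 2 ∣ Nat.card (G ⧸ B) :=
    (dvd_pow_self 2 (by omega : (Nat.card (G ⧸ B)).factorization 2 ≠ 0)).trans
      (Nat.ordProj_dvd _ 2)
  have hpow2 : ∀ (w : G), orderOf w = 2 → ∀ j : ℤ, w ^ j = 1 ∨ w ^ j = w := by
    intro w hw j
    have hww := Involutions.Basic.inv_sq_one hw
    rcases Int.even_or_odd j with ⟨d, rfl⟩ | ⟨d, rfl⟩
    · left; rw [← two_mul, zpow_mul, zpow_two, hww, one_zpow]
    · right; rw [zpow_add, zpow_mul, zpow_two, hww, one_zpow, one_mul, zpow_one]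
  -- the Sylow subgroup is dihedral
  obtain ⟨m, hm, ⟨eS⟩⟩ : ∃ m : ℕ, 2 ≤ m ∧ Nonempty ((S : Subgroup G) ≃* DihedralGroup m) := by
    by_cases h4 : 4 ∣ Nat.card (G ⧸ B)
    · have hnot : ¬ 4 ∣ Nat.card B := by
        have := not_four_dvd_stabilizer h2 hstab hns h4 ha0s ha0o o
        rwa [hso] at this
      have hb1' : (Nat.card B).factorization 2 = 1 := by
        by_contra h
        refine hnot ?_
        have h22 := (Nat.prime_two.pow_dvd_iff_le_factorization (k := 2) Nat.card_pos.ne').2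
          (by omega : 2 ≤ (Nat.card B).factorization 2)
        simpa using h22
      rw [hb1', pow_one] at hb0o
      refine dihedral_sylow hns hrad S ha0S hb0S hb0o (fun s hs => ?_) fun g hg => ?_
      · obtain ⟨i, j, rfl⟩ := hgen s hs
        rcases hpow2 b0 hb0o j with h | h
        · exact ⟨i, Or.inl (by rw [h, mul_one])⟩
        · exact ⟨i, Or.inr (by rw [h])⟩
      · obtain ⟨i, hi⟩ := mem_zpowers_iff.1 hg
        have h1 := ha0s i (g • ((x : G) : G ⧸ B)) (by
          rw [hi, mul_smul, mul_smul, inv_smul_smul, hfix])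
        rw [hi, mul_inv_eq_one, mul_eq_left] at h1
        exact Involutions.Basic.ne_one hb0o h1
    · have hva1 : (Nat.card (G ⧸ B)).factorization 2 = 1 := by
        by_contra h
        refine h4 ?_
        have h22 := (Nat.prime_two.pow_dvd_iff_le_factorization (k := 2) Nat.card_pos.ne').2
          (by omega : 2 ≤ (Nat.card (G ⧸ B)).factorization 2)
        simpa using h22
      rw [hva1, pow_one] at ha0o
      refine dihedral_sylow hns hrad S hb0S ha0S ha0o (fun s hs => ?_) fun g hg => ?_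
      · obtain ⟨i, j, h⟩ := hgen s⁻¹ (inv_mem hs)
        have hs' : s = b0 ^ (-j) * a0 ^ (-i) := by
          rw [zpow_neg, zpow_neg, ← mul_inv_rev, ← h, inv_inv]
        rcases hpow2 a0 ha0o (-i) with h' | h'
        · exact ⟨-j, Or.inl (by rw [hs', h', mul_one])⟩
        · exact ⟨-j, Or.inr (by rw [hs', h'])⟩
      · obtain ⟨i, hi⟩ := mem_zpowers_iff.1 hg
        have hfi : b0 ^ i • ((x : G) : G ⧸ B) = (x : G ⧸ B) :=
          zpow_mem (show b0 ∈ stabilizer G ((x : G) : G ⧸ B) from hfix) i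
        rw [hi, mul_smul, mul_smul] at hfi
        have h1 := ha0s 1 (g⁻¹ • ((x : G) : G ⧸ B)) (by
          rw [zpow_one]; exact eq_inv_smul_iff.2 hfi)
        rw [zpow_one] at h1
        exact Involutions.Basic.ne_one ha0o h1
  exact isPGLPrime_of_dihedral hsemi hord heven hstab htrN hns hrad.oddCore_eq_bot S hm eS o

/-- The solvable normal subgroups of a minimal normal subgroup are trivial. -/
theorem radical_minimal_normal (hrad : RadicalFree G) {N : Subgroup G} [hN : N.Normal]
    (S : Subgroup N) (hS : S.Normal) (hSs : Group.IsSolvable S) : S = ⊥ := by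
  classical
  haveI := Fintype.ofFinite (Subgroup N)
  obtain ⟨M, hM, hmax⟩ := Finset.exists_max_image
    (Finset.univ.filter fun M : Subgroup N => M.Normal ∧ Group.IsSolvable M)
    (fun M => Nat.card M) ⟨⊥, Finset.mem_filter.2 ⟨Finset.mem_univ _, inferInstance, inferInstance⟩⟩
  obtain ⟨-, hMn, hMs⟩ := Finset.mem_filter.1 hM
  haveI := hMn
  have hle : ∀ K : Subgroup N, K.Normal → Group.IsSolvable K → K ≤ M := by
    intro K hK hKs
    haveI := hK
    have h := hmax (K ⊔ M) (Finset.mem_filter.2 ⟨Finset.mem_univ _, Subgroup.sup_normal K M,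
      FrobeniusSystem.isSolvable_sup_normal hKs hMs⟩)
    rw [Subgroup.eq_of_le_of_card_ge (le_sup_right : M ≤ K ⊔ M) h]
    exact le_sup_left
  have hnorm : (M.map N.subtype).Normal := by
    refine ⟨fun y hy g => ?_⟩
    obtain ⟨y, hy, rfl⟩ := hy
    have h1 : M.map (MulAut.conjNormal g).toMonoidHom ≤ M := by
      refine hle _ (hMn.map _ (MulAut.conjNormal g).surjective) ?_
      haveI := hMs
      exact Group.isSolvable_of_surjective
        (f := (MulAut.conjNormal g).toMonoidHom.subgroupMap M)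
        (MonoidHom.subgroupMap_surjective _ _)
    exact ⟨MulAut.conjNormal g y, h1 (mem_map_of_mem _ hy), MulAut.conjNormal_apply g y⟩
  haveI := hMs
  have hbot := hrad _ hnorm (Group.isSolvable_of_surjective
    (f := N.subtype.subgroupMap M) (MonoidHom.subgroupMap_surjective _ _))
  rw [eq_bot_iff]
  intro s hs
  have h : N.subtype s ∈ M.map N.subtype := mem_map_of_mem _ (hle S hS hSs hs)
  rw [hbot, mem_bot] at h
  exact mem_bot.2 (Subtype.ext h)

/-- A nonsolvable radical-free product of a cyclic group and a Z-group is `PGL₂(p)`. -/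
theorem isPGLPrime_of_radicalFree (A B : Subgroup G) [IsCyclic A] [IsZGroup B]
    (hAB : ∀ g : G, ∃ a ∈ A, ∃ b ∈ B, g = a * b) (hrad : RadicalFree G)
    (hns : ¬ Group.IsSolvable G) : IsPGLPrime G := by
  classical
  induction hn : Nat.card G using Nat.strong_induction_on generalizing G with
  | _ n IH =>
  subst hn
  refine isPGLPrime_of_supplement hAB hrad hns fun N₀ hN₀ hN₀1 => ?_
  -- the minimal normal subgroup
  haveI := Fintype.ofFinite (Subgroup G)
  obtain ⟨N, hN, hmin⟩ := Finset.exists_min_image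
    (Finset.univ.filter fun N : Subgroup G => N.Normal ∧ N ≠ ⊥) (fun N => Nat.card N)
    ⟨N₀, Finset.mem_filter.2 ⟨Finset.mem_univ _, hN₀, hN₀1⟩⟩
  obtain ⟨-, hNn, hN1⟩ := Finset.mem_filter.1 hN
  haveI := hNn
  have hle : ∀ M : Subgroup G, M.Normal → M ≠ ⊥ → N ≤ M := by
    intro M hM hM1
    haveI := hM
    have h1 : M ⊓ N ≠ ⊥ := fun h => (eq_bot_of_disjoint_normal hAB hrad h).elim hM1 hN1
    have h2 := hmin (M ⊓ N) (Finset.mem_filter.2 ⟨Finset.mem_univ _, inferInstance, h1⟩)
    rw [← Subgroup.eq_of_le_of_card_ge (inf_le_right : M ⊓ N ≤ N) h2]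
    exact inf_le_left
  suffices hNB : N ⊔ B = ⊤ by
    rw [eq_top_iff, ← hNB]
    exact sup_le_sup_right (hle N₀ hN₀ hN₀1) B
  have hCN : centralizer (N : Set G) = ⊥ := by
    by_contra h
    haveI : (centralizer (N : Set G)).Normal := Subgroup.normal_centralizer
    have h1 : N ≤ centralizer (N : Set G) := hle _ inferInstance h
    refine hN1 (hrad N hNn (Group.isSolvable_of_comm fun x y => Subtype.ext ?_))
    exact (mem_centralizer_iff.1 (h1 x.2) y y.2).symm
  have hperf : ⁅N, N⁆ = N := by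
    refine le_antisymm (Subgroup.commutator_le_self N) (hle _ inferInstance fun h => ?_)
    refine hN1 (hrad N hNn (Group.isSolvable_of_comm fun x y => Subtype.ext ?_))
    have := Subgroup.commutator_eq_bot_iff_le_centralizer.1 h x.2
    exact (mem_centralizer_iff.1 this y y.2).symm
  by_contra hne
  set X := N ⊔ B with hX
  have hlt : Nat.card X < Nat.card G := lt_of_le_of_ne (Subgroup.card_le_card_group X)
    fun h => hne (Subgroup.eq_top_of_card_eq X h)
  haveI : IsCyclic (A.subgroupOf X) := isCyclic_of_injective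
    (f := ((X.subtype.comp (A.subgroupOf X).subtype).codRestrict A fun z => z.2))
    fun p q h => Subtype.ext (Subtype.ext (congrArg (fun w : A => (w : G)) h))
  haveI : IsZGroup (B.subgroupOf X) := IsZGroup.of_injective
    (f := (subgroupOfEquivOfLe (le_sup_right : B ≤ X)).toMonoidHom) (MulEquiv.injective _)
  have hABX : ∀ g : X, ∃ a ∈ A.subgroupOf X, ∃ b ∈ B.subgroupOf X, g = a * b := by
    intro g
    obtain ⟨a, ha, b, hb, he⟩ := hAB g
    have haX : a ∈ X := by
      have h : (g : G) * b⁻¹ ∈ X := X.mul_mem g.2 (X.inv_mem (mem_sup_right hb))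
      rwa [he, mul_inv_cancel_right] at h
    exact ⟨⟨a, haX⟩, ha, ⟨b, mem_sup_right hb⟩, hb, Subtype.ext he⟩
  set NX := N.subgroupOf X with hNX
  haveI : NX.Normal := Subgroup.Normal.subgroupOf hNn X
  let eN : NX ≃* N := subgroupOfEquivOfLe (le_sup_left : N ≤ X)
  have hradX : RadicalFree X := by
    intro R hR hRs
    haveI := hR
    haveI := hRs
    set S : Subgroup N := (R.map X.subtype).subgroupOf N with hS
    have hSn : S.Normal := by
      refine ⟨fun s hs n => ?_⟩
      obtain ⟨r, hr, hre⟩ := mem_subgroupOf.1 hs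
      refine mem_subgroupOf.2 ⟨⟨(n : G), mem_sup_left n.2⟩ * r * ⟨(n : G), mem_sup_left n.2⟩⁻¹,
        hR.conj_mem r hr _, ?_⟩
      show (n : G) * X.subtype r * (n : G)⁻¹ = _
      rw [hre]; rfl
    have hSs : Group.IsSolvable S := by
      haveI : Group.IsSolvable (R.map X.subtype) := Group.isSolvable_of_surjective
        (f := X.subtype.subgroupMap R) (MonoidHom.subgroupMap_surjective _ _)
      exact Group.isSolvable_of_isSolvable_injective
        (f := ((N.subtype.comp S.subtype).codRestrict (R.map X.subtype) fun z => z.2))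
        fun p q h => Subtype.ext (Subtype.ext (congrArg (fun w : R.map X.subtype => (w : G)) h))
    have hbot := radical_minimal_normal hrad S hSn hSs
    have hd : Disjoint R NX := by
      rw [disjoint_iff, eq_bot_iff]
      intro r hr
      have : (⟨(r : G), hr.2⟩ : N) ∈ S := mem_subgroupOf.2 (mem_map_of_mem X.subtype hr.1)
      rw [hbot, mem_bot] at this
      exact mem_bot.2 (Subtype.ext (congrArg Subtype.val this :))
    rw [eq_bot_iff]
    intro r hr
    have hc : (r : G) ∈ centralizer (N : Set G) := mem_centralizer_iff.2 fun n hn => by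
      have := Subgroup.commute_of_normal_of_disjoint R NX inferInstance inferInstance hd r
        ⟨n, mem_sup_left hn⟩ hr (mem_subgroupOf.2 hn)
      exact (congrArg Subtype.val this.eq).symm
    rw [hCN, mem_bot] at hc
    exact mem_bot.2 (Subtype.ext hc)
  have hnsX : ¬ Group.IsSolvable X := fun h => by
    haveI := h
    exact hN1 (hrad N hNn (Group.isSolvable_of_isSolvable_injective
      (Subgroup.inclusion_injective (le_sup_left : N ≤ X))))
  obtain ⟨F, _, _, p, hp, hp3, hF, ⟨ε⟩⟩ :=
    IH _ hlt (G := X) (A.subgroupOf X) (B.subgroupOf X) hABX hradX hnsX rfl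
  -- the image of `N` is `PSL₂`
  set N' : Subgroup (GL (Fin 2) F ⧸ Subgroup.center (GL (Fin 2) F)) := NX.map ε.toMonoidHom with hN'
  haveI hN'n : N'.Normal := (inferInstance : NX.Normal).map ε.toMonoidHom ε.surjective
  have hN'perf : ⁅N', N'⁆ = N' := by
    rw [hN', ← Subgroup.map_commutator]
    congr 1
    apply Subgroup.map_injective X.subtype_injective
    rw [Subgroup.map_commutator, hNX, Subgroup.subgroupOf_map_subtype,
      inf_of_le_left (le_sup_left : N ≤ X)]
    exact hperf
  set LF : Subgroup (GL (Fin 2) F ⧸ Subgroup.center (GL (Fin 2) F)) :=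
    Forms.DicksonPGL.L F with hLF
  haveI : LF.Normal := Forms.DicksonPGL.L_normal
  have hodd : Odd (Fintype.card F) := hF ▸ hp.odd_of_ne_two (by omega)
  have hPP : Nat.card (GL (Fin 2) F ⧸ Subgroup.center (GL (Fin 2) F)) =
      2 * Nat.card (Matrix.ProjectiveSpecialLinearGroup (Fin 2) F) := by
    have hg2 : Nat.gcd 2 (Fintype.card F - 1) = 2 :=
      Nat.gcd_eq_left (by obtain ⟨i, hi⟩ := hodd; exact ⟨i, by omega⟩)
    refine Eq.trans Forms.DicksonPGL.natCard_PP ?_
    rw [← Forms.DicksonCor.gcd_mul_natCard, hg2]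
  have hLidx : LF.index = 2 := by
    have h := LF.index_mul_card
    have h' : Nat.card LF = Nat.card (Matrix.ProjectiveSpecialLinearGroup (Fin 2) F) :=
      Forms.DicksonPGL.natCard_L
    rw [hPP, h'] at h
    exact Nat.eq_of_mul_eq_mul_right Nat.card_pos h
  have hN'L : N' ≤ LF := by
    rw [← hN'perf, Subgroup.commutator_le]
    intro g _ h _
    rw [← QuotientGroup.eq_one_iff, commutatorElement_def, QuotientGroup.mk_mul,
      QuotientGroup.mk_mul, QuotientGroup.mk_mul, QuotientGroup.mk_inv, QuotientGroup.mk_inv]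
    have hcomm : ∀ x y : (GL (Fin 2) F ⧸ Subgroup.center (GL (Fin 2) F)) ⧸ LF, x * y = y * x := by
      haveI : IsCyclic ((GL (Fin 2) F ⧸ Subgroup.center (GL (Fin 2) F)) ⧸ LF) :=
        isCyclic_of_prime_card (p := 2) hLidx
      haveI := IsCyclic.isMulCommutative
        (α := (GL (Fin 2) F ⧸ Subgroup.center (GL (Fin 2) F)) ⧸ LF)
      exact fun x y => IsMulCommutative.is_comm.comm x y
    rw [hcomm _ (QuotientGroup.mk h), mul_assoc (QuotientGroup.mk h), mul_inv_cancel, mul_one,
      mul_inv_cancel]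
  haveI : IsSimpleGroup (Matrix.ProjectiveSpecialLinearGroup (Fin 2) F) :=
    Classical.Linear.isSimpleGroup_PSL_fin le_rfl fun _ => by omega
  let eL : Matrix.ProjectiveSpecialLinearGroup (Fin 2) F ≃* LF :=
    MonoidHom.ofInjective Matrix.ProjectiveSpecialLinearGroup.toPGL_injective
  haveI : IsSimpleGroup LF := eL.symm.isSimpleGroup
  have hN'L' : N' = LF := by
    rcases (inferInstance : IsSimpleGroup LF).eq_bot_or_eq_top_of_normal (N'.subgroupOf LF)
      (Subgroup.Normal.subgroupOf hN'n LF) with h | h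
    · refine absurd ?_ hN1
      rw [Subgroup.subgroupOf_eq_bot, disjoint_iff, inf_of_le_left hN'L, hN',
        Subgroup.map_eq_bot_iff_of_injective _ (show Function.Injective ε.toMonoidHom from
          ε.injective), hNX, Subgroup.subgroupOf_eq_bot, disjoint_iff,
        inf_of_le_left (le_sup_left : N ≤ X)] at h
      exact h
    · exact le_antisymm hN'L (Subgroup.subgroupOf_eq_top.1 h)
  let eNP : N ≃* Matrix.ProjectiveSpecialLinearGroup (Fin 2) F :=
    (eN.symm.trans (ε.subgroupMap NX)).trans ((MulEquiv.subgroupCongr hN'L').trans eL.symm)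
  have hGX : Nat.card G ≤ Nat.card X := by
    obtain ⟨eA⟩ := aut_psl_prime (F := F) (hF ▸ hp)
    rw [Nat.card_congr ε.toEquiv, ← Nat.card_congr eA.toEquiv]
    exact Nat.card_le_card_of_injective _
      ((MulAut.congr eNP).injective.comp (Cons.conjNormal_injective hCN))
  omega

end Cfsg.Agent.GW.ZFact
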